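import Groth.Agent.H55.FFWeil2

set_option autoImplicit false

namespace Groth.Agent.H55

open FunFld WithZero Module IntermediateField

variable {k K : Type*} [Field k] [Field K] [Algebra k K]

theorem IsDivOf.mem {ω : Module.Dual k (adele k K)} {C : Divisor k K} (h : IsDivOf ω C) :
    ω ∈ WD C := (h C).mpr le_rfl

theorem IsDivOf.ne_zero (hK : IsFunctionField k K) {ω : Module.Dual k (adele k K)}
    {C : Divisor k K} (h : IsDivOf ω C) : ω ≠ 0 := by
  classical
  rintro rfl
  obtain ⟨P⟩ := exists_place hK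
  have h1 : C + Finsupp.single P 1 ≤ C := (h _).mp (Submodule.zero_mem _)
  have h2 := h1 P
  rw [Finsupp.add_apply, Finsupp.single_eq_same] at h2
  omega

theorem IsDivOf.unique {ω : Module.Dual k (adele k K)} {C C' : Divisor k K} (h : IsDivOf ω C)
    (h' : IsDivOf ω C') : C = C' :=
  le_antisymm ((h' C).mp (IsDivOf.mem h)) ((h C').mp (IsDivOf.mem h'))

theorem IsDivOf.isWeil {ω : Module.Dual k (adele k K)} {C : Divisor k K} (h : IsDivOf ω C) :
    IsWeil ω := ⟨C, IsDivOf.mem h⟩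

theorem mulW_mem_WD' (hK : IsFunctionField k K) {C D : Divisor k K} {x : K} (hx : x ∈ L (C - D))
    {ω : Module.Dual k (adele k K)} (hω : ω ∈ WD C) : mulW x (hsm hK x) ω ∈ WD D := by
  have h1 : x ∈ L (C + -D) := by rwa [← sub_eq_add_neg]
  have := mulW_mem_WD hK h1 hω
  rwa [neg_neg] at this

theorem mulW_injective (hK : IsFunctionField k K) {ω : Module.Dual k (adele k K)} (h0 : ω ≠ 0)
    {x y : K} (h : mulW x (hsm hK x) ω = mulW y (hsm hK y) ω) : x = y := by
  by_contra hne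
  have hxy : x - y ≠ 0 := sub_ne_zero.mpr hne
  apply mulW_ne_zero hK hxy h0
  rw [mulW_sub hK, h, sub_self]

/-- multiplication by `ω` is a bijection `L(C - D) → W(D)` -/
theorem existsUnique_mulW (hK : IsFunctionField k K) {ω : Module.Dual k (adele k K)}
    {C : Divisor k K} (hω : IsDivOf ω C) (D : Divisor k K) {ω' : Module.Dual k (adele k K)}
    (hω' : ω' ∈ WD D) : ∃! x : K, x ∈ L (C - D) ∧ mulW x (hsm hK x) ω = ω' := by
  have h0 := IsDivOf.ne_zero hK hω
  obtain ⟨x, hx⟩ := exists_mulW_eq hK ω ω' (IsDivOf.isWeil hω) h0 ⟨D, hω'⟩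
  refine ⟨x, ⟨?_, hx⟩, fun y hy => mulW_injective hK h0 (hy.2.trans hx.symm)⟩
  by_cases hx0 : x = 0
  · rw [hx0]; exact Submodule.zero_mem _
  · rw [mem_L_iff_div hK hx0]
    have h1 : IsDivOf ω' (C + div k x) := hx ▸ isDivOf_mulW hK hx0 (hsm hK x) hω
    have h2 : D ≤ C + div k x := (h1 D).mp hω'
    intro P
    have := h2 P
    simp only [Finsupp.add_apply, Finsupp.sub_apply, Finsupp.zero_apply] at this ⊢
    omega

/-- multiplication `L(C-D) → W(D)`, `x ↦ xω` -/
noncomputable def mulWLin' (hK : IsFunctionField k K) (C D : Divisor k K)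
    (ω : Module.Dual k (adele k K)) (hω : ω ∈ WD C) : L (C - D) →ₗ[k] WD D where
  toFun x := ⟨mulW x.1 (hsm hK x.1) ω, mulW_mem_WD' hK x.2 hω⟩
  map_add' x y := Subtype.ext (mulW_add x.1 y.1 (hsm hK _) (hsm hK _) (hsm hK _) ω)
  map_smul' c x := Subtype.ext (mulW_smul c x.1 (hsm hK _) (hsm hK _) ω)

theorem mulWLin'_bijective (hK : IsFunctionField k K) {ω : Module.Dual k (adele k K)}
    {C : Divisor k K} (hω : IsDivOf ω C) (D : Divisor k K) :
    Function.Bijective (mulWLin' hK C D ω (IsDivOf.mem hω)) := by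
  constructor
  · intro x y hxy
    exact Subtype.ext (mulW_injective hK (IsDivOf.ne_zero hK hω) (congrArg Subtype.val hxy))
  · rintro ⟨ω', hω'⟩
    obtain ⟨x, ⟨hxL, hx⟩, -⟩ := existsUnique_mulW hK hω D hω'
    exact ⟨⟨x, hxL⟩, Subtype.ext hx⟩

/-- `ℓ(C - D) = dim W(D)` -/
theorem ell_sub_eq_finrank_WD (hK : IsFunctionField k K) {ω : Module.Dual k (adele k K)}
    {C : Divisor k K} (hω : IsDivOf ω C) (D : Divisor k K) :
    ell (C - D) = finrank k (WD D) :=
  (LinearEquiv.ofBijective _ (mulWLin'_bijective hK hω D)).finrank_eq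

/-- The Riemann–Roch theorem. -/
theorem riemann_roch (hK : IsFunctionField k K) {C : Divisor k K} (hC : IsCanonical k K C)
    (D : Divisor k K) : (ell D : ℤ) = D.deg + 1 - genus k K + ell (C - D) := by
  obtain ⟨ω, -, hω⟩ := hC
  rw [ell_sub_eq_finrank_WD hK hω D, (WD_finrank hK D).2]
  ring

theorem exists_canonical (hK : IsFunctionField k K) : ∃ C : Divisor k K, IsCanonical k K C := by
  classical
  obtain ⟨P⟩ := exists_place hK
  set D : Divisor k K := -(Finsupp.single P 2) with hD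
  have hPdeg : (1 : ℤ) ≤ P.deg := by exact_mod_cast Place.deg_pos hK P
  have hdeg : D.deg = -(2 * P.deg) := by rw [hD, Divisor.deg_neg, Divisor.deg_single]
  have hL : ell D = 0 := by
    have : L D = ⊥ := L_eq_bot_of_deg_neg hK _ (by rw [hdeg]; omega)
    unfold ell
    rw [this]
    exact finrank_bot k K
  obtain ⟨hfin, hrank⟩ := WD_finrank hK D
  rw [hL, hdeg] at hrank
  have hpos : 0 < finrank k (WD D) := by
    have : (0 : ℤ) < finrank k (WD D) := by
      rw [hrank]; push_cast; linarith [Nat.cast_nonneg (α := ℤ) (genus k K)]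
    exact_mod_cast this
  have hne : WD D ≠ ⊥ := by
    intro h
    rw [h, finrank_bot] at hpos
    exact lt_irrefl _ hpos
  obtain ⟨ω, hωD, hω0⟩ := Submodule.exists_mem_ne_zero_of_ne_bot hne
  obtain ⟨C, hC⟩ := exists_isDivOf hK ω ⟨D, hωD⟩ hω0
  exact ⟨C, ω, hω0, hC⟩

theorem canonical_ell_deg (hK : IsFunctionField k K) {C : Divisor k K}
    (hC : IsCanonical k K C) : ell C = genus k K ∧ C.deg = 2 * (genus k K : ℤ) - 2 := by
  have h1 := riemann_roch hK hC 0
  rw [ell_zero hK, Divisor.deg_zero, sub_zero] at h1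
  have h2 := riemann_roch hK hC C
  rw [sub_self, ell_zero hK] at h2
  push_cast at h1 h2
  constructor
  · have : (ell C : ℤ) = genus k K := by linarith
    exact_mod_cast this
  · linarith

theorem canonical_equiv (hK : IsFunctionField k K) {C₁ C₂ : Divisor k K}
    (h₁ : IsCanonical k K C₁) (h₂ : IsCanonical k K C₂) :
    ∃ x : K, x ≠ 0 ∧ C₂ = C₁ + div k x := by
  obtain ⟨ω₁, h10, hω₁⟩ := h₁
  obtain ⟨ω₂, h20, hω₂⟩ := h₂
  obtain ⟨x, hx⟩ := exists_mulW_eq hK ω₁ ω₂ (IsDivOf.isWeil hω₁) h10 (IsDivOf.isWeil hω₂)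
  have hx0 : x ≠ 0 := by
    rintro rfl
    rw [mulW_zero] at hx
    exact h20 hx.symm
  refine ⟨x, hx0, ?_⟩
  have h3 : IsDivOf ω₂ (C₁ + div k x) := hx ▸ isDivOf_mulW hK hx0 (hsm hK x) hω₁
  exact IsDivOf.unique hω₂ h3

theorem isCanonical_iff (hK : IsFunctionField k K) (C : Divisor k K) :
    IsCanonical k K C ↔ (ell C = genus k K ∧ C.deg = 2 * (genus k K : ℤ) - 2) := by
  constructor
  · exact canonical_ell_deg hK
  · rintro ⟨hell, hdeg⟩
    obtain ⟨W, hW⟩ := exists_canonical hK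
    obtain ⟨hWell, hWdeg⟩ := canonical_ell_deg hK hW
    have h1 := riemann_roch hK hW C
    rw [hell, hdeg] at h1
    have h2 : ell (W - C) = 1 := by
      have : (ell (W - C) : ℤ) = 1 := by linarith
      exact_mod_cast this
    have h3 : L (W - C) ≠ ⊥ := (ell_pos_iff hK _).mp (by omega)
    obtain ⟨x, hx0, hx⟩ := (L_ne_bot_iff hK _).mp h3
    have h4 : (0 : Divisor k K) = W - C + div k x := by
      apply Divisor.eq_of_le_of_deg_eq hK hx
      rw [Divisor.deg_zero, deg_add_div hK, Divisor.deg_sub, hWdeg, hdeg, sub_self]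
    have h5 : C = W + div k x := by
      have : W - C + div k x + C = W + div k x := by abel
      rw [← this, ← h4, zero_add]
    obtain ⟨ω, hω0, hω⟩ := hW
    rw [h5]
    exact ⟨mulW x (hsm hK x) ω, mulW_ne_zero hK hx0 hω0, isDivOf_mulW hK hx0 (hsm hK x) hω⟩

theorem ell_of_deg_ge (hK : IsFunctionField k K) (D : Divisor k K)
    (h : 2 * (genus k K : ℤ) - 1 ≤ D.deg) : (ell D : ℤ) = D.deg + 1 - genus k K := by
  obtain ⟨W, hW⟩ := exists_canonical hK
  obtain ⟨-, hWdeg⟩ := canonical_ell_deg hK hW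
  have h1 := riemann_roch hK hW D
  have h2 : ell (W - D) = 0 := by
    have : L (W - D) = ⊥ := L_eq_bot_of_deg_neg hK _ (by rw [Divisor.deg_sub]; omega)
    unfold ell
    rw [this]
    exact finrank_bot k K
  rw [h2] at h1
  push_cast at h1
  linarith

end Groth.Agent.H55
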