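import Mathlib
import Groth.Agent.H66.ArtinSchreier

set_option autoImplicit false
set_option linter.unusedSectionVars false
set_option linter.style.haveILetI false
universe u
attribute [local instance] FractionRing.liftAlgebra

open IntermediateField

namespace Groth.Agent.H55.ASNormal

section frac

variable {K : Type u} [Field K]

/-- the fraction `a / X^m` in `Frac K⟦X⟧` -/
noncomputable def frac (a : PowerSeries K) (m : ℕ) : FractionRing (PowerSeries K) :=
  algebraMap (PowerSeries K) (FractionRing (PowerSeries K)) a /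
    algebraMap (PowerSeries K) (FractionRing (PowerSeries K)) (PowerSeries.X ^ m)

theorem algX_ne_zero (m : ℕ) :
    algebraMap (PowerSeries K) (FractionRing (PowerSeries K)) (PowerSeries.X ^ m) ≠ 0 := by
  rw [Ne, map_eq_zero_iff _ (IsFractionRing.injective (PowerSeries K) (FractionRing (PowerSeries K)))]
  exact pow_ne_zero _ PowerSeries.X_ne_zero

/-- every element of `Frac K⟦X⟧` has the form `a / X^m`. -/
theorem exists_frac (y : FractionRing (PowerSeries K)) :
    ∃ (a : PowerSeries K) (m : ℕ), y = frac a m := by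
  obtain ⟨n, d, hd, rfl⟩ := IsFractionRing.div_surjective (PowerSeries K) y
  have hd0 : d ≠ 0 := nonZeroDivisors.ne_zero hd
  obtain ⟨u, hu⟩ := PowerSeries.isUnit_divided_by_X_pow_order hd0
  have hdeq : d = (PowerSeries.X : PowerSeries K) ^ d.order.toNat * (u : PowerSeries K) := by
    rw [hu, PowerSeries.X_pow_order_mul_divXPowOrder]
  refine ⟨n * (↑u⁻¹ : PowerSeries K), d.order.toNat, ?_⟩
  unfold frac
  have hd' : algebraMap (PowerSeries K) (FractionRing (PowerSeries K)) d ≠ 0 := by
    rw [Ne, map_eq_zero_iff _ (IsFractionRing.injective (PowerSeries K) (FractionRing (PowerSeries K)))]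
    exact hd0
  rw [div_eq_div_iff hd' (algX_ne_zero _), ← map_mul, ← map_mul]
  congr 1
  conv_rhs => rw [hdeq]
  have : (↑u⁻¹ : PowerSeries K) * ↑u = 1 := Units.inv_mul u
  linear_combination (-(n * PowerSeries.X ^ d.order.toNat)) * this

theorem frac_succ_of_X_mul (a : PowerSeries K) (m : ℕ) :
    frac (PowerSeries.X * a) (m + 1) = frac a m := by
  unfold frac
  rw [div_eq_div_iff (algX_ne_zero _) (algX_ne_zero _), ← map_mul, ← map_mul]
  congr 1
  ring

theorem frac_sub (a b : PowerSeries K) (m : ℕ) : frac (a - b) m = frac a m - frac b m := by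
  unfold frac
  rw [map_sub, sub_div]

theorem frac_add (a b : PowerSeries K) (m : ℕ) : frac (a + b) m = frac a m + frac b m := by
  unfold frac
  rw [map_add, add_div]

theorem frac_mul_X_pow (a : PowerSeries K) (k j : ℕ) :
    frac (a * PowerSeries.X ^ j) (k + j) = frac a k := by
  unfold frac
  rw [div_eq_div_iff (algX_ne_zero _) (algX_ne_zero _), ← map_mul, ← map_mul]
  congr 1
  ring

theorem frac_pow (a : PowerSeries K) (k n : ℕ) : (frac a k) ^ n = frac (a ^ n) (n * k) := by
  unfold frac
  rw [div_pow, ← map_pow, ← map_pow, ← pow_mul, mul_comm]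

theorem frac_zero_right (a : PowerSeries K) :
    frac a 0 = algebraMap (PowerSeries K) (FractionRing (PowerSeries K)) a := by
  unfold frac
  rw [pow_zero, map_one, div_one]

end frac


section main

variable (p : ℕ) [Fact p.Prime] (K : Type u) [Field K]
    [CharP K p] (B : Type u) [CommRing B] [IsDedekindDomain B]
    [Algebra (PowerSeries K) B] [Module.Finite (PowerSeries K) B]
    [Module.IsTorsionFree (PowerSeries K) B]

/-- the predicate: some Artin–Schreier generator has equation with pole order `≤ m` shape. -/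
def P (m : ℕ) : Prop :=
  ∃ z : FractionRing B, ∃ a : PowerSeries K,
    IntermediateField.adjoin (FractionRing (PowerSeries K)) {z} = ⊤ ∧
    z ^ p - z + algebraMap (FractionRing (PowerSeries K)) (FractionRing B) (frac a m) = 0

/-- same with vanishing constant coefficient -/
def Q (m : ℕ) : Prop :=
  ∃ z : FractionRing B, ∃ a : PowerSeries K,
    IntermediateField.adjoin (FractionRing (PowerSeries K)) {z} = ⊤ ∧
    PowerSeries.constantCoeff a = 0 ∧
    z ^ p - z + algebraMap (FractionRing (PowerSeries K)) (FractionRing B) (frac a m) = 0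

theorem P_of_Q_succ (m : ℕ) (h : Q p K B (m + 1)) : P p K B m := by
  obtain ⟨z, a, hz, ha, heq⟩ := h
  obtain ⟨a', rfl⟩ := PowerSeries.X_dvd_iff.mpr ha
  refine ⟨z, a', hz, ?_⟩
  rwa [frac_succ_of_X_mul] at heq

theorem charP_frac : CharP (FractionRing (PowerSeries K)) p := by
  have h1 : CharP (PowerSeries K) p :=
    charP_of_injective_algebraMap (PowerSeries.C_injective (R := K)) p
  exact charP_of_injective_algebraMap
    (IsFractionRing.injective (PowerSeries K) (FractionRing (PowerSeries K))) p

theorem exists_P [IsGalois (FractionRing (PowerSeries K)) (FractionRing B)]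
    (hdeg : Module.finrank (FractionRing (PowerSeries K)) (FractionRing B) = p) :
    ∃ m, P p K B m := by
  have hp : p.Prime := Fact.out
  haveI := charP_frac p K
  haveI : FiniteDimensional (FractionRing (PowerSeries K)) (FractionRing B) :=
    Module.finite_of_finrank_pos (by rw [hdeg]; exact hp.pos)
  obtain ⟨z, ⟨β, hβ⟩, hz⟩ := Groth.Agent.H66.ArtinSchreier.exists_generator
    (K := FractionRing (PowerSeries K)) (L := FractionRing B) p hdeg
  obtain ⟨a, m, ha⟩ := exists_frac (-β)
  refine ⟨m, z, a, hz, ?_⟩
  rw [← ha, ← hβ, map_neg, add_neg_cancel]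


theorem Q_of_P_of_dvd [PerfectField K] (m : ℕ) (hm : 0 < m) (hpm : p ∣ m) (h : P p K B m) :
    Q p K B m := by
  have hp : p.Prime := Fact.out
  haveI := charP_frac p K
  haveI : CharP (FractionRing B) p := charP_of_injective_algebraMap
    (algebraMap (FractionRing (PowerSeries K)) (FractionRing B)).injective p
  obtain ⟨z, a, hz, heq⟩ := h
  obtain ⟨k, rfl⟩ := hpm
  have hk : 0 < k := Nat.pos_of_mul_pos_left hm
  haveI : PerfectRing K p := PerfectField.toPerfectRing p
  obtain ⟨c, hc⟩ := surjective_frobenius K p (PowerSeries.constantCoeff a)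
  rw [frobenius_def] at hc
  -- the correction term
  set y : FractionRing (PowerSeries K) := frac (PowerSeries.C c) k with hy
  obtain ⟨j, hj, hj0⟩ : ∃ j, p * k = k + j ∧ 0 < j := by
    refine ⟨p * k - k, ?_, ?_⟩
    · have : k ≤ p * k := Nat.le_mul_of_pos_left k hp.pos
      omega
    · have : 2 * k ≤ p * k := Nat.mul_le_mul_right k hp.two_le
      omega
  have hyp : y ^ p = frac (PowerSeries.C (PowerSeries.constantCoeff a)) (p * k) := by
    rw [hy, frac_pow, ← map_pow, hc]
  have hy1 : y = frac (PowerSeries.C c * PowerSeries.X ^ j) (p * k) := by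
    rw [hy, hj, frac_mul_X_pow]
  refine ⟨z + algebraMap _ _ y,
    a - PowerSeries.C (PowerSeries.constantCoeff a) +
      PowerSeries.C c * PowerSeries.X ^ j, ?_, ?_, ?_⟩
  · rw [eq_top_iff, ← hz, IntermediateField.adjoin_simple_le_iff]
    have h1 : z + algebraMap _ _ y ∈
        IntermediateField.adjoin (FractionRing (PowerSeries K))
          {z + algebraMap (FractionRing (PowerSeries K)) (FractionRing B) y} :=
      IntermediateField.mem_adjoin_simple_self _ _
    have h2 : algebraMap (FractionRing (PowerSeries K)) (FractionRing B) y ∈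
        IntermediateField.adjoin (FractionRing (PowerSeries K))
          {z + algebraMap (FractionRing (PowerSeries K)) (FractionRing B) y} :=
      IntermediateField.algebraMap_mem _ _
    have := sub_mem h1 h2
    rwa [add_sub_cancel_right] at this
  · rw [map_add, map_sub, PowerSeries.constantCoeff_C, sub_self, zero_add, map_mul, map_pow,
      PowerSeries.constantCoeff_X, zero_pow hj0.ne', mul_zero]
  · rw [frac_add, frac_sub, ← hyp, ← hy1, add_pow_char, map_add, map_sub, ← map_pow]
    linear_combination heq


theorem not_P_zero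
    (hdeg : Module.finrank (FractionRing (PowerSeries K)) (FractionRing B) = p)
    (M : Ideal B) [M.IsMaximal] (hram : M.ramificationIdx (PowerSeries K) = p) :
    ¬ P p K B 0 := by
  rintro ⟨z, a, hz, heq⟩
  have hp : p.Prime := Fact.out
  haveI hcA : CharP (PowerSeries K) p :=
    charP_of_injective_algebraMap (PowerSeries.C_injective (R := K)) p
  haveI hcB : CharP B p := charP_of_injective_algebraMap
    (FaithfulSMul.algebraMap_injective (PowerSeries K) B) p
  rw [frac_zero_right, ← IsScalarTower.algebraMap_apply] at heq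
  -- `z` is integral over `A`, hence lies in `B`
  have hzint : IsIntegral (PowerSeries K) z := by
    refine ⟨Polynomial.X ^ p + (Polynomial.C a - Polynomial.X), ?_, ?_⟩
    · apply Polynomial.monic_X_pow_add
      calc (Polynomial.C a - Polynomial.X : Polynomial (PowerSeries K)).degree
          ≤ max (Polynomial.C a).degree (Polynomial.X : Polynomial (PowerSeries K)).degree :=
            Polynomial.degree_sub_le _ _
        _ ≤ 1 := by
            rw [Polynomial.degree_X]
            exact max_le (Polynomial.degree_C_le.trans zero_le_one) le_rfl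
        _ < p := by exact_mod_cast hp.one_lt
    · rw [Polynomial.eval₂_add, Polynomial.eval₂_sub, Polynomial.eval₂_pow, Polynomial.eval₂_X,
        Polynomial.eval₂_C]
      linear_combination heq
  have hzB : IsIntegral B z := hzint.tower_top
  obtain ⟨b, hb⟩ := IsIntegrallyClosed.isIntegral_iff.mp hzB
  have hbeq : b ^ p - b + algebraMap (PowerSeries K) B a = 0 := by
    apply IsFractionRing.injective B (FractionRing B)
    rw [map_add, map_sub, map_pow, hb, map_zero, ← IsScalarTower.algebraMap_apply]
    exact heq
  -- the prime below `M`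
  set 𝔭 : Ideal (PowerSeries K) := M.under (PowerSeries K) with h𝔭
  haveI h𝔭max : 𝔭.IsMaximal := Ideal.IsMaximal.under (PowerSeries K) M
  haveI hlo : M.LiesOver 𝔭 := ⟨rfl⟩
  have h𝔭X : 𝔭 = Ideal.span {PowerSeries.X} := by
    rw [← PowerSeries.maximalIdeal_eq_span_X]
    exact IsLocalRing.eq_maximalIdeal h𝔭max
  have hsum := Ideal.sum_ramification_inertia_eq_finrank 𝔭 B
  have hrank : Module.finrank (PowerSeries K) B = p := by
    rw [← hdeg]
    exact (IsFractionRing.finrank_eq (PowerSeries K) (FractionRing (PowerSeries K)) B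
      (FractionRing B)).symm
  have hle : M.ramificationIdx (PowerSeries K) * M.inertiaDeg (PowerSeries K) ≤ p := by
    rw [← hrank, ← hsum]
    exact Finset.single_le_sum
      (f := fun q : 𝔭.primesOver B =>
        q.1.ramificationIdx (PowerSeries K) * q.1.inertiaDeg (PowerSeries K))
      (fun _ _ => Nat.zero_le _)
      (Finset.mem_univ (⟨M, ‹M.IsMaximal›.isPrime, hlo⟩ : 𝔭.primesOver B))
  have hf1 : M.inertiaDeg (PowerSeries K) = 1 := by
    have hpos := Ideal.inertiaDeg_pos M (PowerSeries K)
    rw [hram] at hle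
    have : M.inertiaDeg (PowerSeries K) ≤ 1 :=
      Nat.le_of_mul_le_mul_left (by rwa [mul_one]) hp.pos
    omega
  rw [Ideal.inertiaDeg_eq_of_isMaximal 𝔭 M] at hf1
  -- every element of `B` is congruent mod `M` to an element of `A`
  have hres : ∀ b : B, ∃ c : PowerSeries K, b - algebraMap (PowerSeries K) B c ∈ M := by
    intro b
    letI : Field (PowerSeries K ⧸ 𝔭) := Ideal.Quotient.field 𝔭
    have htop := Subalgebra.bot_eq_top_of_finrank_eq_one hf1
    have hmem : Ideal.Quotient.mk M b ∈ (⊥ : Subalgebra (PowerSeries K ⧸ 𝔭) (B ⧸ M)) := by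
      rw [htop]; trivial
    obtain ⟨c', hc'⟩ := Algebra.mem_bot.mp hmem
    obtain ⟨c, rfl⟩ := Ideal.Quotient.mk_surjective c'
    refine ⟨c, ?_⟩
    rw [← Ideal.Quotient.eq, ← hc']
    rfl
  obtain ⟨c, hc⟩ := hres b
  -- Hensel's lemma for `T^p - T + a` over `K⟦X⟧`
  set f : Polynomial (PowerSeries K) :=
    Polynomial.X ^ p + (Polynomial.C a - Polynomial.X) with hf
  have hfmonic : f.Monic := by
    apply Polynomial.monic_X_pow_add
    calc (Polynomial.C a - Polynomial.X : Polynomial (PowerSeries K)).degree
        ≤ max (Polynomial.C a).degree (Polynomial.X : Polynomial (PowerSeries K)).degree :=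
          Polynomial.degree_sub_le _ _
      _ ≤ 1 := by
          rw [Polynomial.degree_X]
          exact max_le (Polynomial.degree_C_le.trans zero_le_one) le_rfl
      _ < p := by exact_mod_cast hp.one_lt
  have hfeval : ∀ t : PowerSeries K, f.eval t = t ^ p - t + a := by
    intro t
    rw [hf, Polynomial.eval_add, Polynomial.eval_sub, Polynomial.eval_pow, Polynomial.eval_X,
      Polynomial.eval_C]
    ring
  have hfder : ∀ t : PowerSeries K, f.derivative.eval t = -1 := by
    intro t
    rw [hf, Polynomial.derivative_add, Polynomial.derivative_sub, Polynomial.derivative_X_pow,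
      Polynomial.derivative_C, Polynomial.derivative_X, Polynomial.eval_add, Polynomial.eval_sub,
      Polynomial.eval_mul, Polynomial.eval_pow, Polynomial.eval_X, Polynomial.eval_C,
      Polynomial.eval_zero, Polynomial.eval_one, CharP.cast_eq_zero, zero_mul, zero_add,
      zero_sub]
  have hMalg : ∀ t : PowerSeries K, algebraMap (PowerSeries K) B t ∈ M ↔ t ∈ 𝔭 := by
    intro t
    rw [h𝔭, Ideal.under_def, Ideal.mem_comap]
  have hc0 : f.eval c ∈ (Ideal.span {PowerSeries.X} : Ideal (PowerSeries K)) := by
    rw [← h𝔭X, ← hMalg, hfeval, map_add, map_sub, map_pow]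
    -- `alg c ^ p - alg c + alg a ≡ b^p - b + alg a = 0`
    have h1 : b ^ p - (algebraMap (PowerSeries K) B c) ^ p ∈ M := by
      rw [← sub_pow_char]
      exact Ideal.pow_mem_of_mem M hc p hp.pos
    have : (algebraMap (PowerSeries K) B c) ^ p - algebraMap (PowerSeries K) B c +
        algebraMap (PowerSeries K) B a =
        (b - algebraMap (PowerSeries K) B c) - (b ^ p - (algebraMap (PowerSeries K) B c) ^ p) := by
      linear_combination hbeq
    rw [this]
    exact M.sub_mem hc h1
  haveI : IsAdicComplete (Ideal.span {(PowerSeries.X : PowerSeries K)}) (PowerSeries K) :=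
    inferInstance
  obtain ⟨c', hc'root, hc'c⟩ := HenselianRing.is_henselian
    (I := (Ideal.span {PowerSeries.X} : Ideal (PowerSeries K))) f hfmonic c hc0
    (by rw [hfder, map_neg, map_one]; exact (isUnit_one (M := PowerSeries K ⧸ (Ideal.span {PowerSeries.X} : Ideal (PowerSeries K)))).neg)
  rw [Polynomial.IsRoot, hfeval] at hc'root
  -- `w = b - c'` lies in `M` and satisfies `w^p = w`, hence vanishes
  set w : B := b - algebraMap (PowerSeries K) B c' with hw
  have hwM : w ∈ M := by
    have h1 : algebraMap (PowerSeries K) B (c' - c) ∈ M := by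
      rw [hMalg, h𝔭X]; exact hc'c
    have : w = (b - algebraMap (PowerSeries K) B c) - algebraMap (PowerSeries K) B (c' - c) := by
      rw [hw, map_sub]; ring
    rw [this]
    exact M.sub_mem hc h1
  have hwp : w ^ p = w := by
    rw [hw, sub_pow_char]
    have h2 : algebraMap (PowerSeries K) B (c' ^ p - c' + a) = 0 := by rw [hc'root, map_zero]
    rw [map_add, map_sub, map_pow] at h2
    linear_combination hbeq - h2
  have hw0 : w = 0 := by
    by_contra hne
    obtain ⟨n, hn⟩ : ∃ n, p = n + 1 := ⟨p - 1, by have := hp.pos; omega⟩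
    have h3 : w * (w ^ n - 1) = 0 := by
      have : w * (w ^ n - 1) = w ^ (n + 1) - w := by ring
      rw [this, ← hn, hwp, sub_self]
    rcases mul_eq_zero.mp h3 with h4 | h4
    · exact hne h4
    · have hn0 : n ≠ 0 := by
        rintro rfl
        exact hp.one_lt.ne' (by simpa using hn)
      have h5 : (1 : B) ∈ M := by
        rw [← sub_eq_zero.mp h4]
        exact Ideal.pow_mem_of_mem M hwM n (Nat.pos_of_ne_zero hn0)
      exact (Ideal.IsMaximal.ne_top ‹M.IsMaximal›) ((Ideal.eq_top_iff_one M).mpr h5)
  -- so `z ∈ F`, contradicting `F⟮z⟯ = ⊤`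
  have hzF : z ∈ Set.range (algebraMap (FractionRing (PowerSeries K)) (FractionRing B)) := by
    refine ⟨algebraMap (PowerSeries K) (FractionRing (PowerSeries K)) c', ?_⟩
    rw [← hb, sub_eq_zero.mp hw0, ← IsScalarTower.algebraMap_apply,
      ← IsScalarTower.algebraMap_apply]
  have hbot : IntermediateField.adjoin (FractionRing (PowerSeries K)) {z} = ⊥ := by
    rw [IntermediateField.adjoin_simple_eq_bot_iff, IntermediateField.mem_bot]
    exact hzF
  rw [hz] at hbot
  have h1 : Module.finrank (FractionRing (PowerSeries K)) (FractionRing B) = 1 :=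
    IntermediateField.bot_eq_top_iff_finrank_eq_one.mp hbot.symm
  rw [hdeg] at h1
  exact hp.one_lt.ne' h1


open Classical in
theorem main [PerfectField K]
    [IsGalois (FractionRing (PowerSeries K)) (FractionRing B)]
    (hdeg : Module.finrank (FractionRing (PowerSeries K)) (FractionRing B) = p)
    (M : Ideal B) [M.IsMaximal] (hram : M.ramificationIdx (PowerSeries K) = p) :
    ∃ x : FractionRing B, ∃ m : ℕ, ∃ a : PowerSeries K,
      IntermediateField.adjoin (FractionRing (PowerSeries K)) {x} = ⊤ ∧ 0 < m ∧ ¬ p ∣ m ∧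
      PowerSeries.constantCoeff a ≠ 0 ∧
      x ^ p - x + algebraMap (FractionRing (PowerSeries K)) (FractionRing B)
        (algebraMap (PowerSeries K) (FractionRing (PowerSeries K)) a /
          algebraMap (PowerSeries K) (FractionRing (PowerSeries K)) (PowerSeries.X ^ m)) = 0 := by
  have hex := exists_P p K B hdeg
  have hmin : ∀ n, n < Nat.find hex → ¬ P p K B n := fun n hn => Nat.find_min hex hn
  obtain ⟨z, a, hz, heq⟩ := Nat.find_spec hex
  have hm0 : Nat.find hex ≠ 0 := by
    intro h0
    have := Nat.find_spec hex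
    rw [h0] at this
    exact not_P_zero p K B hdeg M hram this
  obtain ⟨n, hn⟩ := Nat.exists_eq_succ_of_ne_zero hm0
  have hnoQ : ¬ Q p K B (Nat.find hex) := by
    intro hQ
    rw [hn] at hQ
    exact hmin n (by omega) (P_of_Q_succ p K B n hQ)
  refine ⟨z, Nat.find hex, a, hz, Nat.pos_of_ne_zero hm0, ?_, ?_, heq⟩
  · intro hdvd
    exact hnoQ (Q_of_P_of_dvd p K B _ (Nat.pos_of_ne_zero hm0) hdvd ⟨z, a, hz, heq⟩)
  · intro ha0
    exact hnoQ ⟨z, a, hz, ha0, heq⟩

end main

end Groth.Agent.H55.ASNormal
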