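import Groth.Agent.H55.Gor2

/-!
# Gorenstein localizations, continued (helper55)
-/

set_option autoImplicit false
set_option linter.style.haveILetI false
set_option linter.unusedSectionVars false
universe u

open IsLocalRing

namespace Groth.Agent.H55.Gor

open Groth.Agent.H26.GorRegHom Groth.Agent.H26.GorQuot Groth.Agent.H26.GorFieldLocal

/-- if `M⁻¹R` is Gorenstein then `R_p` is Gorenstein for every prime `p` disjoint from `M` -/
theorem gor_atPrime_of_isLocalization {R S' : Type u} [CommRing R] [CommRing S'] [Algebra R S']
    (M : Submonoid R) [IsLocalization M S'] (hS' : LocCoh.IsGorensteinRing S') (p : Ideal R)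
    [p.IsPrime] (hle : M ≤ p.primeCompl) :
    LocCoh.IsGorensteinLocalRing (Localization.AtPrime p) := by
  letI : Algebra S' (Localization.AtPrime p) :=
    IsLocalization.localizationAlgebraOfSubmonoidLe S' (Localization.AtPrime p)
      M p.primeCompl hle
  haveI : IsScalarTower R S' (Localization.AtPrime p) :=
    IsLocalization.localization_isScalarTower_of_submonoid_le S' (Localization.AtPrime p)
      M p.primeCompl hle
  haveI : IsLocalization (p.primeCompl.map (algebraMap R S')) (Localization.AtPrime p) :=
    IsLocalization.isLocalization_of_submonoid_le S' (Localization.AtPrime p)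
      M p.primeCompl hle
  have h1 : LocCoh.IsGorensteinRing (Localization.AtPrime p) :=
    isGorensteinRing_of_isLocalization (p.primeCompl.map (algebraMap R S')) hS'
  exact isGorensteinLocalRing_of_isGorensteinRing _ h1

/-- the localization of a domain at the zero ideal is Gorenstein -/
theorem gor_atPrime_bot (A : Type u) [CommRing A] [IsDomain A] :
    LocCoh.IsGorensteinLocalRing (Localization.AtPrime (⊥ : Ideal A)) := by
  have : IsFractionRing A (Localization.AtPrime (⊥ : Ideal A)) := by
    have h0 : (⊥ : Ideal A).primeCompl = nonZeroDivisors A := by
      ext y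
      rw [mem_nonZeroDivisors_iff_ne_zero]
      exact Iff.rfl
    show IsLocalization (nonZeroDivisors A) _
    rw [← h0]
    infer_instance
  letI := IsFractionRing.toField A (K := Localization.AtPrime (⊥ : Ideal A))
  haveI : IsPrincipalIdealRing (Localization.AtPrime (⊥ : Ideal A)) := inferInstance
  exact Groth.Agent.S0342.result (Localization.AtPrime (⊥ : Ideal A))

end Groth.Agent.H55.Gor
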