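import Mathlib
import Groth.Agent.H55.CanonS2

/-!
# Ingredients for Murthy's theorem (helper55)

* `exists_regular_pair`: a prime of height `≥ 2` of a Noetherian local ring contains a regular
  sequence of length two on the canonical module.
* `mem_of_pair`, `exists_ideal_max`, `two_le_height`, `exists_injective_to_ring`.
-/

set_option autoImplicit false
set_option linter.unusedSectionVars false
set_option linter.style.haveILetI false
universe u

namespace Groth.Agent.H55.Murthy

open IsLocalRing RingTheory.Sequence Groth.Agent.H55.CanonS2 Pointwise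

section Pair

variable {R : Type u} [CommRing R] [IsNoetherianRing R] [IsLocalRing R] {n : ℕ}
  (hn : ringKrullDim R = n)
  {E : Type u} [AddCommGroup E] [Module R E]
  (f : ResidueField R →ₗ[R] E) (hf : InjHull.IsInjectiveHull f)
  {K : Type u} [AddCommGroup K] [Module R K] [Module.Finite R K]
  (eK : (K →ₗ[R] E) ≃ₗ[R] LocCoh.H (maximalIdeal R) n R)

include hn hf eK in
/-- a prime of height `≥ 2` contains a `K`-regular sequence of length two -/
theorem exists_regular_pair (p : Ideal R) [hp : p.IsPrime] (hht : 2 ≤ p.height) :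
    ∃ a₀ ∈ p, ∃ a₁ ∈ p, IsSMulRegular K a₀ ∧ IsSMulRegular (QuotSMulTop a₀ K) a₁ := by
  have hC0 : ¬ ∃ q : Ideal R, q.IsPrime ∧ ringKrullDim (R ⧸ q) = n ∧ p ≤ q := by
    rintro ⟨q, hq, hqn, hpq⟩
    have h1 := Groth.Agent.H39.height_add_ringKrullDim_quotient_le p
    have h2 : ringKrullDim (R ⧸ q) ≤ ringKrullDim (R ⧸ p) :=
      ringKrullDim_le_of_surjective (Ideal.Quotient.factor hpq)
        (Ideal.Quotient.factor_surjective hpq)
    have h3 : ringKrullDim (R ⧸ p) = n :=
      le_antisymm (hn ▸ ringKrullDim_quotient_le p) (hqn ▸ h2)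
    rw [h3, hn] at h1
    have h4 := enat_le_of_add_le p.height n n h1
    have : p.height ≤ 0 := by simpa using h4
    exact absurd (hht.trans this) (by norm_num)
  push Not at hC0
  have hn0 : n ≠ 0 := by
    intro h0
    letI := Ideal.Quotient.field (maximalIdeal R)
    refine hC0 (maximalIdeal R) inferInstance ?_ (le_maximalIdeal hp.ne_top)
    rw [h0, ringKrullDim_eq_zero_of_field]
    rfl
  obtain ⟨k, rfl⟩ : ∃ k, n = k + 1 := ⟨n - 1, by omega⟩
  have hfin0 : {q : Ideal R | q.IsPrime ∧ ringKrullDim (R ⧸ q) = (k + 1 : ℕ)}.Finite :=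
    (minimalPrimes.finite_of_isNoetherianRing R).subset (fun q hq => by
      haveI := hq.1
      exact mem_minimalPrimes_of_dim_eq (k + 1) hn q hq.2)
  obtain ⟨a₀, ha₀p, ha₀⟩ := exists_mem_forall_notMem p _ hfin0 (fun q hq => hq.1)
    (fun q hq => hC0 q hq.1 hq.2)
  have hdim0 : ∀ P : Ideal R, P.IsPrime → a₀ ∈ P →
      ringKrullDim (R ⧸ P) < ((k + 1 : ℕ) : WithBot ℕ∞) := by
    intro P hP haP
    refine lt_of_le_of_ne (hn ▸ ringKrullDim_quotient_le P) ?_
    intro h
    exact ha₀ P ⟨hP, h⟩ haP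
  have hreg₀ : IsSMulRegular K a₀ := isSMulRegular_of_avoid hn f hf eK a₀ hdim0
  have hC1 : ¬ ∃ P : Ideal R, P.IsPrime ∧ a₀ ∈ P ∧ ringKrullDim (R ⧸ P) = (k : ℕ) ∧ p ≤ P := by
    rintro ⟨P, hP, haP, hPk, hpP⟩
    have h1 := Groth.Agent.H39.height_add_ringKrullDim_quotient_le P
    rw [hPk, hn] at h1
    have h4 := enat_le_of_add_le P.height k (k + 1) h1
    have h6 : p.height ≤ P.height := Ideal.height_mono hpP
    have : p.height ≤ 1 := h6.trans (by simpa using h4)
    exact absurd (hht.trans this) (by norm_num)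
  push Not at hC1
  have hfin1 : {P : Ideal R | P.IsPrime ∧ a₀ ∈ P ∧ ringKrullDim (R ⧸ P) = (k : ℕ)}.Finite := by
    refine (Ideal.finite_minimalPrimes_of_isNoetherianRing R (Ideal.span {a₀})).subset ?_
    rintro P ⟨hP, haP, hPk⟩
    refine ⟨⟨hP, (Ideal.span_singleton_le_iff_mem P).mpr haP⟩, ?_⟩
    rintro P' ⟨hP', hle'⟩ hP'P
    by_contra hne
    have hlt : P' < P := lt_of_le_of_ne hP'P (fun h => hne (h ▸ le_rfl))
    haveI := hP'
    have haP' : a₀ ∈ P' := (Ideal.span_singleton_le_iff_mem P').mp hle'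
    have h1 : ringKrullDim (R ⧸ P') ≤ (k : ℕ) := by
      by_cases he : ringKrullDim (R ⧸ P') = (k : ℕ)
      · exact he.le
      · exact (lt_of_lt_succ_of_ne _ k (hdim0 P' hP' haP') he).le
    have := Groth.Agent.H2.CdTop.ringKrullDim_quotient_lt_of_lt P' P hlt k h1
    rw [hPk] at this
    exact lt_irrefl _ this
  obtain ⟨a₁, ha₁p, ha₁⟩ := exists_mem_forall_notMem p _ hfin1 (fun q hq => hq.1)
    (fun q hq => hC1 q hq.1 hq.2.1 hq.2.2)
  have hlt2 : Module.supportDim R (R ⧸ Ideal.span {a₀, a₁}) < (k : WithBot ℕ∞) := by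
    apply supportDim_quotient_lt
    intro P hP hJP
    have haP : a₀ ∈ P := hJP (Ideal.subset_span (by simp))
    have haP1 : a₁ ∈ P := hJP (Ideal.subset_span (by simp))
    exact lt_of_lt_succ_of_ne _ k (hdim0 P hP haP) (fun h => ha₁ P ⟨hP, haP, h⟩ haP1)
  have hreg₁ := Groth.Agent.H2.CanonSop.isSMulRegular_quot f hf hn eK a₀ a₁ hreg₀ hlt2
  exact ⟨a₀, ha₀p, a₁, ha₁p, hreg₀, hreg₁⟩

end Pair

section Alg

variable {A : Type u} [CommRing A] [IsDomain A]

/-- a regular pair on an ideal `J ≅ K` forces `(J : (a₀, a₁)) = J` -/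
theorem mem_of_pair (J : Ideal A) {K : Type u} [AddCommGroup K] [Module A K] (σ : J ≃ₗ[A] K)
    (a₀ a₁ : A) (h0 : a₀ ≠ 0) (hreg₁ : IsSMulRegular (QuotSMulTop a₀ K) a₁) (c : A)
    (hc0 : a₀ * c ∈ J) (hc1 : a₁ * c ∈ J) : c ∈ J := by
  let z : J := ⟨a₀ * c, hc0⟩
  let w : J := ⟨a₁ * c, hc1⟩
  have hzw : a₁ • z = a₀ • w := by
    apply Subtype.ext
    show a₁ * (a₀ * c) = a₀ * (a₁ * c)
    ring
  have h1 : a₁ • σ z = a₀ • σ w := by rw [← map_smul, ← map_smul, hzw]
  have h2 : a₁ • (Submodule.Quotient.mk (σ z) : QuotSMulTop a₀ K) = 0 := by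
    rw [← Submodule.Quotient.mk_smul, h1, Submodule.Quotient.mk_eq_zero]
    exact Submodule.smul_mem_pointwise_smul _ _ _ trivial
  have h3 : (Submodule.Quotient.mk (σ z) : QuotSMulTop a₀ K) = 0 := by
    apply hreg₁
    show a₁ • _ = a₁ • 0
    rw [h2, smul_zero]
  rw [Submodule.Quotient.mk_eq_zero] at h3
  obtain ⟨k', -, hk'⟩ := (Submodule.mem_smul_pointwise_iff_exists _ _ _).mp h3
  have h4 : z = a₀ • σ.symm k' := by
    apply σ.injective
    rw [map_smul, LinearEquiv.apply_symm_apply]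
    exact hk'.symm
  have h5 : a₀ * c = a₀ * (σ.symm k' : A) := congrArg Subtype.val h4
  have h6 : c = (σ.symm k' : A) := mul_left_cancel₀ h0 h5
  rw [h6]
  exact (σ.symm k').2

variable [IsNoetherianRing A] [IsLocalRing A]

/-- among the ideals isomorphic to `K` a maximal one is contained in no principal prime -/
theorem exists_ideal_max {K : Type u} [AddCommGroup K] [Module A K] [Nontrivial K]
    (I : Ideal A) (e : K ≃ₗ[A] I) :
    ∃ J : Ideal A, Nonempty (J ≃ₗ[A] K) ∧ ∀ π : A, Prime π → ¬ J ≤ Ideal.span {π} := by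
  let S : Set (Ideal A) := {J | Nonempty (J ≃ₗ[A] K)}
  have hne : S.Nonempty := ⟨I, ⟨e.symm⟩⟩
  obtain ⟨J, ⟨σ⟩, hmax⟩ := wellFounded_gt.has_min S hne
  refine ⟨J, ⟨σ⟩, ?_⟩
  intro π hπ hJπ
  have hπ0 : π ≠ 0 := hπ.ne_zero
  let J' : Ideal A := Submodule.comap (LinearMap.mulLeft A π) J
  have hmem : ∀ a, a ∈ J' ↔ π * a ∈ J := fun a => Iff.rfl
  have hJJ' : J ≤ J' := fun j hj => (hmem j).mpr (J.mul_mem_left π hj)
  let μ : J' →ₗ[A] J :=
    { toFun := fun a => ⟨π * a.1, (hmem a.1).mp a.2⟩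
      map_add' := fun a b => Subtype.ext (mul_add π a.1 b.1)
      map_smul' := fun r a => Subtype.ext (by
        show π * (r * a.1) = r * (π * a.1)
        ring) }
  have hμ : Function.Bijective μ := by
    constructor
    · intro a b hab
      have : π * a.1 = π * b.1 := congrArg Subtype.val hab
      exact Subtype.ext (mul_left_cancel₀ hπ0 this)
    · intro j
      obtain ⟨a, ha⟩ := Ideal.mem_span_singleton'.mp (hJπ j.2)
      have haJ' : a ∈ J' := by
        rw [hmem, mul_comm, ha]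
        exact j.2
      exact ⟨⟨a, haJ'⟩, Subtype.ext (by show π * a = j.1; rw [mul_comm, ha])⟩
  have hJ'S : J' ∈ S := ⟨(LinearEquiv.ofBijective μ hμ).trans σ⟩
  have hJ'eq : J' = J := by
    by_contra hne'
    exact hmax J' hJ'S (lt_of_le_of_ne hJJ' (Ne.symm hne'))
  -- `J = π J`
  have hle : J ≤ Ideal.span {π} • J := by
    intro j hj
    obtain ⟨a, ha⟩ := Ideal.mem_span_singleton'.mp (hJπ hj)
    have haJ : a ∈ J := by
      rw [← hJ'eq, hmem, mul_comm, ha]
      exact hj
    rw [← ha, mul_comm]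
    exact Submodule.smul_mem_smul (Ideal.mem_span_singleton_self π) haJ
  have hπm : Ideal.span {π} ≤ (⊥ : Ideal A).jacobson := by
    rw [IsLocalRing.jacobson_eq_maximalIdeal ⊥ bot_ne_top, Ideal.span_singleton_le_iff_mem,
      IsLocalRing.mem_maximalIdeal, mem_nonunits_iff]
    exact hπ.not_isUnit
  have hJ0 : J = ⊥ :=
    Submodule.eq_bot_of_le_smul_of_le_jacobson_bot (Ideal.span {π}) J (IsNoetherian.noetherian J)
      hle hπm
  obtain ⟨x, hx⟩ := exists_ne (0 : K)
  apply hx
  have h0 : σ.symm x = 0 := by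
    apply Subtype.ext
    have h1 : (σ.symm x : A) ∈ J := (σ.symm x).2
    have h2 : (σ.symm x : A) ∈ (⊥ : Ideal A) := hJ0 ▸ h1
    exact h2
  rw [← σ.apply_symm_apply x, h0, map_zero]

/-- every prime containing such a `J` has height at least two -/
theorem two_le_height [UniqueFactorizationMonoid A] (J : Ideal A) (hJ0 : J ≠ ⊥)
    (hJ : ∀ π : A, Prime π → ¬ J ≤ Ideal.span {π}) (q : Ideal A) [hq : q.IsPrime] (hJq : J ≤ q) :
    2 ≤ q.height := by
  have hq0 : q ≠ ⊥ := by
    rintro rfl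
    exact hJ0 (le_bot_iff.mp hJq)
  obtain ⟨π, hπq, hπ⟩ := Ideal.IsPrime.exists_mem_prime_of_ne_bot hq hq0
  haveI hP : (Ideal.span {π}).IsPrime := (Ideal.span_singleton_prime hπ.ne_zero).mpr hπ
  have hPq : Ideal.span {π} ≤ q := (Ideal.span_singleton_le_iff_mem q).mpr hπq
  have hne : Ideal.span {π} ≠ q := by
    intro h
    exact hJ π hπ (h ▸ hJq)
  have hlt : Ideal.span {π} < q := lt_of_le_of_ne hPq hne
  have hbot : (⊥ : Ideal A) < Ideal.span {π} := by
    rw [bot_lt_iff_ne_bot]
    intro h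
    exact hπ.ne_zero (Ideal.span_singleton_eq_bot.mp h)
  have h1 := Ideal.height_strict_mono_of_isPrime hbot
  have h2 := Ideal.height_strict_mono_of_isPrime hlt
  have h3 : 1 ≤ (Ideal.span {π}).height := Order.one_le_iff_pos.mpr (lt_of_le_of_lt bot_le h1)
  calc (2 : ℕ∞) = 1 + 1 := by norm_num
    _ ≤ (Ideal.span {π}).height + 1 := by gcongr
    _ ≤ q.height := Order.add_one_le_of_lt h2

end Alg

section Embed

variable {A : Type u} [CommRing A] [IsDomain A]

/-- a finite torsion-free module of rank one embeds into the ring -/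
theorem exists_injective_to_ring {K : Type u} [AddCommGroup K] [Module A K] [Module.Finite A K]
    (htf : ∀ a : A, a ≠ 0 → IsSMulRegular K a)
    (ε : LocalizedModule (⊥ : Ideal A).primeCompl K ≃ₗ[Localization.AtPrime (⊥ : Ideal A)]
      Localization.AtPrime (⊥ : Ideal A)) :
    ∃ j : K →ₗ[A] A, Function.Injective j := by
  classical
  set L := Localization.AtPrime (⊥ : Ideal A) with hL
  set S := (⊥ : Ideal A).primeCompl with hS
  have hS0 : ∀ s ∈ S, s ≠ 0 := by
    intro s hs h0
    apply hs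
    rw [h0]
    exact Ideal.zero_mem _
  let mk := LocalizedModule.mkLinearMap S K
  have hmk : Function.Injective mk := by
    rw [← LinearMap.ker_eq_bot, LinearMap.ker_eq_bot']
    intro x hx
    obtain ⟨c, hc⟩ := (IsLocalizedModule.eq_zero_iff S mk).mp hx
    exact htf c.1 (hS0 c.1 c.2) (by
      show c.1 • x = c.1 • 0
      rw [smul_zero]; exact hc)
  let ι : K →ₗ[A] L := (ε.restrictScalars A).toLinearMap ∘ₗ mk
  have hι : Function.Injective ι := (ε.restrictScalars A).injective.comp hmk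
  obtain ⟨G, hG⟩ := (Module.Finite.fg_top : (⊤ : Submodule A K).FG)
  obtain ⟨d, hd⟩ := IsLocalization.exist_integer_multiples_of_finset S (G.image ι)
  have hint : ∀ k : K, IsLocalization.IsInteger A ((d : A) • ι k) := by
    intro k
    have hk : k ∈ Submodule.span A (G : Set K) := by rw [hG]; trivial
    induction hk using Submodule.span_induction with
    | mem x hx => exact hd _ (Finset.mem_image_of_mem ι hx)
    | zero =>
      rw [map_zero, smul_zero]
      exact ⟨0, map_zero _⟩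
    | add x y _ _ hx hy =>
      rw [map_add, smul_add]
      exact IsLocalization.isInteger_add hx hy
    | smul a x _ hx =>
      rw [map_smul, smul_comm]
      exact IsLocalization.isInteger_smul hx
  have hinj : Function.Injective (Algebra.linearMap A L) := by
    show Function.Injective (algebraMap A L)
    apply IsLocalization.injective L (M := S)
    intro s hs
    exact mem_nonZeroDivisors_of_ne_zero (hS0 s hs)
  let ρ : K →ₗ[A] LinearMap.range (Algebra.linearMap A L) :=
    LinearMap.codRestrict _ ((d : A) • ι) (fun k => by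
      obtain ⟨a, ha⟩ := hint k
      exact ⟨a, ha⟩)
  let j : K →ₗ[A] A := (LinearEquiv.ofInjective (Algebra.linearMap A L) hinj).symm.toLinearMap ∘ₗ ρ
  refine ⟨j, ?_⟩
  have hρ : Function.Injective ρ := by
    intro x y hxy
    have h1 : (d : A) • ι x = (d : A) • ι y := congrArg Subtype.val hxy
    rw [← map_smul, ← map_smul] at h1
    exact htf d.1 (hS0 d.1 d.2) (hι h1)
  exact (LinearEquiv.ofInjective (Algebra.linearMap A L) hinj).symm.injective.comp hρ

end Embed

end Groth.Agent.H55.Murthy
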