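import Mathlib
import Groth.Agent.H55.MurthyA
import Groth.Agent.H55.CanonLocz
import Groth.Agent.H55.Gor3
import Groth.Agent.H2.CanonModule
import Groth.Agent.S7701
import Groth.Agent.S0342

/-!
# Murthy's theorem (helper55)

`gorenstein_of_ufd`: a Cohen–Macaulay local UFD which is a quotient of a Gorenstein local ring is
Gorenstein.  Proof: the canonical module `K` is torsion-free of rank one (`canon_localization` at
the zero ideal), hence isomorphic to an ideal; a maximal such ideal `J` lies in no principal prime, so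
every prime containing it has height `≥ 2` and contains a `K`-regular pair, which is impossible for an
associated prime of `A/J`; so `J = A` and `K ≅ A`.
-/

set_option autoImplicit false
set_option linter.unusedSectionVars false
set_option linter.style.haveILetI false
universe u

namespace Groth.Agent.H55.Murthy

open IsLocalRing

/-- **Murthy's theorem** (general form): a Cohen–Macaulay local UFD which is a quotient of a
Gorenstein local ring is Gorenstein. -/
theorem gorenstein_of_ufd (T A : Type u) [CommRing T] [LocCoh.IsGorensteinLocalRing T]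
    [CommRing A] [IsDomain A] [UniqueFactorizationMonoid A] [LocCoh.IsCohenMacaulayLocalRing A]
    [Algebra T A] (hπ : Function.Surjective (algebraMap T A)) :
    LocCoh.IsGorensteinLocalRing A := by
  haveI : IsNoetherianRing A := inferInstance
  haveI : IsLocalRing A := inferInstance
  obtain ⟨n, hn⟩ := H2.GorensteinGlobal.exists_nat_ringKrullDim_eq A
  obtain ⟨E, _, _, f, hf⟩ := Groth.Agent.H2.exists_isInjectiveHull (R := A) (ResidueField A)
  obtain ⟨K, hfin, ⟨eK⟩⟩ := H2.CanonExist.exists_canon T A (algebraMap T A) hπ n hn E f hf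
  suffices hKA : Nonempty (K ≃ₗ[A] A) from (Groth.Agent.S7701.result A n hn E f hf K eK).mpr hKA
  haveI hKnt : Nontrivial K := H2.CanonModule.nontrivial_K f hf hn eK
  -- torsion-free
  have htf : ∀ a : A, a ≠ 0 → IsSMulRegular K a := by
    intro a ha
    apply CanonS2.isSMulRegular_of_avoid hn f hf eK a
    intro P hP haP
    haveI := hP
    have hPbot : (⊥ : Ideal A) < P := by
      rw [bot_lt_iff_ne_bot]
      rintro rfl
      exact ha haP
    exact H2.CdTop.ringKrullDim_quotient_lt_of_lt ⊥ P hPbot n (hn ▸ ringKrullDim_quotient_le ⊥)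
  -- the generic rank is one
  letI : Module T K := Module.compHom K (algebraMap T A)
  haveI : IsScalarTower T A K := ⟨fun t r k => by
    show (t • r) • k = algebraMap T A t • (r • k)
    rw [Algebra.smul_def, mul_smul]⟩
  set L := Localization.AtPrime (⊥ : Ideal A) with hL
  haveI hLG : LocCoh.IsGorensteinLocalRing L := Gor.gor_atPrime_bot A
  haveI hLCM : LocCoh.IsCohenMacaulayLocalRing L := H2.GorensteinCM.isCohenMacaulayLocalRing L
  have hh : ringKrullDim L = (0 : ℕ) := by
    rw [IsLocalization.AtPrime.ringKrullDim_eq_height (⊥ : Ideal A) L, Ideal.height_bot]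
    rfl
  have hVnt : Nontrivial (LocalizedModule (⊥ : Ideal A).primeCompl K) := by
    obtain ⟨x, hx⟩ := exists_ne (0 : K)
    refine ⟨⟨LocalizedModule.mkLinearMap _ K x, 0, ?_⟩⟩
    intro h0
    obtain ⟨c, hc⟩ := (IsLocalizedModule.eq_zero_iff (⊥ : Ideal A).primeCompl
      (LocalizedModule.mkLinearMap (⊥ : Ideal A).primeCompl K)).mp h0
    have hc0 : (c : A) ≠ 0 := by
      intro h
      apply c.2
      rw [h]
      exact Ideal.zero_mem _
    exact hx (htf c.1 hc0 (by
      show c.1 • x = c.1 • 0
      rw [smul_zero]; exact hc))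
  obtain ⟨E', _, _, f', hf'⟩ := Groth.Agent.H2.exists_isInjectiveHull (R := L) (ResidueField L)
  obtain ⟨eV⟩ := CanonLocz.canon_localization T A hπ n hn E f hf K eK ⊥ hVnt 0 hh E' f' hf'
  haveI : Module.Finite L (LocalizedModule (⊥ : Ideal A).primeCompl K) :=
    Module.Finite.of_isLocalizedModule (⊥ : Ideal A).primeCompl
      (LocalizedModule.mkLinearMap (⊥ : Ideal A).primeCompl K)
  obtain ⟨ε⟩ := (Groth.Agent.S7701.result L 0 hh E' f' hf'
    (LocalizedModule (⊥ : Ideal A).primeCompl K) eV).mp hLG
  -- `K` is an ideal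
  obtain ⟨j, hj⟩ := exists_injective_to_ring htf ε
  obtain ⟨J, ⟨σ⟩, hJ⟩ := exists_ideal_max (LinearMap.range j) (LinearEquiv.ofInjective j hj)
  -- `J = ⊤`
  have hJtop : J = ⊤ := by
    by_contra hne
    have hJ0 : J ≠ ⊥ := by
      rintro rfl
      obtain ⟨x, hx⟩ := exists_ne (0 : K)
      apply hx
      have h0 : σ.symm x = 0 := Subtype.ext ((Submodule.mem_bot A).mp (σ.symm x).2)
      rw [← σ.apply_symm_apply x, h0, map_zero]
    -- an associated prime of `A ⧸ J`
    haveI : Nontrivial (A ⧸ J) := Ideal.Quotient.nontrivial_iff.mpr hne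
    obtain ⟨q, hq⟩ := associatedPrimes.nonempty A (A ⧸ J)
    obtain ⟨hqp, cbar, hqc⟩ := isAssociatedPrime_iff.mp hq
    haveI := hqp
    obtain ⟨c, rfl⟩ := Ideal.Quotient.mk_surjective cbar
    have hmemq : ∀ a : A, a ∈ q ↔ a * c ∈ J := by
      intro a
      rw [hqc, Submodule.mem_colon_singleton, Submodule.mem_bot, ← Ideal.Quotient.eq_zero_iff_mem,
        map_mul]
      rfl
    have hcJ : c ∉ J := by
      intro hc
      apply hqp.ne_top
      rw [Ideal.eq_top_iff_one, hmemq, one_mul]
      exact hc
    have hJq : J ≤ q := fun a ha => (hmemq a).mpr (J.mul_mem_right c ha)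
    have hht := two_le_height J hJ0 hJ q hJq
    obtain ⟨a₀, ha₀, a₁, ha₁, hreg₀, hreg₁⟩ := exists_regular_pair hn f hf eK q hht
    have ha₀0 : a₀ ≠ 0 := by
      rintro rfl
      obtain ⟨x, hx⟩ := exists_ne (0 : K)
      exact hx (hreg₀ (by simp))
    exact hcJ (mem_of_pair J σ a₀ a₁ ha₀0 hreg₁ c ((hmemq a₀).mp ha₀) ((hmemq a₁).mp ha₁))
  subst hJtop
  exact ⟨σ.symm.trans (Submodule.topEquiv)⟩

end Groth.Agent.H55.Murthy
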