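import Mathlib
import Groth.Agent.H55.Murthy
import Groth.Agent.H58.ExtCompare
import Groth.Agent.H72.CMLocal

/-!
# The canonical module of a local domain as an ideal (helper55)

For a Noetherian local domain `A` which is a quotient of a Gorenstein local ring, with canonical
module `K`: `isSMulRegular_of_ne_zero` (torsion-free), `exists_embedding` (`K` embeds in `A`),
`height_eq_one_of_mem_associatedPrimes` (any ideal `J ≅ K`: all associated primes of `A/J` have
height one).
-/

set_option autoImplicit false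
set_option linter.unusedSectionVars false
set_option linter.style.haveILetI false
universe u

namespace Groth.Agent.H55.CanonIdeal

open IsLocalRing CategoryTheory Opposite Groth.Agent.H55.Murthy

section Embed

variable (T A : Type u) [CommRing T] [LocCoh.IsGorensteinLocalRing T]
  [CommRing A] [IsDomain A] [IsNoetherianRing A] [IsLocalRing A]
  [Algebra T A]

/-- the canonical module of a local domain (quotient of a Gorenstein local ring) is torsion-free -/
theorem isSMulRegular_of_ne_zero (n : ℕ) (hn : ringKrullDim A = n)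
    (E : Type u) [AddCommGroup E] [Module A E]
    (f : ResidueField A →ₗ[A] E) (hf : InjHull.IsInjectiveHull f)
    (K : Type u) [AddCommGroup K] [Module A K] [Module.Finite A K]
    (eK : (K →ₗ[A] E) ≃ₗ[A] LocCoh.H (maximalIdeal A) n A) (a : A) (ha : a ≠ 0) :
    IsSMulRegular K a := by
  apply CanonS2.isSMulRegular_of_avoid hn f hf eK a
  intro P hP haP
  haveI := hP
  have hPbot : (⊥ : Ideal A) < P := by
    rw [bot_lt_iff_ne_bot]
    rintro rfl
    exact ha haP
  exact H2.CdTop.ringKrullDim_quotient_lt_of_lt ⊥ P hPbot n (hn ▸ ringKrullDim_quotient_le ⊥)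

/-- the canonical module of a local domain (quotient of a Gorenstein local ring) embeds in the
ring -/
theorem exists_embedding (hπ : Function.Surjective (algebraMap T A)) (n : ℕ)
    (hn : ringKrullDim A = n)
    (E : Type u) [AddCommGroup E] [Module A E]
    (f : ResidueField A →ₗ[A] E) (hf : InjHull.IsInjectiveHull f)
    (K : Type u) [AddCommGroup K] [Module A K] [Module.Finite A K]
    (eK : (K →ₗ[A] E) ≃ₗ[A] LocCoh.H (maximalIdeal A) n A) :
    ∃ j : K →ₗ[A] A, Function.Injective j := by
  haveI hKnt : Nontrivial K := H2.CanonModule.nontrivial_K f hf hn eK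
  have htf : ∀ a : A, a ≠ 0 → IsSMulRegular K a :=
    fun a ha => isSMulRegular_of_ne_zero A n hn E f hf K eK a ha
  letI : Module T K := Module.compHom K (algebraMap T A)
  haveI : IsScalarTower T A K := ⟨fun t r k => by
    show (t • r) • k = algebraMap T A t • (r • k)
    rw [Algebra.smul_def, mul_smul]⟩
  set L := Localization.AtPrime (⊥ : Ideal A) with hL
  haveI hLG : LocCoh.IsGorensteinLocalRing L := Gor.gor_atPrime_bot A
  haveI hLCM : LocCoh.IsCohenMacaulayLocalRing L := H2.GorensteinCM.isCohenMacaulayLocalRing L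
  have hh : ringKrullDim L = (0 : ℕ) := by
    rw [IsLocalization.AtPrime.ringKrullDim_eq_height (⊥ : Ideal A) L, Ideal.height_bot]
    rfl
  have hVnt : Nontrivial (LocalizedModule (⊥ : Ideal A).primeCompl K) := by
    obtain ⟨x, hx⟩ := exists_ne (0 : K)
    refine ⟨⟨LocalizedModule.mkLinearMap _ K x, 0, ?_⟩⟩
    intro h0
    obtain ⟨c, hc⟩ := (IsLocalizedModule.eq_zero_iff (⊥ : Ideal A).primeCompl
      (LocalizedModule.mkLinearMap (⊥ : Ideal A).primeCompl K)).mp h0
    have hc0 : (c : A) ≠ 0 := by
      intro h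
      apply c.2
      rw [h]
      exact Ideal.zero_mem _
    exact hx (htf c.1 hc0 (by
      show c.1 • x = c.1 • 0
      rw [smul_zero]; exact hc))
  obtain ⟨E', _, _, f', hf'⟩ := Groth.Agent.H2.exists_isInjectiveHull (R := L) (ResidueField L)
  obtain ⟨eV⟩ := CanonLocz.canon_localization T A hπ n hn E f hf K eK ⊥ hVnt 0 hh E' f' hf'
  haveI : Module.Finite L (LocalizedModule (⊥ : Ideal A).primeCompl K) :=
    Module.Finite.of_isLocalizedModule (⊥ : Ideal A).primeCompl
      (LocalizedModule.mkLinearMap (⊥ : Ideal A).primeCompl K)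
  obtain ⟨ε⟩ := (Groth.Agent.S7701.result L 0 hh E' f' hf'
    (LocalizedModule (⊥ : Ideal A).primeCompl K) eV).mp hLG
  exact exists_injective_to_ring htf ε

omit [LocCoh.IsGorensteinLocalRing T] [Algebra T A] in
/-- an ideal isomorphic to the canonical module is unmixed of height one -/
theorem height_eq_one_of_mem_associatedPrimes (n : ℕ) (hn : ringKrullDim A = n)
    (E : Type u) [AddCommGroup E] [Module A E]
    (f : ResidueField A →ₗ[A] E) (hf : InjHull.IsInjectiveHull f)
    (K : Type u) [AddCommGroup K] [Module A K] [Module.Finite A K]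
    (eK : (K →ₗ[A] E) ≃ₗ[A] LocCoh.H (maximalIdeal A) n A)
    (J : Ideal A) (σ : J ≃ₗ[A] K) (q : Ideal A) (hq : q ∈ associatedPrimes A (A ⧸ J)) :
    q.height = 1 := by
  haveI hKnt : Nontrivial K := H2.CanonModule.nontrivial_K f hf hn eK
  have hJ0 : J ≠ ⊥ := by
    rintro rfl
    obtain ⟨x, hx⟩ := exists_ne (0 : K)
    apply hx
    have h0 : σ.symm x = 0 := Subtype.ext ((Submodule.mem_bot A).mp (σ.symm x).2)
    rw [← σ.apply_symm_apply x, h0, map_zero]
  obtain ⟨hqp, cbar, hqc⟩ := isAssociatedPrime_iff.mp hq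
  haveI := hqp
  obtain ⟨c, rfl⟩ := Ideal.Quotient.mk_surjective cbar
  have hmemq : ∀ a : A, a ∈ q ↔ a * c ∈ J := by
    intro a
    rw [hqc, Submodule.mem_colon_singleton, Submodule.mem_bot, ← Ideal.Quotient.eq_zero_iff_mem,
      map_mul]
    rfl
  have hcJ : c ∉ J := by
    intro hc
    apply hqp.ne_top
    rw [Ideal.eq_top_iff_one, hmemq, one_mul]
    exact hc
  have hJq : J ≤ q := fun a ha => (hmemq a).mpr (J.mul_mem_right c ha)
  have hq0 : (⊥ : Ideal A) < q := by
    rw [bot_lt_iff_ne_bot]
    rintro rfl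
    exact hJ0 (le_bot_iff.mp hJq)
  have h1 : 1 ≤ q.height :=
    Order.one_le_iff_pos.mpr (lt_of_le_of_lt bot_le (Ideal.height_strict_mono_of_isPrime hq0))
  have h2 : ¬ 2 ≤ q.height := by
    intro hht
    obtain ⟨a₀, ha₀, a₁, ha₁, hreg₀, hreg₁⟩ := exists_regular_pair hn f hf eK q hht
    have ha₀0 : a₀ ≠ 0 := by
      rintro rfl
      obtain ⟨x, hx⟩ := exists_ne (0 : K)
      exact hx (hreg₀ (by simp))
    exact hcJ (mem_of_pair J σ a₀ a₁ ha₀0 hreg₁ c ((hmemq a₀).mp ha₀) ((hmemq a₁).mp ha₁))
  have h3 : q.height < 2 := not_le.mp h2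
  have h4 : q.height ≤ 1 := by simpa using h3
  exact le_antisymm h4 h1

end Embed

end Groth.Agent.H55.CanonIdeal
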