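import Mathlib
import Groth.Agent.H55.CanonIdeal

set_option autoImplicit false
set_option linter.unusedSectionVars false
set_option linter.style.haveILetI false
universe u

namespace Groth.Agent.H55.CanonIdeal

open IsLocalRing CategoryTheory Opposite Groth.Agent.H55.Murthy

theorem ext_equiv_self_or_ideal (B : Type u) [CommRing B] [IsRegularLocalRing B] (p : Ideal B)
    [p.IsPrime] [LocCoh.IsCohenMacaulayLocalRing (B ⧸ p)] (r : ℕ) (hr : p.height = r) :
    Nonempty (((Ext B (ModuleCat.{u} B) r).obj (op (ModuleCat.of B (B ⧸ p)))).obj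
        (ModuleCat.of B B) ≃ₗ[B] (B ⧸ p)) ∨
      ∃ I : Ideal (B ⧸ p), I ≠ ⊤ ∧
        (∀ q ∈ associatedPrimes (B ⧸ p) ((B ⧸ p) ⧸ I), q.height = 1) ∧
        Nonempty (((Ext B (ModuleCat.{u} B) r).obj (op (ModuleCat.of B (B ⧸ p)))).obj
          (ModuleCat.of B B) ≃ₗ[B] I) := by
  haveI : LocCoh.IsGorensteinLocalRing B := Groth.Agent.S0342.result B
  haveI : IsNoetherianRing B := inferInstance
  haveI : IsNoetherianRing (B ⧸ p) := inferInstance
  haveI : IsLocalRing (B ⧸ p) := inferInstance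
  have hπ : Function.Surjective (algebraMap B (B ⧸ p)) := Ideal.Quotient.mk_surjective
  obtain ⟨n', hn'⟩ := H2.GorensteinGlobal.exists_nat_ringKrullDim_eq B
  obtain ⟨n, hn⟩ := H2.GorensteinGlobal.exists_nat_ringKrullDim_eq (B ⧸ p)
  have hc : n + r = n' := by
    have hCM : LocCoh.IsCohenMacaulayLocalRing B := H2.GorensteinCM.isCohenMacaulayLocalRing B
    have h1 := H72.CMLocal.ringKrullDim_eq_quotient_add_height B hCM p
    rw [hn', hn, hr] at h1
    have : (n' : WithBot ℕ∞) = ((n + r : ℕ) : WithBot ℕ∞) := by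
      rw [h1]; push_cast; rfl
    exact_mod_cast this.symm
  obtain ⟨E, _, _, f, hf⟩ :=
    Groth.Agent.H2.exists_isInjectiveHull (R := B ⧸ p) (ResidueField (B ⧸ p))
  let X₀ : Type u := Abelian.Ext (ModuleCat.of B (B ⧸ p)) (ModuleCat.of B B) r
  have hX : ∀ j ∈ RingHom.ker (algebraMap B (B ⧸ p)), ∀ x : X₀, j • x = 0 :=
    fun j hj x => H2.CanonExist.smul_ext_eq_zero B (B ⧸ p) (ModuleCat.of B B) r j hj x
  letI instAX : Module (B ⧸ p) X₀ := H2.ModSurj.modSurj (algebraMap B (B ⧸ p)) hπ X₀ hX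
  haveI towX : IsScalarTower B (B ⧸ p) X₀ :=
    IsScalarTower.of_algebraMap_smul
      (fun a x => H2.ModSurj.modSurj_smul (algebraMap B (B ⧸ p)) hπ X₀ hX a x)
  haveI : Module.Finite B (B ⧸ p) := Module.Finite.of_surjective (Algebra.linearMap B (B ⧸ p)) hπ
  haveI : Module.Finite B X₀ := ModuleCat.finite_ext B _ _ r
  haveI : Module.Finite (B ⧸ p) X₀ := Module.Finite.of_restrictScalars_finite B (B ⧸ p) X₀
  obtain ⟨eK⟩ := CanonLocz.canon_of_equiv B (B ⧸ p) hπ n n' r hn' hc E f hf X₀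
    (LinearEquiv.refl B X₀)
  obtain ⟨j, hj⟩ := exists_embedding B (B ⧸ p) hπ n hn E f hf X₀ eK
  let σ : X₀ ≃ₗ[B ⧸ p] LinearMap.range j := LinearEquiv.ofInjective j hj
  let e₀ : ((Ext B (ModuleCat.{u} B) r).obj (op (ModuleCat.of B (B ⧸ p)))).obj
      (ModuleCat.of B B) ≃ₗ[B] X₀ :=
    H58.ExtCompare.extEquiv (ModuleCat.of B (B ⧸ p)) (ModuleCat.of B B) r
  by_cases hI : LinearMap.range j = ⊤
  · left
    exact ⟨e₀.trans ((σ.trans (LinearEquiv.ofTop _ hI)).restrictScalars B)⟩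
  · right
    exact ⟨LinearMap.range j, hI,
      fun q hq => height_eq_one_of_mem_associatedPrimes (B ⧸ p) n hn E f hf X₀ eK
        (LinearMap.range j) σ.symm q hq,
      ⟨e₀.trans (σ.restrictScalars B)⟩⟩

end Groth.Agent.H55.CanonIdeal
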