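import Mathlib

set_option autoImplicit false
set_option linter.unusedSectionVars false
set_option linter.style.haveILetI false
universe u

namespace Groth.Agent.H55.Cofin

open CategoryTheory Abelian

variable {R : Type u} [CommRing R]

/-- `Hom` from a finite module to an Artinian module is Artinian -/
theorem isArtinian_hom (N M : Type u) [AddCommGroup N] [Module R N] [AddCommGroup M] [Module R M]
    [Module.Finite R N] [IsArtinian R M] : IsArtinian R (N →ₗ[R] M) := by
  obtain ⟨r, p, hp⟩ := Module.Finite.exists_fin' R N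
  let c : (N →ₗ[R] M) →ₗ[R] ((Fin r → R) →ₗ[R] M) := LinearMap.lcomp R M p
  have hc : Function.Injective c := by
    intro φ ψ h
    apply LinearMap.ext
    intro x
    obtain ⟨y, rfl⟩ := hp x
    exact LinearMap.congr_fun h y
  haveI : IsArtinian R ((Fin r → R) →ₗ[R] M) :=
    isArtinian_of_linearEquiv ((Pi.basisFun R (Fin r)).constr R)
  exact isArtinian_of_injective c hc

/-- `Ext` from a finite module to an Artinian module is Artinian -/
theorem isArtinian_ext [IsNoetherianRing R] (M : ModuleCat.{u} R) [IsArtinian R M] (i : ℕ) :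
    ∀ (N : ModuleCat.{u} R) [Module.Finite R N], IsArtinian R (Ext N M i) := by
  induction i with
  | zero =>
    intro N _
    haveI : IsArtinian R (N →ₗ[R] M) := isArtinian_hom N M
    exact isArtinian_of_linearEquiv (Ext.linearEquiv₀.trans ModuleCat.homLinearEquiv).symm
  | succ n ih =>
    intro N _
    obtain ⟨N', _, _, _, _, f, surjf⟩ := Module.exists_finite_presentation R N
    let exac := LinearMap.shortExact_shortComplexKer surjf
    haveI : Module.Finite R (LinearMap.shortComplexKer f).X₁ := by
      change Module.Finite R (LinearMap.ker f)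
      infer_instance
    haveI := ih (LinearMap.shortComplexKer f).X₁
    exact isArtinian_of_surjective _ (exac.extClass.precompOfLinear R M (add_comm 1 n))
      (precomp_extClass_surjective_of_projective_X₂ M exac n)

/-- scalars killing the first variable kill `Ext` -/
theorem smul_ext_eq_zero_left (X Y : ModuleCat.{u} R) (c : ℕ) (a : R)
    (ha : ∀ x : X, a • x = 0) (e : Ext X Y c) : a • e = 0 := by
  have h1 : e = (Ext.mk₀ (𝟙 X)).comp e (zero_add c) := by
    rw [Ext.mk₀_id_comp]
  rw [h1, ← Ext.smul_comp, ← Ext.mk₀_smul]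
  have : a • 𝟙 X = 0 := by
    ext x
    exact ha x
  rw [this, Ext.mk₀_zero, Ext.zero_comp]

/-- scalars killing the second variable kill `Ext` -/
theorem smul_ext_eq_zero_right (X Y : ModuleCat.{u} R) (c : ℕ) (a : R)
    (ha : ∀ y : Y, a • y = 0) (e : Ext X Y c) : a • e = 0 := by
  have h1 : e = e.comp (Ext.mk₀ (𝟙 Y)) (add_zero c) := by
    rw [Ext.comp_mk₀_id]
  rw [h1, ← Ext.comp_smul, ← Ext.mk₀_smul]
  have : a • 𝟙 Y = 0 := by
    ext y
    exact ha y
  rw [this, Ext.mk₀_zero, Ext.comp_zero]

/-- an Artinian module killed by an ideal `J` with `V(J)` consisting of maximal ideals has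
finite length -/
theorem isFiniteLength_of_isArtinian [IsNoetherianRing R] (X : Type u) [AddCommGroup X]
    [Module R X] [IsArtinian R X] (J : Ideal R) (hJ : ∀ a ∈ J, ∀ x : X, a • x = 0)
    (hmax : ∀ q : Ideal R, q.IsPrime → J ≤ q → q.IsMaximal) : IsFiniteLength R X := by
  rw [isFiniteLength_iff_isNoetherian_isArtinian]
  refine ⟨?_, inferInstance⟩
  have htors : Module.IsTorsionBySet R X (J : Set R) := by
    intro x a
    exact hJ a.1 a.2 x
  letI : Module (R ⧸ J) X := htors.module
  haveI : IsScalarTower R (R ⧸ J) X := htors.isScalarTower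
  haveI : IsArtinian (R ⧸ J) X := isArtinian_of_tower R inferInstance
  haveI : Ring.KrullDimLE 0 (R ⧸ J) := by
    rw [Ring.krullDimLE_zero_iff]
    intro q hq
    have h1 : (q.comap (Ideal.Quotient.mk J)).IsMaximal := by
      refine hmax _ (Ideal.comap_isPrime _ _) ?_
      intro a ha
      rw [Ideal.mem_comap, Ideal.Quotient.eq_zero_iff_mem.mpr ha]
      exact q.zero_mem
    have h2 := Ideal.map_comap_of_surjective (Ideal.Quotient.mk J) Ideal.Quotient.mk_surjective q
    rw [← h2]
    exact Ideal.IsMaximal.map_of_surjective_of_ker_le Ideal.Quotient.mk_surjective (by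
      rw [Ideal.mk_ker]
      intro a ha
      rw [Ideal.mem_comap, Ideal.Quotient.eq_zero_iff_mem.mpr ha]
      exact q.zero_mem)
  haveI : IsArtinianRing (R ⧸ J) := isArtinianRing_iff_krullDimLE_zero.mpr inferInstance
  haveI : IsNoetherian (R ⧸ J) X := IsSemiprimaryRing.isNoetherian_iff_isArtinian.mpr inferInstance
  haveI : Module.Finite (R ⧸ J) X := inferInstance
  haveI : Module.Finite R X := Module.Finite.trans (R ⧸ J) X
  infer_instance

end Groth.Agent.H55.Cofin
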