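import Mathlib
import Groth.Agent.H55.CofinA
import Groth.Agent.H55.CanonAnnD
import Groth.Agent.H81.AttTop
import Groth.Agent.H2.MatlisDual
import Groth.Agent.H2.LCArtinianTop

set_option autoImplicit false
set_option linter.unusedSectionVars false
set_option linter.style.haveILetI false
universe u

namespace Groth.Agent.H55.Cofin

open CategoryTheory Abelian IsLocalRing

section Complete

variable {R : Type u} [CommRing R] [IsNoetherianRing R] [IsLocalRing R]
  [IsAdicComplete (maximalIdeal R) R]
  (I : Ideal R) (M : Type u) [AddCommGroup M] [Module R M] [Module.Finite R M] (n : ℕ)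

/-- primes containing `I + Ann H^n_I(M)` are maximal (complete case) -/
theorem isMaximal_of_le (hn : Module.supportDim R M = (n : WithBot ℕ∞)) (hI : I ≤ maximalIdeal R)
    (q : Ideal R) (hq : q.IsPrime) (hIq : I ≤ q)
    (hann : Module.annihilator R (LocCoh.H I n M) ≤ q) : q.IsMaximal := by
  obtain ⟨E, _, _, f, hf⟩ := Groth.Agent.H2.exists_isInjectiveHull (R := R) (ResidueField R)
  haveI : IsArtinian R (LocCoh.H I n M) :=
    H2.LCArtinianTop.isArtinian_H_of_supportDim_le I hI n M (le_of_eq hn)
  haveI : Module.Finite R (LocCoh.H I n M →ₗ[R] E) :=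
    H2.MatlisDual.finite_dual_of_isArtinian f hf (LocCoh.H I n M)
  have hann' : Module.annihilator R (LocCoh.H I n M →ₗ[R] E) ≤ q := by
    rw [CanonAnn.annihilator_dual R f hf]
    exact hann
  obtain ⟨p, hpmin, hpq⟩ := Ideal.exists_minimalPrimes_le hann'
  have hpass : p ∈ associatedPrimes R (LocCoh.H I n M →ₗ[R] E) :=
    Module.associatedPrimes.minimalPrimes_annihilator_subset_associatedPrimes R _ hpmin
  rw [H81.AttTop.associatedPrimes_dual_eq f hf I M n hn] at hpass
  obtain ⟨-, -, -, hrad⟩ := hpass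
  have h1 : maximalIdeal R ≤ q := by
    rw [← hrad]
    exact (Ideal.IsPrime.radical_le_iff hq).mpr (sup_le hIq hpq)
  have : q = maximalIdeal R := le_antisymm (le_maximalIdeal hq.ne_top) h1
  rw [this]
  infer_instance

/-- complete case of cofiniteness of the top local cohomology -/
theorem isFiniteLength_ext_complete (hn : Module.supportDim R M = (n : WithBot ℕ∞))
    (X₀ : Type u) [AddCommGroup X₀] [Module R X₀] [Module.Finite R X₀]
    (hX₀ : ∀ a ∈ I, ∀ x : X₀, a • x = 0)
    (H₀ : Type u) [AddCommGroup H₀] [Module R H₀] (eH : H₀ ≃ₗ[R] LocCoh.H I n M) (i : ℕ) :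
    IsFiniteLength R (Ext (ModuleCat.of R X₀) (ModuleCat.of R H₀) i) := by
  by_cases hI : I = ⊤
  · have h1 : ∀ e : Ext (ModuleCat.of R X₀) (ModuleCat.of R H₀) i, e = 0 := by
      intro e
      have := smul_ext_eq_zero_left (ModuleCat.of R X₀) (ModuleCat.of R H₀) i (1 : R)
        (fun x => hX₀ 1 (by rw [hI]; trivial) x) e
      rwa [one_smul] at this
    haveI : Subsingleton (Ext (ModuleCat.of R X₀) (ModuleCat.of R H₀) i) :=
      ⟨fun a b => by rw [h1 a, h1 b]⟩
    exact IsFiniteLength.of_subsingleton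
  have hI' : I ≤ maximalIdeal R := le_maximalIdeal hI
  haveI : IsArtinian R (LocCoh.H I n M) :=
    H2.LCArtinianTop.isArtinian_H_of_supportDim_le I hI' n M (le_of_eq hn)
  haveI : IsArtinian R H₀ := isArtinian_of_linearEquiv eH.symm
  haveI : IsArtinian R (ModuleCat.of R H₀) := ‹IsArtinian R H₀›
  haveI : Module.Finite R (ModuleCat.of R X₀) := ‹Module.Finite R X₀›
  haveI := isArtinian_ext (ModuleCat.of R H₀) i (ModuleCat.of R X₀)
  refine isFiniteLength_of_isArtinian _ (I ⊔ Module.annihilator R H₀) ?_ ?_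
  · intro a ha e
    obtain ⟨b, hb, c, hc, rfl⟩ := Submodule.mem_sup.mp ha
    rw [add_smul, smul_ext_eq_zero_left _ _ i b (fun x => hX₀ b hb x) e,
      smul_ext_eq_zero_right _ _ i c (fun y => Module.mem_annihilator.mp hc y) e, add_zero]
  · intro q hq hle
    refine isMaximal_of_le I M n hn hI' q hq (le_sup_left.trans hle) ?_
    rw [← eH.annihilator_eq]
    exact le_sup_right.trans hle

end Complete

end Groth.Agent.H55.Cofin
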