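import Mathlib
import Groth.Agent.H55.CofinB
import Groth.Agent.H9.ExtBaseChange
import Groth.Agent.H58.LCFlat2
import Groth.Agent.H58.ExtCompare
import Groth.Agent.H72.FormalEquidim

set_option autoImplicit false
set_option linter.unusedSectionVars false
set_option linter.style.haveILetI false
universe u

namespace Groth.Agent.H55.Cofin

open CategoryTheory Abelian IsLocalRing TensorProduct

section Main

variable (R : Type u) [CommRing R] [IsNoetherianRing R] [IsLocalRing R]
  (I : Ideal R) (M : Type u) [AddCommGroup M] [Module R M] [Module.Finite R M] (n : ℕ)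

/-- **The top local cohomology module is `I`-cofinite** (Delfino–Marley). -/
theorem isFiniteLength_ext (hn : Module.supportDim R M = (n : WithBot ℕ∞)) (i : ℕ) :
    IsFiniteLength R (Ext (ModuleCat.of R (R ⧸ I)) (ModuleCat.of R (LocCoh.H I n M)) i) := by
  haveI := H72.FormalEquidim.isLocalRing_compl R
  haveI := H72.FormalEquidim.isNoetherianRing_compl R
  haveI := H72.FormalEquidim.isLocalHom_compl R
  have hm : (maximalIdeal R).map (algebraMap R (AdicCompletion (maximalIdeal R) R)) =
      maximalIdeal (AdicCompletion (maximalIdeal R) R) :=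
    (Lead.RLR.maximalIdeal_adicCompletion_eq_map R _ (H72.FormalEquidim.maximalIdeal_ne_top R)).symm
  haveI : IsAdicComplete (maximalIdeal (AdicCompletion (maximalIdeal R) R))
      (AdicCompletion (maximalIdeal R) R) := by
    rw [← hm]
    exact AdicCompletion.isAdicComplete_self _ (maximalIdeal R).fg_of_isNoetherianRing
  haveI : Module.FaithfullyFlat R (AdicCompletion (maximalIdeal R) R) :=
    Module.FaithfullyFlat.of_flat_of_isLocalHom
  set B := AdicCompletion (maximalIdeal R) R with hB
  obtain ⟨e1⟩ := H9.ExtBaseChange.main (A := R) (B := B) (LocCoh.H I n M) i (R ⧸ I)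
  obtain ⟨e3⟩ := H58.LC.fbProp (R' := B) I n M
  have hn' : Module.supportDim B (B ⊗[R] M) = (n : WithBot ℕ∞) := by
    rw [H72.FormalEquidim.supportDim_completion_tensor R M, hn]
  have hkill : ∀ a ∈ I.map (algebraMap R B), ∀ x : B ⊗[R] (R ⧸ I), a • x = 0 := by
    have hle : I.map (algebraMap R B) ≤ Module.annihilator B (B ⊗[R] (R ⧸ I)) := by
      rw [Ideal.map_le_iff_le_comap]
      intro a ha
      rw [Ideal.mem_comap, Module.mem_annihilator]
      intro x
      induction x using TensorProduct.induction_on with
      | zero => simp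
      | tmul b r =>
        rw [algebraMap_smul, ← TensorProduct.tmul_smul]
        obtain ⟨r, rfl⟩ := Ideal.Quotient.mk_surjective r
        have : a • (Ideal.Quotient.mk I r) = 0 := by
          rw [← Ideal.Quotient.mk_eq_mk, ← Submodule.Quotient.mk_smul,
            Submodule.Quotient.mk_eq_zero]
          exact I.mul_mem_right r ha
        rw [this, TensorProduct.tmul_zero]
      | add x y hx hy => rw [smul_add, hx, hy, add_zero]
    intro a ha x
    exact Module.mem_annihilator.mp (hle ha) x
  have hfl := isFiniteLength_ext_complete (R := B) (I.map (algebraMap R B)) (B ⊗[R] M) n hn'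
    (B ⊗[R] (R ⧸ I)) hkill (B ⊗[R] LocCoh.H I n M) e3 i
  rw [isFiniteLength_iff_isNoetherian_isArtinian] at hfl ⊢
  obtain ⟨hN, hA⟩ := hfl
  haveI : IsNoetherian B (B ⊗[R] Ext (ModuleCat.of R (R ⧸ I)) (ModuleCat.of R (LocCoh.H I n M)) i) :=
    isNoetherian_of_linearEquiv e1.symm
  haveI : IsArtinian B (B ⊗[R] Ext (ModuleCat.of R (R ⧸ I)) (ModuleCat.of R (LocCoh.H I n M)) i) :=
    isArtinian_of_linearEquiv e1.symm
  exact ⟨Submodule.IsNoetherian.of_isNoetherian_tensorProduct_of_faithfullyFlat (A := B) inferInstance,
    Submodule.IsArtinian.of_isArtinian_tensorProduct_of_faithfullyFlat (A := B) inferInstance⟩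

end Main

end Groth.Agent.H55.Cofin
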