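import Groth.Agent.H55.FFExist

set_option autoImplicit false

namespace Groth.Agent.H55

open FunFld WithZero Module IntermediateField

variable {k K : Type*} [Field k] [Field K] [Algebra k K]

/-- if `A ≤ B`, `A` and `B/A` are finite-dimensional, then so is `B`, with additive dimension -/
theorem finrank_of_relQ {W : Type*} [AddCommGroup W] [Module k W] (A B : Submodule k W)
    (hAB : A ≤ B) [Module.Finite k A] [Module.Finite k (RelQ A B)] :
    Module.Finite k B ∧ finrank k B = finrank k A + finrank k (RelQ A B) := by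
  apply finrank_of_exact (Submodule.inclusion hAB) (Submodule.mkQ (A.comap B.subtype))
  · exact Submodule.inclusion_injective hAB
  · intro b
    constructor
    · intro hb
      rw [Submodule.mkQ_apply, Submodule.Quotient.mk_eq_zero, Submodule.mem_comap] at hb
      exact ⟨⟨b.1, hb⟩, rfl⟩
    · rintro ⟨a, rfl⟩
      rw [Submodule.mkQ_apply, Submodule.Quotient.mk_eq_zero, Submodule.mem_comap]
      exact a.2
  · exact Submodule.mkQ_surjective _

theorem L_zero (hK : IsFunctionField k K) : L (0 : Divisor k K) = 1 := by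
  ext x
  rw [mem_L, Submodule.mem_one]
  constructor
  · intro h
    by_contra hx
    have hx' : x ∉ Set.range (algebraMap k K) := hx
    obtain ⟨Q, hQ⟩ := exists_pole hK (transcendental_of_notMem_range hK hx')
    have h1 := h Q
    rw [Finsupp.zero_apply, exp_zero] at h1
    exact absurd h1 (not_le.mpr hQ)
  · rintro ⟨c, rfl⟩ P
    rw [Finsupp.zero_apply, exp_zero]
    exact P.2.1 c

theorem finrank_L_zero (hK : IsFunctionField k K) :
    Module.Finite k (L (0 : Divisor k K)) ∧ finrank k (L (0 : Divisor k K)) = 1 := by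
  rw [L_zero hK, Submodule.one_eq_span]
  exact ⟨inferInstance, finrank_span_singleton one_ne_zero⟩

theorem diag_mem_AD {D : Divisor k K} {x : K} : diag k K x ∈ AD D ↔ x ∈ L D := Iff.rfl

/-- `L(D₂)/L(D₁)` embeds into `A(D₂)/A(D₁)`. -/
theorem L_quot (hK : IsFunctionField k K) {D₁ D₂ : Divisor k K} (h : D₁ ≤ D₂) :
    Module.Finite k (RelQ (L D₁) (L D₂)) ∧
      (finrank k (RelQ (L D₁) (L D₂)) : ℤ) ≤ D₂.deg - D₁.deg := by
  obtain ⟨hfin, hrank⟩ := AD_quot_finrank hK h
  have hB : L D₂ ≤ (AD D₂).comap (diag k K) := fun x hx => hx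
  have hA : L D₁ ≤ (AD D₁).comap (diag k K) := fun x hx => hx
  have hinj : Function.Injective (relQMap (diag k K) (L D₁) (L D₂) (AD D₁) (AD D₂) hB hA) :=
    relQMap_injective _ _ _ _ _ hB hA (fun x _ hx => hx)
  refine ⟨Module.Finite.of_injective _ hinj, ?_⟩
  rw [← hrank]
  exact_mod_cast LinearMap.finrank_le_finrank_of_injective hinj

theorem L_finite_of_nonneg (hK : IsFunctionField k K) {D : Divisor k K} (h : 0 ≤ D) :
    Module.Finite k (L D) := by
  have h0 := (finrank_L_zero hK).1
  have h1 := (L_quot hK h).1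
  exact (finrank_of_relQ (L 0) (L D) (L_mono h)).1

theorem L_finite (hK : IsFunctionField k K) (D : Divisor k K) : Module.Finite k (L D) := by
  have h1 : Module.Finite k (L (D ⊔ 0)) := L_finite_of_nonneg hK le_sup_right
  exact Submodule.finiteDimensional_of_le (L_mono (le_sup_left : D ≤ D ⊔ 0))

theorem ell_sub (hK : IsFunctionField k K) {D₁ D₂ : Divisor k K} (h : D₁ ≤ D₂) :
    (ell D₂ : ℤ) - ell D₁ = finrank k (RelQ (L D₁) (L D₂)) := by
  have h0 := L_finite hK D₁
  have h1 := (L_quot hK h).1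
  have := (finrank_of_relQ (L D₁) (L D₂) (L_mono h)).2
  unfold ell
  omega

theorem ell_sub_le (hK : IsFunctionField k K) {D₁ D₂ : Divisor k K} (h : D₁ ≤ D₂) :
    (ell D₂ : ℤ) - ell D₁ ≤ D₂.deg - D₁.deg := by
  rw [ell_sub hK h]
  exact (L_quot hK h).2

theorem ell_mono (hK : IsFunctionField k K) {D₁ D₂ : Divisor k K} (h : D₁ ≤ D₂) :
    ell D₁ ≤ ell D₂ := by
  have := L_finite hK D₂
  exact Submodule.finrank_mono (L_mono h)

theorem ell_zero (hK : IsFunctionField k K) : ell (0 : Divisor k K) = 1 := (finrank_L_zero hK).2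

/-- `(A(D₂)+K)/(A(D₁)+K)` has dimension `(deg D₂ - ℓ(D₂)) - (deg D₁ - ℓ(D₁))`. -/
theorem ADK_quot_finrank (hK : IsFunctionField k K) {D₁ D₂ : Divisor k K} (h : D₁ ≤ D₂) :
    Module.Finite k (RelQ (AD D₁ ⊔ LinearMap.range (diag k K))
        (AD D₂ ⊔ LinearMap.range (diag k K))) ∧
      (finrank k (RelQ (AD D₁ ⊔ LinearMap.range (diag k K))
        (AD D₂ ⊔ LinearMap.range (diag k K))) : ℤ) =
        (D₂.deg - ell D₂) - (D₁.deg - ell D₁) := by
  obtain ⟨hfin, hrank⟩ := AD_quot_finrank hK h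
  obtain ⟨hfinL, -⟩ := L_quot hK h
  have hB : L D₂ ≤ (AD D₂).comap (diag k K) := fun x hx => hx
  have hA : L D₁ ≤ (AD D₁).comap (diag k K) := fun x hx => hx
  have hinj : Function.Injective (relQMap (diag k K) (L D₁) (L D₂) (AD D₁) (AD D₂) hB hA) :=
    relQMap_injective _ _ _ _ _ hB hA (fun x _ hx => hx)
  have hB' : AD D₂ ≤ (AD D₂ ⊔ LinearMap.range (diag k K)).comap
      (LinearMap.id : (Place k K → K) →ₗ[k] _) := fun x hx => Submodule.mem_sup_left hx
  have hA' : AD D₁ ≤ (AD D₁ ⊔ LinearMap.range (diag k K)).comap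
      (LinearMap.id : (Place k K → K) →ₗ[k] _) := fun x hx => Submodule.mem_sup_left hx
  have hsurj : Function.Surjective (relQMap (LinearMap.id : (Place k K → K) →ₗ[k] _)
      (AD D₁) (AD D₂) (AD D₁ ⊔ LinearMap.range (diag k K))
      (AD D₂ ⊔ LinearMap.range (diag k K)) hB' hA') := by
    apply relQMap_surjective
    intro y hy
    obtain ⟨a, ha, r, hr, rfl⟩ := Submodule.mem_sup.mp hy
    refine ⟨a, ha, ?_⟩
    rw [LinearMap.id_apply, add_sub_cancel_left]
    exact Submodule.mem_sup_right hr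
  have hex : Function.Exact (relQMap (diag k K) (L D₁) (L D₂) (AD D₁) (AD D₂) hB hA)
      (relQMap (LinearMap.id : (Place k K → K) →ₗ[k] _)
      (AD D₁) (AD D₂) (AD D₁ ⊔ LinearMap.range (diag k K))
      (AD D₂ ⊔ LinearMap.range (diag k K)) hB' hA') := by
    intro q
    constructor
    · intro hq
      obtain ⟨a, rfl⟩ := Submodule.Quotient.mk_surjective _ q
      rw [relQMap_mk, Submodule.Quotient.mk_eq_zero, Submodule.mem_comap] at hq
      obtain ⟨a₁, ha₁, r, ⟨x, rfl⟩, hsum⟩ := Submodule.mem_sup.mp hq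
      have hsum' : a₁ + diag k K x = (a : Place k K → K) := hsum
      have hx : x ∈ L D₂ := by
        rw [← diag_mem_AD]
        have : diag k K x = (a : Place k K → K) - a₁ := by rw [← hsum']; abel
        rw [this]
        exact (AD D₂).sub_mem a.2 (AD_mono h ha₁)
      refine ⟨Submodule.Quotient.mk ⟨x, hx⟩, ?_⟩
      rw [relQMap_mk, Submodule.Quotient.eq, Submodule.mem_comap]
      show diag k K x - (a : Place k K → K) ∈ AD D₁
      rw [← hsum']
      have : diag k K x - (a₁ + diag k K x) = -a₁ := by abel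
      rw [this]
      exact (AD D₁).neg_mem ha₁
    · rintro ⟨p, rfl⟩
      obtain ⟨x, rfl⟩ := Submodule.Quotient.mk_surjective _ p
      rw [relQMap_mk, relQMap_mk, Submodule.Quotient.mk_eq_zero, Submodule.mem_comap]
      exact Submodule.mem_sup_right ⟨x, rfl⟩
  have hfin3 : Module.Finite k (RelQ (AD D₁ ⊔ LinearMap.range (diag k K))
        (AD D₂ ⊔ LinearMap.range (diag k K))) := Module.Finite.of_surjective _ hsurj
  refine ⟨hfin3, ?_⟩
  have h3 := (finrank_of_exact _ _ hinj hex hsurj).2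
  have h4 := ell_sub hK h
  omega

end Groth.Agent.H55
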