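import Groth.Agent.H55.Int4
import Groth.Agent.H86.GM1

set_option autoImplicit false

namespace Groth.Agent.H55

open FunFld WithZero Module IntermediateField

universe u v

section

variable {k kbar : Type u} {K Kbar : Type v} [Field k] [Field kbar] [Field K] [Field Kbar]
    [Algebra k kbar] [Algebra k K] [Algebra K Kbar] [Algebra kbar Kbar] [Algebra k Kbar]
    [IsScalarTower k kbar Kbar] [IsScalarTower k K Kbar]

/-- the `K`-subalgebra of `K̄` generated by the constants from `k'` -/
def levelAlg (k' : IntermediateField k kbar) : Subalgebra K Kbar :=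
  Algebra.adjoin K (Set.range fun c : k' => algebraMap kbar Kbar c)

theorem levelAlg_mono {k1 k2 : IntermediateField k kbar} (h : k1 ≤ k2) :
    levelAlg (K := K) (Kbar := Kbar) k1 ≤ levelAlg k2 := by
  apply Algebra.adjoin_mono
  rintro _ ⟨c, rfl⟩
  exact ⟨⟨c.1, h c.2⟩, rfl⟩

theorem adjoin_range_eq_top_of_surjective
    (h : Function.Surjective (Algebra.TensorProduct.productMap
      (IsScalarTower.toAlgHom k kbar Kbar) (IsScalarTower.toAlgHom k K Kbar))) :
    Algebra.adjoin K (Set.range (algebraMap kbar Kbar)) = ⊤ := by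
  rw [eq_top_iff]
  intro z hz
  clear hz
  obtain ⟨w, rfl⟩ := h z
  induction w using TensorProduct.induction_on with
  | zero => rw [map_zero]; exact Subalgebra.zero_mem _
  | tmul a b =>
    rw [Algebra.TensorProduct.productMap_apply_tmul]
    exact Subalgebra.mul_mem _ (Algebra.subset_adjoin ⟨a, rfl⟩) (Subalgebra.algebraMap_mem _ b)
  | add x y hx hy => rw [map_add]; exact Subalgebra.add_mem _ hx hy

theorem exists_level [Algebra.IsAlgebraic k kbar]
    (hgen : Algebra.adjoin K (Set.range (algebraMap kbar Kbar)) = ⊤) (z : Kbar) :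
    ∃ k' : IntermediateField k kbar, FiniteDimensional k k' ∧
      z ∈ levelAlg (K := K) (Kbar := Kbar) k' := by
  have hz : z ∈ Algebra.adjoin K (Set.range (algebraMap kbar Kbar)) := by rw [hgen]; trivial
  induction hz using Algebra.adjoin_induction with
  | mem z hz =>
    obtain ⟨c, rfl⟩ := hz
    refine ⟨k⟮c⟯, IntermediateField.adjoin.finiteDimensional
      (Algebra.IsIntegral.isIntegral c), ?_⟩
    exact Algebra.subset_adjoin ⟨⟨c, mem_adjoin_simple_self k c⟩, rfl⟩
  | algebraMap r =>
    exact ⟨⊥, inferInstance, Subalgebra.algebraMap_mem _ r⟩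
  | add x y _ _ hx hy =>
    obtain ⟨k1, hk1, hx⟩ := hx
    obtain ⟨k2, hk2, hy⟩ := hy
    exact ⟨k1 ⊔ k2, IntermediateField.finiteDimensional_sup k1 k2,
      Subalgebra.add_mem _ (levelAlg_mono le_sup_left hx) (levelAlg_mono le_sup_right hy)⟩
  | mul x y _ _ hx hy =>
    obtain ⟨k1, hk1, hx⟩ := hx
    obtain ⟨k2, hk2, hy⟩ := hy
    exact ⟨k1 ⊔ k2, IntermediateField.finiteDimensional_sup k1 k2,
      Subalgebra.mul_mem _ (levelAlg_mono le_sup_left hx) (levelAlg_mono le_sup_right hy)⟩

theorem exists_level_finset [Algebra.IsAlgebraic k kbar]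
    (hgen : Algebra.adjoin K (Set.range (algebraMap kbar Kbar)) = ⊤) (S : Finset Kbar) :
    ∃ k' : IntermediateField k kbar, FiniteDimensional k k' ∧
      ∀ z ∈ S, z ∈ levelAlg (K := K) (Kbar := Kbar) k' := by
  classical
  induction S using Finset.induction_on with
  | empty => exact ⟨⊥, inferInstance, fun z hz => absurd hz (Finset.notMem_empty z)⟩
  | insert a S _ ih =>
    obtain ⟨k1, hk1, h1⟩ := ih
    obtain ⟨k2, hk2, h2⟩ := exists_level (k := k) (K := K) hgen a
    refine ⟨k1 ⊔ k2, IntermediateField.finiteDimensional_sup k1 k2, fun z hz => ?_⟩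
    rcases Finset.mem_insert.mp hz with rfl | hz
    · exact levelAlg_mono le_sup_right h2
    · exact levelAlg_mono le_sup_left (h1 z hz)

/-- S12593 -/
theorem place_defined_over_finite [IsAlgClosure k kbar]
    (h : Function.Bijective (Algebra.TensorProduct.productMap
      (IsScalarTower.toAlgHom k kbar Kbar) (IsScalarTower.toAlgHom k K Kbar)))
    (hK : IsFunctionField k K) (Q : Place kbar Kbar) :
    ∃ k' : IntermediateField k kbar, FiniteDimensional k k' ∧
      (∃ z ∈ Algebra.adjoin K (Set.range fun c : k' => algebraMap kbar Kbar c),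
        Q.1 z = WithZero.exp (-1)) ∧
      ∀ Q' : Place kbar Kbar,
        (∃ e : ℕ, ∀ z ∈ Algebra.adjoin K (Set.range fun c : k' => algebraMap kbar Kbar c),
          Q'.1 z = Q.1 z ^ e) → Q' = Q := by
  classical
  have : IsAlgClosed kbar := IsAlgClosure.isAlgClosed k
  have : Algebra.IsAlgebraic k kbar := IsAlgClosure.isAlgebraic
  have hgen := adjoin_range_eq_top_of_surjective (k := k) (K := K) h.2
  have hFF : IsFunctionField kbar Kbar :=
    Groth.Agent.H86.GeoModel.isFunctionField_of_adjoin (k := k) (K := K) hK hgen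
  obtain ⟨t, ht⟩ := Place.exists_uniformizer Q
  have ht0 : t ≠ 0 := by
    rintro rfl
    rw [map_zero] at ht
    exact WithZero.exp_ne_zero ht.symm
  have hT := Place.finite_zeros hFF ht0
  let u : Place kbar Kbar → Kbar := fun Q' =>
    if hne : Q ≠ Q' then (Place.exists_lt_one_one_lt hne).choose else 0
  have hu : ∀ Q', Q ≠ Q' → Q.1 (u Q') < 1 ∧ 1 < Q'.1 (u Q') := by
    intro Q' hne
    simp only [u, dif_pos hne]
    exact (Place.exists_lt_one_one_lt hne).choose_spec
  obtain ⟨k', hk', hS⟩ := exists_level_finset (k := k) (K := K) hgen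
    (insert t (hT.toFinset.image u))
  refine ⟨k', hk', ⟨t, hS t (Finset.mem_insert_self _ _), ht⟩, ?_⟩
  rintro Q' ⟨e, he⟩
  have he0 : e ≠ 0 := by
    rintro rfl
    have := he 0 (Subalgebra.zero_mem _)
    rw [map_zero, pow_zero] at this
    exact zero_ne_one this
  have hQ't : Q'.1 t < 1 := by
    rw [he t (hS t (Finset.mem_insert_self _ _)), ht]
    apply pow_lt_one₀ zero_le _ he0
    rw [← exp_zero, exp_lt_exp]
    omega
  by_contra hne
  have hmem : u Q' ∈ insert t (hT.toFinset.image u) := by
    apply Finset.mem_insert_of_mem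
    apply Finset.mem_image_of_mem
    rw [Set.Finite.mem_toFinset]
    exact hQ't
  obtain ⟨h1, h2⟩ := hu Q' (fun hh => hne hh.symm)
  have h3 := he (u Q') (hS _ hmem)
  rw [h3] at h2
  have h4 : Q.1 (u Q') ^ e < 1 := pow_lt_one₀ zero_le h1 he0
  exact absurd h2 (not_lt.mpr h4.le)

end

end Groth.Agent.H55
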