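import Groth.Agent.H55.FFGenus

set_option autoImplicit false

namespace Groth.Agent.H55

open FunFld WithZero Module IntermediateField

variable {k K : Type*} [Field k] [Field K] [Algebra k K]

theorem mem_adele {a : Place k K → K} :
    a ∈ adele k K ↔ {P : Place k K | 1 < P.1 (a P)}.Finite := by
  show (∀ᶠ P : Place k K in Filter.cofinite, P.1 (a P) ≤ 1) ↔ _
  rw [Filter.eventually_cofinite]
  simp only [not_le]

theorem AD_le_adele (D : Divisor k K) : AD D ≤ adele k K := by
  intro a ha
  rw [mem_adele]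
  apply D.support.finite_toSet.subset
  intro P hP
  rw [Set.mem_ofPred_eq] at hP
  rw [Finset.mem_coe, Finsupp.mem_support_iff]
  intro h0
  have := ha P
  rw [h0, exp_zero] at this
  exact absurd this (not_le.mpr hP)

theorem diag_le_adele (hK : IsFunctionField k K) : LinearMap.range (diag k K) ≤ adele k K := by
  rintro _ ⟨x, rfl⟩
  rw [mem_adele]
  by_cases hx : x = 0
  · subst hx
    convert Set.finite_empty
    ext P
    simp [diag]
  · exact Place.finite_poles hK hx

theorem ADK_le_adele (hK : IsFunctionField k K) (D : Divisor k K) :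
    AD D ⊔ LinearMap.range (diag k K) ≤ adele k K :=
  sup_le (AD_le_adele D) (diag_le_adele hK)

/-- every adele lies in `A(B₁)` for some `B₁ ≥ B` -/
theorem exists_ge_mem_AD (B : Divisor k K) {a : Place k K → K} (ha : a ∈ adele k K) :
    ∃ B₁ : Divisor k K, B ≤ B₁ ∧ a ∈ AD B₁ := by
  classical
  rw [mem_adele] at ha
  have hsupp : (Function.support fun P : Place k K => max 0 (-P.ord (a P))).Finite := by
    apply ha.subset
    intro P hP
    rw [Function.mem_support] at hP
    rw [Set.mem_ofPred_eq]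
    by_cases h0 : a P = 0
    · rw [h0, Place.ord_zero] at hP; simp at hP
    · rw [← Place.ord_neg_iff P h0]
      by_contra hge
      apply hP
      rw [max_eq_left (by omega)]
  let E : Divisor k K := Finsupp.ofSupportFinite _ hsupp
  have hE : ∀ P, E P = max 0 (-P.ord (a P)) := fun P => rfl
  refine ⟨B ⊔ E, le_sup_left, fun P => ?_⟩
  by_cases h0 : a P = 0
  · rw [h0, map_zero]; exact zero_le
  · rw [Place.val_eq_exp_neg_ord P h0, exp_le_exp, Finsupp.sup_apply, hE]
    exact (le_max_right _ _).trans le_sup_right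

theorem relQ_le_of_finrank_zero {W : Type*} [AddCommGroup W] [Module k W] (A B : Submodule k W)
    [Module.Finite k (RelQ A B)] (h : finrank k (RelQ A B) = 0) : B ≤ A := by
  have h1 : Subsingleton (RelQ A B) := Module.finrank_zero_iff.mp h
  rw [Submodule.Quotient.subsingleton_iff] at h1
  intro x hx
  have : (⟨x, hx⟩ : B) ∈ A.comap B.subtype := by rw [h1]; trivial
  exact this

/-- If `ℓ(B) = deg B + 1 - g` then `A = A(B) + K`. -/
theorem adele_eq_of_nonspecial (hK : IsFunctionField k K) {B : Divisor k K}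
    (hB : B.deg + 1 - (ell B : ℤ) = genus k K) :
    adele k K = AD B ⊔ LinearMap.range (diag k K) := by
  apply le_antisymm _ (ADK_le_adele hK B)
  intro a ha
  obtain ⟨B₁, hBB₁, haB₁⟩ := exists_ge_mem_AD B ha
  obtain ⟨hfin, hrank⟩ := ADK_quot_finrank hK hBB₁
  have h1 := le_genus hK B₁
  have h2 := deg_sub_ell_mono hK hBB₁
  have h0 : finrank k (RelQ (AD B ⊔ LinearMap.range (diag k K))
      (AD B₁ ⊔ LinearMap.range (diag k K))) = 0 := by
    have : (finrank k (RelQ (AD B ⊔ LinearMap.range (diag k K))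
      (AD B₁ ⊔ LinearMap.range (diag k K))) : ℤ) = 0 := by
      rw [hrank]; linarith
    exact_mod_cast this
  exact relQ_le_of_finrank_zero _ _ h0 (Submodule.mem_sup_left haB₁)

theorem exists_place (hK : IsFunctionField k K) : Nonempty (Place k K) := by
  obtain ⟨x, hx, -⟩ := hK.1
  obtain ⟨P, -⟩ := exists_zero hK hx
  exact ⟨P⟩

/-- there are divisors `≥ D` of arbitrarily large degree -/
theorem exists_ge_deg_ge (hK : IsFunctionField k K) (D : Divisor k K) (N : ℤ) :
    ∃ D₁ : Divisor k K, D ≤ D₁ ∧ N ≤ D₁.deg := by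
  classical
  obtain ⟨P⟩ := exists_place hK
  refine ⟨D + (N - D.deg).toNat • Finsupp.single P 1, ?_, ?_⟩
  · apply le_add_of_nonneg_right
    apply nsmul_nonneg
    intro Q
    rw [Finsupp.zero_apply]
    by_cases h : Q = P
    · subst h; simp
    · rw [Finsupp.single_apply, if_neg (Ne.symm h)]
  · rw [Divisor.deg_add, Divisor.deg_nsmul, Divisor.deg_single, one_mul]
    have h1 := Int.self_le_toNat (N - D.deg)
    have h2 : (1 : ℤ) ≤ P.deg := by exact_mod_cast Place.deg_pos hK P
    have h3 : (0 : ℤ) ≤ ((N - D.deg).toNat : ℤ) := by positivity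
    nlinarith

/-- `dim A/(A(D)+K) = g - (deg D + 1 - ℓ(D))`. -/
theorem adele_quot_finrank (hK : IsFunctionField k K) (D : Divisor k K) :
    Module.Finite k (RelQ (AD D ⊔ LinearMap.range (diag k K)) (adele k K)) ∧
      (finrank k (RelQ (AD D ⊔ LinearMap.range (diag k K)) (adele k K)) : ℤ) =
        (genus k K : ℤ) - (D.deg + 1 - ell D) := by
  obtain ⟨N, hN⟩ := riemann hK
  obtain ⟨D₁, hDD₁, hD₁⟩ := exists_ge_deg_ge hK D N
  have h1 := hN D₁ hD₁
  have h2 := adele_eq_of_nonspecial hK h1
  have key : ∀ B : Submodule k (Place k K → K), B = AD D₁ ⊔ LinearMap.range (diag k K) →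
      Module.Finite k (RelQ (AD D ⊔ LinearMap.range (diag k K)) B) ∧
      (finrank k (RelQ (AD D ⊔ LinearMap.range (diag k K)) B) : ℤ) =
        (genus k K : ℤ) - (D.deg + 1 - ell D) := by
    rintro _ rfl
    obtain ⟨hfin, hrank⟩ := ADK_quot_finrank hK hDD₁
    refine ⟨hfin, ?_⟩
    rw [hrank]
    linarith
  exact key _ h2

theorem WD_finrank (hK : IsFunctionField k K) (D : Divisor k K) :
    Module.Finite k (WD D) ∧
      (finrank k (WD D) : ℤ) = (genus k K : ℤ) - (D.deg + 1 - ell D) := by
  obtain ⟨hfin, hrank⟩ := adele_quot_finrank hK D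
  have hfin' : Module.Finite k (adele k K ⧸ ADK D) := hfin
  have e : Module.Dual k (adele k K ⧸ ADK D) ≃ₗ[k] WD D :=
    Submodule.dualQuotEquivDualAnnihilator (ADK D)
  refine ⟨Module.Finite.equiv e, ?_⟩
  rw [← e.finrank_eq, Subspace.dual_finrank_eq]
  exact hrank

end Groth.Agent.H55
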