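import Groth.Agent.H55.FFBasic

set_option autoImplicit false

namespace Groth.Agent.H55

open FunFld WithZero

variable {k K : Type*} [Field k] [Field K] [Algebra k K]

theorem exp_one_le_of_one_lt {a : WithZero (Multiplicative ℤ)} (h : 1 < a) : exp (1 : ℤ) ≤ a := by
  have ha0 : a ≠ 0 := (zero_lt_one.trans h).ne'
  rw [← exp_log ha0, exp_le_exp]
  have : (0 : ℤ) < log a := by
    rw [lt_log_iff_exp_lt ha0, exp_zero]; exact h
  omega

theorem le_exp_neg_one_of_lt_one {a : WithZero (Multiplicative ℤ)} (h : a < 1) :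
    a ≤ exp (-1 : ℤ) := by
  by_cases ha0 : a = 0
  · rw [ha0]; exact zero_le
  rw [← exp_log ha0, exp_le_exp]
  have : log a < (0 : ℤ) := by
    rw [log_lt_iff_lt_exp ha0, exp_zero]; exact h
  omega

namespace Place

/-- two distinct places: an element small at the first, large at the second -/
theorem exists_lt_one_one_lt {P Q : Place k K} (h : P ≠ Q) :
    ∃ z : K, P.1 z < 1 ∧ 1 < Q.1 z := by
  have h1 : ∃ y₁, P.1 y₁ ≤ 1 ∧ 1 < Q.1 y₁ := by
    by_contra hcon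
    push Not at hcon
    exact h (eq_of_le P Q hcon)
  have h2 : ∃ y₂, Q.1 y₂ ≤ 1 ∧ 1 < P.1 y₂ := by
    by_contra hcon
    push Not at hcon
    exact h (eq_of_le Q P hcon).symm
  obtain ⟨y₁, hy₁P, hy₁Q⟩ := h1
  obtain ⟨y₂, hy₂Q, hy₂P⟩ := h2
  have hy₂0 : y₂ ≠ 0 := by
    rintro rfl
    rw [map_zero] at hy₂P
    exact not_lt_of_ge zero_le hy₂P
  have hQy₂ : Q.1 y₂ ≠ 0 := (Valuation.ne_zero_iff _).mpr hy₂0
  have hPy₂ : P.1 y₂ ≠ 0 := (Valuation.ne_zero_iff _).mpr hy₂0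
  refine ⟨y₁ / y₂, ?_, ?_⟩
  · rw [map_div₀, div_lt_one₀ (zero_lt_iff.mpr hPy₂)]
    exact hy₁P.trans_lt hy₂P
  · rw [map_div₀, one_lt_div₀ (zero_lt_iff.mpr hQy₂)]
    exact hy₂Q.trans_lt hy₁Q

/-- Step 1 of weak approximation -/
theorem exists_lt_one_forall_one_lt (P : Place k K) (S : Finset (Place k K)) (hP : P ∉ S) :
    ∃ u : K, P.1 u < 1 ∧ ∀ Q ∈ S, 1 < Q.1 u := by
  classical
  induction S using Finset.induction_on with
  | empty =>
    obtain ⟨t, ht⟩ := exists_uniformizer P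
    exact ⟨t, ht ▸ exp_neg_one_lt_one, by simp⟩
  | insert Q S hQS ih =>
    have hPS : P ∉ S := fun h => hP (Finset.mem_insert_of_mem h)
    have hPQ : P ≠ Q := fun h => hP (h ▸ Finset.mem_insert_self _ _)
    obtain ⟨y, hyP, hyS⟩ := ih hPS
    by_cases hyQ : 1 < Q.1 y
    · refine ⟨y, hyP, ?_⟩
      intro Q' hQ'
      rcases Finset.mem_insert.mp hQ' with rfl | h
      · exact hyQ
      · exact hyS _ h
    · push Not at hyQ
      obtain ⟨z, hzP, hzQ⟩ := exists_lt_one_one_lt hPQ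
      -- choose exponent
      obtain ⟨N, hN⟩ : ∃ N : ℕ, ∀ Q' ∈ S, Q'.1 y < exp (N : ℤ) := by
        refine ⟨(∑ Q' ∈ S, (log (Q'.1 y)).toNat) + 1, ?_⟩
        intro Q' hQ'
        have hy0 : Q'.1 y ≠ 0 := (zero_lt_one.trans (hyS Q' hQ')).ne'
        rw [← log_lt_iff_lt_exp hy0]
        have h1 : (log (Q'.1 y)).toNat ≤ ∑ Q' ∈ S, (log (Q'.1 y)).toNat :=
          Finset.single_le_sum (f := fun Q' : Place k K => (log (Q'.1 y)).toNat)
            (fun _ _ => Nat.zero_le _) hQ'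
        have h2 : log (Q'.1 y) ≤ (log (Q'.1 y)).toNat := Int.self_le_toNat _
        have h3 : (((log (Q'.1 y)).toNat : ℕ) : ℤ) ≤
            ((∑ Q' ∈ S, (log (Q'.1 y)).toNat : ℕ) : ℤ) := by exact_mod_cast h1
        push_cast at h3 ⊢
        omega
      refine ⟨y + z ^ (N + 1), ?_, ?_⟩
      · apply Valuation.map_add_lt _ hyP
        rw [map_pow]
        exact pow_lt_one₀ zero_le hzP (Nat.succ_ne_zero N)
      · intro Q' hQ'
        rcases Finset.mem_insert.mp hQ' with rfl | h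
        · have : Q'.1 y < Q'.1 (z ^ (N + 1)) := by
            rw [map_pow]
            exact hyQ.trans_lt (one_lt_pow₀ hzQ (Nat.succ_ne_zero N))
          rw [Valuation.map_add_eq_of_lt_right _ this, map_pow]
          exact one_lt_pow₀ hzQ (Nat.succ_ne_zero N)
        · have hne : Q'.1 y ≠ Q'.1 (z ^ (N + 1)) := by
            rw [map_pow]
            rcases le_or_gt (Q'.1 z) 1 with hz1 | hz1
            · exact ((pow_le_one₀ zero_le hz1).trans_lt (hyS Q' h)).ne'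
            · have h3 : exp (1 : ℤ) ≤ Q'.1 z := exp_one_le_of_one_lt hz1
              have h4 : exp ((N + 1 : ℕ) : ℤ) ≤ Q'.1 z ^ (N + 1) := by
                calc exp ((N + 1 : ℕ) : ℤ) = exp (1 : ℤ) ^ (N + 1) := by
                      rw [← exp_nsmul]; simp
                  _ ≤ Q'.1 z ^ (N + 1) := pow_le_pow_left₀ zero_le h3 _
              have h5 : Q'.1 y < exp ((N + 1 : ℕ) : ℤ) := by
                refine (hN Q' h).trans ?_
                rw [exp_lt_exp]; push_cast; omega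
              exact (h5.trans_le h4).ne
          rw [Valuation.map_add_of_distinct_val _ hne]
          exact lt_max_of_lt_left (hyS Q' h)

/-- Step 2 of weak approximation -/
theorem exists_close_one_small (P : Place k K) (S : Finset (Place k K)) (hP : P ∉ S) (B : ℕ) :
    ∃ w : K, P.1 (w - 1) ≤ exp (-(B : ℤ)) ∧ ∀ Q ∈ S, Q.1 w ≤ exp (-(B : ℤ)) := by
  obtain ⟨u, huP, huS⟩ := exists_lt_one_forall_one_lt P S hP
  have hs : B + 1 ≠ 0 := Nat.succ_ne_zero B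
  have hexp : ∀ a : WithZero (Multiplicative ℤ), a ≤ exp (-1 : ℤ) →
      a ^ (B + 1) ≤ exp (-(B : ℤ)) := by
    intro a ha
    calc a ^ (B + 1) ≤ exp (-1 : ℤ) ^ (B + 1) := pow_le_pow_left₀ zero_le ha _
      _ = exp (-((B : ℤ) + 1)) := by rw [← exp_nsmul]; congr 1; simp
      _ ≤ exp (-(B : ℤ)) := by rw [exp_le_exp]; omega
  have h1 : P.1 (1 + u ^ (B + 1)) = 1 := by
    apply Valuation.map_one_add_of_lt
    rw [map_pow]
    exact pow_lt_one₀ zero_le huP hs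
  have h10 : 1 + u ^ (B + 1) ≠ 0 := by
    intro h0; rw [h0, map_zero] at h1; exact zero_ne_one h1
  refine ⟨(1 + u ^ (B + 1))⁻¹, ?_, ?_⟩
  · have : (1 + u ^ (B + 1))⁻¹ - 1 = -(u ^ (B + 1)) * (1 + u ^ (B + 1))⁻¹ := by
      field_simp; ring
    rw [this, map_mul, Valuation.map_neg, map_inv₀, h1, inv_one, mul_one, map_pow]
    exact hexp _ (le_exp_neg_one_of_lt_one huP)
  · intro Q hQ
    have h2 : Q.1 (1 : K) < Q.1 (u ^ (B + 1)) := by
      rw [map_one, map_pow]; exact one_lt_pow₀ (huS Q hQ) hs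
    rw [map_inv₀, Valuation.map_add_eq_of_lt_right _ h2, map_pow, ← inv_pow]
    apply hexp
    apply le_exp_neg_one_of_lt_one
    exact inv_lt_one_of_one_lt₀ (huS Q hQ)

/-- Step 3 of weak approximation -/
theorem weak_approx_le (S : Finset (Place k K)) (x : Place k K → K) (B : ℤ) :
    ∃ y : K, ∀ Q ∈ S, Q.1 (y - x Q) ≤ exp (-B) := by
  classical
  -- bound for the x's
  obtain ⟨C, hC⟩ : ∃ C : ℕ, ∀ Q ∈ S, ∀ Q' ∈ S, Q.1 (x Q') ≤ exp (C : ℤ) := by
    refine ⟨∑ Q ∈ S, ∑ Q' ∈ S, (log (Q.1 (x Q'))).toNat, ?_⟩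
    intro Q hQ Q' hQ'
    by_cases h0 : Q.1 (x Q') = 0
    · rw [h0]; exact zero_le
    rw [← log_le_iff_le_exp h0]
    have h1 : (log (Q.1 (x Q'))).toNat ≤ ∑ Q' ∈ S, (log (Q.1 (x Q'))).toNat :=
      Finset.single_le_sum (f := fun Q' : Place k K => (log (Q.1 (x Q'))).toNat)
        (fun _ _ => Nat.zero_le _) hQ'
    have h2 : ∑ Q' ∈ S, (log (Q.1 (x Q'))).toNat ≤
        ∑ Q ∈ S, ∑ Q' ∈ S, (log (Q.1 (x Q'))).toNat :=
      Finset.single_le_sum (f := fun Q : Place k K => ∑ Q' ∈ S, (log (Q.1 (x Q'))).toNat)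
        (fun _ _ => Nat.zero_le _) hQ
    have h3 : log (Q.1 (x Q')) ≤ (log (Q.1 (x Q'))).toNat := Int.self_le_toNat _
    have : (((log (Q.1 (x Q'))).toNat : ℕ) : ℤ) ≤
        ((∑ Q ∈ S, ∑ Q' ∈ S, (log (Q.1 (x Q'))).toNat : ℕ) : ℤ) := by
      exact_mod_cast h1.trans h2
    exact h3.trans this
  have hw : ∀ Q : Place k K, ∃ w : K, Q.1 (w - 1) ≤ exp (-((B.toNat + C : ℕ) : ℤ)) ∧
      ∀ Q' ∈ S.erase Q, Q'.1 w ≤ exp (-((B.toNat + C : ℕ) : ℤ)) :=
    fun Q => exists_close_one_small Q (S.erase Q) (Finset.notMem_erase Q S) _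
  choose w hw1 hw2 using hw
  refine ⟨∑ Q ∈ S, x Q * w Q, ?_⟩
  intro Q hQ
  have hsplit : ∑ Q' ∈ S, x Q' * w Q' - x Q =
      x Q * (w Q - 1) + ∑ Q' ∈ S.erase Q, x Q' * w Q' := by
    rw [← Finset.add_sum_erase S _ hQ]; ring
  have hbound : exp (C : ℤ) * exp (-((B.toNat + C : ℕ) : ℤ)) ≤ exp (-B) := by
    rw [← exp_add, exp_le_exp]
    have : B ≤ B.toNat := Int.self_le_toNat B
    push_cast; omega
  rw [hsplit]
  apply Valuation.map_add_le
  · rw [map_mul]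
    exact (mul_le_mul' (hC Q hQ Q hQ) (hw1 Q)).trans hbound
  · apply Valuation.map_sum_le
    intro Q' hQ'
    rw [map_mul]
    have hQ'S : Q' ∈ S := Finset.mem_of_mem_erase hQ'
    have hQQ' : Q ∈ S.erase Q' := Finset.mem_erase.mpr ⟨(Finset.ne_of_mem_erase hQ').symm, hQ⟩
    exact (mul_le_mul' (hC Q hQ Q' hQ'S) (hw2 Q' Q hQQ')).trans hbound

/-- Weak approximation theorem. -/
theorem weak_approx (S : Finset (Place k K)) (x : Place k K → K) (r : Place k K → ℤ) :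
    ∃ y : K, ∀ Q ∈ S, Q.1 (y - x Q) = exp (-(r Q)) := by
  classical
  choose z hz using fun Q : Place k K => exists_val_eq_exp Q (-(r Q))
  obtain ⟨B, hB⟩ : ∃ B : ℤ, ∀ Q ∈ S, r Q < B := by
    refine ⟨(∑ Q ∈ S, (r Q).toNat : ℕ) + 1, ?_⟩
    intro Q hQ
    have h1 : (r Q).toNat ≤ ∑ Q ∈ S, (r Q).toNat :=
      Finset.single_le_sum (f := fun Q : Place k K => (r Q).toNat) (fun _ _ => Nat.zero_le _) hQ
    have h2 : r Q ≤ (r Q).toNat := Int.self_le_toNat _
    have : (((r Q).toNat : ℕ) : ℤ) ≤ ((∑ Q ∈ S, (r Q).toNat : ℕ) : ℤ) := by exact_mod_cast h1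
    omega
  obtain ⟨y, hy⟩ := weak_approx_le S (fun Q => x Q + z Q) B
  refine ⟨y, ?_⟩
  intro Q hQ
  have : y - x Q = (y - (x Q + z Q)) + z Q := by ring
  rw [this, Valuation.map_add_eq_of_lt_right, hz]
  rw [hz]
  refine (hy Q hQ).trans_lt ?_
  rw [exp_lt_exp]
  have := hB Q hQ
  omega

end Place

end Groth.Agent.H55
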