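import Groth.Agent.H55.FFPlane3

set_option autoImplicit false

namespace Groth.Agent.H55

open FunFld WithZero Module IntermediateField

variable {k K : Type*} [Field k] [Field K] [Algebra k K]

/-- the place `P ∘ σ` -/
def Place.comapAlg (P : Place k K) (σ : K ≃ₐ[k] K) : Place k K :=
  ⟨P.1.comap (σ : K →+* K), by
    constructor
    · intro c
      show P.1 (σ (algebraMap k K c)) ≤ 1
      rw [σ.commutes]
      exact P.2.1 c
    · intro γ
      obtain ⟨x, hx⟩ := P.2.2 γ
      refine ⟨σ.symm x, ?_⟩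
      show P.1 (σ (σ.symm x)) = γ
      rw [σ.apply_symm_apply, hx]⟩

theorem Place.comapAlg_val (P : Place k K) (σ : K ≃ₐ[k] K) (x : K) :
    (Place.comapAlg P σ).1 x = P.1 (σ x) := rfl

theorem Place.comapAlg_ord (P : Place k K) (σ : K ≃ₐ[k] K) (x : K) :
    (Place.comapAlg P σ).ord x = P.ord (σ x) := rfl

theorem Place.comapAlg_symm (P : Place k K) (σ : K ≃ₐ[k] K) :
    Place.comapAlg (Place.comapAlg P σ.symm) σ = P := by
  apply Place.ext'
  intro x
  rw [Place.comapAlg_val, Place.comapAlg_val, σ.symm_apply_apply]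

/-- a place whose maximal ideal is mapped into itself is fixed -/
theorem Place.comapAlg_eq_of_fixed (P : Place k K) (σ : K ≃ₐ[k] K)
    (h : ∀ x : K, P.1 x < 1 → P.1 (σ x) < 1) : Place.comapAlg P σ = P := by
  apply Place.eq_of_le
  intro x hx
  by_contra hgt
  push Not at hgt
  have hx0 : x ≠ 0 := by
    rintro rfl
    rw [map_zero] at hgt
    exact absurd hgt (by simp)
  have h1 : P.1 x⁻¹ < 1 := by
    rw [map_inv₀]
    exact inv_lt_one_of_one_lt₀ hgt
  have h2 := h _ h1
  rw [map_inv₀, map_inv₀] at h2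
  rw [Place.comapAlg_val] at hx
  have h3 : 0 < P.1 (σ x) := zero_lt_iff.mpr ((Valuation.ne_zero_iff _).mpr
    (by simpa using hx0))
  have := (inv_lt_one₀ h3).mp h2
  exact absurd hx (not_le.mpr this)

/-- an automorphism fixing every place is the identity -/
theorem algEquiv_eq_one_of_fixes_places (hK : IsFunctionField k K) (σ : K ≃ₐ[k] K)
    (h : ∀ P : Place k K, Place.comapAlg P σ = P) : σ = 1 := by
  have hord : ∀ (x : K) (P : Place k K), P.ord (σ x) = P.ord x := by
    intro x P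
    rw [← Place.comapAlg_ord, h P]
  have hc : ∀ x : K, x ≠ 0 → ∃ c : k, σ x = c • x := by
    intro x hx0
    exact eq_smul_of_ord_eq hK (σ x) x (by simpa using hx0) hx0 (hord x)
  ext x
  show σ x = x
  by_cases hxk : x ∈ Set.range (algebraMap k K)
  · obtain ⟨c, rfl⟩ := hxk
    exact σ.commutes c
  have hx0 : x ≠ 0 := fun h0 => hxk ⟨0, by rw [h0, map_zero]⟩
  have hx1 : x + 1 ≠ 0 := by
    intro h0
    apply hxk
    refine ⟨-1, ?_⟩
    rw [map_neg, map_one]
    linear_combination -h0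
  obtain ⟨c, hc1⟩ := hc x hx0
  obtain ⟨c', hc2⟩ := hc (x + 1) hx1
  rw [map_add, map_one, hc1, Algebra.smul_def, Algebra.smul_def] at hc2
  have hcc : c = c' := by
    by_contra hne
    apply hxk
    refine ⟨(c' - 1) / (c - c'), ?_⟩
    have hne' : algebraMap k K (c - c') ≠ 0 := by
      rw [Ne, map_eq_zero]; exact sub_ne_zero.mpr hne
    rw [map_div₀, eq_comm, eq_div_iff hne']
    rw [map_sub, map_sub, map_one]
    linear_combination hc2
  subst hcc
  have h1 : algebraMap k K c = 1 := by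
    have : algebraMap k K c * x + 1 = algebraMap k K c * x + algebraMap k K c := by
      rw [hc2]; ring
    exact (add_left_cancel this).symm
  rw [hc1, Algebra.smul_def, h1, one_mul]

/-- S11047 (given that all places have degree one) -/
theorem algEquiv_eq_one_of_many_fixed (hK : IsFunctionField k K)
    (hdeg1 : ∀ P : Place k K, P.deg = 1) (σ : K ≃ₐ[k] K)
    (h : ((2 * genus k K + 2 : ℕ) : ℕ∞) <
      Set.encard {P : Place k K | ∀ x : K, P.1 x < 1 → P.1 (σ x) < 1}) : σ = 1 := by
  classical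
  by_contra hne
  obtain ⟨P₁, hP₁⟩ : ∃ P : Place k K, Place.comapAlg P σ ≠ P := by
    by_contra hcon
    push Not at hcon
    exact hne (algEquiv_eq_one_of_fixes_places hK σ hcon)
  set P₂ : Place k K := Place.comapAlg P₁ σ.symm with hP₂
  have hP₂σ : Place.comapAlg P₂ σ = P₁ := Place.comapAlg_symm P₁ σ
  have hP₁₂ : P₂ ≠ P₁ := by
    intro heq
    rw [heq] at hP₂σ
    exact hP₁ hP₂σ
  -- a function with a pole only at `P₁`
  set g := genus k K with hg
  have hell : 2 ≤ ell (Finsupp.single P₁ ((g + 1 : ℕ) : ℤ) : Divisor k K) := by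
    have h1 := le_genus hK (Finsupp.single P₁ ((g + 1 : ℕ) : ℤ) : Divisor k K)
    rw [deg_single_of_deg_one (hdeg1 P₁)] at h1
    have hc : (((g + 1 : ℕ)) : ℤ) = (g : ℤ) + 1 := by push_cast; ring
    generalize ell (Finsupp.single P₁ ((g + 1 : ℕ) : ℤ) : Divisor k K) = e at h1 ⊢
    rw [hc, ← hg] at h1
    omega
  have hnle : ¬ L (Finsupp.single P₁ ((g + 1 : ℕ) : ℤ) : Divisor k K) ≤ L (0 : Divisor k K) := by
    intro hle
    have hfin := (finrank_L_zero hK).1
    have := Submodule.finrank_mono hle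
    rw [(finrank_L_zero hK).2] at this
    unfold ell at hell
    omega
  obtain ⟨z, hzL, hz0⟩ := Set.not_subset.mp hnle
  have hzk : z ∉ Set.range (algebraMap k K) := by
    intro hmem
    apply hz0
    show z ∈ L (0 : Divisor k K)
    rw [L_zero hK, Submodule.mem_one]
    exact hmem
  have hzne : z ≠ 0 := fun h0 => hzk ⟨0, by rw [h0, map_zero]⟩
  have hzord := (mem_L_iff_ord hzne).mp hzL
  have hzQ : ∀ Q : Place k K, Q ≠ P₁ → 0 ≤ Q.ord z := by
    intro Q hQ
    have := hzord Q
    rw [Finsupp.single_apply, if_neg (Ne.symm hQ)] at this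
    omega
  have hzP₁ : -((g : ℤ) + 1) ≤ P₁.ord z := by
    have := hzord P₁
    rw [Finsupp.single_eq_same] at this
    push_cast at this
    omega
  -- `z` has a pole at `P₁`
  have hzpole : P₁.ord z < 0 := by
    by_contra hge
    push Not at hge
    apply hz0
    show z ∈ L (0 : Divisor k K)
    rw [mem_L_iff_ord hzne]
    intro Q
    rw [Finsupp.zero_apply, neg_zero]
    by_cases hQ : Q = P₁
    · rw [hQ]; exact hge
    · exact hzQ Q hQ
  set r : ℤ := -P₁.ord z with hr
  -- orders of `σ z`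
  have hσz0 : σ z ≠ 0 := by simpa using hzne
  have hσord : ∀ Q : Place k K, Q.ord (σ z) = (Place.comapAlg Q σ).ord z := fun Q => rfl
  have hσQ : ∀ Q : Place k K, Q ≠ P₂ → 0 ≤ Q.ord (σ z) := by
    intro Q hQ
    rw [hσord]
    apply hzQ
    intro heq
    apply hQ
    rw [← Place.comapAlg_symm Q σ.symm]
    simp only [AlgEquiv.symm_symm]
    rw [heq]
  have hσP₂ : P₂.ord (σ z) = P₁.ord z := by rw [hσord, hP₂σ]
  -- `w = z - σ z`
  set w : K := z - σ z with hw
  have hwP₁ : P₁.1 w = P₁.1 z := by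
    rw [hw]
    apply Valuation.map_sub_eq_of_lt_left
    have h1 : P₁.1 (σ z) ≤ 1 := (Place.ord_nonneg_iff P₁ hσz0).mp (hσQ P₁ (Ne.symm hP₁₂))
    have h2 : 1 < P₁.1 z := (Place.ord_neg_iff P₁ hzne).mp hzpole
    exact h1.trans_lt h2
  have hw0 : w ≠ 0 := by
    intro h0
    rw [h0, map_zero] at hwP₁
    exact hzne ((Valuation.zero_iff _).mp hwP₁.symm)
  have hwP₁ord : P₁.ord w = -r := by
    unfold FunFld.Place.ord at hr ⊢
    rw [hwP₁, hr, neg_neg]
  have hwP₂ : P₂.1 w = P₂.1 (σ z) := by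
    rw [hw]
    apply Valuation.map_sub_eq_of_lt_right
    have h1 : P₂.1 z ≤ 1 := (Place.ord_nonneg_iff P₂ hzne).mp (hzQ P₂ hP₁₂)
    have h2 : 1 < P₂.1 (σ z) := (Place.ord_neg_iff P₂ hσz0).mp (by rw [hσP₂]; exact hzpole)
    exact h1.trans_lt h2
  have hwP₂ord : P₂.ord w = -r := by
    have : P₂.ord w = P₂.ord (σ z) := by
      unfold FunFld.Place.ord
      rw [hwP₂]
    rw [this, hσP₂, hr, neg_neg]
  have hwQ : ∀ Q : Place k K, Q ≠ P₁ → Q ≠ P₂ → 0 ≤ Q.ord w := by
    intro Q h1 h2
    rw [Place.ord_nonneg_iff Q hw0, hw]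
    exact (Valuation.map_sub _ _ _).trans (max_le
      ((Place.ord_nonneg_iff Q hzne).mp (hzQ Q h1))
      ((Place.ord_nonneg_iff Q hσz0).mp (hσQ Q h2)))
  have hrpos : 0 < r := by omega
  -- pole divisor of `w`
  have hpole : poleDiv k w = Finsupp.single P₁ r + Finsupp.single P₂ r := by
    ext Q
    rw [poleDiv_apply hK, Finsupp.add_apply]
    by_cases h1 : Q = P₁
    · subst h1
      rw [Finsupp.single_eq_same, Finsupp.single_apply, if_neg hP₁₂, hwP₁ord, neg_neg, add_zero]
      exact max_eq_left hrpos.le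
    · by_cases h2 : Q = P₂
      · subst h2
        rw [Finsupp.single_eq_same, Finsupp.single_apply, if_neg (Ne.symm h1), hwP₂ord, neg_neg,
          zero_add]
        exact max_eq_left hrpos.le
      · rw [Finsupp.single_apply, if_neg (Ne.symm h1), Finsupp.single_apply,
          if_neg (Ne.symm h2), add_zero]
        have := hwQ Q h1 h2
        exact max_eq_right (by omega)
  have hwk : w ∉ Set.range (algebraMap k K) := by
    rintro ⟨c, hc⟩
    rw [← hc, Place.ord_algebraMap] at hwP₁ord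
    omega
  have hwtr := transcendental_of_notMem_range hK hwk
  have hdegz : (zeroDiv k w).deg = 2 * r := by
    rw [deg_zeroDiv hK hwtr, ← deg_poleDiv hK hwtr, hpole, Divisor.deg_add,
      deg_single_of_deg_one (hdeg1 P₁), deg_single_of_deg_one (hdeg1 P₂)]
    ring
  -- fixed places are zeros of `w`
  have hsub : {P : Place k K | ∀ x : K, P.1 x < 1 → P.1 (σ x) < 1} ⊆
      ((zeroDiv k w).support : Set (Place k K)) := by
    intro Q hQ
    rw [Set.mem_ofPred_eq] at hQ
    have hQσ : Place.comapAlg Q σ = Q := Place.comapAlg_eq_of_fixed Q σ hQ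
    have hQ1 : Q ≠ P₁ := by
      intro heq
      rw [heq] at hQσ
      exact hP₁ hQσ
    have hQ2 : Q ≠ P₂ := by
      intro heq
      rw [heq, hP₂σ] at hQσ
      exact hP₁₂ hQσ.symm
    obtain ⟨c, hc⟩ := Place.exists_const_sub_lt_one (hdeg1 Q)
      ((Place.ord_nonneg_iff Q hzne).mp (hzQ Q hQ1))
    have h1 := hQ _ hc
    rw [map_sub, σ.commutes] at h1
    have h2 : w = (z - algebraMap k K c) - (σ z - algebraMap k K c) := by rw [hw]; ring
    have h3 : Q.1 w < 1 := by
      rw [h2]
      exact lt_of_le_of_lt (Valuation.map_sub _ _ _) (max_lt hc h1)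
    rw [Finset.mem_coe, Finsupp.mem_support_iff, zeroDiv_apply hK]
    have := (Place.ord_pos_iff Q hw0).mpr h3
    rw [max_eq_left this.le]
    omega
  have hcard : ((zeroDiv k w).support.card : ℤ) ≤ (zeroDiv k w).deg := by
    rw [Divisor.deg_eq_sum, Finset.card_eq_sum_ones, Nat.cast_sum]
    apply Finset.sum_le_sum
    intro Q hQ
    have h1 : 1 ≤ zeroDiv k w Q := by
      have h0 := zeroDiv_nonneg (k := k) w Q
      rw [Finsupp.zero_apply] at h0
      have := Finsupp.mem_support_iff.mp hQ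
      omega
    have h2 : (1 : ℤ) ≤ Q.deg := by exact_mod_cast Place.deg_pos hK Q
    push_cast
    nlinarith
  have henc := Set.encard_le_encard hsub
  rw [Set.encard_coe_eq_coe_finsetCard] at henc
  have hfinal : ((2 * g + 2 : ℕ) : ℕ∞) < ((zeroDiv k w).support.card : ℕ∞) :=
    lt_of_lt_of_le h henc
  have hfinal' : 2 * g + 2 < (zeroDiv k w).support.card := by exact_mod_cast hfinal
  have : ((zeroDiv k w).support.card : ℤ) ≤ 2 * r := by rw [← hdegz]; exact hcard
  have h4 : ((2 * g + 2 : ℕ) : ℤ) < (zeroDiv k w).support.card := by exact_mod_cast hfinal'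
  push_cast at h4
  omega

end Groth.Agent.H55
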