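import Groth.Agent.H55.FFPlace

set_option autoImplicit false

namespace Groth.Agent.H55

open FunFld WithZero IntermediateField Polynomial

variable {k K : Type*} [Field k] [Field K] [Algebra k K]

theorem aeval_mul_mem {x : K} (M : Submodule k K) (hM : ∀ m ∈ M, x * m ∈ M) (p : k[X]) {m : K}
    (hm : m ∈ M) : aeval x p * m ∈ M := by
  induction p using Polynomial.induction_on' with
  | add p q hp hq => rw [map_add, add_mul]; exact M.add_mem hp hq
  | monomial n a =>
    rw [aeval_monomial, mul_assoc, ← Algebra.smul_def]
    apply M.smul_mem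
    induction n with
    | zero => simpa using hm
    | succ n ih => rw [pow_succ', mul_assoc]; exact hM _ ih

/-- constant coefficients of a finitely supported family of polynomials -/
noncomputable def coeffZ {ι : Type*} (p : ι →₀ k[X]) : ι →₀ k :=
  p.mapRange (fun a => a.coeff 0) (Polynomial.coeff_zero 0)

/-- `divX` of a finitely supported family of polynomials -/
noncomputable def divXF {ι : Type*} (p : ι →₀ k[X]) : ι →₀ k[X] :=
  p.mapRange divX divX_zero

theorem poly_relation_trivial {x : K} (hx0 : x ≠ 0) (M : Submodule k K)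
    (hM : ∀ m ∈ M, x * m ∈ M) {ι : Type*} (z : ι → K) (hz : ∀ i, z i ∈ M)
    (hind : ∀ c : ι →₀ k, (∃ m ∈ M, Finsupp.linearCombination k z c = x * m) → c = 0) :
    ∀ (n : ℕ) (p : ι →₀ k[X]), (∀ i, (p i).natDegree ≤ n) →
      (p.sum fun i a => aeval x a * z i) = 0 → p = 0 := by
  intro n
  induction n with
  | zero =>
    intro p hp hsum
    have hC : ∀ i, p i = C ((p i).coeff 0) := fun i =>
      eq_C_of_natDegree_le_zero (hp i)
    have hc : coeffZ p = 0 := by
      apply hind
      refine ⟨0, M.zero_mem, ?_⟩
      rw [mul_zero, ← hsum, Finsupp.linearCombination_apply, coeffZ,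
        Finsupp.sum_mapRange_index (by simp)]
      apply Finsupp.sum_congr
      intro i _
      conv_rhs => rw [hC i]
      rw [aeval_C, Algebra.smul_def]
    ext1 i
    rw [hC i]
    have : coeffZ p i = 0 := by rw [hc]; rfl
    rw [coeffZ, Finsupp.mapRange_apply] at this
    rw [this]; simp
  | succ n ih =>
    intro p hp hsum
    have hqM : ((divXF p).sum fun i a => aeval x a * z i) ∈ M := by
      apply M.sum_mem
      intro i _
      exact aeval_mul_mem M hM _ (hz i)
    have hsplit : (p.sum fun i a => aeval x a * z i) =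
        x * ((divXF p).sum fun i a => aeval x a * z i) +
          Finsupp.linearCombination k z (coeffZ p) := by
      rw [Finsupp.linearCombination_apply, coeffZ, divXF, Finsupp.sum_mapRange_index (by simp),
        Finsupp.sum_mapRange_index (by simp), Finsupp.mul_sum, ← Finsupp.sum_add]
      apply Finsupp.sum_congr
      intro i _
      conv_lhs => rw [← divX_mul_X_add (p i)]
      rw [map_add, map_mul, aeval_X, aeval_C, Algebra.smul_def]
      ring
    have hc : coeffZ p = 0 := by
      apply hind
      refine ⟨-((divXF p).sum fun i a => aeval x a * z i), M.neg_mem hqM, ?_⟩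
      rw [hsum] at hsplit
      rw [mul_neg]
      exact eq_neg_of_add_eq_zero_right hsplit.symm
    have hq : divXF p = 0 := by
      apply ih
      · intro i
        rw [divXF, Finsupp.mapRange_apply, natDegree_divX_eq_natDegree_tsub_one]
        have := hp i
        omega
      · rw [hsum, hc, map_zero, add_zero] at hsplit
        exact (mul_eq_zero.mp hsplit.symm).resolve_left hx0
    ext1 i
    have h1 : coeffZ p i = 0 := by rw [hc]; rfl
    have h2 : divXF p i = 0 := by rw [hq]; rfl
    rw [coeffZ, Finsupp.mapRange_apply] at h1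
    rw [divXF, Finsupp.mapRange_apply] at h2
    rw [← divX_mul_X_add (p i), h1, h2]; simp

open IntermediateField.algebraAdjoinAdjoin in
theorem linearIndependent_of_mod {x : K} (hx : Transcendental k x) (M : Submodule k K)
    (hM : ∀ m ∈ M, x * m ∈ M) {ι : Type*} (z : ι → K) (hz : ∀ i, z i ∈ M)
    (hind : ∀ c : ι →₀ k, (∃ m ∈ M, Finsupp.linearCombination k z c = x * m) → c = 0) :
    LinearIndependent k⟮x⟯ z := by
  have hx0 : x ≠ 0 := fun h => hx (h ▸ isAlgebraic_zero)
  rw [← LinearIndependent.iff_fractionRing (R := Algebra.adjoin k {x}) (K := k⟮x⟯)]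
  rw [linearIndependent_iff]
  intro l hl
  obtain ⟨p, hpdef⟩ : ∃ p : ι →₀ k[X],
    p = l.mapRange (algEquivOfTranscendental k x hx).symm (map_zero _) := ⟨_, rfl⟩
  have hpi : ∀ i, ((l i : Algebra.adjoin k {x}) : K) = aeval x (p i) := by
    intro i
    rw [hpdef, Finsupp.mapRange_apply]
    have : ((algEquivOfTranscendental k x hx) ((algEquivOfTranscendental k x hx).symm (l i)) : K)
          = aeval x ((algEquivOfTranscendental k x hx).symm (l i)) := by
      rw [algEquivOfTranscendental_apply, coe_aeval_mk_apply]
    rw [← this, AlgEquiv.apply_symm_apply]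
  have hp : p = 0 := by
    apply poly_relation_trivial hx0 M hM z hz hind
      (p.support.sup fun i => (p i).natDegree)
    · intro i
      by_cases hi : i ∈ p.support
      · exact Finset.le_sup (f := fun i => (p i).natDegree) hi
      · rw [Finsupp.notMem_support_iff.mp hi]; simp
    · rw [← hl, Finsupp.linearCombination_apply, hpdef, Finsupp.sum_mapRange_index (by simp)]
      apply Finsupp.sum_congr
      intro i _
      have := hpi i
      rw [hpdef, Finsupp.mapRange_apply] at this
      rw [← this]
      rfl
  ext1 i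
  have h0 := hpi i
  rw [hp] at h0
  apply Subtype.ext
  simpa using h0


theorem transcendental_of_notMem_range (hK : IsFunctionField k K) {x : K}
    (hx : x ∉ Set.range (algebraMap k K)) : Transcendental k x := fun h => hx (hK.2 x h)

theorem isAlgebraic_iff_mem_range (hK : IsFunctionField k K) {x : K} :
    IsAlgebraic k x ↔ x ∈ Set.range (algebraMap k K) := by
  constructor
  · exact hK.2 x
  · rintro ⟨c, rfl⟩; exact isAlgebraic_algebraMap c

theorem finiteDimensional_adjoin_of_transcendental (hK : IsFunctionField k K) {y : K}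
    (hy : Transcendental k y) : FiniteDimensional k⟮y⟯ K := by
  obtain ⟨⟨x, hx, hfin⟩, -⟩ := hK
  have halg : IsAlgebraic k⟮y⟯ x := by
    have h1 : IsAlgebraic k⟮x⟯ y := Algebra.IsAlgebraic.isAlgebraic y
    have := IsAlgebraic.adjoin_singleton (R := k) (A := K) (B := K) hx hy
      (isAlgebraic_adjoin_iff.mp h1)
    exact isAlgebraic_adjoin_iff.mpr this
  let Fyx := restrictScalars k k⟮y⟯⟮x⟯
  let Fxy := restrictScalars k k⟮x⟯⟮y⟯
  let : Algebra k⟮y⟯ Fyx := k⟮y⟯⟮x⟯.algebra
  let : Module k⟮y⟯ Fyx := Algebra.toModule
  let : SMul k⟮y⟯ Fyx := Algebra.toSMul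
  let : Algebra k⟮x⟯ Fxy := k⟮x⟯⟮y⟯.algebra
  let : Module k⟮x⟯ Fxy := Algebra.toModule
  let : SMul k⟮x⟯ Fxy := Algebra.toSMul
  have : FiniteDimensional k⟮y⟯ Fyx :=
    adjoin.finiteDimensional (isAlgebraic_iff_isIntegral.mp halg)
  have : FiniteDimensional Fyx K := by
    unfold Fyx
    rw [adjoin_simple_comm]
    have : IsScalarTower k⟮x⟯ Fxy K := isScalarTower_mid' k⟮x⟯⟮y⟯
    exact .right k⟮x⟯ Fxy K
  have : IsScalarTower k⟮y⟯ Fyx K := isScalarTower_mid' k⟮y⟯⟮x⟯
  exact .trans k⟮y⟯ Fyx K

theorem finiteDimensional_of_card_bound {V : Type*} [AddCommGroup V] [Module k V] (n : ℕ)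
    (H : ∀ s : Finset V, LinearIndependent k (fun i : s => (i : V)) → s.card ≤ n) :
    FiniteDimensional k V ∧ Module.finrank k V ≤ n := by
  have h1 : Module.rank k V ≤ n := rank_le H
  have h2 : Module.rank k V < Cardinal.aleph0 := h1.trans_lt Cardinal.natCast_lt_aleph0
  exact ⟨Module.rank_lt_aleph0_iff.mp h2, Module.finrank_le_of_rank_le h1⟩

namespace Place

/-- nonzero elements with valuation `≠ 1` are not constants -/
theorem notMem_range_of_val_ne_one (P : Place k K) {x : K} (hx0 : x ≠ 0) (hx : P.1 x ≠ 1) :
    x ∉ Set.range (algebraMap k K) := by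
  rintro ⟨c, rfl⟩
  apply hx
  apply val_algebraMap_eq_one
  rintro rfl
  simp at hx0

instance towerOK (P : Place k K) : IsScalarTower k P.O K :=
  IsScalarTower.of_algebraMap_eq (fun _ => rfl)

theorem coe_smul (P : Place k K) (c : k) (z : P.O) : ((c • z : P.O) : K) = c • (z : K) := by
  rw [Algebra.smul_def, Algebra.smul_def]; rfl

/-- the residue map as a `k`-linear map -/
noncomputable def resLin (P : Place k K) : P.O →ₗ[k] IsLocalRing.ResidueField P.O where
  toFun := IsLocalRing.residue P.O
  map_add' := map_add _
  map_smul' _ _ := rfl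

theorem resLin_apply (P : Place k K) (z : P.O) : resLin P z = IsLocalRing.residue P.O z := rfl

/-- the inclusion of the valuation ring as a `k`-linear map -/
def inclLin (P : Place k K) : P.O →ₗ[k] K where
  toFun z := (z : K)
  map_add' _ _ := rfl
  map_smul' c z := coe_smul P c z

theorem inclLin_apply (P : Place k K) (z : P.O) : inclLin P z = (z : K) := rfl

/-- the valuation ring as a `k`-subspace -/
def OSub (P : Place k K) : Submodule k K where
  carrier := {x | P.1 x ≤ 1}
  add_mem' {x y} hx hy := (P.1.map_add x y).trans (max_le hx hy)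
  zero_mem' := by simp
  smul_mem' c x hx := by
    rw [Set.mem_ofPred_eq, Algebra.smul_def, map_mul]
    exact (mul_le_mul' (P.2.1 c) hx).trans_eq (one_mul _)

theorem mem_OSub (P : Place k K) {x : K} : x ∈ OSub P ↔ P.1 x ≤ 1 := Iff.rfl

theorem residue_eq_zero_iff (P : Place k K) (z : P.O) :
    IsLocalRing.residue P.O z = 0 ↔ P.1 (z : K) < 1 := by
  rw [IsLocalRing.residue_eq_zero_iff]
  exact Valuation.mem_maximalIdeal_iff _ _

theorem residue_finite (hK : IsFunctionField k K) (P : Place k K) {t : K} (ht0 : t ≠ 0)
    (ht : P.1 t < 1) :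
    FiniteDimensional k (IsLocalRing.ResidueField P.O) ∧ P.deg ≤ Module.finrank k⟮t⟯ K := by
  have htr : Transcendental k t :=
    transcendental_of_notMem_range hK (notMem_range_of_val_ne_one P ht0 ht.ne)
  have hfin := finiteDimensional_adjoin_of_transcendental hK htr
  apply finiteDimensional_of_card_bound
  intro s hs
  choose! z hz using fun w : IsLocalRing.ResidueField P.O => IsLocalRing.residue_surjective w
  have hli : LinearIndependent k⟮t⟯ (fun i : s => ((z i : P.O) : K)) := by
    apply linearIndependent_of_mod htr (OSub P)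
    · intro m hm
      rw [mem_OSub] at hm ⊢
      rw [map_mul]
      exact (mul_le_mul' ht.le hm).trans_eq (one_mul _)
    · intro i; exact (z i).2
    · intro c ⟨m, hm, hcm⟩
      rw [linearIndependent_iff] at hs
      apply hs
      have h1 : Finsupp.linearCombination k (fun i : s => (i : IsLocalRing.ResidueField P.O)) c =
          resLin P (Finsupp.linearCombination k (fun i : s => z i) c) := by
        rw [Finsupp.linearCombination_apply, Finsupp.linearCombination_apply, map_finsuppSum]
        apply Finsupp.sum_congr
        intro i _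
        rw [map_smul, resLin_apply, hz]
        rfl
      rw [h1, resLin_apply, residue_eq_zero_iff]
      have h2 : ((Finsupp.linearCombination k (fun i : s => z i) c : P.O) : K) = t * m := by
        rw [← hcm, ← inclLin_apply, Finsupp.linearCombination_apply,
          Finsupp.linearCombination_apply, map_finsuppSum]
        apply Finsupp.sum_congr
        intro i _
        rw [map_smul, inclLin_apply]
      rw [h2, map_mul]
      calc P.1 t * P.1 m ≤ P.1 t * 1 := by gcongr; exact hm
        _ < 1 := by rwa [mul_one]
  have := hli.fintype_card_le_finrank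
  simpa using this

theorem exp_neg_one_lt_one : (WithZero.exp (-1 : ℤ) : WithZero (Multiplicative ℤ)) < 1 := by
  rw [← WithZero.exp_zero, WithZero.exp_lt_exp]; norm_num

theorem ne_zero_of_val_eq_exp (P : Place k K) {t : K} {n : ℤ} (ht : P.1 t = WithZero.exp n) :
    t ≠ 0 := by
  rintro rfl
  rw [map_zero] at ht
  exact WithZero.exp_ne_zero ht.symm

theorem finiteDimensional_residue (hK : IsFunctionField k K) (P : Place k K) :
    FiniteDimensional k (IsLocalRing.ResidueField P.O) := by
  obtain ⟨t, ht⟩ := exists_uniformizer P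
  exact (residue_finite hK P (ne_zero_of_val_eq_exp P ht) (ht ▸ exp_neg_one_lt_one)).1

theorem deg_pos (hK : IsFunctionField k K) (P : Place k K) : 0 < P.deg := by
  have := finiteDimensional_residue hK P
  exact Module.finrank_pos

end Place

end Groth.Agent.H55
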