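import Groth.Agent.H55.FFFib2

set_option autoImplicit false

namespace Groth.Agent.H55

open FunFld WithZero Module IntermediateField

variable {k K : Type*} [Field k] [Field K] [Algebra k K]

/-- the data of a base-point-free linear system `W ⊆ L(D)` -/
structure MapData (W : Submodule k K) (D : Divisor k K) : Prop where
  le : W ≤ L D
  bpf : ∀ P : Place k K, ∃ s ∈ W, P.1 s = exp (D P)

theorem MapData.least_iff {W : Submodule k K} {D : Divisor k K} (h : MapData W D) {s : K}
    (hs : s ∈ W) (P : Place k K) : (∀ w ∈ W, P.1 w ≤ P.1 s) ↔ P.1 s = exp (D P) := by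
  constructor
  · intro hmax
    obtain ⟨s₀, hs₀, hs₀P⟩ := h.bpf P
    exact le_antisymm (h.le hs P) (hs₀P ▸ hmax s₀ hs₀)
  · intro hsP w hw
    rw [hsP]; exact h.le hw P

/-- the divisor of zeros of the section `s` -/
noncomputable def chartDiv (D : Divisor k K) (s : K) : Divisor k K := D + FunFld.div k s

theorem chartDiv_apply (hK : IsFunctionField k K) (D : Divisor k K) (s : K) (P : Place k K) :
    chartDiv D s P = D P + P.ord s := by
  unfold chartDiv
  rw [Finsupp.add_apply, Place.div_apply hK]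

theorem chartDiv_eq_zero_iff (hK : IsFunctionField k K) (D : Divisor k K) {s : K} (hs0 : s ≠ 0)
    (P : Place k K) : chartDiv D s P = 0 ↔ P.1 s = exp (D P) := by
  rw [chartDiv_apply hK, Place.val_eq_exp_neg_ord P hs0, exp_inj]
  constructor <;> intro h <;> omega

theorem chartDiv_nonneg (hK : IsFunctionField k K) {W : Submodule k K} {D : Divisor k K}
    (h : MapData W D) {s : K} (hs : s ∈ W) (hs0 : s ≠ 0) : 0 ≤ chartDiv D s := by
  intro P
  rw [Finsupp.zero_apply, chartDiv_apply hK]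
  have := (mem_L_iff_ord hs0).mp (h.le hs) P
  omega

theorem val_div_le_chartDiv (hK : IsFunctionField k K) {W : Submodule k K} {D : Divisor k K}
    (h : MapData W D) {s : K} (hs0 : s ≠ 0) {w : K} (hw : w ∈ W) (P : Place k K) :
    P.1 (w / s) ≤ exp (chartDiv D s P) := by
  rw [map_div₀, chartDiv_apply hK, Place.val_eq_exp_neg_ord P hs0, exp_add,
    div_le_iff₀ (zero_lt_iff.mpr exp_ne_zero), mul_assoc, ← exp_add, add_neg_cancel, exp_zero,
    mul_one]
  exact h.le hw P

theorem div_mem_L_chartDiv (hK : IsFunctionField k K) {W : Submodule k K} {D : Divisor k K}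
    (h : MapData W D) {s : K} (hs0 : s ≠ 0) {w : K} (hw : w ∈ W) : w / s ∈ L (chartDiv D s) :=
  fun P => val_div_le_chartDiv hK h hs0 hw P

/-- elements regular on the chart lie in some `L(m Z₀)` -/
theorem exists_mem_L_nsmul (hK : IsFunctionField k K) {Z : Divisor k K} (hZ : 0 ≤ Z) {z : K}
    (hz : ∀ P : Place k K, Z P = 0 → P.1 z ≤ 1) : ∃ m : ℕ, z ∈ L (m • Z) := by
  classical
  by_cases hz0 : z = 0
  · exact ⟨0, hz0 ▸ Submodule.zero_mem _⟩
  set E : Divisor k K := poleDiv k z with hE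
  have hE0 : 0 ≤ E := poleDiv_nonneg z
  set m : ℕ := (∑ P ∈ E.support, E P).toNat with hm
  have hmE : ∀ P : Place k K, E P ≤ m := by
    intro P
    by_cases hP : P ∈ E.support
    · have h1 : E P ≤ ∑ P ∈ E.support, E P :=
        Finset.single_le_sum (f := fun P => E P) (fun Q _ => hE0 Q) hP
      have h2 := Int.self_le_toNat (∑ P ∈ E.support, E P)
      omega
    · rw [Finsupp.notMem_support_iff.mp hP]; positivity
  refine ⟨m, L_mono ?_ (mem_L_of_poleDiv_le hK le_rfl)⟩
  intro P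
  rw [Finsupp.smul_apply, nsmul_eq_mul]
  by_cases hP : Z P = 0
  · have h1 := hz P hP
    have h2 : poleDiv k z P = 0 := by
      rw [poleDiv_apply hK]
      have := (Place.ord_nonneg_iff P hz0).mpr h1
      exact max_eq_right (by omega)
    rw [h2, hP, mul_zero]
  · have h1 : 1 ≤ Z P := by
      have := hZ P
      rw [Finsupp.zero_apply] at this
      omega
    have h2 := hmE P
    have hm0 : (0 : ℤ) ≤ m := by positivity
    nlinarith

/-- a generic element of `W`, of least order at finitely many given places -/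
theorem exists_generic [Infinite k] {W : Submodule k K} {D : Divisor k K} (h : MapData W D)
    (S : Finset (Place k K)) : ∃ w ∈ W, ∀ P ∈ S, P.1 w = exp (D P) := by
  classical
  let p : S → Submodule k W := fun Q => (Place.ball Q.1 (1 - D Q.1)).comap W.subtype
  have hp : ∀ Q, p Q ≠ ⊤ := by
    intro Q h1
    obtain ⟨s, hs, hsQ⟩ := h.bpf Q.1
    have : (⟨s, hs⟩ : W) ∈ p Q := by rw [h1]; trivial
    have h2 : Q.1.1 s ≤ exp (-(1 - D Q.1)) := this
    rw [hsQ, exp_le_exp] at h2
    omega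
  obtain ⟨x, hx⟩ := Submodule.exists_forall_notMem_of_forall_ne_top p hp
  refine ⟨x.1, x.2, fun P hP => ?_⟩
  apply le_antisymm (h.le x.2 P)
  by_contra hlt
  push Not at hlt
  apply hx ⟨P, hP⟩
  show P.1 x.1 ≤ exp (-(1 - D P))
  rw [Place.lt_exp_iff_le_exp_sub_one] at hlt
  refine hlt.trans (by rw [exp_le_exp]; omega)

/-- iterating the pencil trick -/
theorem L_le_powSpan (hK : IsFunctionField k K) {Z : Divisor k K} (hZ : 0 ≤ Z)
    (hZdeg : 1 ≤ Z.deg) {t : K} (htZ : t ∈ L Z) (ht0 : t ≠ 0)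
    (ht : ∀ Q ∈ Z.support, Q.ord t = -Z Q) (a : ℕ) :
    L ((2 * genus k K + 1 + a) • Z) ≤ powSpan t (L ((2 * genus k K + 1) • Z)) a := by
  set m₁ : ℕ := 2 * genus k K + 1 with hm₁
  induction a with
  | zero =>
    intro y hy
    have := mem_powSpan (x' := t) (a := 0) (i := 0) le_rfl hy
    rwa [pow_zero, one_mul] at this
  | succ a ih =>
    intro y hy
    set m := m₁ + a with hm
    have hmd : (2 * (genus k K : ℤ)) ≤ ((m : ℤ) - 1) * Z.deg := by
      have h3 : (2 * (genus k K : ℤ)) ≤ (m : ℤ) - 1 := by rw [hm, hm₁]; push_cast; omega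
      nlinarith
    have hE := ell_of_deg_ge hK (m • Z) (by rw [Divisor.deg_nsmul]; nlinarith)
    have hEm := ell_of_deg_ge hK (m • Z - Z) (by
      rw [Divisor.deg_sub, Divisor.deg_nsmul]; nlinarith)
    have hEp := ell_of_deg_ge hK (m • Z + Z) (by
      rw [Divisor.deg_add, Divisor.deg_nsmul]; nlinarith)
    have hy' : y ∈ L (m • Z + Z) := by
      have : (m₁ + (a + 1)) • Z = m • Z + Z := by rw [hm, ← add_assoc, succ_nsmul]
      rwa [this] at hy
    obtain ⟨b, hb, hyb⟩ := pencil hK hZ htZ ht0 ht hE hEm hEp y hy'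
    have h4 : y = (y - t * b) + t * b := by ring
    rw [h4]
    refine Submodule.add_mem _ (powSpan_mono _ _ (Nat.le_succ a) (ih hyb)) ?_
    exact mul_powSpan t _ a ⟨b, ih hb, rfl⟩

theorem deg_pos_of_nonneg_ne_zero (hK : IsFunctionField k K) {Z : Divisor k K} (hZ : 0 ≤ Z)
    (hZne : Z ≠ 0) : 1 ≤ Z.deg := by
  classical
  obtain ⟨P, hP⟩ : ∃ P, Z P ≠ 0 := by
    by_contra hcon
    push Not at hcon
    exact hZne (Finsupp.ext hcon)
  have h1 : 1 ≤ Z P := by
    have := hZ P
    rw [Finsupp.zero_apply] at this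
    omega
  have h2 : (Finsupp.single P 1 : Divisor k K) ≤ Z := by
    intro Q
    by_cases hQ : Q = P
    · subst hQ; rw [Finsupp.single_eq_same]; exact h1
    · rw [Finsupp.single_apply, if_neg (Ne.symm hQ)]
      have := hZ Q
      rwa [Finsupp.zero_apply] at this
  have h3 := Divisor.deg_mono h2
  rw [Divisor.deg_single] at h3
  have := Place.deg_pos hK P
  have : (1 : ℤ) ≤ P.deg := by exact_mod_cast this
  linarith

/-- the conductor of the chart `s` -/
theorem exists_conductor [Infinite k] (hK : IsFunctionField k K) {W : Submodule k K}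
    {D : Divisor k K} (h : MapData W D) {s : K} (hs : s ∈ W) (hs0 : s ≠ 0)
    (hfrac : ∀ z : K, ∃ r ∈ ratioAlg W s, r ≠ 0 ∧ r * z ∈ ratioAlg W s) :
    ∃ r ∈ ratioAlg W s, r ≠ 0 ∧ ∀ z : K,
      (∀ P : Place k K, P.1 s = exp (D P) → P.1 z ≤ 1) → r * z ∈ ratioAlg W s := by
  classical
  set A := ratioAlg W s with hA
  set Z₀ := chartDiv D s with hZ₀
  have hZ0 : 0 ≤ Z₀ := chartDiv_nonneg hK h hs hs0
  by_cases hZne : Z₀ = 0
  · refine ⟨1, A.one_mem, one_ne_zero, fun z hz => ?_⟩
    have hzL : z ∈ L (0 : Divisor k K) := by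
      intro P
      rw [Finsupp.zero_apply, exp_zero]
      apply hz P
      rw [← chartDiv_eq_zero_iff hK D hs0, ← hZ₀, hZne, Finsupp.zero_apply]
    rw [L_zero hK, Submodule.mem_one] at hzL
    obtain ⟨c, rfl⟩ := hzL
    rw [one_mul]
    exact A.algebraMap_mem c
  have hZdeg := deg_pos_of_nonneg_ne_zero hK hZ0 hZne
  obtain ⟨w₀, hw₀W, hw₀⟩ := exists_generic h Z₀.support
  set t := w₀ / s with ht
  have htA : t ∈ A := div_mem_ratioAlg hw₀W
  have htZ : t ∈ L Z₀ := div_mem_L_chartDiv hK h hs0 hw₀W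
  obtain ⟨P₀, hP₀⟩ : ∃ P, Z₀ P ≠ 0 := by
    by_contra hcon
    push Not at hcon
    exact hZne (Finsupp.ext hcon)
  have hw₀0 : w₀ ≠ 0 := by
    rintro rfl
    have := hw₀ P₀ (Finsupp.mem_support_iff.mpr hP₀)
    rw [map_zero] at this
    exact exp_ne_zero this.symm
  have ht0 : t ≠ 0 := div_ne_zero hw₀0 hs0
  have htord : ∀ Q ∈ Z₀.support, Q.ord t = -Z₀ Q := by
    intro Q hQ
    rw [Place.ord_eq_iff Q ht0, neg_neg, ht, map_div₀, hw₀ Q hQ, hZ₀, chartDiv_apply hK,
      Place.val_eq_exp_neg_ord Q hs0, exp_add, div_eq_iff exp_ne_zero, mul_assoc, ← exp_add,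
      add_neg_cancel, exp_zero, mul_one]
  set m₁ : ℕ := 2 * genus k K + 1 with hm₁
  have hfin : Module.Finite k (L (m₁ • Z₀)) := L_finite hK _
  obtain ⟨S, hS⟩ := (Submodule.fg_iff_finiteDimensional (L (m₁ • Z₀))).mpr hfin
  choose rf hrfA hrf0 hrfb using hfrac
  set r := ∏ b ∈ S, rf b with hr
  have hrA : r ∈ A := Subalgebra.prod_mem _ fun b _ => hrfA b
  have hr0 : r ≠ 0 := Finset.prod_ne_zero_iff.mpr fun b _ => hrf0 b
  have hrS : ∀ b ∈ S, r * b ∈ A := by
    intro b hb
    rw [hr, ← Finset.mul_prod_erase S rf hb, mul_comm (rf b), mul_assoc]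
    exact A.mul_mem (Subalgebra.prod_mem _ fun c _ => hrfA c) (hrfb b)
  have hrL : ∀ b ∈ L (m₁ • Z₀), r * b ∈ A := by
    intro b hb
    rw [← hS] at hb
    induction hb using Submodule.span_induction with
    | mem x hx => exact hrS x hx
    | zero => rw [mul_zero]; exact A.zero_mem
    | add x y _ _ hx hy => rw [mul_add]; exact A.add_mem hx hy
    | smul c x _ hx => rw [mul_smul_comm]; exact A.smul_mem hx c
  have hrP : ∀ a : ℕ, ∀ y ∈ powSpan t (L (m₁ • Z₀)) a, r * y ∈ A := by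
    intro a
    have : powSpan t (L (m₁ • Z₀)) a ≤
        (Subalgebra.toSubmodule A).comap (LinearMap.mulLeft k r) := by
      unfold powSpan
      refine iSup₂_le fun i _ => ?_
      rintro _ ⟨b, hb, rfl⟩
      show r * (t ^ i * b) ∈ A
      have : r * (t ^ i * b) = t ^ i * (r * b) := by ring
      rw [this]
      exact A.mul_mem (A.pow_mem htA i) (hrL b hb)
    exact fun y hy => this hy
  refine ⟨r, hrA, hr0, fun z hz => ?_⟩
  obtain ⟨m, hm⟩ := exists_mem_L_nsmul hK hZ0 (z := z) (fun P hP =>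
    hz P ((chartDiv_eq_zero_iff hK D hs0 P).mp hP))
  have h1 : z ∈ L ((m₁ + m) • Z₀) := L_mono (nsmul_mono_of_nonneg hZ0 (by omega)) hm
  exact hrP m z (L_le_powSpan hK hZ0 hZdeg htZ ht0 htord m h1)

end Groth.Agent.H55
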