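import Groth.Agent.H55.FFCond

set_option autoImplicit false

namespace Groth.Agent.H55

open FunFld WithZero Module IntermediateField

variable {k K : Type*} [Field k] [Field K] [Algebra k K]

theorem ratioAlg_val_le {W : Submodule k K} {s : K} {P : Place k K}
    (hP : ∀ w ∈ W, P.1 w ≤ P.1 s) (hs0 : s ≠ 0) : ∀ a ∈ ratioAlg W s, P.1 a ≤ 1 := by
  have : ratioAlg W s ≤ Place.OAlg P := by
    apply Algebra.adjoin_le
    rintro _ ⟨w, hw, rfl⟩
    show P.1 (w / s) ≤ 1
    rw [map_div₀]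
    exact (div_le_one₀ (zero_lt_iff.mpr ((Valuation.ne_zero_iff _).mpr hs0))).mpr (hP w hw)
  exact fun a ha => this ha

/-- places in the chart where the conductor is a unit are nonsingular -/
theorem nonsingAt_of_conductor (hK : IsFunctionField k K) {W : Submodule k K} {D : Divisor k K}
    (h : MapData W D) {s : K} (hs : s ∈ W) (hs0 : s ≠ 0) (hZne : chartDiv D s ≠ 0) {r : K}
    (hr : ∀ z : K, (∀ P : Place k K, P.1 s = exp (D P) → P.1 z ≤ 1) → r * z ∈ ratioAlg W s)
    {P : Place k K} (hPs : P.1 s = exp (D P)) (hPr : P.1 r = 1) : NonsingAt W P := by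
  classical
  intro z hz
  refine ⟨s, hs, hs0, (h.least_iff hs P).mpr hPs, ?_⟩
  by_cases hz0 : z = 0
  · refine ⟨0, Subalgebra.zero_mem _, 1, Subalgebra.one_mem _, map_one _, ?_⟩
    rw [hz0, zero_mul]
  set Z₀ := chartDiv D s with hZ₀
  have hZ0 : 0 ≤ Z₀ := chartDiv_nonneg hK h hs hs0
  have hZdeg := deg_pos_of_nonneg_ne_zero hK hZ0 hZne
  have hZ₀P : Z₀ P = 0 := (chartDiv_eq_zero_iff hK D hs0 P).mpr hPs
  set Z : Divisor k K := poleDiv k z with hZ
  have hZnn : 0 ≤ Z := poleDiv_nonneg z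
  have hZP : Z P = 0 := by
    rw [hZ, poleDiv_apply hK]
    have := (Place.ord_nonneg_iff P hz0).mpr hz
    exact max_eq_right (by omega)
  have hZdeg' : 0 ≤ Z.deg := Divisor.deg_nonneg hZnn
  have hPdeg : 0 < P.deg := Place.deg_pos hK P
  set e : ℕ := (2 * (genus k K : ℤ) + Z.deg + P.deg).toNat with he
  have he1 : 2 * (genus k K : ℤ) + Z.deg + P.deg ≤ e :=
    Int.self_le_toNat (2 * (genus k K : ℤ) + Z.deg + P.deg)
  set E : Divisor k K := e • Z₀ - Z with hE
  have hEdeg : E.deg = e * Z₀.deg - Z.deg := by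
    rw [hE, Divisor.deg_sub, Divisor.deg_nsmul]
  have hed : (e : ℤ) ≤ e * Z₀.deg := by
    have : (0 : ℤ) ≤ e := by positivity
    nlinarith
  have h1 := ell_of_deg_ge hK E (by rw [hEdeg]; omega)
  have h2 := ell_of_deg_ge hK (E - Finsupp.single P 1) (by
    rw [Divisor.deg_sub, Divisor.deg_single, hEdeg]; omega)
  rw [Divisor.deg_sub, Divisor.deg_single] at h2
  have hlt : ell (E - Finsupp.single P 1) < ell E := by
    have : (ell (E - Finsupp.single P 1) : ℤ) < ell E := by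
      rw [h1, h2]; omega
    exact_mod_cast this
  obtain ⟨b, hbE, hbE'⟩ := exists_mem_notMem_of_ell_lt hK hlt
  obtain ⟨hb0, hbord⟩ := ord_eq_of_mem_of_notMem hbE hbE'
  have hbP : P.1 b = 1 := by
    rw [Place.val_eq_exp_neg_ord P hb0, hbord, hE, Finsupp.sub_apply, Finsupp.smul_apply, hZ₀P,
      hZP]
    simp
  have hEle : E ≤ e • Z₀ := sub_le_self _ hZnn
  have hbL : b ∈ L (e • Z₀) := L_mono hEle hbE
  have hzL : z ∈ L Z := mem_L_of_poleDiv_le hK le_rfl
  have hzbL : z * b ∈ L (e • Z₀) := by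
    have := mul_mem_L hzL hbE
    rwa [hE, add_sub_cancel] at this
  have hreg : ∀ y ∈ L (e • Z₀), ∀ Q : Place k K, Q.1 s = exp (D Q) → Q.1 y ≤ 1 := by
    intro y hy Q hQ
    have h3 := hy Q
    rw [Finsupp.smul_apply, (chartDiv_eq_zero_iff hK D hs0 Q).mpr hQ, smul_zero, exp_zero] at h3
    exact h3
  refine ⟨r * (z * b), hr _ (hreg _ hzbL), r * b, hr _ (hreg _ hbL), ?_, by ring⟩
  rw [map_mul, hPr, hbP, one_mul]

theorem mapData_of_map (hK : IsFunctionField k K) {ι : Type*} [Fintype ι] [Nonempty ι]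
    (φ : ι → K) (hφ0 : ∀ i, φ i ≠ 0) :
    MapData (Submodule.span k (Set.range φ)) (mapDiv k φ) := by
  constructor
  · rw [Submodule.span_le]
    rintro _ ⟨i, rfl⟩
    rw [SetLike.mem_coe, mem_L_iff_ord (hφ0 i)]
    intro P
    exact neg_mapDiv_le_ord hK φ P i
  · intro P
    obtain ⟨i, hi⟩ := exists_ord_eq_neg_mapDiv hK φ P
    refine ⟨φ i, Submodule.subset_span ⟨i, rfl⟩, ?_⟩
    rw [Place.val_eq_exp_neg_ord P (hφ0 i), hi, neg_neg]

/-- fractions of the chart algebra of a birational map -/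
theorem frac_chart {n : ℕ} (φ : Fin (n + 1) → K) (hφ0 : ∀ i, φ i ≠ 0)
    (hbir : IntermediateField.adjoin k (Set.range fun i => φ i / φ 0) = ⊤) (j : Fin (n + 1)) :
    ∀ z : K, ∃ r ∈ ratioAlg (Submodule.span k (Set.range φ)) (φ j), r ≠ 0 ∧
      r * z ∈ ratioAlg (Submodule.span k (Set.range φ)) (φ j) := by
  apply frac_of_top
  set F := IntermediateField.adjoin k
    ((ratioAlg (Submodule.span k (Set.range φ)) (φ j) : Subalgebra k K) : Set K) with hF
  have hmem : ∀ i, φ i / φ j ∈ F := fun i =>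
    IntermediateField.subset_adjoin _ _ (div_mem_ratioAlg (Submodule.subset_span ⟨i, rfl⟩))
  rw [eq_top_iff, ← hbir, IntermediateField.adjoin_le_iff]
  rintro _ ⟨i, rfl⟩
  have h1 : φ i / φ 0 = (φ i / φ j) / (φ 0 / φ j) := by
    have := hφ0 j
    have := hφ0 0
    field_simp
  show φ i / φ 0 ∈ F
  rw [h1]
  exact F.div_mem (hmem i) (hmem 0)

/-- S11058 -/
theorem finite_singular [Infinite k] (hK : IsFunctionField k K) {n : ℕ} (hn : 1 ≤ n)
    (φ : Fin (n + 1) → K) (hφ : LinearIndependent k φ)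
    (hbir : IntermediateField.adjoin k (Set.range fun i => φ i / φ 0) = ⊤) :
    {P : Place k K | ¬ IsNonsingularAt φ P}.Finite := by
  classical
  have hφ0 : ∀ i, φ i ≠ 0 := fun i => hφ.ne_zero i
  set W := Submodule.span k (Set.range φ) with hW
  set D := mapDiv k φ with hD
  have hmd : MapData W D := mapData_of_map hK φ hφ0
  have hsW : φ 0 ∈ W := Submodule.subset_span ⟨0, rfl⟩
  obtain ⟨r, hrA, hr0, hr⟩ := exists_conductor hK hmd hsW (hφ0 0) (frac_chart φ hφ0 hbir 0)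
  have hZne : chartDiv D (φ 0) ≠ 0 := by
    intro h0
    have hnt : Nontrivial (Fin (n + 1)) := Fin.nontrivial_iff_two_le.mpr (by omega)
    obtain ⟨i, hi⟩ := exists_ne (0 : Fin (n + 1))
    have h1 : φ i / φ 0 ∈ L (0 : Divisor k K) := by
      rw [← h0]
      exact div_mem_L_chartDiv hK hmd (hφ0 0) (Submodule.subset_span ⟨i, rfl⟩)
    rw [L_zero hK, Submodule.mem_one] at h1
    obtain ⟨c, hc⟩ := h1
    apply not_smul_of_linearIndependent hφ hi c
    rw [eq_div_iff (hφ0 0)] at hc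
    rw [Algebra.smul_def, hc]
  have hsub : {P : Place k K | ¬ IsNonsingularAt φ P} ⊆
      ((chartDiv D (φ 0)).support : Set (Place k K)) ∪ {P : Place k K | P.1 r < 1} := by
    intro P hP
    by_contra hnot
    rw [Set.mem_union, not_or] at hnot
    obtain ⟨h1, h2⟩ := hnot
    apply hP
    rw [isNonsingularAt_iff φ P ⟨0, hφ0 0⟩]
    have hPs : P.1 (φ 0) = exp (D P) := by
      rw [← chartDiv_eq_zero_iff hK D (hφ0 0)]
      simpa using h1
    have hPr1 : P.1 r ≤ 1 :=
      ratioAlg_val_le ((hmd.least_iff hsW P).mpr hPs) (hφ0 0) r hrA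
    have hPr : P.1 r = 1 := le_antisymm hPr1 (not_lt.mp h2)
    exact nonsingAt_of_conductor hK hmd hsW (hφ0 0) hZne hr hPs hPr
  exact Set.Finite.subset ((Finset.finite_toSet _).union (Place.finite_zeros hK hr0)) hsub

end Groth.Agent.H55
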