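import Groth.Agent.H55.FFCond2

set_option autoImplicit false

namespace Groth.Agent.H55

open FunFld WithZero Module IntermediateField

variable {k K : Type*} [Field k] [Field K] [Algebra k K]

/-- the localisation of a subalgebra at a place -/
def locOf (A : Subalgebra k K) (P : Place k K) : Subalgebra k K where
  carrier := {z | ∃ u ∈ A, ∃ w ∈ A, P.1 w = 1 ∧ z * w = u}
  mul_mem' {a b} ha hb := by
    obtain ⟨u, hu, w, hw, hw1, h⟩ := ha
    obtain ⟨u', hu', w', hw', hw1', h'⟩ := hb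
    refine ⟨u * u', A.mul_mem hu hu', w * w', A.mul_mem hw hw', ?_, ?_⟩
    · rw [map_mul, hw1, hw1', one_mul]
    · rw [← h, ← h']; ring
  add_mem' {a b} ha hb := by
    obtain ⟨u, hu, w, hw, hw1, h⟩ := ha
    obtain ⟨u', hu', w', hw', hw1', h'⟩ := hb
    refine ⟨u * w' + u' * w, A.add_mem (A.mul_mem hu hw') (A.mul_mem hu' hw),
      w * w', A.mul_mem hw hw', ?_, ?_⟩
    · rw [map_mul, hw1, hw1', one_mul]
    · rw [← h, ← h']; ring
  algebraMap_mem' c := ⟨algebraMap k K c, A.algebraMap_mem c, 1, A.one_mem, map_one _, mul_one _⟩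

theorem mem_locOf {A : Subalgebra k K} {P : Place k K} {z : K} :
    z ∈ locOf A P ↔ ∃ u ∈ A, ∃ w ∈ A, P.1 w = 1 ∧ z * w = u := Iff.rfl

theorem inLoc_iff_mem_locOf {W : Submodule k K} {s : K} {P : Place k K} {z : K} :
    InLoc W s P z ↔ z ∈ locOf (ratioAlg W s) P := Iff.rfl

theorem le_locOf (A : Subalgebra k K) (P : Place k K) : A ≤ locOf A P :=
  fun a ha => ⟨a, ha, 1, A.one_mem, map_one _, mul_one _⟩

/-- the criterion for nonsingularity: separation of places and a local parameter -/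
theorem nonsingAt_of_criterion (hK : IsFunctionField k K) {P : Place k K} (hdeg1 : P.deg = 1)
    {W : Submodule k K} {D : Divisor k K} (h : MapData W D) {s : K} (hs : s ∈ W) (hs0 : s ≠ 0)
    (hPs : P.1 s = exp (D P)) {r : K} (hrA : r ∈ ratioAlg W s) (hr0 : r ≠ 0)
    (hr : ∀ z : K, (∀ Q : Place k K, Q.1 s = exp (D Q) → Q.1 z ≤ 1) → r * z ∈ ratioAlg W s)
    (huniq : ∀ Q : Place k K, (∀ z, InLoc W s P z → Q.1 z ≤ 1) → Q = P)
    (hunif : ∃ t, InLoc W s P t ∧ P.1 t = exp (-1 : ℤ)) : NonsingAt W P := by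
  classical
  set A := ratioAlg W s with hA
  have hAO : ∀ Q : Place k K, Q.1 s = exp (D Q) → ∀ a ∈ A, Q.1 a ≤ 1 := fun Q hQ =>
    ratioAlg_val_le ((h.least_iff hs Q).mpr hQ) hs0
  -- separating elements
  have hsep : ∀ Q : Place k K, Q ≠ P → Q.1 s = exp (D Q) → ∃ w ∈ A, P.1 w = 1 ∧ Q.1 w < 1 := by
    intro Q hQP hQs
    by_contra hcon
    push Not at hcon
    apply hQP
    apply huniq
    rintro z ⟨u, hu, w, hw, hw1, hzw⟩
    have h1 := hcon w hw hw1
    have h2 : Q.1 w = 1 := le_antisymm (hAO Q hQs w hw) h1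
    have : Q.1 z = Q.1 u := by rw [← hzw, map_mul, h2, mul_one]
    rw [this]
    exact hAO Q hQs u hu
  -- Step 1: `r * O_P ⊆ locOf A P`
  have hstep1 : ∀ z : K, P.1 z ≤ 1 → r * z ∈ locOf A P := by
    intro z hz
    by_cases hz0 : z = 0
    · rw [hz0, mul_zero]; exact Subalgebra.zero_mem _
    set T : Finset (Place k K) :=
      (Place.finite_poles hK hz0).toFinset.filter (fun Q => Q.1 s = exp (D Q)) with hT
    have hTmem : ∀ Q, Q ∈ T ↔ 1 < Q.1 z ∧ Q.1 s = exp (D Q) := by
      intro Q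
      rw [hT, Finset.mem_filter, Set.Finite.mem_toFinset, Set.mem_ofPred_eq]
    have hTP : ∀ Q ∈ T, Q ≠ P := by
      intro Q hQ hQP
      rw [hTmem, hQP] at hQ
      exact absurd hz (not_le.mpr hQ.1)
    have hex : ∀ Q : Place k K, ∃ w ∈ A, P.1 w = 1 ∧ (Q ∈ T → Q.1 w < 1) := by
      intro Q
      by_cases hQ : Q ∈ T
      · obtain ⟨w, hw, hw1, hwQ⟩ := hsep Q (hTP Q hQ) ((hTmem Q).mp hQ).2
        exact ⟨w, hw, hw1, fun _ => hwQ⟩
      · exact ⟨1, A.one_mem, map_one _, fun h => absurd h hQ⟩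
    choose wf hwfA hwf1 hwfQ using hex
    set w' := ∏ Q ∈ T, wf Q ^ (-Q.ord z).toNat with hw'
    have hw'A : w' ∈ A := Subalgebra.prod_mem _ fun Q _ => A.pow_mem (hwfA Q) _
    have hw'P : P.1 w' = 1 := by
      rw [hw', map_prod]
      apply Finset.prod_eq_one
      intro Q _
      rw [map_pow, hwf1, one_pow]
    have hreg : ∀ Q : Place k K, Q.1 s = exp (D Q) → Q.1 (w' * z) ≤ 1 := by
      intro Q hQs
      have hfac : ∀ Q' ∈ T, Q.1 (wf Q' ^ (-Q'.ord z).toNat) ≤ 1 := fun Q' _ => by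
        rw [map_pow]
        exact pow_le_one' (hAO Q hQs _ (hwfA Q')) _
      by_cases hQT : Q ∈ T
      · rw [hw', ← Finset.mul_prod_erase T _ hQT, mul_assoc, mul_comm _ z, ← mul_assoc, map_mul]
        have h1 : Q.1 (∏ x ∈ T.erase Q, wf x ^ (-x.ord z).toNat) ≤ 1 := by
          rw [map_prod]
          exact Finset.prod_le_one' fun Q' hQ' => hfac Q' (Finset.mem_of_mem_erase hQ')
        have h2 : Q.1 (wf Q ^ (-Q.ord z).toNat * z) ≤ 1 := by
          rw [map_mul, map_pow, Place.val_eq_exp_neg_ord Q hz0]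
          have h3 := le_exp_neg_one_of_lt_one (hwfQ Q hQT)
          have h4 : (0 : ℤ) < -Q.ord z := by
            have := (Place.ord_neg_iff Q hz0).mpr ((hTmem Q).mp hQT).1
            omega
          calc Q.1 (wf Q) ^ (-Q.ord z).toNat * exp (-Q.ord z)
              ≤ exp (-1 : ℤ) ^ (-Q.ord z).toNat * exp (-Q.ord z) :=
                mul_le_mul' (pow_le_pow_left' h3 _) le_rfl
            _ = 1 := by
                rw [← exp_nsmul, ← exp_add, ← exp_zero]
                congr 1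
                rw [nsmul_eq_mul, Int.toNat_of_nonneg h4.le]
                ring
        exact mul_le_one' h2 h1
      · have hQz : Q.1 z ≤ 1 := by
          by_contra hgt
          push Not at hgt
          exact hQT ((hTmem Q).mpr ⟨hgt, hQs⟩)
        rw [map_mul]
        exact mul_le_one' (hAO Q hQs w' hw'A) hQz
    exact ⟨r * (w' * z), hr _ hreg, w', hw'A, hw'P, by ring⟩
  -- Step 2
  obtain ⟨t, htloc, htP⟩ := hunif
  have ht0 : t ≠ 0 := Place.ne_zero_of_val_eq_exp P htP
  have happrox : ∀ e : ℕ, ∀ z : K, P.1 z ≤ 1 →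
      ∃ a ∈ locOf A P, P.1 (z - a) ≤ exp (-(e : ℤ)) := by
    intro e
    induction e with
    | zero =>
      intro z hz
      exact ⟨0, Subalgebra.zero_mem _, by simpa using hz⟩
    | succ e ih =>
      intro z hz
      obtain ⟨a, ha, hza⟩ := ih z hz
      set y := (z - a) / t ^ e with hy
      have hyP : P.1 y ≤ 1 := by
        rw [hy, map_div₀, map_pow, htP, ← exp_nsmul,
          div_le_one₀ (zero_lt_iff.mpr exp_ne_zero)]
        refine hza.trans (by rw [exp_le_exp, nsmul_eq_mul]; omega)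
      obtain ⟨c, hc⟩ := Place.exists_const_sub_lt_one hdeg1 hyP
      refine ⟨a + algebraMap k K c * t ^ e, ?_, ?_⟩
      · exact Subalgebra.add_mem _ ha (Subalgebra.mul_mem _ (Subalgebra.algebraMap_mem _ c)
          (Subalgebra.pow_mem _ htloc e))
      · have h1 : z - (a + algebraMap k K c * t ^ e) = t ^ e * (y - algebraMap k K c) := by
          rw [hy]; field_simp; ring
        rw [h1, map_mul, map_pow, htP]
        have h2 := le_exp_neg_one_of_lt_one hc
        calc exp (-1 : ℤ) ^ e * P.1 (y - algebraMap k K c)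
            ≤ exp (-1 : ℤ) ^ e * exp (-1 : ℤ) := mul_le_mul' le_rfl h2
          _ = exp (-((e + 1 : ℕ) : ℤ)) := by
              rw [← exp_nsmul, ← exp_add]; congr 1; rw [nsmul_eq_mul]; push_cast; ring
  intro z hz
  refine ⟨s, hs, hs0, (h.least_iff hs P).mpr hPs, ?_⟩
  rw [inLoc_iff_mem_locOf]
  have hrP : P.1 r ≤ 1 := hAO P hPs r hrA
  have hrord : 0 ≤ P.ord r := (Place.ord_nonneg_iff P hr0).mpr hrP
  obtain ⟨a, ha, hza⟩ := happrox (P.ord r).toNat z hz
  have h1 : z = a + r * ((z - a) / r) := by field_simp; ring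
  rw [h1]
  refine Subalgebra.add_mem _ ha (hstep1 _ ?_)
  rw [map_div₀, div_le_one₀ (zero_lt_iff.mpr ((Valuation.ne_zero_iff _).mpr hr0)),
    Place.val_eq_exp_neg_ord P hr0]
  refine hza.trans (by rw [exp_le_exp, Int.toNat_of_nonneg hrord])

end Groth.Agent.H55
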