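import Groth.Agent.H55.FFCond3

set_option autoImplicit false

namespace Groth.Agent.H55

open FunFld WithZero Module IntermediateField

variable {k K : Type*} [Field k] [Field K] [Algebra k K]

theorem inLocRing_iff_inLoc {ι : Type*} (φ : ι → K) (P : Place k K) {j : ι} (hj0 : φ j ≠ 0)
    (hjP : ∀ i, P.1 (φ i) ≤ P.1 (φ j)) (z : K) :
    InLocRing φ P z ↔ InLoc (Submodule.span k (Set.range φ)) (φ j) P z := by
  have hφW : ∀ i, φ i ∈ Submodule.span k (Set.range φ) := fun i => Submodule.subset_span ⟨i, rfl⟩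
  constructor
  · intro hz
    obtain ⟨j', hj'0, hj'P, hloc⟩ := (inLocRing_iff φ P z).mp hz
    exact InLoc.change (hφW j) hj0 (hφW j') hj'0 (le_antisymm (hjP j') (hj'P j)) hloc
  · intro hz
    exact (inLocRing_iff φ P z).mpr ⟨j, hj0, hjP, hz⟩

/-- S11065 -/
theorem nonsingular_iff_criterion [Infinite k] (hK : IsFunctionField k K)
    (hdeg1 : ∀ P : Place k K, P.deg = 1) {n : ℕ}
    (φ : Fin (n + 1) → K) (hφ : LinearIndependent k φ)
    (hbir : IntermediateField.adjoin k (Set.range fun i => φ i / φ 0) = ⊤) (P : Place k K) :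
    IsNonsingularAt φ P ↔
      (∀ Q : Place k K, (∀ z : K, InLocRing φ P z → Q.1 z ≤ 1) → Q = P) ∧
        ∃ t : K, InLocRing φ P t ∧ P.1 t = exp (-1) := by
  have hφ0 : ∀ i, φ i ≠ 0 := fun i => hφ.ne_zero i
  constructor
  · intro hns
    constructor
    · intro Q hQ
      exact (Place.eq_of_le P Q fun z hz => hQ z (hns z hz)).symm
    · obtain ⟨t, ht⟩ := Place.exists_uniformizer P
      exact ⟨t, hns t (by rw [ht]; exact Place.exp_neg_one_lt_one.le), ht⟩
  · rintro ⟨huniq, t, htloc, htP⟩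
    rw [isNonsingularAt_iff φ P ⟨0, hφ0 0⟩]
    obtain ⟨j, hj0, hjP⟩ := exists_max_entry φ P ⟨0, hφ0 0⟩
    set W := Submodule.span k (Set.range φ) with hW
    set D := mapDiv k φ with hD
    have hmd : MapData W D := mapData_of_map hK φ hφ0
    have hsW : φ j ∈ W := Submodule.subset_span ⟨j, rfl⟩
    have hPs : P.1 (φ j) = exp (D P) :=
      (hmd.least_iff hsW P).mp (val_le_of_mem_span φ P j hjP)
    obtain ⟨r, hrA, hr0, hr⟩ := exists_conductor hK hmd hsW hj0 (frac_chart φ hφ0 hbir j)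
    refine nonsingAt_of_criterion hK (hdeg1 P) hmd hsW hj0 hPs hrA hr0 hr ?_ ?_
    · intro Q hQ
      apply huniq
      intro z hz
      exact hQ z ((inLocRing_iff_inLoc φ P hj0 hjP z).mp hz)
    · exact ⟨t, (inLocRing_iff_inLoc φ P hj0 hjP t).mp htloc, htP⟩

end Groth.Agent.H55
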