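import Groth.Agent.H55.FFCond4

set_option autoImplicit false

namespace Groth.Agent.H55

open FunFld WithZero Module IntermediateField

variable {k K : Type*} [Field k] [Field K] [Algebra k K]

theorem val_lt_iff_mem_L_sub_single {E : Divisor k K} {R : Place k K} {x : K} (hx : x ∈ L E) :
    x ∈ L (E - Finsupp.single R 1) ↔ R.1 x < exp (E R) := by
  classical
  by_cases hx0 : x = 0
  · rw [hx0]
    simp only [Submodule.zero_mem, map_zero, true_iff]
    exact zero_lt_iff.mpr exp_ne_zero
  constructor
  · intro h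
    have := h R
    rw [Finsupp.sub_apply, Finsupp.single_eq_same] at this
    exact lt_of_le_of_lt this (by rw [exp_lt_exp]; omega)
  · intro h
    apply mem_L_sub_single hx hx0
    rw [Place.val_eq_exp_neg_ord R hx0, exp_lt_exp] at h
    omega

theorem exists_sub_smul_mem_L {R : Place k K} (hdeg1 : R.deg = 1) {E : Divisor k K} {u v : K}
    (hu : u ∈ L E) (hv : v ∈ L E) (hv' : v ∉ L (E - Finsupp.single R 1)) :
    ∃ c : k, u - c • v ∈ L (E - Finsupp.single R 1) := by
  have hvR : R.1 v = exp (E R) := by
    apply le_antisymm (hv R)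
    by_contra hlt
    push Not at hlt
    exact hv' ((val_lt_iff_mem_L_sub_single hv).mpr hlt)
  have hv0 : v ≠ 0 := by
    rintro rfl
    rw [map_zero] at hvR
    exact exp_ne_zero hvR.symm
  have huv : R.1 (u / v) ≤ 1 := by
    rw [map_div₀, hvR, div_le_one₀ (zero_lt_iff.mpr exp_ne_zero)]
    exact hu R
  obtain ⟨c, hc⟩ := Place.exists_const_sub_lt_one hdeg1 huv
  refine ⟨c, ?_⟩
  have hmem : u - c • v ∈ L E := Submodule.sub_mem _ hu (Submodule.smul_mem _ c hv)
  rw [val_lt_iff_mem_L_sub_single hmem]
  have h1 : u - c • v = v * (u / v - algebraMap k K c) := by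
    rw [Algebra.smul_def]; field_simp
  rw [h1, map_mul, hvR]
  calc exp (E R) * R.1 (u / v - algebraMap k K c) < exp (E R) * 1 :=
        mul_lt_mul_of_pos_left hc (zero_lt_iff.mpr exp_ne_zero)
    _ = exp (E R) := mul_one _

/-- codimension at most one -/
theorem finrank_le_succ_of_exists_sub {V : Type*} [AddCommGroup V] [Module k V]
    {X' X : Submodule k V} [Module.Finite k X] (hX : X' ≤ X)
    (h : ∀ u ∈ X, ∀ v ∈ X, v ∉ X' → ∃ c : k, u - c • v ∈ X') :
    finrank k X ≤ finrank k X' + 1 := by
  have hfin' : Module.Finite k X' := Submodule.finiteDimensional_of_le hX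
  by_cases hle : X ≤ X'
  · exact (Submodule.finrank_mono hle).trans (Nat.le_succ _)
  · obtain ⟨v, hvX, hvX'⟩ := Set.not_subset.mp hle
    have hsub : X ≤ X' ⊔ Submodule.span k {v} := by
      intro u hu
      obtain ⟨c, hc⟩ := h u hu v hvX hvX'
      have : u = (u - c • v) + c • v := by abel
      rw [this]
      exact Submodule.add_mem_sup hc
        (Submodule.smul_mem _ c (Submodule.mem_span_singleton_self v))
    have hfin2 : Module.Finite k ↥(X' ⊔ Submodule.span k {v}) :=
      Submodule.finiteDimensional_sup _ _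
    have h1 := Submodule.finrank_mono hsub
    have h2 := Submodule.finrank_add_le_finrank_add_finrank X' (Submodule.span k {v})
    have h3 : finrank k ↥(Submodule.span k {v}) ≤ 1 := by
      have := finrank_span_le_card (R := k) ({v} : Set V)
      simpa using this
    omega

/-- the separation condition in terms of dimensions -/
theorem codim_two_iff (hK : IsFunctionField k K) (hdeg1 : ∀ P : Place k K, P.deg = 1)
    {W : Submodule k K} [Module.Finite k W] {D : Divisor k K} (h : MapData W D)
    (P Q : Place k K) :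
    finrank k ↥(W ⊓ L (D - Finsupp.single P 1 - Finsupp.single Q 1)) + 2 = finrank k W ↔
      ∃ w ∈ W, w ∈ L (D - Finsupp.single P 1) ∧
        w ∉ L (D - Finsupp.single P 1 - Finsupp.single Q 1) := by
  classical
  have hs0 : ∀ R : Place k K, (0 : Divisor k K) ≤ Finsupp.single R 1 := by
    intro R
    have := single_le_single (k := k) (K := K) R (by norm_num : (0 : ℤ) ≤ 1)
    rwa [Finsupp.single_zero] at this
  set HP := W ⊓ L (D - Finsupp.single P 1) with hHP
  set HPQ := W ⊓ L (D - Finsupp.single P 1 - Finsupp.single Q 1) with hHPQ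
  have hle1 : HP ≤ W := inf_le_left
  have hle2 : HPQ ≤ HP := inf_le_inf_left _ (L_mono (sub_le_self _ (hs0 Q)))
  have hfinHP : Module.Finite k HP := Submodule.finiteDimensional_of_le hle1
  have hfinHPQ : Module.Finite k HPQ := Submodule.finiteDimensional_of_le hle2
  -- `HP` is a hyperplane
  have h1 : finrank k W ≤ finrank k HP + 1 := by
    apply finrank_le_succ_of_exists_sub hle1
    intro u hu v hv hv'
    have hv'' : v ∉ L (D - Finsupp.single P 1) := fun hmem => hv' ⟨hv, hmem⟩
    obtain ⟨c, hc⟩ := exists_sub_smul_mem_L (hdeg1 P) (h.le hu) (h.le hv) hv''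
    exact ⟨c, Submodule.sub_mem _ hu (Submodule.smul_mem _ c hv), hc⟩
  have h2 : finrank k HP < finrank k W := by
    apply Submodule.finrank_lt_finrank_of_lt
    refine lt_of_le_of_ne hle1 ?_
    intro heq
    obtain ⟨s, hs, hsP⟩ := h.bpf P
    have : s ∈ HP := by rw [heq]; exact hs
    have h3 := (val_lt_iff_mem_L_sub_single (h.le hs)).mp this.2
    rw [hsP] at h3
    exact lt_irrefl _ h3
  have h3 : finrank k HP ≤ finrank k HPQ + 1 := by
    apply finrank_le_succ_of_exists_sub hle2
    intro u hu v hv hv'
    have hv'' : v ∉ L (D - Finsupp.single P 1 - Finsupp.single Q 1) :=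
      fun hmem => hv' ⟨hv.1, hmem⟩
    obtain ⟨c, hc⟩ := exists_sub_smul_mem_L (hdeg1 Q) hu.2 hv.2 hv''
    exact ⟨c, Submodule.sub_mem _ hu.1 (Submodule.smul_mem _ c hv.1), hc⟩
  constructor
  · intro heq
    by_contra hcon
    push Not at hcon
    have : HP ≤ HPQ := fun w hw => ⟨hw.1, hcon w hw.1 hw.2⟩
    have := Submodule.finrank_mono this
    omega
  · rintro ⟨w, hwW, hwP, hwQ⟩
    have h4 : finrank k HPQ < finrank k HP := by
      apply Submodule.finrank_lt_finrank_of_lt
      refine lt_of_le_of_ne hle2 ?_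
      intro heq
      have : w ∈ HPQ := by rw [heq]; exact ⟨hwW, hwP⟩
      exact hwQ this.2
    omega

end Groth.Agent.H55
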