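import Groth.Agent.H55.FFCond5

set_option autoImplicit false

namespace Groth.Agent.H55

open FunFld WithZero Module IntermediateField

variable {k K : Type*} [Field k] [Field K] [Algebra k K]

/-- shifting by a multiple of `s` to vanish at `P` -/
theorem exists_shift_mem {P : Place k K} (hdeg1 : P.deg = 1) {W : Submodule k K}
    {D : Divisor k K} (h : MapData W D) {s : K} (hs : s ∈ W) (hPs : P.1 s = exp (D P))
    {w : K} (hw : w ∈ W) :
    ∃ c : k, P.1 (w / s - algebraMap k K c) < 1 ∧ w - c • s ∈ W ∧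
      w - c • s ∈ L (D - Finsupp.single P 1) := by
  have hs0 : s ≠ 0 := by
    rintro rfl
    rw [map_zero] at hPs
    exact exp_ne_zero hPs.symm
  have hws : P.1 (w / s) ≤ 1 := by
    rw [map_div₀, hPs, div_le_one₀ (zero_lt_iff.mpr exp_ne_zero)]
    exact h.le hw P
  obtain ⟨c, hc⟩ := Place.exists_const_sub_lt_one hdeg1 hws
  have hmemW : w - c • s ∈ W := Submodule.sub_mem _ hw (Submodule.smul_mem _ c hs)
  refine ⟨c, hc, hmemW, ?_⟩
  rw [val_lt_iff_mem_L_sub_single (h.le hmemW)]
  have h1 : w - c • s = s * (w / s - algebraMap k K c) := by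
    rw [Algebra.smul_def]; field_simp
  rw [h1, map_mul, hPs]
  calc exp (D P) * P.1 (w / s - algebraMap k K c) < exp (D P) * 1 :=
        mul_lt_mul_of_pos_left hc (zero_lt_iff.mpr exp_ne_zero)
    _ = exp (D P) := mul_one _

/-- constants modulo `𝔪_P²` propagate through an algebra -/
theorem exists_const_sq {ι : Type*} (g : ι → K) (P : Place k K)
    (hc : ∀ i, ∃ c : k, P.1 (g i - algebraMap k K c) ≤ exp (-2 : ℤ)) :
    ∀ u ∈ Algebra.adjoin k (Set.range g), ∃ c : k, P.1 (u - algebraMap k K c) ≤ exp (-2 : ℤ) := by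
  have hlt : (exp (-2 : ℤ) : WithZero (Multiplicative ℤ)) < 1 := by
    rw [← exp_zero, exp_lt_exp]; norm_num
  intro u hu
  induction hu using Algebra.adjoin_induction with
  | mem x hx =>
    obtain ⟨i, rfl⟩ := hx
    exact hc i
  | algebraMap c => exact ⟨c, by simp⟩
  | add x y _ _ hx hy =>
    obtain ⟨c, hcP⟩ := hx
    obtain ⟨c', hcP'⟩ := hy
    refine ⟨c + c', ?_⟩
    have : x + y - algebraMap k K (c + c') =
        (x - algebraMap k K c) + (y - algebraMap k K c') := by rw [map_add]; ring
    rw [this]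
    exact (P.1.map_add _ _).trans (max_le hcP hcP')
  | mul x y _ _ hx hy =>
    obtain ⟨c, hcP⟩ := hx
    obtain ⟨c', hcP'⟩ := hy
    refine ⟨c * c', ?_⟩
    have : x * y - algebraMap k K (c * c') =
        (x - algebraMap k K c) * y + algebraMap k K c * (y - algebraMap k K c') := by
      rw [map_mul]; ring
    rw [this]
    have hy1 : P.1 y ≤ 1 := val_le_one_of_const P (lt_of_le_of_lt hcP' hlt)
    refine (P.1.map_add _ _).trans (max_le ?_ ?_)
    · rw [map_mul]
      exact (mul_le_mul' hcP hy1).trans_eq (mul_one _)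
    · rw [map_mul]
      exact (mul_le_mul' (P.2.1 c) hcP').trans_eq (one_mul _)

theorem ratioAlg_eq_adjoin_range' (W : Submodule k K) (s : K) :
    ratioAlg W s = Algebra.adjoin k (Set.range fun w : W => (w : K) / s) := by
  unfold ratioAlg
  congr 1
  ext x
  constructor
  · rintro ⟨w, hw, rfl⟩; exact ⟨⟨w, hw⟩, rfl⟩
  · rintro ⟨w, rfl⟩; exact ⟨w.1, w.2, rfl⟩

/-- nonsingularity in terms of separating sections -/
theorem nonsingular_iff_sep [Infinite k] (hK : IsFunctionField k K)
    (hdeg1 : ∀ P : Place k K, P.deg = 1) {n : ℕ}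
    (φ : Fin (n + 1) → K) (hφ : LinearIndependent k φ)
    (hbir : IntermediateField.adjoin k (Set.range fun i => φ i / φ 0) = ⊤) (P : Place k K) :
    IsNonsingularAt φ P ↔ ∀ Q : Place k K,
      ∃ w ∈ Submodule.span k (Set.range φ), w ∈ L (mapDiv k φ - Finsupp.single P 1) ∧
        w ∉ L (mapDiv k φ - Finsupp.single P 1 - Finsupp.single Q 1) := by
  classical
  have hφ0 : ∀ i, φ i ≠ 0 := fun i => hφ.ne_zero i
  obtain ⟨j, hj0, hjP⟩ := exists_max_entry φ P ⟨0, hφ0 0⟩
  set W := Submodule.span k (Set.range φ) with hW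
  set D := mapDiv k φ with hD
  have hmd : MapData W D := mapData_of_map hK φ hφ0
  set s := φ j with hs
  have hsW : s ∈ W := Submodule.subset_span ⟨j, rfl⟩
  have hPs : P.1 s = exp (D P) := (hmd.least_iff hsW P).mp (val_le_of_mem_span φ P j hjP)
  set A := ratioAlg W s with hA
  have hlt1 : (exp (-1 : ℤ) : WithZero (Multiplicative ℤ)) < 1 := Place.exp_neg_one_lt_one
  constructor
  · intro hns Q
    have hloc : ∀ z : K, P.1 z ≤ 1 → InLoc W s P z := fun z hz =>
      (inLocRing_iff_inLoc φ P hj0 hjP z).mp (hns z hz)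
    by_contra hcon
    push Not at hcon
    by_cases hQP : Q = P
    · subst hQP
      -- everything vanishing at `Q` vanishes doubly
      have hgen : ∀ w : W, ∃ c : k, Q.1 ((w : K) / s - algebraMap k K c) ≤ exp (-2 : ℤ) := by
        intro w
        obtain ⟨c, -, hcW, hcL⟩ := exists_shift_mem (hdeg1 Q) hmd hsW hPs w.2
        refine ⟨c, ?_⟩
        have h1 := hcon _ hcW hcL Q
        rw [Finsupp.sub_apply, Finsupp.sub_apply, Finsupp.single_eq_same] at h1
        have h2 : (w : K) / s - algebraMap k K c = ((w : K) - c • s) / s := by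
          rw [Algebra.smul_def]; field_simp
        rw [h2, map_div₀, hPs, div_le_iff₀ (zero_lt_iff.mpr exp_ne_zero), ← exp_add]
        refine h1.trans (by rw [exp_le_exp]; omega)
      have hall := exists_const_sq (fun w : W => (w : K) / s) Q hgen
      obtain ⟨t, ht⟩ := Place.exists_uniformizer Q
      obtain ⟨u, hu, w', hw', hw'1, htw⟩ := hloc t (by rw [ht]; exact hlt1.le)
      rw [ratioAlg_eq_adjoin_range'] at hu
      obtain ⟨c, hc⟩ := hall u hu
      have hu1 : Q.1 u = exp (-1 : ℤ) := by rw [← htw, map_mul, hw'1, mul_one, ht]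
      have hlt2 : (exp (-2 : ℤ) : WithZero (Multiplicative ℤ)) < 1 := by
        rw [← exp_zero, exp_lt_exp]; norm_num
      have hc0 : c = 0 :=
        (val_lt_one_iff_const_zero Q (lt_of_le_of_lt hc hlt2)).mp (by rw [hu1]; exact hlt1)
      rw [hc0, map_zero, sub_zero, hu1, exp_le_exp] at hc
      omega
    · -- `Q ≠ P`: then `O_P ⊆ O_Q`
      apply hQP
      symm
      apply Place.eq_of_le
      intro z hz
      have hQs : Q.1 s = exp (D Q) := by
        apply le_antisymm (hmd.le hsW Q)
        by_contra hlt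
        push Not at hlt
        obtain ⟨sQ, hsQW, hsQ⟩ := hmd.bpf Q
        obtain ⟨c', -, hcW, hcL⟩ := exists_shift_mem (hdeg1 P) hmd hsW hPs hsQW
        have h1 := hcon _ hcW hcL Q
        rw [Finsupp.sub_apply, Finsupp.sub_apply, Finsupp.single_eq_same, Finsupp.single_apply,
          if_neg (Ne.symm hQP), sub_zero] at h1
        have h2 : Q.1 (sQ - c' • s) < exp (D Q) :=
          lt_of_le_of_lt h1 (by rw [exp_lt_exp]; omega)
        have h3 : Q.1 (c' • s) < exp (D Q) := by
          rw [Algebra.smul_def, map_mul]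
          exact lt_of_le_of_lt ((mul_le_mul' (Q.2.1 c') le_rfl).trans_eq (one_mul _)) hlt
        have h4 : sQ = (sQ - c' • s) + c' • s := by ring
        have h5 : Q.1 sQ < exp (D Q) := by
          rw [h4]
          exact lt_of_le_of_lt (Q.1.map_add _ _) (max_lt h2 h3)
        rw [hsQ] at h5
        exact lt_irrefl _ h5
      have hgen : ∀ w : W, ∃ c : k, P.1 ((w : K) / s - algebraMap k K c) < 1 ∧
          Q.1 ((w : K) / s - algebraMap k K c) < 1 := by
        intro w
        obtain ⟨c, hcP, hcW, hcL⟩ := exists_shift_mem (hdeg1 P) hmd hsW hPs w.2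
        refine ⟨c, hcP, ?_⟩
        have h1 := hcon _ hcW hcL Q
        rw [Finsupp.sub_apply, Finsupp.sub_apply, Finsupp.single_eq_same, Finsupp.single_apply,
          if_neg (Ne.symm hQP), sub_zero] at h1
        have h2 : (w : K) / s - algebraMap k K c = ((w : K) - c • s) / s := by
          rw [Algebra.smul_def]; field_simp
        rw [h2, map_div₀, hQs, div_lt_one₀ (zero_lt_iff.mpr exp_ne_zero)]
        exact lt_of_le_of_lt h1 (by rw [exp_lt_exp]; omega)
      have hall := exists_common_const (fun w : W => (w : K) / s) P Q hgen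
      obtain ⟨u, hu, w', hw', hw'1, hzw⟩ := hloc z hz
      rw [ratioAlg_eq_adjoin_range'] at hu hw'
      obtain ⟨cu, hcuP, hcuQ⟩ := hall u hu
      obtain ⟨cw, hcwP, hcwQ⟩ := hall w' hw'
      have hcw0 : cw ≠ 0 := by
        intro h0
        have := (val_lt_one_iff_const_zero P hcwP).mpr h0
        rw [hw'1] at this
        exact lt_irrefl _ this
      have hwQ : Q.1 w' = 1 := val_eq_one_of_const_ne_zero Q hcwQ hcw0
      have : Q.1 z = Q.1 u := by rw [← hzw, map_mul, hwQ, mul_one]
      rw [this]
      exact val_le_one_of_const Q hcuQ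
  · intro hsep
    rw [isNonsingularAt_iff φ P ⟨0, hφ0 0⟩]
    obtain ⟨r, hrA, hr0, hr⟩ := exists_conductor hK hmd hsW hj0 (frac_chart φ hφ0 hbir j)
    refine nonsingAt_of_criterion hK (hdeg1 P) hmd hsW hj0 hPs hrA hr0 hr ?_ ?_
    · -- separation of places
      intro Q hQ
      by_contra hQP
      obtain ⟨w, hwW, hwP, hwQ⟩ := hsep Q
      have hAQ : ∀ a ∈ A, Q.1 a ≤ 1 := fun a ha => hQ a (le_locOf A P ha)
      have hQs : Q.1 s = exp (D Q) := by
        rw [← hmd.least_iff hsW Q]
        intro w' hw'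
        have h1 := hAQ (w' / s) (div_mem_ratioAlg hw')
        rw [map_div₀] at h1
        exact (div_le_one₀ (zero_lt_iff.mpr ((Valuation.ne_zero_iff _).mpr hj0))).mp h1
      have hwQ' : Q.1 w = exp (D Q) := by
        have h1 : ¬ Q.1 w < exp ((D - Finsupp.single P 1 : Divisor k K) Q) :=
          fun hlt => hwQ ((val_lt_iff_mem_L_sub_single hwP).mpr hlt)
        have h2 : (D - Finsupp.single P 1 : Divisor k K) Q = D Q := by
          rw [Finsupp.sub_apply, Finsupp.single_apply, if_neg (Ne.symm hQP), sub_zero]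
        rw [h2] at h1
        exact le_antisymm (hmd.le hwW Q) (not_lt.mp h1)
      set a := w / s with ha
      have haA : a ∈ A := div_mem_ratioAlg hwW
      have haQ : Q.1 a = 1 := by
        rw [ha, map_div₀, hwQ', hQs]; exact div_self exp_ne_zero
      have haP : P.1 a < 1 := by
        rw [ha, map_div₀, hPs, div_lt_one₀ (zero_lt_iff.mpr exp_ne_zero)]
        have h1 := hwP P
        rw [Finsupp.sub_apply, Finsupp.single_eq_same] at h1
        exact lt_of_le_of_lt h1 (by rw [exp_lt_exp]; omega)
      obtain ⟨c, hc⟩ := Place.exists_const_sub_lt_one (hdeg1 Q) haQ.le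
      have hc0 : c ≠ 0 := by
        intro h0
        have := (val_lt_one_iff_const_zero Q hc).mpr h0
        rw [haQ] at this
        exact lt_irrefl _ this
      have hacP : P.1 (a - algebraMap k K c) = 1 := by
        rw [sub_eq_add_neg, Valuation.map_add_eq_of_lt_right, Valuation.map_neg,
          Place.val_algebraMap_eq_one P hc0]
        rw [Valuation.map_neg, Place.val_algebraMap_eq_one P hc0]
        exact haP
      have hac0 : a - algebraMap k K c ≠ 0 := by
        intro h0
        rw [h0, map_zero] at hacP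
        exact zero_ne_one hacP
      have hmem : InLoc W s P (a - algebraMap k K c)⁻¹ :=
        ⟨1, A.one_mem, a - algebraMap k K c,
          A.sub_mem haA (A.algebraMap_mem c), hacP, inv_mul_cancel₀ hac0⟩
      have h1 := hQ _ hmem
      rw [map_inv₀] at h1
      have h2 : 0 < Q.1 (a - algebraMap k K c) :=
        zero_lt_iff.mpr ((Valuation.ne_zero_iff _).mpr hac0)
      have h3 := (one_lt_inv₀ h2).mpr hc
      exact absurd h1 (not_le.mpr h3)
    · -- a local parameter
      obtain ⟨w, hwW, hwP, hwPP⟩ := hsep P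
      have h1 : ¬ P.1 w < exp ((D - Finsupp.single P 1 : Divisor k K) P) :=
        fun hlt => hwPP ((val_lt_iff_mem_L_sub_single hwP).mpr hlt)
      have h2 : P.1 w = exp ((D - Finsupp.single P 1 : Divisor k K) P) :=
        le_antisymm (hwP P) (not_lt.mp h1)
      rw [Finsupp.sub_apply, Finsupp.single_eq_same] at h2
      refine ⟨w / s, le_locOf A P (div_mem_ratioAlg hwW), ?_⟩
      rw [map_div₀, h2, hPs, ← exp_sub]
      congr 1
      ring

end Groth.Agent.H55
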