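import Groth.Agent.H55.FFCond6

set_option autoImplicit false

namespace Groth.Agent.H55

open FunFld WithZero Module IntermediateField

variable {k K : Type*} [Field k] [Field K] [Algebra k K]

/-- if every section vanishing at `P` vanishes at `Q ≠ P`, the two places have the same image -/
theorem sameImage_of_not_sep (hK : IsFunctionField k K) (hdeg1 : ∀ P : Place k K, P.deg = 1)
    {n : ℕ} (φ : Fin (n + 1) → K) (hφ0 : ∀ i, φ i ≠ 0) {P Q : Place k K} (hQP : Q ≠ P)
    (hcon : ∀ w ∈ Submodule.span k (Set.range φ), w ∈ L (mapDiv k φ - Finsupp.single P 1) →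
      w ∈ L (mapDiv k φ - Finsupp.single P 1 - Finsupp.single Q 1)) :
    SameImage φ P Q := by
  classical
  obtain ⟨j, hj0, hjP⟩ := exists_max_entry φ P ⟨0, hφ0 0⟩
  set W := Submodule.span k (Set.range φ) with hW
  set D := mapDiv k φ with hD
  have hmd : MapData W D := mapData_of_map hK φ hφ0
  set s := φ j with hs
  have hsW : s ∈ W := Submodule.subset_span ⟨j, rfl⟩
  have hPs : P.1 s = exp (D P) := (hmd.least_iff hsW P).mp (val_le_of_mem_span φ P j hjP)
  have hQs : Q.1 s = exp (D Q) := by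
    apply le_antisymm (hmd.le hsW Q)
    by_contra hlt
    push Not at hlt
    obtain ⟨sQ, hsQW, hsQ⟩ := hmd.bpf Q
    obtain ⟨c', -, hcW, hcL⟩ := exists_shift_mem (hdeg1 P) hmd hsW hPs hsQW
    have h1 := hcon _ hcW hcL Q
    rw [Finsupp.sub_apply, Finsupp.sub_apply, Finsupp.single_eq_same, Finsupp.single_apply,
      if_neg (Ne.symm hQP), sub_zero] at h1
    have h2 : Q.1 (sQ - c' • s) < exp (D Q) :=
      lt_of_le_of_lt h1 (by rw [exp_lt_exp]; omega)
    have h3 : Q.1 (c' • s) < exp (D Q) := by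
      rw [Algebra.smul_def, map_mul]
      exact lt_of_le_of_lt ((mul_le_mul' (Q.2.1 c') le_rfl).trans_eq (one_mul _)) hlt
    have h4 : sQ = (sQ - c' • s) + c' • s := by ring
    have h5 : Q.1 sQ < exp (D Q) := by
      rw [h4]
      exact lt_of_le_of_lt (Q.1.map_add _ _) (max_lt h2 h3)
    rw [hsQ] at h5
    exact lt_irrefl _ h5
  refine ⟨j, hj0, hjP, ?_, ?_⟩
  · intro i
    show Q.1 (φ i) ≤ Q.1 s
    rw [hQs]
    exact hmd.le (Submodule.subset_span ⟨i, rfl⟩) Q
  · intro i
    have hiW : φ i ∈ W := Submodule.subset_span ⟨i, rfl⟩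
    obtain ⟨c, hcP, hcW, hcL⟩ := exists_shift_mem (hdeg1 P) hmd hsW hPs hiW
    refine ⟨c, hcP, ?_⟩
    have h1 := hcon _ hcW hcL Q
    rw [Finsupp.sub_apply, Finsupp.sub_apply, Finsupp.single_eq_same, Finsupp.single_apply,
      if_neg (Ne.symm hQP), sub_zero] at h1
    have h2 : φ i / s - algebraMap k K c = (φ i - c • s) / s := by
      rw [Algebra.smul_def]; field_simp
    show Q.1 (φ i / s - algebraMap k K c) < 1
    rw [h2, map_div₀, hQs, div_lt_one₀ (zero_lt_iff.mpr exp_ne_zero)]
    exact lt_of_le_of_lt h1 (by rw [exp_lt_exp]; omega)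

/-- places with the same image: sections vanish at one iff at the other -/
theorem sameImage_vanish_iff (hK : IsFunctionField k K) {n : ℕ} (φ : Fin (n + 1) → K)
    (hφ0 : ∀ i, φ i ≠ 0) {P Q : Place k K} (h : SameImage φ P Q) {w : K}
    (hw : w ∈ Submodule.span k (Set.range φ)) :
    P.1 w < exp (mapDiv k φ P) ↔ Q.1 w < exp (mapDiv k φ Q) := by
  obtain ⟨j, hj0, hjP, hjQ, hc⟩ := h
  set W := Submodule.span k (Set.range φ) with hW
  set D := mapDiv k φ with hD
  have hmd : MapData W D := mapData_of_map hK φ hφ0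
  have hsW : φ j ∈ W := Submodule.subset_span ⟨j, rfl⟩
  have hPs : P.1 (φ j) = exp (D P) :=
    (hmd.least_iff hsW P).mp (val_le_of_mem_span φ P j hjP)
  have hQs : Q.1 (φ j) = exp (D Q) :=
    (hmd.least_iff hsW Q).mp (val_le_of_mem_span φ Q j hjQ)
  have hmem : w / φ j ∈ Algebra.adjoin k (Set.range fun i => φ i / φ j) :=
    span_div_mem_adjoin φ j hw
  obtain ⟨c, hcP, hcQ⟩ := exists_common_const (fun i => φ i / φ j) P Q hc _ hmem
  have h1 : P.1 w < exp (D P) ↔ P.1 (w / φ j) < 1 := by
    rw [map_div₀, hPs, div_lt_one₀ (zero_lt_iff.mpr exp_ne_zero)]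
  have h2 : Q.1 w < exp (D Q) ↔ Q.1 (w / φ j) < 1 := by
    rw [map_div₀, hQs, div_lt_one₀ (zero_lt_iff.mpr exp_ne_zero)]
  rw [h1, h2, val_lt_one_iff_const_zero P hcP, val_lt_one_iff_const_zero Q hcQ]

theorem sameImage_self (hK : IsFunctionField k K) (hdeg1 : ∀ P : Place k K, P.deg = 1)
    {n : ℕ} (φ : Fin (n + 1) → K) (hφ0 : ∀ i, φ i ≠ 0) (P : Place k K) : SameImage φ P P := by
  obtain ⟨j, hj0, hjP⟩ := exists_max_entry φ P ⟨0, hφ0 0⟩
  refine ⟨j, hj0, hjP, hjP, fun i => ?_⟩
  have h1 : P.1 (φ i / φ j) ≤ 1 := by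
    rw [map_div₀]
    exact (div_le_one₀ (zero_lt_iff.mpr ((Valuation.ne_zero_iff _).mpr hj0))).mpr (hjP i)
  obtain ⟨c, hc⟩ := Place.exists_const_sub_lt_one (hdeg1 P) h1
  exact ⟨c, hc, hc⟩

/-- S11076 -/
theorem nonsingular_iff_hyperplane [Infinite k] (hK : IsFunctionField k K)
    (hdeg1 : ∀ P : Place k K, P.deg = 1) {n : ℕ} (hn : 1 ≤ n)
    (φ : Fin (n + 1) → K) (hφ : LinearIndependent k φ)
    (hbir : IntermediateField.adjoin k (Set.range fun i => φ i / φ 0) = ⊤) (P : Place k K) :
    IsNonsingularAt φ P ↔ ∃ c : Fin (n + 1) → k, ∑ i, c i • φ i ≠ 0 ∧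
      ∑ᶠ Q ∈ {Q : Place k K | SameImage φ P Q},
        ((mapDiv k φ) Q + Q.ord (∑ i, c i • φ i)) = 1 := by
  classical
  have hφ0 : ∀ i, φ i ≠ 0 := fun i => hφ.ne_zero i
  set W := Submodule.span k (Set.range φ) with hW
  set D := mapDiv k φ with hD
  have hmd : MapData W D := mapData_of_map hK φ hφ0
  have hfib : {Q : Place k K | SameImage φ P Q}.Finite := (finite_fibres hK hn φ hφ).2 P
  have hPfib : P ∈ {Q : Place k K | SameImage φ P Q} := sameImage_self hK hdeg1 φ hφ0 P
  -- multiplicity in valuation form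
  have hmult : ∀ (Q : Place k K) (w : K), w ≠ 0 → (Q.1 w < exp (D Q) ↔ 1 ≤ D Q + Q.ord w) := by
    intro Q w hw0
    rw [Place.val_eq_exp_neg_ord Q hw0, exp_lt_exp]
    constructor <;> intro h <;> omega
  have hmult0 : ∀ (Q : Place k K) (w : K), w ∈ W → w ≠ 0 → 0 ≤ D Q + Q.ord w := by
    intro Q w hw hw0
    have := (mem_L_iff_ord hw0).mp (hmd.le hw) Q
    omega
  rw [nonsingular_iff_sep hK hdeg1 φ hφ hbir P]
  constructor
  · intro hsep
    obtain ⟨w, hwW, hwP, hwPP⟩ := hsep P
    obtain ⟨c, hc⟩ := (Submodule.mem_span_range_iff_exists_fun k).mp hwW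
    have hw0 : w ≠ 0 := by
      rintro rfl
      exact hwPP (Submodule.zero_mem _)
    refine ⟨c, by rw [hc]; exact hw0, ?_⟩
    rw [hc]
    have hfibeq : {Q : Place k K | SameImage φ P Q} = {P} := by
      ext Q
      simp only [Set.mem_ofPred_eq, Set.mem_singleton_iff]
      constructor
      · intro hQ
        by_contra hQP
        obtain ⟨w', hw'W, hw'P, hw'Q⟩ := hsep Q
        apply hw'Q
        rw [val_lt_iff_mem_L_sub_single hw'P]
        have h1 : (D - Finsupp.single P 1 : Divisor k K) Q = D Q := by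
          rw [Finsupp.sub_apply, Finsupp.single_apply, if_neg (Ne.symm hQP), sub_zero]
        rw [h1, ← sameImage_vanish_iff hK φ hφ0 hQ hw'W]
        have h2 := hw'P P
        rw [Finsupp.sub_apply, Finsupp.single_eq_same] at h2
        exact lt_of_le_of_lt h2 (by rw [exp_lt_exp]; omega)
      · rintro rfl
        exact hPfib
    rw [hfibeq, finsum_mem_singleton]
    have h1 : ¬ P.1 w < exp ((D - Finsupp.single P 1 : Divisor k K) P) :=
      fun hlt => hwPP ((val_lt_iff_mem_L_sub_single hwP).mpr hlt)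
    have h2 : P.1 w = exp ((D - Finsupp.single P 1 : Divisor k K) P) :=
      le_antisymm (hwP P) (not_lt.mp h1)
    rw [Finsupp.sub_apply, Finsupp.single_eq_same, Place.val_eq_exp_neg_ord P hw0, exp_inj] at h2
    omega
  · rintro ⟨c, hc0, hsum⟩
    set w := ∑ i, c i • φ i with hw
    have hwW : w ∈ W := Submodule.sum_mem _ fun i _ =>
      Submodule.smul_mem _ _ (Submodule.subset_span ⟨i, rfl⟩)
    rw [finsum_mem_eq_finite_toFinset_sum _ hfib] at hsum
    have hPmem : P ∈ hfib.toFinset := hfib.mem_toFinset.mpr hPfib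
    -- the multiplicity at `P` is positive
    have hPpos : 1 ≤ D P + P.ord w := by
      by_contra hlt
      have hall : ∀ Q ∈ hfib.toFinset, D Q + Q.ord w = 0 := by
        intro Q hQ
        have hQ' : SameImage φ P Q := hfib.mem_toFinset.mp hQ
        have h1 := sameImage_vanish_iff hK φ hφ0 hQ' hwW
        rw [hmult P w hc0, hmult Q w hc0] at h1
        have := hmult0 Q w hwW hc0
        by_contra hne
        exact hlt (h1.mpr (by omega))
      rw [Finset.sum_eq_zero hall] at hsum
      exact zero_ne_one hsum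
    have hall : ∀ Q ∈ hfib.toFinset, 1 ≤ D Q + Q.ord w := by
      intro Q hQ
      have hQ' : SameImage φ P Q := hfib.mem_toFinset.mp hQ
      have h1 := sameImage_vanish_iff hK φ hφ0 hQ' hwW
      rw [hmult P w hc0, hmult Q w hc0] at h1
      exact h1.mp hPpos
    -- hence the fibre is `{P}` and the multiplicity is one
    have hcard : hfib.toFinset = {P} := by
      by_contra hne
      obtain ⟨Q, hQ, hQP⟩ : ∃ Q ∈ hfib.toFinset, Q ≠ P := by
        by_contra hcon
        push Not at hcon
        apply hne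
        ext Q
        rw [Finset.mem_singleton]
        exact ⟨hcon Q, fun h => h ▸ hPmem⟩
      have h1 : (D P + P.ord w) + (D Q + Q.ord w) ≤
          ∑ R ∈ hfib.toFinset, (D R + R.ord w) := by
        have hsub : ({P, Q} : Finset (Place k K)) ⊆ hfib.toFinset := by
          intro R hR
          rw [Finset.mem_insert, Finset.mem_singleton] at hR
          rcases hR with rfl | rfl
          · exact hPmem
          · exact hQ
        have := Finset.sum_le_sum_of_subset_of_nonneg hsub
          (f := fun R : Place k K => D R + R.ord w)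
          (fun R hR _ => (hall R hR).trans' (by norm_num))
        rwa [Finset.sum_pair (Ne.symm hQP)] at this
      have hQ1 := hall Q hQ
      have hP1 := hall P hPmem
      have h2 : (D P + P.ord w) + (D Q + Q.ord w) ≤ 1 := h1.trans hsum.le
      linarith
    rw [hcard, Finset.sum_singleton] at hsum
    intro Q
    by_cases hQP : Q = P
    · subst hQP
      refine ⟨w, hwW, ?_, ?_⟩
      · rw [val_lt_iff_mem_L_sub_single (hmd.le hwW), hmult Q w hc0]
        omega
      · intro hmem
        have h1 := hmem Q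
        rw [Finsupp.sub_apply, Finsupp.sub_apply, Finsupp.single_eq_same,
          Place.val_eq_exp_neg_ord Q hc0, exp_le_exp] at h1
        have h3 : D Q + Q.ord w = 1 := hsum
        have h4 : -(Q.ord w) ≤ D Q - 1 - 1 := h1
        linarith
    · by_contra hcon
      push Not at hcon
      have hsame := sameImage_of_not_sep hK hdeg1 φ hφ0 hQP hcon
      have : Q ∈ hfib.toFinset := hfib.mem_toFinset.mpr hsame
      rw [hcard, Finset.mem_singleton] at this
      exact hQP this

end Groth.Agent.H55
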