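import Groth.Agent.H55.FFRR

set_option autoImplicit false

namespace Groth.Agent.H55

open FunFld WithZero Module IntermediateField

variable {k K : Type*} [Field k] [Field K] [Algebra k K]

theorem mem_L_iff_ord {D : Divisor k K} {x : K} (hx : x ≠ 0) :
    x ∈ L D ↔ ∀ P : Place k K, -D P ≤ P.ord x := by
  rw [mem_L]
  refine forall_congr' fun P => ?_
  rw [Place.le_ord_iff P hx, neg_neg]

namespace Divisor

/-- the degree as an additive homomorphism -/
noncomputable def degHom : Divisor k K →+ ℤ where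
  toFun := FunFld.Divisor.deg
  map_zero' := deg_zero
  map_add' := deg_add

theorem degHom_apply (D : Divisor k K) : degHom D = D.deg := rfl

theorem deg_nsmul (n : ℕ) (D : Divisor k K) : (n • D).deg = n * D.deg := by
  rw [← degHom_apply, map_nsmul, degHom_apply]; simp

theorem deg_sum {ι : Type*} (s : Finset ι) (f : ι → Divisor k K) :
    (∑ i ∈ s, f i).deg = ∑ i ∈ s, (f i).deg := by
  rw [← degHom_apply, map_sum]; rfl

theorem deg_nonneg {D : Divisor k K} (h : 0 ≤ D) : 0 ≤ D.deg := by
  have := deg_mono h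
  rwa [deg_zero] at this

end Divisor

variable (k) in
/-- divisor of zeros -/
noncomputable def zeroDiv (x : K) : Divisor k K := div k x ⊔ 0

variable (k) in
/-- divisor of poles -/
noncomputable def poleDiv (x : K) : Divisor k K := (-div k x) ⊔ 0

theorem zeroDiv_apply (hK : IsFunctionField k K) (x : K) (P : Place k K) :
    zeroDiv k x P = max (P.ord x) 0 := by
  unfold zeroDiv
  rw [Finsupp.sup_apply, Place.div_apply hK]
  rfl

theorem poleDiv_apply (hK : IsFunctionField k K) (x : K) (P : Place k K) :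
    poleDiv k x P = max (-P.ord x) 0 := by
  unfold poleDiv
  rw [Finsupp.sup_apply, Finsupp.neg_apply, Place.div_apply hK]
  rfl

theorem zeroDiv_nonneg (x : K) : 0 ≤ zeroDiv k x := le_sup_right
theorem poleDiv_nonneg (x : K) : 0 ≤ poleDiv k x := le_sup_right

theorem div_eq_sub (x : K) : div k x = zeroDiv k x - poleDiv k x := by
  ext P
  unfold zeroDiv poleDiv
  rw [Finsupp.sub_apply, Finsupp.sup_apply, Finsupp.sup_apply, Finsupp.neg_apply,
    Finsupp.zero_apply]
  rcases le_total (div k x P) 0 with h | h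
  · rw [sup_of_le_right h, sup_of_le_left (by omega : (0 : ℤ) ≤ -div k x P)]; omega
  · rw [sup_of_le_left h, sup_of_le_right (by omega : -div k x P ≤ (0 : ℤ))]; omega

theorem deg_sup_zero (D : Divisor k K) :
    (D ⊔ 0).deg = ∑ P ∈ D.support with 0 < D P, D P * (P.deg : ℤ) := by
  classical
  rw [Divisor.deg_eq_sum]
  have hsupp : (D ⊔ 0).support = D.support.filter (fun P => 0 < D P) := by
    ext P
    rw [Finsupp.mem_support_iff, Finset.mem_filter, Finsupp.mem_support_iff, Finsupp.sup_apply,
      Finsupp.zero_apply]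
    rcases le_or_gt (D P) 0 with h | h
    · rw [sup_of_le_right h]; omega
    · rw [sup_of_le_left h.le]; omega
  rw [hsupp]
  apply Finset.sum_congr rfl
  intro P hP
  rw [Finset.mem_filter] at hP
  rw [Finsupp.sup_apply, Finsupp.zero_apply, sup_of_le_left hP.2.le]

theorem linearIndependent_pow_of_transcendental {S : Type*} [CommRing S] [Algebra k S] {y : S}
    (hy : Transcendental k y) : LinearIndependent k (fun i : ℕ => y ^ i) := by
  have h1 : LinearIndependent k (fun i : ℕ => (Polynomial.monomial i (1 : k))) := by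
    have := (Polynomial.basisMonomials k).linearIndependent
    rwa [Polynomial.coe_basisMonomials] at this
  have h2 := h1.map' (Polynomial.aeval y).toLinearMap
    (LinearMap.ker_eq_bot.mpr (transcendental_iff_injective.mp hy))
  have h3 : (fun i : ℕ => y ^ i) =
      (⇑(Polynomial.aeval y).toLinearMap ∘ fun i => (Polynomial.monomial i) (1 : k)) := by
    funext i
    simp
  rw [h3]
  exact h2

theorem ell_le_deg_add_one (hK : IsFunctionField k K) {D : Divisor k K} (h : 0 ≤ D) :
    (ell D : ℤ) ≤ D.deg + 1 := by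
  have := ell_sub_le hK h
  rw [ell_zero hK, Divisor.deg_zero] at this
  push_cast at this
  omega

/-- The degree of the zero divisor of a transcendental element is at most `[K : k(x)]`. -/
theorem deg_zeroDiv_le (hK : IsFunctionField k K) {x : K} (hx0 : x ≠ 0) :
    (zeroDiv k x).deg ≤ finrank k⟮x⟯ K := by
  rw [Divisor.deg_eq_sum]
  have hS : ∀ P ∈ (zeroDiv k x).support, P.1 x < 1 := by
    intro P hP
    rw [Finsupp.mem_support_iff, zeroDiv_apply hK] at hP
    rw [← Place.ord_pos_iff P hx0]
    omega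
  refine le_trans (le_of_eq ?_) (Place.sum_ord_mul_deg_le hK hx0 _ hS)
  apply Finset.sum_congr rfl
  intro P hP
  have := (Place.ord_pos_iff P hx0).mpr (hS P hP)
  rw [zeroDiv_apply hK, max_eq_left this.le]

/-- There is `C ≥ 0` with `ℓ(l (x)_0 + C) ≥ (l+1) [K : k(x)]` for all `l`. -/
theorem exists_big_L (hK : IsFunctionField k K) {x : K} (hx : Transcendental k x) :
    ∃ C : Divisor k K, 0 ≤ C ∧
      ∀ l : ℕ, (l + 1) * finrank k⟮x⟯ K ≤ ell (l • zeroDiv k x + C) := by
  classical
  have hx0 : x ≠ 0 := fun h => hx (h ▸ isAlgebraic_zero)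
  have hfd : FiniteDimensional k⟮x⟯ K := finiteDimensional_adjoin_of_transcendental hK hx
  set n := finrank k⟮x⟯ K with hn
  let u : Basis (Fin n) k⟮x⟯ K := Module.finBasis k⟮x⟯ K
  let C : Divisor k K := ∑ j, poleDiv k (u j)
  let Z : Divisor k K := zeroDiv k x
  let y : k⟮x⟯ := ⟨x⁻¹, inv_mem (mem_adjoin_simple_self k x)⟩
  have hy : Transcendental k y := by
    intro halg
    have h1 : IsAlgebraic k (x⁻¹ : K) :=
      (isAlgebraic_algHom_iff (k⟮x⟯.val) Subtype.val_injective (a := y)).mpr halg
    exact hx (by simpa using h1.inv)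
  have hpow := linearIndependent_pow_of_transcendental hy
  have hli : LinearIndependent k (fun p : ℕ × Fin n => y ^ p.1 • u p.2) :=
    linearIndependent_smul hpow u.linearIndependent
  have hC0 : 0 ≤ C := Finset.sum_nonneg fun j _ => poleDiv_nonneg _
  have hZ0 : 0 ≤ Z := zeroDiv_nonneg x
  have hCj : ∀ j, poleDiv k (u j) ≤ C := fun j =>
    Finset.single_le_sum (f := fun j => poleDiv k (u j)) (fun j _ => poleDiv_nonneg _)
      (Finset.mem_univ j)
  have hmem : ∀ (l i : ℕ) (j : Fin n), i ≤ l → y ^ i • u j ∈ L (l • Z + C) := by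
    intro l i j hil
    have huj : u j ≠ 0 := u.ne_zero j
    have hval : y ^ i • u j = (x⁻¹) ^ i * u j := by
      rw [Algebra.smul_def]; rfl
    rw [hval, mem_L_iff_ord (mul_ne_zero (pow_ne_zero _ (inv_ne_zero hx0)) huj)]
    intro P
    rw [Place.ord_mul P (pow_ne_zero _ (inv_ne_zero hx0)) huj, Place.ord_pow, Place.ord_inv,
      Finsupp.add_apply, Finsupp.smul_apply]
    have h1 : poleDiv k (u j) P ≤ C P := hCj j P
    rw [poleDiv_apply hK] at h1
    have h2 : Z P = max (P.ord x) 0 := zeroDiv_apply hK x P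
    rw [h2, nsmul_eq_mul]
    have h3 : (i : ℤ) * P.ord x ≤ l * max (P.ord x) 0 := by
      have ha : (i : ℤ) * P.ord x ≤ i * max (P.ord x) 0 :=
        mul_le_mul_of_nonneg_left (le_max_left _ _) (by positivity)
      have hb : (i : ℤ) * max (P.ord x) 0 ≤ l * max (P.ord x) 0 :=
        mul_le_mul_of_nonneg_right (by exact_mod_cast hil) (le_max_right _ _)
      exact ha.trans hb
    have h4 : -P.ord (u j) ≤ C P := (le_max_left _ _).trans h1
    linarith
  refine ⟨C, hC0, ?_⟩
  intro l
  have hfin : Module.Finite k (L (l • Z + C)) := L_finite hK _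
  let g : Fin (l + 1) × Fin n → ℕ × Fin n := fun p => (p.1.1, p.2)
  have hg : Function.Injective g := by
    intro p q hpq
    simp only [g, Prod.mk.injEq] at hpq
    exact Prod.ext (Fin.ext hpq.1) hpq.2
  have hli2 := hli.comp g hg
  let w : Fin (l + 1) × Fin n → L (l • Z + C) := fun p =>
    ⟨y ^ p.1.1 • u p.2, hmem l p.1.1 p.2 (Nat.lt_succ_iff.mp p.1.2)⟩
  have hw : LinearIndependent k w := LinearIndependent.of_comp (L (l • Z + C)).subtype hli2
  have hcard := hw.fintype_card_le_finrank
  rw [Fintype.card_prod, Fintype.card_fin, Fintype.card_fin] at hcard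
  exact hcard

/-- The degree of the zero divisor of a transcendental element is `[K : k(x)]`. -/
theorem deg_zeroDiv (hK : IsFunctionField k K) {x : K} (hx : Transcendental k x) :
    (zeroDiv k x).deg = finrank k⟮x⟯ K := by
  have hx0 : x ≠ 0 := fun h => hx (h ▸ isAlgebraic_zero)
  apply le_antisymm (deg_zeroDiv_le hK hx0)
  obtain ⟨C, hC0, hC⟩ := exists_big_L hK hx
  set n := finrank k⟮x⟯ K with hn
  set Z : Divisor k K := zeroDiv k x with hZ
  have hZ0 : 0 ≤ Z := zeroDiv_nonneg x
  have hbound : ∀ l : ℕ, ((l : ℤ) + 1) * n ≤ l * Z.deg + C.deg + 1 := by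
    intro l
    have hle : (ell (l • Z + C) : ℤ) ≤ (l • Z + C).deg + 1 :=
      ell_le_deg_add_one hK (add_nonneg (nsmul_nonneg hZ0 l) hC0)
    rw [Divisor.deg_add, Divisor.deg_nsmul] at hle
    have : (((l + 1) * n : ℕ) : ℤ) ≤ ell (l • Z + C) := by exact_mod_cast hC l
    push_cast at this
    linarith
  by_contra hlt
  push Not at hlt
  have hZdeg : 0 ≤ Z.deg := Divisor.deg_nonneg hZ0
  have hb := hbound (C.deg + 1).toNat
  have hl : C.deg + 1 ≤ ((C.deg + 1).toNat : ℤ) := Int.self_le_toNat _
  have hZ' : Z.deg ≤ (n : ℤ) - 1 := by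
    have : Z.deg < (n : ℤ) := hlt
    omega
  nlinarith

/-- The degree of the pole divisor of a transcendental element is `[K : k(x)]`. -/
theorem poleDiv_eq_zeroDiv_inv (hK : IsFunctionField k K) (x : K) :
    poleDiv k x = zeroDiv k x⁻¹ := by
  ext P
  rw [poleDiv_apply hK, zeroDiv_apply hK, Place.ord_inv]

theorem adjoin_inv_eq (x : K) : k⟮x⁻¹⟯ = k⟮x⟯ := by
  apply le_antisymm
  · rw [adjoin_simple_le_iff]
    exact inv_mem (mem_adjoin_simple_self k x)
  · rw [adjoin_simple_le_iff]
    have := inv_mem (mem_adjoin_simple_self k x⁻¹)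
    rwa [inv_inv] at this

theorem deg_poleDiv (hK : IsFunctionField k K) {x : K} (hx : Transcendental k x) :
    (poleDiv k x).deg = finrank k⟮x⟯ K := by
  have hinv : Transcendental k x⁻¹ := fun h => hx (by simpa using h.inv)
  rw [poleDiv_eq_zeroDiv_inv hK, deg_zeroDiv hK hinv]
  exact congrArg (fun F : IntermediateField k K => (finrank F K : ℤ)) (adjoin_inv_eq x)

theorem div_algebraMap (hK : IsFunctionField k K) (c : k) : div k (algebraMap k K c) = 0 := by
  ext P
  rw [Place.div_apply hK, Place.ord_algebraMap, Finsupp.zero_apply]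

/-- principal divisors have degree zero -/
theorem deg_div (hK : IsFunctionField k K) (x : K) : (div k x).deg = 0 := by
  by_cases hx : x ∈ Set.range (algebraMap k K)
  · obtain ⟨c, rfl⟩ := hx
    rw [div_algebraMap hK, Divisor.deg_zero]
  · have htr := transcendental_of_notMem_range hK hx
    rw [div_eq_sub, Divisor.deg_sub, deg_zeroDiv hK htr, deg_poleDiv hK htr, sub_self]

end Groth.Agent.H55
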