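import Groth.Agent.H55.FFGaps

set_option autoImplicit false

namespace Groth.Agent.H55

open FunFld WithZero Module IntermediateField Polynomial

variable {k K : Type*} [Field k] [Field K] [Algebra k K]

/-- `u` has a pole of exact order `j` at `P` and no other pole -/
def PoleAt (P : Place k K) (u : K) (j : ℤ) : Prop :=
  u ≠ 0 ∧ P.ord u = -j ∧ ∀ Q : Place k K, Q ≠ P → 0 ≤ Q.ord u

theorem PoleAt.mul {P : Place k K} {u v : K} {i j : ℤ} (hu : PoleAt P u i) (hv : PoleAt P v j) :
    PoleAt P (u * v) (i + j) := by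
  obtain ⟨hu0, huP, huQ⟩ := hu
  obtain ⟨hv0, hvP, hvQ⟩ := hv
  refine ⟨mul_ne_zero hu0 hv0, ?_, fun Q hQ => ?_⟩
  · rw [Place.ord_mul P hu0 hv0, huP, hvP]; ring
  · rw [Place.ord_mul Q hu0 hv0]
    have := huQ Q hQ
    have := hvQ Q hQ
    omega

theorem PoleAt.mem {P : Place k K} {u : K} {j m : ℤ} (hu : PoleAt P u j) (h : j ≤ m) :
    u ∈ L (Finsupp.single P m : Divisor k K) := by
  classical
  obtain ⟨hu0, huP, huQ⟩ := hu
  rw [mem_L_iff_ord hu0]
  intro Q
  by_cases hQ : Q = P
  · subst hQ; rw [Finsupp.single_eq_same]; omega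
  · rw [Finsupp.single_apply, if_neg (Ne.symm hQ)]
    have := huQ Q hQ
    omega

theorem PoleAt.notMem {P : Place k K} {u : K} {j m : ℤ} (hu : PoleAt P u j) (h : m < j) :
    u ∉ L (Finsupp.single P m : Divisor k K) := by
  classical
  obtain ⟨hu0, huP, huQ⟩ := hu
  rw [mem_L_iff_ord hu0]
  intro hmem
  have := hmem P
  rw [Finsupp.single_eq_same] at this
  omega

theorem PoleAt.poleDiv (hK : IsFunctionField k K) {P : Place k K} {u : K} {j : ℤ}
    (hu : PoleAt P u j) (hj : 0 ≤ j) : poleDiv k u = Finsupp.single P j := by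
  classical
  obtain ⟨hu0, huP, huQ⟩ := hu
  ext Q
  rw [poleDiv_apply hK]
  by_cases hQ : Q = P
  · subst hQ
    rw [Finsupp.single_eq_same, huP, neg_neg, max_eq_left hj]
  · rw [Finsupp.single_apply, if_neg (Ne.symm hQ)]
    have := huQ Q hQ
    rw [max_eq_right (by omega)]

theorem PoleAt.transcendental (hK : IsFunctionField k K) {P : Place k K} {u : K} {j : ℤ}
    (hu : PoleAt P u j) (hj : 0 < j) : Transcendental k u := by
  apply transcendental_of_notMem_range hK
  rintro ⟨c, rfl⟩
  have := hu.2.1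
  rw [Place.ord_algebraMap] at this
  omega

theorem PoleAt.finrank (hK : IsFunctionField k K) {P : Place k K} (hP : P.deg = 1) {u : K}
    {j : ℕ} (hu : PoleAt P u (j : ℤ)) (hj : 0 < j) : finrank k⟮u⟯ K = j := by
  have htr := hu.transcendental hK (by exact_mod_cast hj)
  have h1 := deg_poleDiv hK htr
  rw [hu.poleDiv hK (by positivity), deg_single_of_deg_one hP] at h1
  exact_mod_cast h1.symm

theorem exists_poleAt_of_ell_ne (P : Place k K) (m : ℤ)
    (h : ell (Finsupp.single P m : Divisor k K) ≠ ell (Finsupp.single P (m - 1) : Divisor k K)) :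
    ∃ u : K, PoleAt P u m := by
  have hne : L (Finsupp.single P m : Divisor k K) ≠ L (Finsupp.single P (m - 1)) := by
    intro heq
    apply h
    unfold ell
    rw [heq]
  exact (not_gap_iff P m).mp hne

/-- reduction step along the filtration `L(mP)` -/
theorem exists_sub_smul_mem (hK : IsFunctionField k K) {P : Place k K} (hP : P.deg = 1) (m : ℤ)
    {v u : K} (hv : v ∈ L (Finsupp.single P m : Divisor k K))
    (hv' : v ∉ L (Finsupp.single P (m - 1) : Divisor k K))
    (hu : u ∈ L (Finsupp.single P m : Divisor k K)) :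
    ∃ c : k, u - c • v ∈ L (Finsupp.single P (m - 1) : Divisor k K) := by
  have hle : (Finsupp.single P (m - 1) : Divisor k K) ≤ Finsupp.single P m :=
    single_le_single P (by omega)
  obtain ⟨hfin, hrank⟩ := L_quot hK hle
  rw [deg_single_of_deg_one hP, deg_single_of_deg_one hP] at hrank
  have hvbar : (Submodule.Quotient.mk ⟨v, hv⟩ :
      RelQ (L (Finsupp.single P (m - 1) : Divisor k K)) (L (Finsupp.single P m))) ≠ 0 := by
    rw [Ne, Submodule.Quotient.mk_eq_zero, Submodule.mem_comap]
    exact hv'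
  have hrank1 : finrank k (RelQ (L (Finsupp.single P (m - 1) : Divisor k K))
      (L (Finsupp.single P m))) = 1 := by
    have h1 : finrank k (RelQ (L (Finsupp.single P (m - 1) : Divisor k K))
      (L (Finsupp.single P m))) ≤ 1 := by
      have : (finrank k (RelQ (L (Finsupp.single P (m - 1) : Divisor k K))
        (L (Finsupp.single P m))) : ℤ) ≤ 1 := by linarith
      exact_mod_cast this
    have h2 : finrank k (RelQ (L (Finsupp.single P (m - 1) : Divisor k K))
      (L (Finsupp.single P m))) ≠ 0 := by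
      intro h0
      have : Subsingleton (RelQ (L (Finsupp.single P (m - 1) : Divisor k K))
        (L (Finsupp.single P m))) := Module.finrank_zero_iff.mp h0
      exact hvbar (Subsingleton.elim _ _)
    omega
  obtain ⟨c, hc⟩ := exists_smul_eq_of_finrank_eq_one hrank1 hvbar
    (Submodule.Quotient.mk ⟨u, hu⟩)
  refine ⟨c, ?_⟩
  have h3 : (Submodule.Quotient.mk (⟨u, hu⟩ - c • ⟨v, hv⟩) :
      RelQ (L (Finsupp.single P (m - 1) : Divisor k K)) (L (Finsupp.single P m))) = 0 := by
    rw [Submodule.Quotient.mk_sub, Submodule.Quotient.mk_smul, hc, sub_self]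
  rw [Submodule.Quotient.mk_eq_zero, Submodule.mem_comap] at h3
  exact h3

/-- S10998: Weierstrass form of a genus-one function field with a rational place. -/
theorem weierstrass (hK : IsFunctionField k K) (hg : genus k K = 1) (P₀ : Place k K)
    (hP : P₀.deg = 1) :
    ∃ x y : K, x ∈ L (Finsupp.single P₀ 2 : Divisor k K) ∧
      y ∈ L (Finsupp.single P₀ 3 : Divisor k K) ∧
      P₀.ord x = -2 ∧ P₀.ord y = -3 ∧
      IntermediateField.adjoin k ({x, y} : Set K) = ⊤ ∧
      ∃ f g : Polynomial k, f.natDegree ≤ 1 ∧ g.natDegree = 3 ∧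
        y ^ 2 + Polynomial.aeval x f * y + Polynomial.aeval x g = 0 := by
  classical
  have hell : ∀ n : ℤ, 1 ≤ n → (ell (Finsupp.single P₀ n : Divisor k K) : ℤ) = n := by
    intro n hn
    have := ell_of_deg_ge hK (Finsupp.single P₀ n : Divisor k K)
      (by rw [deg_single_of_deg_one hP, hg]; push_cast; omega)
    rw [deg_single_of_deg_one hP, hg] at this
    rw [this]; push_cast; ring
  obtain ⟨x, hx⟩ := exists_poleAt_of_ell_ne P₀ 2 (by
    intro h
    have h1 := hell 2 (by omega)
    have h2 := hell (2 - 1) (by omega)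
    rw [h] at h1
    omega)
  obtain ⟨y, hy⟩ := exists_poleAt_of_ell_ne P₀ 3 (by
    intro h
    have h1 := hell 3 (by omega)
    have h2 := hell (3 - 1) (by omega)
    rw [h] at h1
    omega)
  have hx2 : PoleAt P₀ (x ^ 2) 4 := by
    have := hx.mul hx
    rw [← pow_two] at this
    exact this
  have hxy : PoleAt P₀ (x * y) 5 := hx.mul hy
  have hx3 : PoleAt P₀ (x ^ 3) 6 := by
    have := hx2.mul hx
    rw [← pow_succ] at this
    exact this
  have hy2 : PoleAt P₀ (y ^ 2) 6 := by
    have := hy.mul hy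
    rw [← pow_two] at this
    exact this
  refine ⟨x, y, hx.mem le_rfl, hy.mem le_rfl, hx.2.1, hy.2.1, ?_, ?_⟩
  · -- `K = k(x, y)`
    have hfx : finrank k⟮x⟯ K = 2 := PoleAt.finrank hK hP (j := 2) hx (by norm_num)
    have hfy : finrank k⟮y⟯ K = 3 := PoleAt.finrank hK hP (j := 3) hy (by norm_num)
    have hlex : k⟮x⟯ ≤ IntermediateField.adjoin k ({x, y} : Set K) :=
      IntermediateField.adjoin.mono k _ _ (by simp)
    have hley : k⟮y⟯ ≤ IntermediateField.adjoin k ({x, y} : Set K) :=
      IntermediateField.adjoin.mono k _ _ (by simp)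
    have h1 := IntermediateField.finrank_dvd_of_le_left hlex
    have h2 := IntermediateField.finrank_dvd_of_le_left hley
    rw [hfx] at h1
    rw [hfy] at h2
    apply eq_top_of_finrank_eq_one
    have h3 : finrank (IntermediateField.adjoin k ({x, y} : Set K)) K ∣ Nat.gcd 2 3 :=
      Nat.dvd_gcd h1 h2
    exact Nat.eq_one_of_dvd_one (by simpa using h3)
  · obtain ⟨c₆, h6⟩ := exists_sub_smul_mem hK hP 6 (hx3.mem le_rfl) (hx3.notMem (by norm_num))
      (hy2.mem le_rfl)
    have hc₆ : c₆ ≠ 0 := by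
      rintro rfl
      rw [zero_smul, sub_zero] at h6
      exact hy2.notMem (by norm_num) h6
    norm_num at h6
    obtain ⟨c₅, h5⟩ := exists_sub_smul_mem hK hP 5 (hxy.mem le_rfl) (hxy.notMem (by norm_num)) h6
    norm_num at h5
    obtain ⟨c₄, h4⟩ := exists_sub_smul_mem hK hP 4 (hx2.mem le_rfl) (hx2.notMem (by norm_num)) h5
    norm_num at h4
    obtain ⟨c₃, h3⟩ := exists_sub_smul_mem hK hP 3 (hy.mem le_rfl) (hy.notMem (by norm_num)) h4
    norm_num at h3
    obtain ⟨c₂, h2⟩ := exists_sub_smul_mem hK hP 2 (hx.mem le_rfl) (hx.notMem (by norm_num)) h3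
    norm_num at h2
    -- `L(P₀) = k`
    have hL1 : L (Finsupp.single P₀ 1 : Divisor k K) = L (0 : Divisor k K) := by
      have h0 : (0 : Divisor k K) ≤ Finsupp.single P₀ 1 := by
        have := single_le_single P₀ (by norm_num : (0 : ℤ) ≤ 1)
        rwa [Finsupp.single_zero] at this
      have hfin := L_finite hK (Finsupp.single P₀ 1 : Divisor k K)
      symm
      apply Submodule.eq_of_le_of_finrank_eq (L_mono h0)
      have h1 := ell_single_one hK (by omega) hP
      have h2 := ell_zero hK (k := k) (K := K)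
      unfold ell at h1 h2
      rw [h1, h2]
    rw [hL1, L_zero hK, Submodule.mem_one] at h2
    obtain ⟨c₀, hc₀⟩ := h2
    refine ⟨-(C c₅ * X + C c₃), -(C c₆ * X ^ 3 + C c₄ * X ^ 2 + C c₂ * X + C c₀), ?_, ?_, ?_⟩
    · rw [natDegree_neg]
      exact natDegree_linear_le
    · rw [natDegree_neg]
      exact natDegree_cubic hc₆
    · simp only [map_neg, map_add, map_mul, map_pow, aeval_C, aeval_X]
      simp only [Algebra.smul_def] at hc₀
      rw [← sub_eq_zero] at hc₀
      linear_combination (-1 : K) * hc₀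

end Groth.Agent.H55
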