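import Groth.Agent.H55.FFProj

set_option autoImplicit false

namespace Groth.Agent.H55

open FunFld WithZero Module IntermediateField

variable {k K : Type*} [Field k] [Field K] [Algebra k K]

/-- an element of `L(D)` outside `L(D - Q)` has order exactly `-D(Q)` at `Q` -/
theorem ord_eq_of_mem_of_notMem {D : Divisor k K} {Q : Place k K} {x : K} (hx : x ∈ L D)
    (hx' : x ∉ L (D - Finsupp.single Q 1)) : x ≠ 0 ∧ Q.ord x = -D Q := by
  classical
  have hx0 : x ≠ 0 := by
    rintro rfl
    exact hx' (Submodule.zero_mem _)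
  refine ⟨hx0, ?_⟩
  have h1 := (mem_L_iff_ord hx0).mp hx
  have h2 : ¬ ∀ Q' : Place k K, -(D - Finsupp.single Q 1 : Divisor k K) Q' ≤ Q'.ord x :=
    fun h => hx' ((mem_L_iff_ord hx0).mpr h)
  push Not at h2
  obtain ⟨Q', hQ'⟩ := h2
  have hQQ : Q' = Q := by
    by_contra hne
    have := h1 Q'
    rw [Finsupp.sub_apply, Finsupp.single_apply, if_neg (Ne.symm hne)] at hQ'
    omega
  subst hQQ
  have := h1 Q'
  rw [Finsupp.sub_apply, Finsupp.single_eq_same] at hQ'
  omega

theorem exists_mem_notMem_of_ell_lt (hK : IsFunctionField k K) {D₁ D₂ : Divisor k K}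
    (h : ell D₁ < ell D₂) : ∃ x ∈ L D₂, x ∉ L D₁ := by
  by_contra hcon
  push Not at hcon
  have hle : L D₂ ≤ L D₁ := fun x hx => hcon x hx
  have hfin := L_finite hK D₁
  have := Submodule.finrank_mono hle
  unfold ell at h
  omega

/-- a base-point-free element: `t ∈ L(Z)` with `ord_Q t = -Z(Q)` on the support of `Z` -/
theorem exists_bpf_element [Infinite k] (hK : IsFunctionField k K) {Z : Divisor k K}
    (hZ : 0 ≤ Z) (hbpf : ∀ Q : Place k K, ell (Z - Finsupp.single Q 1) < ell Z) :
    ∃ t ∈ L Z, t ≠ 0 ∧ ∀ Q ∈ Z.support, Q.ord t = -Z Q := by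
  classical
  let p : Option Z.support → Submodule k (L Z) := fun o =>
    match o with
    | none => ⊥
    | some Q => (L (Z - Finsupp.single Q.1 1)).comap (L Z).subtype
  have hp : ∀ o, p o ≠ ⊤ := by
    intro o
    cases o with
    | none =>
      show (⊥ : Submodule k (L Z)) ≠ ⊤
      intro h
      have h1 : (1 : K) ∈ L Z := L_mono hZ (by rw [L_zero hK]; exact Submodule.one_le.mp le_rfl)
      have : (⟨1, h1⟩ : L Z) ∈ (⊥ : Submodule k (L Z)) := by rw [h]; trivial
      rw [Submodule.mem_bot] at this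
      exact one_ne_zero (congrArg Subtype.val this)
    | some Q =>
      show (L (Z - Finsupp.single Q.1 1)).comap (L Z).subtype ≠ ⊤
      intro h
      obtain ⟨x, hx, hx'⟩ := exists_mem_notMem_of_ell_lt hK (hbpf Q.1)
      have : (⟨x, hx⟩ : L Z) ∈ (L (Z - Finsupp.single Q.1 1)).comap (L Z).subtype := by
        rw [h]; trivial
      exact hx' this
  obtain ⟨x, hx⟩ := Submodule.exists_forall_notMem_of_forall_ne_top p hp
  refine ⟨x.1, x.2, ?_, fun Q hQ => ?_⟩
  · intro h0
    apply hx none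
    show x ∈ (⊥ : Submodule k (L Z))
    rw [Submodule.mem_bot]
    exact Subtype.ext h0
  · have h1 : x.1 ∉ L (Z - Finsupp.single Q 1) := fun hmem => hx (some ⟨Q, hQ⟩) hmem
    exact (ord_eq_of_mem_of_notMem x.2 h1).2

/-- The base-point-free pencil trick: `L(E + Z) = L(E) + t L(E)`. -/
theorem pencil (hK : IsFunctionField k K) {Z E : Divisor k K} (hZ : 0 ≤ Z) {t : K}
    (htZ : t ∈ L Z) (ht0 : t ≠ 0) (ht : ∀ Q ∈ Z.support, Q.ord t = -Z Q)
    (hE : (ell E : ℤ) = E.deg + 1 - genus k K)
    (hEm : (ell (E - Z) : ℤ) = (E - Z).deg + 1 - genus k K)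
    (hEp : (ell (E + Z) : ℤ) = (E + Z).deg + 1 - genus k K) :
    ∀ y ∈ L (E + Z), ∃ b ∈ L E, y - t * b ∈ L E := by
  have hle1 : E - Z ≤ E := sub_le_self _ hZ
  have hle2 : E ≤ E + Z := le_add_of_nonneg_right hZ
  have hB : L E ≤ (L (E + Z)).comap (LinearMap.mulLeft k t) := by
    intro b hb
    have := mul_mem_L htZ hb
    rwa [add_comm] at this
  have hA : L (E - Z) ≤ (L E).comap (LinearMap.mulLeft k t) := by
    intro b hb
    have := mul_mem_L htZ hb
    rwa [add_sub_cancel] at this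
  have hinj : Function.Injective (relQMap (LinearMap.mulLeft k t) (L (E - Z)) (L E) (L E)
      (L (E + Z)) hB hA) := by
    apply relQMap_injective
    intro b hb htb
    by_cases hb0 : b = 0
    · rw [hb0]; exact Submodule.zero_mem _
    rw [LinearMap.mulLeft_apply, mem_L_iff_ord (mul_ne_zero ht0 hb0)] at htb
    rw [mem_L_iff_ord hb0] at hb ⊢
    intro Q
    rw [Finsupp.sub_apply]
    by_cases hQ : Q ∈ Z.support
    · have := htb Q
      rw [Place.ord_mul Q ht0 hb0, ht Q hQ] at this
      omega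
    · rw [Finsupp.notMem_support_iff] at hQ
      have := hb Q
      omega
  have hfin1 := (L_quot hK hle1).1
  have hfin2 := (L_quot hK hle2).1
  have hrank : finrank k (RelQ (L (E - Z)) (L E)) = finrank k (RelQ (L E) (L (E + Z))) := by
    have h1 := ell_sub hK hle1
    have h2 := ell_sub hK hle2
    rw [Divisor.deg_sub] at hEm
    rw [Divisor.deg_add] at hEp
    have : (finrank k (RelQ (L (E - Z)) (L E)) : ℤ) = finrank k (RelQ (L E) (L (E + Z))) := by
      linarith
    exact_mod_cast this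
  have hsurj := (LinearMap.injective_iff_surjective_of_finrank_eq_finrank hrank).mp hinj
  intro y hy
  obtain ⟨q, hq⟩ := hsurj (Submodule.Quotient.mk ⟨y, hy⟩)
  obtain ⟨b, rfl⟩ := Submodule.Quotient.mk_surjective _ q
  rw [relQMap_mk, Submodule.Quotient.eq, Submodule.mem_comap] at hq
  refine ⟨b.1, b.2, ?_⟩
  have h3 : t * (b : K) - y ∈ L E := hq
  have h4 : y - t * b = -(t * (b : K) - y) := by ring
  rw [h4]
  exact (L E).neg_mem h3

end Groth.Agent.H55
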