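import Groth.Agent.H55.FFEmbed1

set_option autoImplicit false

namespace Groth.Agent.H55

open FunFld WithZero Module IntermediateField

variable {k K : Type*} [Field k] [Field K] [Algebra k K]

theorem Place.ord_prod {ι : Type*} (P : Place k K) (S : Finset ι) (f : ι → K)
    (hf : ∀ i ∈ S, f i ≠ 0) : P.ord (∏ i ∈ S, f i) = ∑ i ∈ S, P.ord (f i) := by
  classical
  induction S using Finset.induction_on with
  | empty => simp [Place.ord_one]
  | insert a S ha ih =>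
    rw [Finset.prod_insert ha, Finset.sum_insert ha,
      Place.ord_mul P (hf a (Finset.mem_insert_self a S))
        (Finset.prod_ne_zero_iff.mpr fun i hi => hf i (Finset.mem_insert_of_mem hi)),
      ih fun i hi => hf i (Finset.mem_insert_of_mem hi)]

/-- the algebra generated by `L(Z)` -/
def RZ (Z : Divisor k K) : Subalgebra k K := Algebra.adjoin k (L Z : Set K)

theorem L_le_RZ (Z : Divisor k K) {x : K} (hx : x ∈ L Z) : x ∈ RZ Z := Algebra.subset_adjoin hx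

theorem nsmul_mono_of_nonneg {Z : Divisor k K} (hZ : 0 ≤ Z) {m m' : ℕ} (h : m ≤ m') :
    m • Z ≤ m' • Z := by
  obtain ⟨d, rfl⟩ := Nat.exists_eq_add_of_le h
  rw [add_smul]
  exact le_add_of_nonneg_right (nsmul_nonneg hZ d)

/-- elements of `RZ` have poles only on the support of `Z` -/
theorem RZ_le_holo (hK : IsFunctionField k K) {Z : Divisor k K} (hZ : 0 ≤ Z) {x : K}
    (hx : x ∈ RZ Z) : ∃ m : ℕ, x ∈ L (m • Z) := by
  unfold RZ at hx
  induction hx using Algebra.adjoin_induction with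
  | mem x hx => exact ⟨1, by rwa [one_smul]⟩
  | algebraMap c =>
    refine ⟨0, ?_⟩
    rw [zero_smul, L_zero hK]
    exact Submodule.mem_one.mpr ⟨c, rfl⟩
  | add x y _ _ hx hy =>
    obtain ⟨m, hm⟩ := hx
    obtain ⟨m', hm'⟩ := hy
    exact ⟨max m m', Submodule.add_mem _
      (L_mono (nsmul_mono_of_nonneg hZ (le_max_left _ _)) hm)
      (L_mono (nsmul_mono_of_nonneg hZ (le_max_right _ _)) hm')⟩
  | mul x y _ _ hx hy =>
    obtain ⟨m, hm⟩ := hx
    obtain ⟨m', hm'⟩ := hy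
    refine ⟨m + m', ?_⟩
    rw [add_smul]
    exact mul_mem_L hm hm'

/-- the valuation ring as a subalgebra -/
def Place.OAlg (P : Place k K) : Subalgebra k K where
  carrier := {x | P.1 x ≤ 1}
  mul_mem' {a b} ha hb := by
    rw [Set.mem_ofPred_eq, map_mul]
    exact mul_le_one' ha hb
  add_mem' {a b} ha hb := (P.1.map_add _ _).trans (max_le ha hb)
  algebraMap_mem' c := P.2.1 c

theorem Place.mem_OAlg (P : Place k K) {x : K} : x ∈ Place.OAlg P ↔ P.1 x ≤ 1 := Iff.rfl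

theorem RZ_le_OAlg {Z : Divisor k K} {P : Place k K} (hZP : Z P = 0) : RZ Z ≤ Place.OAlg P := by
  apply Algebra.adjoin_le
  intro x hx
  have := hx P
  rw [hZP, exp_zero] at this
  exact this

/-- the local ring of `RZ` at `P` -/
def locA (Z : Divisor k K) (P : Place k K) : Subalgebra k K where
  carrier := {z | ∃ u ∈ RZ Z, ∃ w ∈ RZ Z, P.1 w = 1 ∧ z * w = u}
  mul_mem' {a b} ha hb := by
    obtain ⟨u, hu, w, hw, hw1, h⟩ := ha
    obtain ⟨u', hu', w', hw', hw1', h'⟩ := hb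
    refine ⟨u * u', (RZ Z).mul_mem hu hu', w * w', (RZ Z).mul_mem hw hw', ?_, ?_⟩
    · rw [map_mul, hw1, hw1', one_mul]
    · rw [← h, ← h']; ring
  add_mem' {a b} ha hb := by
    obtain ⟨u, hu, w, hw, hw1, h⟩ := ha
    obtain ⟨u', hu', w', hw', hw1', h'⟩ := hb
    refine ⟨u * w' + u' * w, (RZ Z).add_mem ((RZ Z).mul_mem hu hw') ((RZ Z).mul_mem hu' hw),
      w * w', (RZ Z).mul_mem hw hw', ?_, ?_⟩
    · rw [map_mul, hw1, hw1', one_mul]
    · rw [← h, ← h']; ring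
  algebraMap_mem' c :=
    ⟨algebraMap k K c, (RZ Z).algebraMap_mem c, 1, (RZ Z).one_mem, map_one _, mul_one _⟩

theorem mem_locA {Z : Divisor k K} {P : Place k K} {z : K} :
    z ∈ locA Z P ↔ ∃ u ∈ RZ Z, ∃ w ∈ RZ Z, P.1 w = 1 ∧ z * w = u := Iff.rfl

theorem RZ_le_locA (Z : Divisor k K) (P : Place k K) : RZ Z ≤ locA Z P :=
  fun x hx => ⟨x, hx, 1, (RZ Z).one_mem, map_one _, mul_one _⟩

theorem locA_le_OAlg {Z : Divisor k K} {P : Place k K} (hZP : Z P = 0) :
    locA Z P ≤ Place.OAlg P := by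
  rintro z ⟨u, hu, w, hw, hw1, h⟩
  have hu1 : P.1 u ≤ 1 := RZ_le_OAlg hZP hu
  rw [Place.mem_OAlg]
  have : P.1 z = P.1 u := by rw [← h, map_mul, hw1, mul_one]
  rw [this]; exact hu1

theorem inv_mem_locA {Z : Divisor k K} {P : Place k K} {a : K} (ha : a ∈ locA Z P)
    (ha1 : P.1 a = 1) : a⁻¹ ∈ locA Z P := by
  obtain ⟨u, hu, w, hw, hw1, h⟩ := ha
  have ha0 : a ≠ 0 := by
    rintro rfl
    rw [map_zero] at ha1
    exact zero_ne_one ha1
  refine ⟨w, hw, u, hu, ?_, ?_⟩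
  · rw [← h, map_mul, ha1, hw1, one_mul]
  · rw [← h, ← mul_assoc, inv_mul_cancel₀ ha0, one_mul]

/-- clearing the poles of `z` outside the support of `Z` -/
theorem clear_poles (hK : IsFunctionField k K) {Z : Divisor k K} (hZ : 0 ≤ Z) {P : Place k K}
    (hsep : ∀ Q : Place k K, Q ≠ P → Z Q = 0 → ∃ s ∈ L Z, s ≠ 0 ∧ 0 < Q.ord s ∧ P.ord s = 0)
    {z : K} (hz : P.1 z ≤ 1) :
    ∃ s ∈ RZ Z, P.1 s = 1 ∧ ∃ m : ℕ, s * z ∈ L (m • Z) := by
  classical
  by_cases hz0 : z = 0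
  · refine ⟨1, (RZ Z).one_mem, map_one _, 0, ?_⟩
    rw [hz0, mul_zero]
    exact Submodule.zero_mem _
  have hzP : 0 ≤ P.ord z := (Place.ord_nonneg_iff P hz0).mpr hz
  set S : Finset (Place k K) :=
    (Place.finite_poles hK hz0).toFinset.filter (fun Q => Z Q = 0) with hS
  have hSmem : ∀ Q, Q ∈ S ↔ Q.ord z < 0 ∧ Z Q = 0 := by
    intro Q
    rw [hS, Finset.mem_filter, Set.Finite.mem_toFinset, Set.mem_ofPred_eq,
      Place.ord_neg_iff Q hz0]
  have hSP : ∀ Q ∈ S, Q ≠ P := by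
    intro Q hQ hQP
    rw [hSmem] at hQ
    rw [hQP] at hQ
    omega
  let s : Place k K → K := fun Q =>
    if h : Q ≠ P ∧ Z Q = 0 then (hsep Q h.1 h.2).choose else 1
  have hs : ∀ Q ∈ S, s Q ∈ L Z ∧ s Q ≠ 0 ∧ 0 < Q.ord (s Q) ∧ P.ord (s Q) = 0 := by
    intro Q hQ
    have h : Q ≠ P ∧ Z Q = 0 := ⟨hSP Q hQ, ((hSmem Q).mp hQ).2⟩
    have := (hsep Q h.1 h.2).choose_spec
    simp only [s, dif_pos h]
    exact this
  set e : Place k K → ℕ := fun Q => (-Q.ord z).toNat with he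
  set sTot : K := ∏ Q ∈ S, s Q ^ e Q with hsTot
  have hpow0 : ∀ Q ∈ S, s Q ^ e Q ≠ 0 := fun Q hQ => pow_ne_zero _ (hs Q hQ).2.1
  have hsTot0 : sTot ≠ 0 := Finset.prod_ne_zero_iff.mpr hpow0
  have hord : ∀ Q' : Place k K, Q'.ord sTot = ∑ Q ∈ S, (e Q : ℤ) * Q'.ord (s Q) := by
    intro Q'
    rw [hsTot, Place.ord_prod Q' S _ hpow0]
    apply Finset.sum_congr rfl
    intro Q _
    rw [Place.ord_pow]
  have hsL : ∀ Q ∈ S, ∀ Q' : Place k K, -Z Q' ≤ Q'.ord (s Q) := fun Q hQ Q' =>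
    (mem_L_iff_ord (hs Q hQ).2.1).mp (hs Q hQ).1 Q'
  refine ⟨sTot, ?_, ?_, ?_⟩
  · exact Subalgebra.prod_mem _ fun Q hQ => Subalgebra.pow_mem _ (L_le_RZ Z (hs Q hQ).1) _
  · have h0 : P.ord sTot = 0 := by
      rw [hord]
      apply Finset.sum_eq_zero
      intro Q hQ
      rw [(hs Q hQ).2.2.2, mul_zero]
    rw [Place.val_eq_exp_neg_ord P hsTot0, h0, neg_zero, exp_zero]
  · set M : ℕ := ∑ Q ∈ S, e Q with hM
    set M' : ℕ := ∑ Q ∈ Z.support, e Q with hM'
    refine ⟨M + M', ?_⟩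
    rw [mem_L_iff_ord (mul_ne_zero hsTot0 hz0)]
    intro Q'
    rw [Place.ord_mul Q' hsTot0 hz0, Finsupp.smul_apply, nsmul_eq_mul, hord]
    by_cases hZQ : Z Q' = 0
    · rw [hZQ, mul_zero, neg_zero]
      have hterm : ∀ Q ∈ S, (0 : ℤ) ≤ (e Q : ℤ) * Q'.ord (s Q) := by
        intro Q hQ
        have := hsL Q hQ Q'
        rw [hZQ, neg_zero] at this
        positivity
      by_cases hpole : Q'.ord z < 0
      · have hQ'S : Q' ∈ S := (hSmem Q').mpr ⟨hpole, hZQ⟩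
        have h1 : (e Q' : ℤ) * Q'.ord (s Q') ≤ ∑ Q ∈ S, (e Q : ℤ) * Q'.ord (s Q) :=
          Finset.single_le_sum hterm hQ'S
        have h2 : (e Q' : ℤ) = -Q'.ord z := by
          rw [he]; exact Int.toNat_of_nonneg (by omega)
        have h3 := (hs Q' hQ'S).2.2.1
        nlinarith
      · have := Finset.sum_nonneg hterm
        omega
    · have hZQ1 : 1 ≤ Z Q' := by
        have := hZ Q'
        rw [Finsupp.zero_apply] at this
        omega
      have h1 : -((M : ℤ) * Z Q') ≤ ∑ Q ∈ S, (e Q : ℤ) * Q'.ord (s Q) := by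
        have : -((M : ℤ) * Z Q') = ∑ Q ∈ S, (e Q : ℤ) * (-Z Q') := by
          rw [hM, Nat.cast_sum, Finset.sum_mul, ← Finset.sum_neg_distrib]
          apply Finset.sum_congr rfl
          intro Q _
          ring
        rw [this]
        apply Finset.sum_le_sum
        intro Q hQ
        exact mul_le_mul_of_nonneg_left (hsL Q hQ Q') (by positivity)
      have h2 : -(M' : ℤ) ≤ Q'.ord z := by
        have hQ'supp : Q' ∈ Z.support := Finsupp.mem_support_iff.mpr hZQ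
        have : e Q' ≤ M' := Finset.single_le_sum (f := e) (fun _ _ => Nat.zero_le _) hQ'supp
        have h3 : -Q'.ord z ≤ (e Q' : ℤ) := Int.self_le_toNat _
        have : (e Q' : ℤ) ≤ M' := by exact_mod_cast this
        omega
      have h3 : (M' : ℤ) ≤ M' * Z Q' := by
        have : (0 : ℤ) ≤ M' := by positivity
        nlinarith
      push_cast
      nlinarith

end Groth.Agent.H55
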