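import Groth.Agent.H55.FFEmbed2

set_option autoImplicit false

namespace Groth.Agent.H55

open FunFld WithZero Module IntermediateField

variable {k K : Type*} [Field k] [Field K] [Algebra k K]

theorem L_multiple_le_span (hK : IsFunctionField k K) {Z : Divisor k K}
    (hZ : 0 ≤ Z) {t : K} (htZ : t ∈ L Z) (ht0 : t ≠ 0) (ht : ∀ Q ∈ Z.support, Q.ord t = -Z Q)
    (m₀ : ℕ)
    (hdeg : ∀ m : ℕ, m₀ ≤ m → 2 * (genus k K : ℤ) - 1 ≤ ((m : ℤ) - 1) * Z.deg)
    (A : Subalgebra k K) (hA : ∀ x ∈ L Z, x ∈ A) :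
    ∀ m : ℕ, ∀ x ∈ L (m • Z), x ∈ Submodule.span A (L (m₀ • Z) : Set K) := by
  have hZdeg : 0 ≤ Z.deg := Divisor.deg_nonneg hZ
  intro m
  induction m with
  | zero =>
    intro x hx
    exact Submodule.subset_span (L_mono (nsmul_mono_of_nonneg hZ (Nat.zero_le _)) hx)
  | succ m ih =>
    intro x hx
    by_cases hm : m + 1 ≤ m₀
    · exact Submodule.subset_span (L_mono (nsmul_mono_of_nonneg hZ hm) hx)
    · have hm' : m₀ ≤ m := by omega
      have hd := hdeg m hm'
      have hE : (ell (m • Z) : ℤ) = (m • Z).deg + 1 - genus k K := by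
        apply ell_of_deg_ge hK
        rw [Divisor.deg_nsmul]
        nlinarith
      have hEm : (ell (m • Z - Z) : ℤ) = (m • Z - Z).deg + 1 - genus k K := by
        apply ell_of_deg_ge hK
        rw [Divisor.deg_sub, Divisor.deg_nsmul]
        nlinarith
      have hEp : (ell (m • Z + Z) : ℤ) = (m • Z + Z).deg + 1 - genus k K := by
        apply ell_of_deg_ge hK
        rw [Divisor.deg_add, Divisor.deg_nsmul]
        nlinarith
      rw [succ_nsmul] at hx
      obtain ⟨b, hb, hxb⟩ := pencil hK hZ htZ ht0 ht hE hEm hEp x hx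
      have h1 := ih b hb
      have h2 := ih _ hxb
      have h3 : t * b ∈ Submodule.span A (L (m₀ • Z) : Set K) := by
        have := Submodule.smul_mem _ (⟨t, hA t htZ⟩ : A) h1
        exact this
      have h4 : x = (x - t * b) + t * b := by ring
      rw [h4]
      exact Submodule.add_mem _ h2 h3

/-- the ideal of the local ring `locA` cut out by the place -/
def locI {Z : Divisor k K} {P : Place k K} (hZP : Z P = 0) : Ideal (locA Z P) where
  carrier := {a | P.1 (a : K) < 1}
  add_mem' {a b} ha hb := lt_of_le_of_lt (P.1.map_add _ _) (max_lt ha hb)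
  zero_mem' := by
    show P.1 ((0 : locA Z P) : K) < 1
    simp
  smul_mem' c a ha := by
    show P.1 ((c • a : locA Z P) : K) < 1
    have hc : P.1 (c : K) ≤ 1 := locA_le_OAlg hZP c.2
    have ha' : P.1 (a : K) < 1 := ha
    rw [smul_eq_mul, Subalgebra.coe_mul, map_mul]
    exact mul_lt_one_of_nonneg_of_lt_one_right hc zero_le ha'

/-- The embedding criterion at a place `P` not in the support of the effective divisor `Z`. -/
theorem embedding_criterion [Infinite k] (hK : IsFunctionField k K)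
    (hdeg1 : ∀ P : Place k K, P.deg = 1) {Z : Divisor k K} (hZ : 0 ≤ Z) {P : Place k K}
    (hZP : Z P = 0)
    (hbpf : ∀ Q : Place k K, ell (Z - Finsupp.single Q 1) < ell Z)
    (hsep : ∀ Q : Place k K, ell (Z - Finsupp.single Q 1 - Finsupp.single P 1) <
      ell (Z - Finsupp.single Q 1))
    (m₀ : ℕ)
    (hdeg : ∀ m : ℕ, m₀ ≤ m → 2 * (genus k K : ℤ) - 1 ≤ ((m : ℤ) - 1) * Z.deg)
    {z : K} (hz : P.1 z ≤ 1) : z ∈ locA Z P := by
  classical
  obtain ⟨t, htZ, ht0, ht⟩ := exists_bpf_element hK hZ hbpf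
  have hsingle_le : ∀ Q : Place k K, Z - Finsupp.single Q 1 ≤ Z := fun Q =>
    sub_le_self _ (by
      have := single_le_single (k := k) (K := K) Q (by norm_num : (0 : ℤ) ≤ 1)
      rwa [Finsupp.single_zero] at this)
  -- separation
  have hsep' : ∀ Q : Place k K, Q ≠ P → Z Q = 0 →
      ∃ s ∈ L Z, s ≠ 0 ∧ 0 < Q.ord s ∧ P.ord s = 0 := by
    intro Q hQP hZQ
    obtain ⟨s, hs, hs'⟩ := exists_mem_notMem_of_ell_lt hK (hsep Q)
    obtain ⟨hs0, hsP⟩ := ord_eq_of_mem_of_notMem hs hs'
    refine ⟨s, L_mono (hsingle_le Q) hs, hs0, ?_, ?_⟩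
    · have := (mem_L_iff_ord hs0).mp hs Q
      rw [Finsupp.sub_apply, Finsupp.single_eq_same, hZQ] at this
      omega
    · rw [hsP, Finsupp.sub_apply, Finsupp.single_apply, if_neg hQP, hZP]
      simp
  -- a uniformizer in `L(Z)`
  obtain ⟨tU, htUZ, htU⟩ : ∃ tU ∈ L Z, P.1 tU = exp (-1) := by
    obtain ⟨s, hs, hs'⟩ := exists_mem_notMem_of_ell_lt hK (hsep P)
    obtain ⟨hs0, hsP⟩ := ord_eq_of_mem_of_notMem hs hs'
    refine ⟨s, L_mono (hsingle_le P) hs, ?_⟩
    rw [Place.val_eq_exp_neg_ord P hs0, hsP, Finsupp.sub_apply, Finsupp.single_eq_same, hZP]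
    simp
  have htU0 : tU ≠ 0 := Place.ne_zero_of_val_eq_exp P htU
  -- the submodules
  set A := locA Z P with hAdef
  have hLA : ∀ x ∈ L Z, x ∈ A := fun x hx => RZ_le_locA Z P (L_le_RZ Z hx)
  set N' : Submodule A K := Submodule.span A (L (m₀ • Z) : Set K) with hN'
  have hkey : ∀ y : K, P.1 y ≤ 1 → y ∈ N' := by
    intro y hy
    obtain ⟨s, hsR, hs1, m, hsy⟩ := clear_poles hK hZ hsep' hy
    have h1 := L_multiple_le_span hK hZ htZ ht0 ht m₀ hdeg A hLA m _ hsy
    have hs0 : s ≠ 0 := by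
      rintro rfl
      rw [map_zero] at hs1
      exact zero_ne_one hs1
    have hsinv : s⁻¹ ∈ A := inv_mem_locA (RZ_le_locA Z P hsR) hs1
    have h2 := Submodule.smul_mem N' (⟨s⁻¹, hsinv⟩ : A) h1
    have h3 : (⟨s⁻¹, hsinv⟩ : A) • (s * y) = y := by
      show s⁻¹ * (s * y) = y
      rw [← mul_assoc, inv_mul_cancel₀ hs0, one_mul]
    rwa [h3] at h2
  have hLO : ∀ x ∈ L (m₀ • Z), P.1 x ≤ 1 := by
    intro x hx
    have := hx P
    rwa [Finsupp.smul_apply, hZP, smul_zero, exp_zero] at this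
  have hfg : N'.FG := by
    have hfin := L_finite hK (m₀ • Z)
    obtain ⟨S, hS⟩ := Module.Finite.iff_fg.mp hfin
    have : N' = Submodule.span A (S : Set K) := by
      rw [hN', ← hS, Submodule.span_span_of_tower]
    rw [this]
    exact Submodule.fg_span S.finite_toSet
  have hjac : locI hZP ≤ Ideal.jacobson ⊥ := by
    intro x hx
    rw [Ideal.mem_jacobson_bot]
    intro y
    have hx' : P.1 (x : K) < 1 := hx
    have hy' : P.1 (y : K) ≤ 1 := locA_le_OAlg hZP y.2
    have hxy : P.1 ((x : K) * (y : K)) < P.1 (1 : K) := by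
      rw [map_mul, map_one]
      exact mul_lt_one_of_nonneg_of_lt_one_left zero_le hx' hy'
    have hv : P.1 ((x * y + 1 : A) : K) = 1 := by
      rw [Subalgebra.coe_add, Subalgebra.coe_mul, Subalgebra.coe_one,
        Valuation.map_add_eq_of_lt_right _ hxy, map_one]
    have hne : ((x * y + 1 : A) : K) ≠ 0 := by
      intro h0
      rw [h0, map_zero] at hv
      exact zero_ne_one hv
    rw [isUnit_iff_exists_inv]
    refine ⟨⟨((x * y + 1 : A) : K)⁻¹, inv_mem_locA (x * y + 1).2 hv⟩, ?_⟩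
    apply Subtype.ext
    show ((x * y + 1 : A) : K) * ((x * y + 1 : A) : K)⁻¹ = 1
    exact mul_inv_cancel₀ hne
  have hNN : N' ≤ Submodule.span A ({1} : Set K) ⊔ locI hZP • N' := by
    rw [hN', Submodule.span_le]
    intro x hx
    have hxO := hLO x hx
    obtain ⟨c, hc⟩ := Place.exists_const_sub_lt_one (hdeg1 P) hxO
    have hy : P.1 ((x - algebraMap k K c) / tU) ≤ 1 := by
      rw [map_div₀, htU]
      have := lt_one_iff_le_exp_neg_one.mp hc
      exact div_le_one_of_le₀ this zero_le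
    have htUA : tU ∈ A := hLA tU htUZ
    have htUI : (⟨tU, htUA⟩ : A) ∈ locI hZP := by
      show P.1 tU < 1
      rw [htU]; exact Place.exp_neg_one_lt_one
    have h1 : (⟨tU, htUA⟩ : A) • ((x - algebraMap k K c) / tU) ∈ locI hZP • N' :=
      Submodule.smul_mem_smul htUI (hkey _ hy)
    have h2 : (⟨tU, htUA⟩ : A) • ((x - algebraMap k K c) / tU) = x - algebraMap k K c := by
      show tU * ((x - algebraMap k K c) / tU) = x - algebraMap k K c
      field_simp
    rw [h2] at h1
    have h3 : algebraMap k K c ∈ Submodule.span A ({1} : Set K) := by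
      rw [Submodule.mem_span_singleton]
      refine ⟨⟨algebraMap k K c, A.algebraMap_mem c⟩, ?_⟩
      show algebraMap k K c * 1 = algebraMap k K c
      rw [mul_one]
    have h4 : x = algebraMap k K c + (x - algebraMap k K c) := by ring
    rw [h4]
    exact Submodule.add_mem_sup h3 h1
  have hfinal := Submodule.le_of_le_smul_of_le_jacobson_bot hfg hjac hNN
  have hzN := hfinal (hkey z hz)
  rw [Submodule.mem_span_singleton] at hzN
  obtain ⟨a, ha⟩ := hzN
  have : (a : K) = z := by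
    rw [← ha]
    show (a : K) = (a : K) * 1
    rw [mul_one]
  rw [← this]
  exact a.2

end Groth.Agent.H55
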