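import Groth.Agent.H55.FFEmbed3

set_option autoImplicit false

namespace Groth.Agent.H55

open FunFld WithZero Module IntermediateField

variable {k K : Type*} [Field k] [Field K] [Algebra k K]

theorem span_div_mem_adjoin {ι : Type*} (φ : ι → K) (j : ι) {x : K}
    (hx : x ∈ Submodule.span k (Set.range φ)) :
    x / φ j ∈ Algebra.adjoin k (Set.range fun i => φ i / φ j) := by
  have : Submodule.span k (Set.range φ) ≤
      (Subalgebra.toSubmodule (Algebra.adjoin k (Set.range fun i => φ i / φ j))).comap
        (LinearMap.mulRight k (φ j)⁻¹) := by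
    rw [Submodule.span_le]
    rintro _ ⟨i, rfl⟩
    show φ i * (φ j)⁻¹ ∈ Algebra.adjoin k (Set.range fun i => φ i / φ j)
    rw [← div_eq_mul_inv]
    exact Algebra.subset_adjoin ⟨i, rfl⟩
  have h1 := this hx
  rw [Submodule.mem_comap, LinearMap.mulRight_apply, ← div_eq_mul_inv] at h1
  exact h1

theorem mem_L_sub_single {D : Divisor k K} {Q : Place k K} {x : K} (hx : x ∈ L D)
    (hx0 : x ≠ 0) (h : -D Q < Q.ord x) : x ∈ L (D - Finsupp.single Q 1) := by
  classical
  rw [mem_L_iff_ord hx0] at hx ⊢
  intro Q'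
  rw [Finsupp.sub_apply]
  by_cases hQ : Q' = Q
  · subst hQ
    rw [Finsupp.single_eq_same]; omega
  · rw [Finsupp.single_apply, if_neg (Ne.symm hQ)]
    have := hx Q'
    omega

/-- The projective map given by a basis of `L(D)` is nonsingular at `P` under the numerical
criterion. -/
theorem nonsingular_of_criterion [Infinite k] (hK : IsFunctionField k K)
    (hdeg1 : ∀ P : Place k K, P.deg = 1) (D : Divisor k K) {n : ℕ} (φ : Fin (n + 1) → K)
    (hspan : Submodule.span k (Set.range φ) = L D) (P : Place k K)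
    (hbpf : ∀ Q : Place k K, ell (D - Finsupp.single Q 1) < ell D)
    (hsep : ∀ Q : Place k K, ell (D - Finsupp.single Q 1 - Finsupp.single P 1) <
      ell (D - Finsupp.single Q 1))
    (m₀ : ℕ)
    (hdeg : ∀ m : ℕ, m₀ ≤ m → 2 * (genus k K : ℤ) - 1 ≤ ((m : ℤ) - 1) * D.deg) :
    IsNonsingularAt φ P := by
  classical
  have hφL : ∀ i, φ i ∈ L D := fun i => hspan ▸ Submodule.subset_span ⟨i, rfl⟩
  -- an entry of least order
  obtain ⟨ψ, hψ, hψ'⟩ := exists_mem_notMem_of_ell_lt hK (hbpf P)
  obtain ⟨j, hj0, hjP⟩ : ∃ j, φ j ≠ 0 ∧ P.ord (φ j) = -D P := by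
    by_contra hcon
    push Not at hcon
    have hle : Submodule.span k (Set.range φ) ≤ L (D - Finsupp.single P 1) := by
      rw [Submodule.span_le]
      rintro _ ⟨i, rfl⟩
      by_cases h0 : φ i = 0
      · rw [h0]; exact Submodule.zero_mem _
      · apply mem_L_sub_single (hφL i) h0
        have h1 := (mem_L_iff_ord h0).mp (hφL i) P
        have h2 := hcon i h0
        omega
    rw [hspan] at hle
    exact hψ' (hle hψ)
  set Z : Divisor k K := D + div k (φ j) with hZdef
  have hZ : 0 ≤ Z := (mem_L_iff_div hK hj0).mp (hφL j)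
  have hZP : Z P = 0 := by
    rw [hZdef, Finsupp.add_apply, Place.div_apply hK, hjP]; ring
  have hell : ∀ E : Divisor k K, ell (Z - E) = ell (D - E) := by
    intro E
    have : Z - E = (D - E) + div k (φ j) := by rw [hZdef]; abel
    rw [this, ell_add_div hK _ hj0]
  have hell0 : ell Z = ell D := ell_add_div hK _ hj0
  have hell2 : ∀ E E' : Divisor k K, ell (Z - E - E') = ell (D - E - E') := by
    intro E E'
    have : Z - E - E' = (D - E - E') + div k (φ j) := by rw [hZdef]; abel
    rw [this, ell_add_div hK _ hj0]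
  have hZdeg : Z.deg = D.deg := deg_add_div hK D (φ j)
  have hRZ : RZ Z ≤ Algebra.adjoin k (Set.range fun i => φ i / φ j) := by
    apply Algebra.adjoin_le
    intro y hy
    have h1 : φ j * y ∈ L D := (mul_mem_L_iff hK D (φ j) y hj0).mpr hy
    rw [← hspan] at h1
    have h2 := span_div_mem_adjoin φ j h1
    rwa [mul_div_cancel_left₀ y hj0] at h2
  have hleast : ∀ i, P.1 (φ i) ≤ P.1 (φ j) := by
    intro i
    have h1 := hφL i P
    rw [Place.val_eq_exp_neg_ord P hj0, hjP, neg_neg]
    exact h1
  intro z hz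
  have hmem : z ∈ locA Z P := by
    apply embedding_criterion hK hdeg1 hZ hZP _ _ m₀ _ hz
    · intro Q; rw [hell, hell0]; exact hbpf Q
    · intro Q; rw [hell2, hell]; exact hsep Q
    · intro m hm; rw [hZdeg]; exact hdeg m hm
  obtain ⟨u, hu, w, hw, hw1, huw⟩ := hmem
  exact ⟨j, hj0, hleast, u, hRZ hu, w, hRZ hw, hw1, huw⟩

/-- S11056 -/
theorem isNonsingularAt_of_deg_ge [Infinite k] (hK : IsFunctionField k K)
    (hdeg1 : ∀ P : Place k K, P.deg = 1) (D : Divisor k K)
    (hD : 2 * (genus k K : ℤ) + 1 ≤ D.deg) {n : ℕ} (φ : Fin (n + 1) → K)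
    (hspan : Submodule.span k (Set.range φ) = L D) (P : Place k K) : IsNonsingularAt φ P := by
  have h0 := ell_of_deg_ge hK D (by omega)
  have h1 : ∀ Q : Place k K, (ell (D - Finsupp.single Q 1) : ℤ) = D.deg - 1 + 1 - genus k K := by
    intro Q
    have := ell_of_deg_ge hK (D - Finsupp.single Q 1)
      (by rw [Divisor.deg_sub, deg_single_of_deg_one (hdeg1 Q)]; omega)
    rwa [Divisor.deg_sub, deg_single_of_deg_one (hdeg1 Q)] at this
  have h2 : ∀ Q : Place k K, (ell (D - Finsupp.single Q 1 - Finsupp.single P 1) : ℤ) =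
      D.deg - 1 - 1 + 1 - genus k K := by
    intro Q
    have := ell_of_deg_ge hK (D - Finsupp.single Q 1 - Finsupp.single P 1)
      (by rw [Divisor.deg_sub, Divisor.deg_sub, deg_single_of_deg_one (hdeg1 Q),
        deg_single_of_deg_one (hdeg1 P)]; omega)
    rwa [Divisor.deg_sub, Divisor.deg_sub, deg_single_of_deg_one (hdeg1 Q),
      deg_single_of_deg_one (hdeg1 P)] at this
  apply nonsingular_of_criterion hK hdeg1 D φ hspan P _ _ 2
  · intro m hm
    have hm' : (2 : ℤ) ≤ m := by exact_mod_cast hm
    have hg : (0 : ℤ) ≤ genus k K := Int.natCast_nonneg _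
    nlinarith
  · intro Q
    have := h1 Q
    have : (ell (D - Finsupp.single Q 1) : ℤ) < ell D := by omega
    exact_mod_cast this
  · intro Q
    have := h1 Q
    have := h2 Q
    have : (ell (D - Finsupp.single Q 1 - Finsupp.single P 1) : ℤ) <
        ell (D - Finsupp.single Q 1) := by omega
    exact_mod_cast this

/-- if every nonconstant function has degree `> 2`, effective divisors of degree two are rigid -/
theorem ell_two_points (hK : IsFunctionField k K) (hdeg1 : ∀ P : Place k K, P.deg = 1)
    (h2 : ∀ x : K, Transcendental k x → 2 < finrank k⟮x⟯ K) (P Q : Place k K) :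
    ell (Finsupp.single Q 1 + Finsupp.single P 1 : Divisor k K) = 1 := by
  classical
  set E : Divisor k K := Finsupp.single Q 1 + Finsupp.single P 1 with hE
  have hs0 : ∀ R : Place k K, (0 : Divisor k K) ≤ Finsupp.single R 1 := by
    intro R
    have := single_le_single (k := k) (K := K) R (by norm_num : (0 : ℤ) ≤ 1)
    rwa [Finsupp.single_zero] at this
  have hE0 : 0 ≤ E := add_nonneg (hs0 Q) (hs0 P)
  have hEdeg : E.deg = 2 := by
    rw [hE, Divisor.deg_add, deg_single_of_deg_one (hdeg1 Q), deg_single_of_deg_one (hdeg1 P)]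
    norm_num
  have h1 := ell_pos_of_nonneg hK hE0
  by_contra hne
  have hge : 2 ≤ ell E := by omega
  have hnle : ¬ L E ≤ L (0 : Divisor k K) := by
    intro hle
    have hfin := (finrank_L_zero hK).1
    have := Submodule.finrank_mono hle
    rw [(finrank_L_zero hK).2] at this
    unfold ell at hge
    omega
  obtain ⟨x, hxL, hx0⟩ := Set.not_subset.mp hnle
  have hxk : x ∉ Set.range (algebraMap k K) := by
    intro hmem
    apply hx0
    show x ∈ L (0 : Divisor k K)
    rw [L_zero hK, Submodule.mem_one]
    exact hmem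
  have htr := transcendental_of_notMem_range hK hxk
  have hxne : x ≠ 0 := fun h => htr (h ▸ isAlgebraic_zero)
  have hple : poleDiv k x ≤ E := by
    intro R
    rw [poleDiv_apply hK]
    have h3 := (mem_L_iff_ord hxne).mp hxL R
    exact max_le (by omega) (hE0 R)
  have h5 := Divisor.deg_mono hple
  rw [hEdeg, deg_poleDiv hK htr] at h5
  have := h2 x htr
  omega

/-- S11057 -/
theorem isNonsingularAt_of_canonical [Infinite k] (hK : IsFunctionField k K)
    (hdeg1 : ∀ P : Place k K, P.deg = 1)
    (h2 : ∀ x : K, Transcendental k x → 2 < finrank k⟮x⟯ K)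
    (D : Divisor k K) (hD : IsCanonical k K D) {n : ℕ} (φ : Fin (n + 1) → K)
    (hspan : Submodule.span k (Set.range φ) = L D) (P : Place k K) : IsNonsingularAt φ P := by
  classical
  obtain ⟨hDell, hDdeg⟩ := canonical_ell_deg hK hD
  -- the genus is at least two
  have hg2 : (2 : ℤ) ≤ genus k K := by
    have h1 := le_genus hK (Finsupp.single P 1 + Finsupp.single P 1 : Divisor k K)
    rw [ell_two_points hK hdeg1 h2 P P, Divisor.deg_add, deg_single_of_deg_one (hdeg1 P)] at h1
    push_cast at h1
    omega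
  have hgpos : 0 < genus k K := by omega
  have h1 : ∀ Q : Place k K, (ell (D - Finsupp.single Q 1) : ℤ) = genus k K - 1 := by
    intro Q
    have := riemann_roch hK hD (D - Finsupp.single Q 1)
    rw [sub_sub_cancel, ell_single_one hK hgpos (hdeg1 Q), Divisor.deg_sub, hDdeg,
      deg_single_of_deg_one (hdeg1 Q)] at this
    push_cast at this
    omega
  have h3 : ∀ Q : Place k K, (ell (D - Finsupp.single Q 1 - Finsupp.single P 1) : ℤ) =
      genus k K - 2 := by
    intro Q
    have := riemann_roch hK hD (D - Finsupp.single Q 1 - Finsupp.single P 1)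
    have hsub : D - (D - Finsupp.single Q 1 - Finsupp.single P 1) =
        Finsupp.single Q 1 + Finsupp.single P 1 := by abel
    rw [hsub, ell_two_points hK hdeg1 h2 P Q, Divisor.deg_sub, Divisor.deg_sub, hDdeg,
      deg_single_of_deg_one (hdeg1 Q), deg_single_of_deg_one (hdeg1 P)] at this
    push_cast at this
    omega
  apply nonsingular_of_criterion hK hdeg1 D φ hspan P _ _ 3
  · intro m hm
    have hm' : (3 : ℤ) ≤ m := by exact_mod_cast hm
    rw [hDdeg]
    nlinarith
  · intro Q
    have := h1 Q
    have : (ell (D - Finsupp.single Q 1) : ℤ) < ell D := by rw [hDell]; omega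
    exact_mod_cast this
  · intro Q
    have := h1 Q
    have := h3 Q
    have : (ell (D - Finsupp.single Q 1 - Finsupp.single P 1) : ℤ) <
        ell (D - Finsupp.single Q 1) := by omega
    exact_mod_cast this

end Groth.Agent.H55
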