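import Groth.Agent.H55.FFNS7

set_option autoImplicit false

namespace Groth.Agent.H55

open FunFld WithZero Module IntermediateField

variable {k K : Type*} [Field k] [Field K] [Algebra k K]

theorem val_lt_one_iff_const_zero (R : Place k K) {u : K} {c : k}
    (h : R.1 (u - algebraMap k K c) < 1) : R.1 u < 1 ↔ c = 0 := by
  constructor
  · intro hu
    by_contra hc
    have h1 : R.1 (algebraMap k K c) = 1 := Place.val_algebraMap_eq_one R hc
    have h2 : algebraMap k K c = u - (u - algebraMap k K c) := by ring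
    have h3 : R.1 (algebraMap k K c) < 1 := by
      rw [h2]
      exact lt_of_le_of_lt (Valuation.map_sub _ _ _) (max_lt hu h)
    rw [h1] at h3
    exact lt_irrefl _ h3
  · intro hc
    rw [hc, map_zero, sub_zero] at h
    exact h

theorem val_eq_one_of_const_ne_zero (R : Place k K) {u : K} {c : k}
    (h : R.1 (u - algebraMap k K c) < 1) (hc : c ≠ 0) : R.1 u = 1 := by
  have h1 : R.1 (algebraMap k K c) = 1 := Place.val_algebraMap_eq_one R hc
  have h2 : u = (u - algebraMap k K c) + algebraMap k K c := by ring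
  rw [h2, Valuation.map_add_eq_of_lt_right, h1]
  rw [h1]; exact h

theorem val_le_one_of_const (R : Place k K) {u : K} {c : k}
    (h : R.1 (u - algebraMap k K c) < 1) : R.1 u ≤ 1 := by
  have h2 : u = (u - algebraMap k K c) + algebraMap k K c := by ring
  rw [h2]
  exact (R.1.map_add _ _).trans (max_le h.le (R.2.1 c))

/-- common residue constants propagate through the ratio algebra -/
theorem exists_common_const {ι : Type*} (g : ι → K) (P Q : Place k K)
    (hc : ∀ i, ∃ c : k, P.1 (g i - algebraMap k K c) < 1 ∧ Q.1 (g i - algebraMap k K c) < 1) :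
    ∀ u ∈ Algebra.adjoin k (Set.range g),
      ∃ c : k, P.1 (u - algebraMap k K c) < 1 ∧ Q.1 (u - algebraMap k K c) < 1 := by
  intro u hu
  induction hu using Algebra.adjoin_induction with
  | mem x hx =>
    obtain ⟨i, rfl⟩ := hx
    exact hc i
  | algebraMap c => exact ⟨c, by simp, by simp⟩
  | add x y _ _ hx hy =>
    obtain ⟨c, hcP, hcQ⟩ := hx
    obtain ⟨c', hcP', hcQ'⟩ := hy
    refine ⟨c + c', ?_, ?_⟩
    · have : x + y - algebraMap k K (c + c') =
          (x - algebraMap k K c) + (y - algebraMap k K c') := by rw [map_add]; ring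
      rw [this]
      exact lt_of_le_of_lt (P.1.map_add _ _) (max_lt hcP hcP')
    · have : x + y - algebraMap k K (c + c') =
          (x - algebraMap k K c) + (y - algebraMap k K c') := by rw [map_add]; ring
      rw [this]
      exact lt_of_le_of_lt (Q.1.map_add _ _) (max_lt hcQ hcQ')
  | mul x y _ _ hx hy =>
    obtain ⟨c, hcP, hcQ⟩ := hx
    obtain ⟨c', hcP', hcQ'⟩ := hy
    refine ⟨c * c', ?_, ?_⟩
    · have : x * y - algebraMap k K (c * c') =
          (x - algebraMap k K c) * y + algebraMap k K c * (y - algebraMap k K c') := by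
        rw [map_mul]; ring
      rw [this]
      refine lt_of_le_of_lt (P.1.map_add _ _) (max_lt ?_ ?_)
      · rw [map_mul]
        exact mul_lt_one_of_nonneg_of_lt_one_left zero_le hcP (val_le_one_of_const P hcP')
      · rw [map_mul]
        exact mul_lt_one_of_nonneg_of_lt_one_right (P.2.1 c) zero_le hcP'
    · have : x * y - algebraMap k K (c * c') =
          (x - algebraMap k K c) * y + algebraMap k K c * (y - algebraMap k K c') := by
        rw [map_mul]; ring
      rw [this]
      refine lt_of_le_of_lt (Q.1.map_add _ _) (max_lt ?_ ?_)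
      · rw [map_mul]
        exact mul_lt_one_of_nonneg_of_lt_one_left zero_le hcQ (val_le_one_of_const Q hcQ')
      · rw [map_mul]
        exact mul_lt_one_of_nonneg_of_lt_one_right (Q.2.1 c) zero_le hcQ'

/-- S11078 -/
theorem sameImage_iff {ι : Type*} [Fintype ι] (hdeg1 : ∀ P : Place k K, P.deg = 1)
    (φ : ι → K) (hφ0 : ∀ i, φ i ≠ 0) [Nonempty ι] (P Q : Place k K) :
    SameImage φ P Q ↔
      ∀ z : K, InLocRing φ P z → (Q.1 z ≤ 1 ∧ (Q.1 z < 1 ↔ P.1 z < 1)) := by
  have hφW : ∀ i, φ i ∈ Submodule.span k (Set.range φ) := fun i => Submodule.subset_span ⟨i, rfl⟩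
  constructor
  · rintro ⟨j, hj0, hjP, hjQ, hc⟩ z hz
    obtain ⟨j', hj'0, hj'P, hloc⟩ := (inLocRing_iff φ P z).mp hz
    have hss : P.1 (φ j') = P.1 (φ j) := le_antisymm (hjP j') (hj'P j)
    obtain ⟨u, hu, w, hw, hw1, hzw⟩ := InLoc.change (hφW j) hj0 (hφW j') hj'0 hss hloc
    rw [ratioAlg_eq_adjoin_range] at hu hw
    obtain ⟨cu, hcuP, hcuQ⟩ := exists_common_const (fun i => φ i / φ j) P Q hc u hu
    obtain ⟨cw, hcwP, hcwQ⟩ := exists_common_const (fun i => φ i / φ j) P Q hc w hw
    have hcw0 : cw ≠ 0 := by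
      intro h0
      have := (val_lt_one_iff_const_zero P hcwP).mpr h0
      rw [hw1] at this
      exact lt_irrefl _ this
    have hwQ : Q.1 w = 1 := val_eq_one_of_const_ne_zero Q hcwQ hcw0
    have hzQ : Q.1 z = Q.1 u := by rw [← hzw, map_mul, hwQ, mul_one]
    have hzP : P.1 z = P.1 u := by rw [← hzw, map_mul, hw1, mul_one]
    rw [hzQ, hzP]
    refine ⟨val_le_one_of_const Q hcuQ, ?_⟩
    rw [val_lt_one_iff_const_zero Q hcuQ, val_lt_one_iff_const_zero P hcuP]
  · intro h
    obtain ⟨j, hj0, hjP⟩ := exists_max_entry φ P ⟨Classical.arbitrary ι, hφ0 _⟩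
    have hmem : ∀ u ∈ Algebra.adjoin k (Set.range fun i => φ i / φ j), InLocRing φ P u :=
      fun u hu => ⟨j, hj0, hjP, u, hu, 1, Subalgebra.one_mem _, map_one _, mul_one _⟩
    have hQ0 : 0 < Q.1 (φ j) := zero_lt_iff.mpr ((Valuation.ne_zero_iff _).mpr hj0)
    have hP0 : 0 < P.1 (φ j) := zero_lt_iff.mpr ((Valuation.ne_zero_iff _).mpr hj0)
    refine ⟨j, hj0, hjP, ?_, ?_⟩
    · intro i
      have h1 := (h _ (hmem _ (Algebra.subset_adjoin ⟨i, rfl⟩))).1
      rw [map_div₀] at h1
      exact (div_le_one₀ hQ0).mp h1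
    · intro i
      have hPi : P.1 (φ i / φ j) ≤ 1 := by
        rw [map_div₀]; exact (div_le_one₀ hP0).mpr (hjP i)
      obtain ⟨c, hc⟩ := Place.exists_const_sub_lt_one (hdeg1 P) hPi
      refine ⟨c, hc, ?_⟩
      have hmem2 : φ i / φ j - algebraMap k K c ∈
          Algebra.adjoin k (Set.range fun i => φ i / φ j) :=
        Subalgebra.sub_mem _ (Algebra.subset_adjoin ⟨i, rfl⟩) (Subalgebra.algebraMap_mem _ c)
      exact (h _ (hmem _ hmem2)).2.mpr hc

end Groth.Agent.H55
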