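import Groth.Agent.H55.FFFib

set_option autoImplicit false

namespace Groth.Agent.H55

open FunFld WithZero Module IntermediateField

variable {k K : Type*} [Field k] [Field K] [Algebra k K]

theorem aeval_mul_of_isHomogeneous {σ : Type*} [Fintype σ] {g : MvPolynomial σ k} {N : ℕ}
    (hg : g.IsHomogeneous N) (f : σ → K) (c : K) :
    MvPolynomial.aeval (fun i => c * f i) g = c ^ N * MvPolynomial.aeval f g := by
  rw [MvPolynomial.aeval_def, MvPolynomial.aeval_def, MvPolynomial.eval₂_eq',
    MvPolynomial.eval₂_eq', Finset.mul_sum]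
  apply Finset.sum_congr rfl
  intro d hd
  have hd' : MvPolynomial.coeff d g ≠ 0 := MvPolynomial.mem_support_iff.mp hd
  have hdeg : ∑ i, d i = N := by
    have h1 := hg hd'
    rw [← Finsupp.degree_eq_sum]
    rw [Finsupp.degree_eq_weight_one]
    exact h1
  have : ∏ i, (c * f i) ^ d i = c ^ N * ∏ i, f i ^ d i := by
    simp_rw [mul_pow]
    rw [Finset.prod_mul_distrib, Finset.prod_pow_eq_pow_sum, hdeg]
  rw [this]
  ring

theorem not_smul_of_linearIndependent {ι : Type*} [Fintype ι] [DecidableEq ι] {φ : ι → K}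
    (hφ : LinearIndependent k φ) {i j : ι} (hij : i ≠ j) (c : k) : φ i ≠ c • φ j := by
  intro h
  have h1 := Fintype.linearIndependent_iff.mp hφ (Pi.single i 1 - Pi.single j c) (by
    simp only [Pi.sub_apply, sub_smul, Finset.sum_sub_distrib]
    rw [Finset.sum_eq_single i, Finset.sum_eq_single j]
    · simp [h]
    · intro b _ hb; simp [Pi.single_apply, hb]
    · intro hj; exact absurd (Finset.mem_univ j) hj
    · intro b _ hb; simp [Pi.single_apply, hb]
    · intro hi; exact absurd (Finset.mem_univ i) hi) i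
  simp [Pi.single_apply, hij] at h1

/-- S11075 -/
theorem finite_fibres (hK : IsFunctionField k K) {n : ℕ} (hn : 1 ≤ n)
    (φ : Fin (n + 1) → K) (hφ : LinearIndependent k φ) :
    (∀ g : MvPolynomial (Fin (n + 1)) k, g.IsHomogeneous g.totalDegree →
      MvPolynomial.aeval φ g ≠ 0 →
        {P : Place k K | ∃ j, φ j ≠ 0 ∧ (∀ i, P.1 (φ i) ≤ P.1 (φ j)) ∧
          P.1 (MvPolynomial.aeval (fun i => φ i / φ j) g) < 1}.Finite) ∧
    ∀ P : Place k K, {Q : Place k K | SameImage φ P Q}.Finite := by
  classical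
  constructor
  · intro g hg hne
    have hsub : {P : Place k K | ∃ j, φ j ≠ 0 ∧ (∀ i, P.1 (φ i) ≤ P.1 (φ j)) ∧
          P.1 (MvPolynomial.aeval (fun i => φ i / φ j) g) < 1} ⊆
        ⋃ j : Fin (n + 1), {P : Place k K |
          P.1 ((φ j)⁻¹ ^ g.totalDegree * MvPolynomial.aeval φ g) < 1 ∧ φ j ≠ 0} := by
      rintro P ⟨j, hj0, -, hP⟩
      rw [Set.mem_iUnion]
      refine ⟨j, ?_, hj0⟩
      have h1 : (fun i => φ i / φ j) = fun i => (φ j)⁻¹ * φ i := by
        funext i; rw [div_eq_inv_mul]
      rw [h1, aeval_mul_of_isHomogeneous hg] at hP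
      exact hP
    refine Set.Finite.subset (Set.finite_iUnion fun j => ?_) hsub
    by_cases hj0 : φ j = 0
    · have : {P : Place k K |
          P.1 ((φ j)⁻¹ ^ g.totalDegree * MvPolynomial.aeval φ g) < 1 ∧ φ j ≠ 0} = ∅ := by
        ext P; simp [hj0]
      rw [this]; exact Set.finite_empty
    · have hx0 : (φ j)⁻¹ ^ g.totalDegree * MvPolynomial.aeval φ g ≠ 0 :=
        mul_ne_zero (pow_ne_zero _ (inv_ne_zero hj0)) hne
      exact (Place.finite_zeros hK hx0).subset fun P hP => hP.1
  · intro P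
    have hnt : Nontrivial (Fin (n + 1)) := Fin.nontrivial_iff_two_le.mpr (by omega)
    choose ij hij using fun j : Fin (n + 1) => exists_ne j
    let x : Fin (n + 1) → K := fun j => φ (ij j) / φ j
    have hsub : {Q : Place k K | SameImage φ P Q} ⊆
        ⋃ j : Fin (n + 1), {Q : Place k K | φ j ≠ 0 ∧
          ∃ c : k, P.1 (x j - algebraMap k K c) < 1 ∧ Q.1 (x j - algebraMap k K c) < 1} := by
      rintro Q ⟨j, hj0, -, -, hc⟩
      rw [Set.mem_iUnion]
      exact ⟨j, hj0, hc (ij j)⟩
    refine Set.Finite.subset (Set.finite_iUnion fun j => ?_) hsub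
    by_cases hex : φ j ≠ 0 ∧ ∃ c : k, P.1 (x j - algebraMap k K c) < 1
    · obtain ⟨hj0, c₀, hc₀⟩ := hex
      have hx0 : x j - algebraMap k K c₀ ≠ 0 := by
        intro h0
        apply not_smul_of_linearIndependent hφ (hij j) c₀
        have h1 : φ (ij j) / φ j = algebraMap k K c₀ := sub_eq_zero.mp h0
        rw [div_eq_iff hj0] at h1
        rw [h1, Algebra.smul_def]
      refine (Place.finite_zeros hK hx0).subset ?_
      rintro Q ⟨-, c, hcP, hcQ⟩
      have hcc : c = c₀ := by
        by_contra hne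
        have h1 : algebraMap k K (c₀ - c) = (x j - algebraMap k K c) - (x j - algebraMap k K c₀) := by
          rw [map_sub]; ring
        have h2 : P.1 (algebraMap k K (c₀ - c)) < 1 := by
          rw [h1]
          exact lt_of_le_of_lt (Valuation.map_sub _ _ _) (max_lt hcP hc₀)
        rw [Place.val_algebraMap_eq_one P (sub_ne_zero.mpr (Ne.symm hne))] at h2
        exact lt_irrefl _ h2
      rw [hcc] at hcQ
      exact hcQ
    · have : {Q : Place k K | φ j ≠ 0 ∧
          ∃ c : k, P.1 (x j - algebraMap k K c) < 1 ∧ Q.1 (x j - algebraMap k K c) < 1} = ∅ := by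
        ext Q
        simp only [Set.mem_ofPred_eq, Set.mem_empty_iff_false, iff_false]
        rintro ⟨hj0, c, hcP, -⟩
        exact hex ⟨hj0, c, hcP⟩
      rw [this]; exact Set.finite_empty

end Groth.Agent.H55
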