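import Groth.Agent.H55.FFMisc

set_option autoImplicit false

namespace Groth.Agent.H55

open FunFld WithZero Module IntermediateField

variable {k K : Type*} [Field k] [Field K] [Algebra k K]

theorem mul_mem_L {A B : Divisor k K} {x y : K} (hx : x ∈ L A) (hy : y ∈ L B) :
    x * y ∈ L (A + B) := by
  intro P
  rw [map_mul, Finsupp.add_apply, exp_add]
  exact mul_le_mul' (hx P) (hy P)

theorem single_le_single (P : Place k K) {a b : ℤ} (h : a ≤ b) :
    (Finsupp.single P a : Divisor k K) ≤ Finsupp.single P b := by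
  classical
  intro Q
  rw [Finsupp.single_apply, Finsupp.single_apply]
  split_ifs
  · exact h
  · exact le_rfl

theorem not_gap_iff (P : Place k K) (m : ℤ) :
    L (Finsupp.single P m : Divisor k K) ≠ L (Finsupp.single P (m - 1)) ↔
      ∃ x : K, x ≠ 0 ∧ P.ord x = -m ∧ ∀ Q : Place k K, Q ≠ P → 0 ≤ Q.ord x := by
  classical
  have hle : L (Finsupp.single P (m - 1) : Divisor k K) ≤ L (Finsupp.single P m) :=
    L_mono (single_le_single P (by omega))
  constructor
  · intro hne
    have hnle : ¬ L (Finsupp.single P m : Divisor k K) ≤ L (Finsupp.single P (m - 1)) :=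
      fun h => hne (le_antisymm h hle)
    obtain ⟨x, hx1, hx2⟩ := Set.not_subset.mp hnle
    have hx0 : x ≠ 0 := by
      rintro rfl
      exact hx2 (Submodule.zero_mem _)
    have h1 := (mem_L_iff_ord hx0).mp hx1
    have h2 : ¬ ∀ Q : Place k K, -(Finsupp.single P (m - 1) : Divisor k K) Q ≤ Q.ord x :=
      fun h => hx2 ((mem_L_iff_ord hx0).mpr h)
    push Not at h2
    obtain ⟨Q, hQ⟩ := h2
    have hQP : Q = P := by
      by_contra hne'
      have := h1 Q
      rw [Finsupp.single_apply, if_neg (Ne.symm hne')] at this hQ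
      omega
    subst hQP
    have h3 := h1 Q
    rw [Finsupp.single_eq_same] at h3 hQ
    refine ⟨x, hx0, by omega, fun Q' hQ' => ?_⟩
    have := h1 Q'
    rw [Finsupp.single_apply, if_neg (Ne.symm hQ')] at this
    omega
  · rintro ⟨x, hx0, hxP, hxQ⟩ heq
    have h1 : x ∈ L (Finsupp.single P m : Divisor k K) := by
      rw [mem_L_iff_ord hx0]
      intro Q
      by_cases hQ : Q = P
      · subst hQ; rw [Finsupp.single_eq_same]; omega
      · rw [Finsupp.single_apply, if_neg (Ne.symm hQ)]
        have := hxQ Q hQ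
        omega
    rw [heq, mem_L_iff_ord hx0] at h1
    have := h1 P
    rw [Finsupp.single_eq_same] at this
    omega

theorem not_gap_add (P : Place k K) {m m' : ℤ}
    (h : L (Finsupp.single P m : Divisor k K) ≠ L (Finsupp.single P (m - 1)))
    (h' : L (Finsupp.single P m' : Divisor k K) ≠ L (Finsupp.single P (m' - 1))) :
    L (Finsupp.single P (m + m') : Divisor k K) ≠ L (Finsupp.single P (m + m' - 1)) := by
  rw [not_gap_iff] at h h' ⊢
  obtain ⟨x, hx0, hxP, hxQ⟩ := h
  obtain ⟨y, hy0, hyP, hyQ⟩ := h'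
  refine ⟨x * y, mul_ne_zero hx0 hy0, ?_, fun Q hQ => ?_⟩
  · rw [Place.ord_mul P hx0 hy0, hxP, hyP]; ring
  · rw [Place.ord_mul Q hx0 hy0]
    have := hxQ Q hQ
    have := hyQ Q hQ
    omega

/-- S11045 -/
theorem gaps_half (P : Place k K) (n : ℕ) (_hn : 1 ≤ n)
    (hgap : L (Finsupp.single P (n : ℤ) : Divisor k K) = L (Finsupp.single P ((n : ℤ) - 1))) :
    n - 1 ≤ 2 * Set.ncard {m : ℕ | 1 ≤ m ∧ m < n ∧
      L (Finsupp.single P (m : ℤ) : Divisor k K) = L (Finsupp.single P ((m : ℤ) - 1))} := by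
  classical
  set gap : ℕ → Prop := fun m =>
    L (Finsupp.single P (m : ℤ) : Divisor k K) = L (Finsupp.single P ((m : ℤ) - 1)) with hgapdef
  have hset : {m : ℕ | 1 ≤ m ∧ m < n ∧ gap m} = ↑((Finset.Ico 1 n).filter gap) := by
    ext m
    simp only [Set.mem_ofPred_eq, Finset.coe_filter, Finset.mem_Ico, and_assoc]
  rw [hset, Set.ncard_coe_finset]
  have hsum := Finset.card_filter_add_card_filter_not (s := Finset.Ico 1 n) gap
  rw [Nat.card_Ico] at hsum
  have hle : ((Finset.Ico 1 n).filter fun m => ¬ gap m).card ≤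
      ((Finset.Ico 1 n).filter gap).card := by
    apply Finset.card_le_card_of_injOn (fun m => n - m)
    · intro m hm
      rw [Finset.coe_filter, Set.mem_ofPred_eq, Finset.mem_Ico] at hm
      rw [Finset.coe_filter, Set.mem_ofPred_eq, Finset.mem_Ico]
      have hm1 : 1 ≤ m := hm.1.1
      have hm2 : m < n := hm.1.2
      refine ⟨⟨?_, ?_⟩, ?_⟩
      · show 1 ≤ n - m
        omega
      · show n - m < n
        omega
      by_contra hng
      have h1 := not_gap_add P hm.2 hng
      apply h1
      have : ((m : ℤ) + ((n - m : ℕ) : ℤ)) = n := by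
        rw [Nat.cast_sub hm.1.2.le]; ring
      rw [this]
      exact hgap
    · intro a ha b hb hab
      rw [Finset.coe_filter, Set.mem_ofPred_eq, Finset.mem_Ico] at ha hb
      have hab' : n - a = n - b := hab
      omega
  omega

/-- Clifford-type inequality for multiples of a place. -/
theorem ell_multiple_add_ell_le (hK : IsFunctionField k K) (A : Divisor k K) (hA : L A ≠ ⊥)
    (P : Place k K) (n : ℕ) :
    ell (Finsupp.single P (n : ℤ) : Divisor k K) + ell A ≤
      1 + ell (A + Finsupp.single P (n : ℤ)) := by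
  classical
  obtain ⟨z₀, hz₀A, hz₀0⟩ := Submodule.exists_mem_ne_zero_of_ne_bot hA
  obtain ⟨e, ⟨z, hzA, hz0, hze⟩, hmin⟩ : ∃ e : ℤ, (∃ z ∈ L A, z ≠ 0 ∧ P.ord z = e) ∧
      ∀ e' : ℤ, (∃ z ∈ L A, z ≠ 0 ∧ P.ord z = e') → e ≤ e' := by
    apply Int.exists_least_of_bdd
    · refine ⟨-A P, ?_⟩
      rintro e' ⟨z, hzA, hz0, rfl⟩
      exact (mem_L_iff_ord hz0).mp hzA P
    · exact ⟨_, z₀, hz₀A, hz₀0, rfl⟩
  have heA : -A P ≤ e := hze ▸ (mem_L_iff_ord hz0).mp hzA P
  set D₀ : Divisor k K := A + Finsupp.single P (-e - A P) with hD₀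
  have hD₀P : D₀ P = -e := by
    rw [hD₀, Finsupp.add_apply, Finsupp.single_eq_same]; ring
  have hD₀Q : ∀ Q : Place k K, Q ≠ P → D₀ Q = A Q := by
    intro Q hQ
    rw [hD₀, Finsupp.add_apply, Finsupp.single_apply, if_neg (Ne.symm hQ), add_zero]
  have hD₀A : D₀ ≤ A := by
    intro Q
    by_cases hQ : Q = P
    · subst hQ; rw [hD₀P]; omega
    · rw [hD₀Q Q hQ]
  have hLle : L A ≤ L D₀ := by
    intro x hx
    by_cases hx0 : x = 0
    · rw [hx0]; exact Submodule.zero_mem _
    rw [mem_L_iff_ord hx0]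
    intro Q
    by_cases hQ : Q = P
    · subst hQ
      rw [hD₀P, neg_neg]
      exact hmin _ ⟨x, hx, hx0, rfl⟩
    · rw [hD₀Q Q hQ]
      exact (mem_L_iff_ord hx0).mp hx Q
  have hLeq : L D₀ = L A := le_antisymm (L_mono hD₀A) hLle
  have hzD₀ : z ∈ L D₀ := hLle hzA
  -- the injection
  have hB : L (Finsupp.single P (n : ℤ) : Divisor k K) ≤
      (L (D₀ + Finsupp.single P (n : ℤ))).comap (LinearMap.mulLeft k z) := by
    intro x hx
    exact mul_mem_L hzD₀ hx
  have hA' : L (0 : Divisor k K) ≤ (L D₀).comap (LinearMap.mulLeft k z) := by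
    intro x hx
    have := mul_mem_L hzD₀ hx
    rwa [add_zero] at this
  have hinj : Function.Injective (relQMap (LinearMap.mulLeft k z) (L (0 : Divisor k K))
      (L (Finsupp.single P (n : ℤ) : Divisor k K)) (L D₀)
      (L (D₀ + Finsupp.single P (n : ℤ))) hB hA') := by
    apply relQMap_injective
    intro x hx hzx
    by_cases hx0 : x = 0
    · rw [hx0]; exact Submodule.zero_mem _
    rw [LinearMap.mulLeft_apply, mem_L_iff_ord (mul_ne_zero hz0 hx0)] at hzx
    rw [mem_L_iff_ord hx0] at hx ⊢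
    intro Q
    rw [Finsupp.zero_apply, neg_zero]
    by_cases hQ : Q = P
    · subst hQ
      have := hzx Q
      rw [Place.ord_mul Q hz0 hx0, hze, hD₀P] at this
      omega
    · have := hx Q
      rw [Finsupp.single_apply, if_neg (Ne.symm hQ)] at this
      omega
  have h0n : (0 : Divisor k K) ≤ Finsupp.single P (n : ℤ) := by
    have := single_le_single P (Int.natCast_nonneg n)
    rwa [Finsupp.single_zero] at this
  have hD₀n : D₀ ≤ D₀ + Finsupp.single P (n : ℤ) := le_add_of_nonneg_right h0n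
  have hfin := (L_quot hK hD₀n).1
  have h1 := LinearMap.finrank_le_finrank_of_injective hinj
  have h2 := ell_sub hK h0n
  have h3 := ell_sub hK hD₀n
  rw [ell_zero hK] at h2
  have h4 : ell (D₀ + Finsupp.single P (n : ℤ)) ≤ ell (A + Finsupp.single P (n : ℤ)) :=
    ell_mono hK (add_le_add_left hD₀A _)
  have h5 : ell D₀ = ell A := by unfold ell; rw [hLeq]
  have h1' : (finrank k (RelQ (L (0 : Divisor k K)) (L (Finsupp.single P (n : ℤ) : Divisor k K))) : ℤ)
      ≤ finrank k (RelQ (L D₀) (L (D₀ + Finsupp.single P (n : ℤ)))) := by exact_mod_cast h1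
  have : (ell (Finsupp.single P (n : ℤ) : Divisor k K) : ℤ) + ell A ≤
      1 + ell (A + Finsupp.single P (n : ℤ)) := by
    have h4' : (ell (D₀ + Finsupp.single P (n : ℤ)) : ℤ) ≤ ell (A + Finsupp.single P (n : ℤ)) := by
      exact_mod_cast h4
    have h5' : (ell D₀ : ℤ) = ell A := by exact_mod_cast h5
    push_cast at h2
    linarith
  exact_mod_cast this

/-- S11046 (for a place of degree one) -/
theorem two_mul_ell_multiple_le (hK : IsFunctionField k K) {P : Place k K} (hP : P.deg = 1)
    (n : ℕ) (hn : (n : ℤ) ≤ 2 * (genus k K : ℤ) - 2) :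
    2 * ell (Finsupp.single P (n : ℤ) : Divisor k K) ≤ n + 2 := by
  obtain ⟨W, hW⟩ := exists_canonical hK
  obtain ⟨hWell, hWdeg⟩ := canonical_ell_deg hK hW
  have hRR := riemann_roch hK hW (Finsupp.single P (n : ℤ))
  rw [deg_single_of_deg_one hP] at hRR
  by_cases hA : L (W - Finsupp.single P (n : ℤ)) = ⊥
  · have h0 : ell (W - Finsupp.single P (n : ℤ)) = 0 := by
      unfold ell; rw [hA]; exact finrank_bot k K
    rw [h0] at hRR
    have : (2 * ell (Finsupp.single P (n : ℤ) : Divisor k K) : ℤ) ≤ n + 2 := by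
      push_cast at hRR; linarith
    exact_mod_cast this
  · have h1 := ell_multiple_add_ell_le hK _ hA P n
    rw [sub_add_cancel, hWell] at h1
    have h1' : (ell (Finsupp.single P (n : ℤ) : Divisor k K) : ℤ) +
        ell (W - Finsupp.single P (n : ℤ)) ≤ 1 + genus k K := by exact_mod_cast h1
    have : (2 * ell (Finsupp.single P (n : ℤ) : Divisor k K) : ℤ) ≤ n + 2 := by
      linarith
    exact_mod_cast this

/-- `ℓ(nP) + #gaps in [1,n] = n + 1` at a place of degree one -/
theorem ell_add_card_gaps (hK : IsFunctionField k K) {P : Place k K} (hP : P.deg = 1) (n : ℕ) :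
    ell (Finsupp.single P (n : ℤ) : Divisor k K) +
      ((Finset.Icc 1 n).filter fun m : ℕ =>
        L (Finsupp.single P (m : ℤ) : Divisor k K) = L (Finsupp.single P ((m : ℤ) - 1))).card =
      n + 1 := by
  classical
  induction n with
  | zero =>
    simp only [Nat.cast_zero, Finsupp.single_zero]
    rw [ell_zero hK]
    simp
  | succ n ih =>
    have hIcc : Finset.Icc 1 (n + 1) = insert (n + 1) (Finset.Icc 1 n) := by
      ext m
      simp only [Finset.mem_Icc, Finset.mem_insert]
      omega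
    have hnotin : (n + 1) ∉ (Finset.Icc 1 n).filter fun m : ℕ =>
        L (Finsupp.single P (m : ℤ) : Divisor k K) = L (Finsupp.single P ((m : ℤ) - 1)) := by
      rw [Finset.mem_filter, Finset.mem_Icc]
      omega
    have hle : (Finsupp.single P (n : ℤ) : Divisor k K) ≤ Finsupp.single P ((n + 1 : ℕ) : ℤ) :=
      single_le_single P (by push_cast; omega)
    have hstep := ell_sub_le hK hle
    rw [deg_single_of_deg_one hP, deg_single_of_deg_one hP] at hstep
    have hmono := ell_mono hK hle
    have hcast : (((n + 1 : ℕ) : ℤ) - 1) = (n : ℤ) := by push_cast; ring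
    rw [hIcc, Finset.filter_insert]
    by_cases hg : L (Finsupp.single P ((n + 1 : ℕ) : ℤ) : Divisor k K) =
        L (Finsupp.single P (((n + 1 : ℕ) : ℤ) - 1))
    · rw [if_pos hg, Finset.card_insert_of_notMem hnotin]
      have : ell (Finsupp.single P ((n + 1 : ℕ) : ℤ) : Divisor k K) =
          ell (Finsupp.single P (n : ℤ) : Divisor k K) := by
        unfold ell; rw [hg, hcast]
      omega
    · rw [if_neg hg]
      have hne : ell (Finsupp.single P ((n + 1 : ℕ) : ℤ) : Divisor k K) ≠
          ell (Finsupp.single P (n : ℤ) : Divisor k K) := by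
        intro heq
        apply hg
        rw [hcast]
        have hfin := L_finite hK (Finsupp.single P ((n + 1 : ℕ) : ℤ) : Divisor k K)
        exact (Submodule.eq_of_le_of_finrank_eq (L_mono hle) heq.symm).symm
      have hc : (((n + 1 : ℕ) : ℤ)) - (n : ℤ) = 1 := by push_cast; ring
      rw [hc] at hstep
      omega

/-- S11063 (for a place of degree one) -/
theorem le_card_gaps (hK : IsFunctionField k K) {P : Place k K} (hP : P.deg = 1) (l : ℕ)
    (hl : 1 ≤ l) (hlg : l ≤ genus k K) :
    l ≤ Set.ncard {m : ℕ | 1 ≤ m ∧ m ≤ 2 * l - 1 ∧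
      L (Finsupp.single P (m : ℤ) : Divisor k K) = L (Finsupp.single P ((m : ℤ) - 1))} := by
  classical
  have hset : {m : ℕ | 1 ≤ m ∧ m ≤ 2 * l - 1 ∧
      L (Finsupp.single P (m : ℤ) : Divisor k K) = L (Finsupp.single P ((m : ℤ) - 1))} =
      ↑((Finset.Icc 1 (2 * l - 1)).filter fun m : ℕ =>
        L (Finsupp.single P (m : ℤ) : Divisor k K) = L (Finsupp.single P ((m : ℤ) - 1))) := by
    ext m
    simp only [Set.mem_ofPred_eq, Finset.coe_filter, Finset.mem_Icc, and_assoc]
  rw [hset, Set.ncard_coe_finset]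
  have h1 := ell_add_card_gaps hK hP (2 * l - 1)
  have h2 : ell (Finsupp.single P ((2 * l - 1 : ℕ) : ℤ) : Divisor k K) ≤ l := by
    by_cases hlt : l < genus k K
    · have := two_mul_ell_multiple_le hK hP (2 * l - 1) (by push_cast [Nat.cast_sub (by omega : 1 ≤ 2 * l)]; omega)
      omega
    · have hlg' : l = genus k K := by omega
      have h3 := ell_of_deg_ge hK (Finsupp.single P ((2 * l - 1 : ℕ) : ℤ) : Divisor k K)
        (by rw [deg_single_of_deg_one hP, ← hlg']; push_cast [Nat.cast_sub (by omega : 1 ≤ 2 * l)]; omega)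
      rw [deg_single_of_deg_one hP, ← hlg'] at h3
      have : (ell (Finsupp.single P ((2 * l - 1 : ℕ) : ℤ) : Divisor k K) : ℤ) ≤ l := by
        rw [h3]; push_cast [Nat.cast_sub (by omega : 1 ≤ 2 * l)]; omega
      exact_mod_cast this
  omega

end Groth.Agent.H55
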