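import Groth.Agent.H55.FFRR2

set_option autoImplicit false

namespace Groth.Agent.H55

open FunFld WithZero Module IntermediateField

variable {k K : Type*} [Field k] [Field K] [Algebra k K]

theorem div_inv (hK : IsFunctionField k K) (z : K) : div k z⁻¹ = -div k z := by
  ext P
  rw [Finsupp.neg_apply, Place.div_apply hK, Place.div_apply hK, Place.ord_inv]

theorem ell_add_div_le (hK : IsFunctionField k K) (D : Divisor k K) {z : K} (hz : z ≠ 0) :
    ell (D + div k z) ≤ ell D := by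
  have hfin := L_finite hK D
  have hmem : ∀ y ∈ L (D + div k z), LinearMap.mulLeft k z y ∈ L D := fun y hy =>
    (mul_mem_L_iff hK D z y hz).mpr hy
  have hinj : Function.Injective ((LinearMap.mulLeft k z).restrict hmem) := by
    intro a b hab
    have h1 : z * (a : K) = z * (b : K) := congrArg Subtype.val hab
    exact Subtype.ext (mul_left_cancel₀ hz h1)
  exact LinearMap.finrank_le_finrank_of_injective hinj

theorem ell_add_div (hK : IsFunctionField k K) (D : Divisor k K) {z : K} (hz : z ≠ 0) :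
    ell (D + div k z) = ell D := by
  apply le_antisymm (ell_add_div_le hK D hz)
  have := ell_add_div_le hK (D + div k z) (inv_ne_zero hz)
  rwa [div_inv hK, add_neg_cancel_right] at this

theorem deg_add_div (hK : IsFunctionField k K) (D : Divisor k K) (z : K) :
    (D + div k z).deg = D.deg := by
  rw [Divisor.deg_add, deg_div hK, add_zero]

/-- `deg D - ℓ(D)` is monotone in `D`. -/
theorem deg_sub_ell_mono (hK : IsFunctionField k K) {D₁ D₂ : Divisor k K} (h : D₁ ≤ D₂) :
    D₁.deg - ell D₁ ≤ D₂.deg - ell D₂ := by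
  have := ell_sub_le hK h
  omega

theorem ell_pos_iff (hK : IsFunctionField k K) (D : Divisor k K) : 0 < ell D ↔ L D ≠ ⊥ := by
  have := L_finite hK D
  unfold ell
  rw [Module.finrank_pos_iff, Submodule.nontrivial_iff_ne_bot]

/-- Riemann's inequality, weak form: `deg D - ℓ(D)` is bounded above. -/
theorem exists_riemann_bound (hK : IsFunctionField k K) :
    ∃ γ : ℤ, ∀ A : Divisor k K, A.deg - ell A ≤ γ := by
  obtain ⟨x, hx, hfd⟩ := hK.1
  obtain ⟨C, hC0, hC⟩ := exists_big_L hK hx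
  set n := finrank k⟮x⟯ K with hn
  have hnpos : 0 < n := Module.finrank_pos
  set Z : Divisor k K := zeroDiv k x with hZ
  have hZdeg : Z.deg = n := deg_zeroDiv hK hx
  have hZ0 : 0 ≤ Z := zeroDiv_nonneg x
  -- the bound for multiples of `Z`
  have hlZ : ∀ l : ℕ, (l • Z).deg - ell (l • Z) ≤ C.deg - n := by
    intro l
    have h1 : l • Z ≤ l • Z + C := le_add_of_nonneg_right hC0
    have h2 := ell_sub_le hK h1
    rw [Divisor.deg_add, Divisor.deg_nsmul, hZdeg] at h2
    have h3 : (((l + 1) * n : ℕ) : ℤ) ≤ ell (l • Z + C) := by exact_mod_cast hC l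
    push_cast at h3
    rw [Divisor.deg_nsmul, hZdeg]
    linarith
  refine ⟨C.deg - n, fun A => ?_⟩
  set A₁ : Divisor k K := A ⊔ 0 with hA₁
  have hAA₁ : A ≤ A₁ := le_sup_left
  set l : ℕ := (C.deg - n + A₁.deg + 1).toNat with hl
  have hl' : C.deg - n + A₁.deg + 1 ≤ (l : ℤ) := Int.self_le_toNat _
  -- `ℓ(lZ - A₁) > 0`
  have h1 : l • Z - A₁ ≤ l • Z := sub_le_self _ le_sup_right
  have h2 := ell_sub_le hK h1
  rw [Divisor.deg_sub] at h2
  have h3 := hlZ l
  rw [Divisor.deg_nsmul, hZdeg] at h3 h2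
  have h4 : (l : ℤ) ≤ l * n := by
    have : (1 : ℤ) ≤ n := by exact_mod_cast hnpos
    nlinarith
  have hpos : 0 < ell (l • Z - A₁) := by
    have : (0 : ℤ) < ell (l • Z - A₁) := by linarith
    exact_mod_cast this
  obtain ⟨z, hz0, hz⟩ := (L_ne_bot_iff hK _).mp ((ell_pos_iff hK _).mp hpos)
  -- `D = A₁ - (z) ≤ lZ`
  have hD : A₁ + div k z⁻¹ ≤ l • Z := by
    rw [div_inv hK]
    intro P
    have := hz P
    simp only [Finsupp.add_apply, Finsupp.sub_apply, Finsupp.neg_apply, Finsupp.zero_apply]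
      at this ⊢
    omega
  have h5 := deg_sub_ell_mono hK hAA₁
  have h6 := deg_sub_ell_mono hK hD
  rw [deg_add_div hK, ell_add_div hK _ (inv_ne_zero hz0)] at h6
  have h7 := hlZ l
  linarith

theorem genus_bddAbove (hK : IsFunctionField k K) :
    BddAbove (Set.range fun D : Divisor k K => (D.deg + 1 - (ell D : ℤ)).toNat) := by
  obtain ⟨γ, hγ⟩ := exists_riemann_bound hK
  refine ⟨(γ + 1).toNat, ?_⟩
  rintro _ ⟨D, rfl⟩
  apply Int.toNat_le_toNat
  have := hγ D
  linarith

/-- Riemann's inequality. -/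
theorem le_genus (hK : IsFunctionField k K) (D : Divisor k K) :
    D.deg + 1 - (ell D : ℤ) ≤ genus k K := by
  have h1 : (D.deg + 1 - (ell D : ℤ)).toNat ≤ genus k K :=
    le_csSup (genus_bddAbove hK) ⟨D, rfl⟩
  have h2 := Int.self_le_toNat (D.deg + 1 - (ell D : ℤ))
  have h3 : ((D.deg + 1 - (ell D : ℤ)).toNat : ℤ) ≤ genus k K := by exact_mod_cast h1
  linarith

theorem exists_genus_eq (hK : IsFunctionField k K) :
    ∃ D : Divisor k K, D.deg + 1 - (ell D : ℤ) = genus k K := by
  have hne : (Set.range fun D : Divisor k K => (D.deg + 1 - (ell D : ℤ)).toNat).Nonempty :=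
    ⟨_, ⟨0, rfl⟩⟩
  obtain ⟨D, hD⟩ := Nat.sSup_mem hne (genus_bddAbove hK)
  have hD' : (D.deg + 1 - (ell D : ℤ)).toNat = genus k K := hD
  by_cases h0 : 0 ≤ D.deg + 1 - (ell D : ℤ)
  · refine ⟨D, ?_⟩
    rw [← hD', Int.toNat_of_nonneg h0]
  · refine ⟨0, ?_⟩
    rw [← hD', Int.toNat_eq_zero.mpr (by omega), Divisor.deg_zero, ell_zero hK]
    simp

/-- Riemann's theorem. -/
theorem riemann (hK : IsFunctionField k K) :
    ∃ N : ℤ, ∀ D : Divisor k K, N ≤ D.deg → D.deg + 1 - (ell D : ℤ) = genus k K := by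
  obtain ⟨A₀, hA₀⟩ := exists_genus_eq hK
  refine ⟨A₀.deg + genus k K, fun A hA => ?_⟩
  apply le_antisymm (le_genus hK A)
  have h1 := le_genus hK (A - A₀)
  rw [Divisor.deg_sub] at h1
  have hpos : 0 < ell (A - A₀) := by
    have : (0 : ℤ) < ell (A - A₀) := by linarith
    exact_mod_cast this
  obtain ⟨z, hz0, hz⟩ := (L_ne_bot_iff hK _).mp ((ell_pos_iff hK _).mp hpos)
  have hle : A₀ ≤ A + div k z := by
    intro P
    have := hz P
    simp only [Finsupp.add_apply, Finsupp.sub_apply, Finsupp.zero_apply] at this ⊢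
    omega
  have h2 := deg_sub_ell_mono hK hle
  rw [deg_add_div hK, ell_add_div hK _ hz0] at h2
  linarith

end Groth.Agent.H55
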