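import Mathlib

set_option autoImplicit false

namespace Groth.Agent.H55

open Module

variable {k : Type*} [Field k]

/-- Additivity of `finrank` in a short exact sequence of vector spaces. -/
theorem finrank_of_exact {V₁ V₂ V₃ : Type*} [AddCommGroup V₁] [Module k V₁] [AddCommGroup V₂]
    [Module k V₂] [AddCommGroup V₃] [Module k V₃] (f : V₁ →ₗ[k] V₂) (g : V₂ →ₗ[k] V₃)
    (hf : Function.Injective f) (hfg : Function.Exact f g) (hg : Function.Surjective g)
    [Module.Finite k V₁] [Module.Finite k V₃] :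
    Module.Finite k V₂ ∧ finrank k V₂ = finrank k V₁ + finrank k V₃ := by
  have hfin : Module.Finite k V₂ := Module.Finite.of_exact hfg hg
  refine ⟨hfin, ?_⟩
  have h1 := LinearMap.finrank_range_add_finrank_ker g
  rw [LinearMap.range_eq_top.mpr hg, finrank_top] at h1
  have h2 : LinearMap.ker g = LinearMap.range f := (LinearMap.exact_iff.mp hfg)
  rw [h2, LinearMap.finrank_range_of_inj hf] at h1
  omega

section RelQ

variable {W : Type*} [AddCommGroup W] [Module k W]

/-- the relative quotient `B / (A ∩ B)` -/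
abbrev RelQ (A B : Submodule k W) : Type _ := B ⧸ A.comap B.subtype

/-- the map on relative quotients induced by a linear map -/
noncomputable def relQMap {W' : Type*} [AddCommGroup W'] [Module k W'] (f : W' →ₗ[k] W)
    (A' B' : Submodule k W') (A B : Submodule k W) (hB : B' ≤ B.comap f) (hA : A' ≤ A.comap f) :
    RelQ A' B' →ₗ[k] RelQ A B :=
  Submodule.mapQ _ _ (f.restrict hB) (by
    intro x hx
    rw [Submodule.mem_comap] at hx ⊢
    exact hA hx)

theorem relQMap_mk {W' : Type*} [AddCommGroup W'] [Module k W'] (f : W' →ₗ[k] W)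
    (A' B' : Submodule k W') (A B : Submodule k W) (hB : B' ≤ B.comap f) (hA : A' ≤ A.comap f)
    (x : B') : relQMap f A' B' A B hB hA (Submodule.Quotient.mk x) =
      Submodule.Quotient.mk ⟨f x, hB x.2⟩ := rfl

theorem relQMap_injective {W' : Type*} [AddCommGroup W'] [Module k W'] (f : W' →ₗ[k] W)
    (A' B' : Submodule k W') (A B : Submodule k W) (hB : B' ≤ B.comap f) (hA : A' ≤ A.comap f)
    (h : ∀ x ∈ B', f x ∈ A → x ∈ A') : Function.Injective (relQMap f A' B' A B hB hA) := by
  rw [← LinearMap.ker_eq_bot, LinearMap.ker_eq_bot']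
  intro q hq
  obtain ⟨x, rfl⟩ := Submodule.Quotient.mk_surjective _ q
  rw [relQMap_mk, Submodule.Quotient.mk_eq_zero, Submodule.mem_comap] at hq
  rw [Submodule.Quotient.mk_eq_zero, Submodule.mem_comap]
  exact h x x.2 hq

theorem relQMap_surjective {W' : Type*} [AddCommGroup W'] [Module k W'] (f : W' →ₗ[k] W)
    (A' B' : Submodule k W') (A B : Submodule k W) (hB : B' ≤ B.comap f) (hA : A' ≤ A.comap f)
    (h : ∀ y ∈ B, ∃ x ∈ B', y - f x ∈ A) : Function.Surjective (relQMap f A' B' A B hB hA) := by
  intro q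
  obtain ⟨y, rfl⟩ := Submodule.Quotient.mk_surjective _ q
  obtain ⟨x, hx, hxy⟩ := h y y.2
  refine ⟨Submodule.Quotient.mk ⟨x, hx⟩, ?_⟩
  rw [relQMap_mk, Submodule.Quotient.eq, Submodule.mem_comap]
  simpa using A.neg_mem hxy

/-- Additivity of relative dimension along `A ≤ B ≤ C`. -/
theorem relQ_add (A B C : Submodule k W) (hAB : A ≤ B) (hBC : B ≤ C)
    [Module.Finite k (RelQ A B)] [Module.Finite k (RelQ B C)] :
    Module.Finite k (RelQ A C) ∧
      finrank k (RelQ A C) = finrank k (RelQ A B) + finrank k (RelQ B C) := by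
  have hB1 : B ≤ C.comap (LinearMap.id : W →ₗ[k] W) := by simpa using hBC
  have hA1 : A ≤ A.comap (LinearMap.id : W →ₗ[k] W) := by simp
  have hC1 : C ≤ C.comap (LinearMap.id : W →ₗ[k] W) := by simp
  have hAB1 : A ≤ B.comap (LinearMap.id : W →ₗ[k] W) := by simpa using hAB
  apply finrank_of_exact (relQMap LinearMap.id A B A C hB1 hA1)
    (relQMap LinearMap.id A C B C hC1 hAB1)
  · apply relQMap_injective
    intro x _ hx
    simpa using hx
  · intro q
    constructor
    · intro hq
      obtain ⟨x, rfl⟩ := Submodule.Quotient.mk_surjective _ q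
      rw [relQMap_mk, Submodule.Quotient.mk_eq_zero, Submodule.mem_comap] at hq
      have hxB : (x : W) ∈ B := by simpa using hq
      refine ⟨Submodule.Quotient.mk ⟨x, hxB⟩, ?_⟩
      rw [relQMap_mk]
      rfl
    · rintro ⟨p, rfl⟩
      obtain ⟨x, rfl⟩ := Submodule.Quotient.mk_surjective _ p
      rw [relQMap_mk, relQMap_mk, Submodule.Quotient.mk_eq_zero, Submodule.mem_comap]
      simp
  · apply relQMap_surjective
    intro y hy
    exact ⟨y, hy, by simp⟩

/-- A surjective map from `B` with kernel `A ∩ B` identifies the relative quotient. -/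
noncomputable def relQEquivOfSurjective (A B : Submodule k W) {V : Type*} [AddCommGroup V]
    [Module k V] (g : B →ₗ[k] V) (hg : Function.Surjective g)
    (hker : ∀ x : B, g x = 0 ↔ (x : W) ∈ A) : RelQ A B ≃ₗ[k] V :=
  (Submodule.quotEquivOfEq _ _ (by
    ext x
    rw [LinearMap.mem_ker, Submodule.mem_comap, hker]
    rfl)).trans (g.quotKerEquivOfSurjective hg)

theorem relQ_eq_zero (A B : Submodule k W) (h : B ≤ A) : Subsingleton (RelQ A B) := by
  rw [Submodule.Quotient.subsingleton_iff, eq_top_iff]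
  intro x _
  exact h x.2

end RelQ

end Groth.Agent.H55
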