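import Groth.Agent.H55.FFApprox
import Groth.Agent.H55.LinAlg

set_option autoImplicit false

namespace Groth.Agent.H55

open FunFld WithZero Module

variable {k K : Type*} [Field k] [Field K] [Algebra k K]

namespace Place

/-- elements of order at least `a` at `P` (together with `0`) -/
def ball (P : Place k K) (a : ℤ) : Submodule k K where
  carrier := {x | P.1 x ≤ exp (-a)}
  add_mem' {x y} hx hy := (P.1.map_add x y).trans (max_le hx hy)
  zero_mem' := by simp
  smul_mem' c x hx := by
    rw [Set.mem_ofPred_eq, Algebra.smul_def, map_mul]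
    exact (mul_le_mul' (P.2.1 c) hx).trans_eq (one_mul _)

theorem mem_ball (P : Place k K) {a : ℤ} {x : K} : x ∈ ball P a ↔ P.1 x ≤ exp (-a) := Iff.rfl

theorem ball_anti (P : Place k K) {a b : ℤ} (h : a ≤ b) : ball P b ≤ ball P a := by
  intro x hx
  rw [mem_ball] at hx ⊢
  exact hx.trans (exp_le_exp.mpr (by omega))

theorem lt_exp_iff_le_exp_sub_one {x : WithZero (Multiplicative ℤ)} {n : ℤ} :
    x < exp n ↔ x ≤ exp (n - 1) := by
  have : exp n = exp (n - 1) * exp (1 : ℤ) := by rw [← exp_add]; congr 1; ring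
  rw [this, lt_mul_exp_iff_le exp_ne_zero]

/-- the map `x ↦ t^(-a) x` from the ball of radius `a` to the valuation ring -/
noncomputable def ballToO (P : Place k K) (a : ℤ) (t : K) (ht : P.1 t = exp (-1 : ℤ)) :
    ball P a →ₗ[k] P.O where
  toFun x := ⟨t ^ (-a) * (x : K), by
    have hx : P.1 (x : K) ≤ exp (-a) := x.2
    show P.1 (t ^ (-a) * (x : K)) ≤ 1
    rw [map_mul, map_zpow₀, ht, ← exp_zsmul]
    calc exp (-a • (-1 : ℤ)) * P.1 (x : K) ≤ exp (-a • (-1 : ℤ)) * exp (-a) := by gcongr
      _ = 1 := by rw [← exp_add, ← exp_zero]; congr 1; simp⟩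
  map_add' x y := by
    apply Subtype.ext
    show t ^ (-a) * ((x : K) + (y : K)) = t ^ (-a) * (x : K) + t ^ (-a) * (y : K)
    ring
  map_smul' c x := by
    apply Subtype.ext
    rw [RingHom.id_apply, coe_smul]
    show t ^ (-a) * (c • (x : K)) = c • (t ^ (-a) * (x : K))
    rw [mul_smul_comm]

theorem ballToO_coe (P : Place k K) (a : ℤ) (t : K) (ht : P.1 t = exp (-1 : ℤ)) (x : ball P a) :
    ((ballToO P a t ht x : P.O) : K) = t ^ (-a) * (x : K) := rfl

/-- `ball a / ball (a+1)` is the residue field -/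
noncomputable def ballQuotEquiv (P : Place k K) (a : ℤ) :
    RelQ (ball P (a + 1)) (ball P a) ≃ₗ[k] IsLocalRing.ResidueField P.O := by
  classical
  let t := (exists_uniformizer P).choose
  have ht : P.1 t = exp (-1 : ℤ) := (exists_uniformizer P).choose_spec
  have ht0 : t ≠ 0 := ne_zero_of_val_eq_exp P ht
  refine relQEquivOfSurjective _ _ ((resLin P).comp (ballToO P a t ht)) ?_ ?_
  · intro w
    obtain ⟨z, rfl⟩ := IsLocalRing.residue_surjective w
    have hz : P.1 (z : K) ≤ 1 := z.2
    have hmem : t ^ a * (z : K) ∈ ball P a := by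
      rw [mem_ball, map_mul, map_zpow₀, ht, ← exp_zsmul]
      calc exp (a • (-1 : ℤ)) * P.1 (z : K) ≤ exp (a • (-1 : ℤ)) * 1 := by gcongr
        _ = exp (-a) := by rw [mul_one]; congr 1; simp
    refine ⟨⟨_, hmem⟩, ?_⟩
    rw [LinearMap.comp_apply, resLin_apply]
    congr 1
    apply Subtype.ext
    rw [ballToO_coe]
    show t ^ (-a) * (t ^ a * (z : K)) = z
    rw [← mul_assoc, ← zpow_add₀ ht0]; simp
  · intro x
    rw [LinearMap.comp_apply, resLin_apply, residue_eq_zero_iff, ballToO_coe, mem_ball, map_mul,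
      map_zpow₀, ht, ← exp_zsmul]
    have h1 : exp (-a • (-1 : ℤ)) = exp a := by congr 1; simp
    rw [h1]
    have h2 : exp a * P.1 (x : K) < 1 ↔ P.1 (x : K) < exp (-a) := by
      have h3 : (0 : WithZero (Multiplicative ℤ)) < exp a := exp_pos
      rw [exp_neg, ← mul_one (exp a)⁻¹, lt_inv_mul_iff₀ h3]
    rw [h2, lt_exp_iff_le_exp_sub_one]
    have : -a - 1 = -(a + 1) := by ring
    rw [this]

theorem ballQuot_finrank (hK : IsFunctionField k K) (P : Place k K) (a : ℤ) :
    Module.Finite k (RelQ (ball P (a + 1)) (ball P a)) ∧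
      finrank k (RelQ (ball P (a + 1)) (ball P a)) = P.deg := by
  have := finiteDimensional_residue hK P
  exact ⟨Module.Finite.equiv (ballQuotEquiv P a).symm, (ballQuotEquiv P a).finrank_eq⟩

theorem ball_finrank (hK : IsFunctionField k K) (P : Place k K) (a : ℤ) (m : ℕ) :
    Module.Finite k (RelQ (ball P (a + m)) (ball P a)) ∧
      finrank k (RelQ (ball P (a + m)) (ball P a)) = m * P.deg := by
  induction m with
  | zero =>
    have : Subsingleton (RelQ (ball P (a + (0 : ℕ))) (ball P a)) :=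
      relQ_eq_zero _ _ (by simp)
    exact ⟨inferInstance, by rw [Nat.zero_mul]; exact Module.finrank_zero_of_subsingleton⟩
  | succ m ih =>
    have h1 := ballQuot_finrank hK P (a + m)
    have hA : ball P (a + (m + 1 : ℕ)) = ball P (a + m + 1) := by
      congr 1; push_cast; ring
    rw [hA]
    obtain ⟨hf1, hr1⟩ := h1
    obtain ⟨hf2, hr2⟩ := ih
    have := relQ_add (ball P (a + m + 1)) (ball P (a + m)) (ball P a)
      (ball_anti P (by omega)) (ball_anti P (by omega))
    refine ⟨this.1, ?_⟩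
    rw [this.2, hr1, hr2]; ring

theorem ball_finrank' (hK : IsFunctionField k K) (P : Place k K) {a b : ℤ} (h : a ≤ b) :
    Module.Finite k (RelQ (ball P b) (ball P a)) ∧
      (finrank k (RelQ (ball P b) (ball P a)) : ℤ) = (b - a) * P.deg := by
  obtain ⟨m, rfl⟩ : ∃ m : ℕ, b = a + m := ⟨(b - a).toNat, by omega⟩
  have := ball_finrank hK P a m
  refine ⟨this.1, ?_⟩
  rw [this.2]; push_cast; ring

/-- the local quotient `{ord ≥ a} / {ord ≥ b}` -/
def LocQ (P : Place k K) (a b : ℤ) : Type _ := RelQ (ball P b) (ball P a)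

noncomputable instance (P : Place k K) (a b : ℤ) : AddCommGroup (LocQ P a b) :=
  inferInstanceAs (AddCommGroup (RelQ (ball P b) (ball P a)))

noncomputable instance (P : Place k K) (a b : ℤ) : Module k (LocQ P a b) :=
  inferInstanceAs (Module k (RelQ (ball P b) (ball P a)))

/-- the quotient map to the local quotient -/
noncomputable def LocQ.mk (P : Place k K) (a b : ℤ) : ball P a →ₗ[k] LocQ P a b :=
  Submodule.mkQ _

theorem LocQ.mk_surjective (P : Place k K) (a b : ℤ) : Function.Surjective (LocQ.mk P a b) :=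
  Submodule.mkQ_surjective _

theorem LocQ.mk_eq_zero (P : Place k K) (a b : ℤ) (x : ball P a) :
    LocQ.mk P a b x = 0 ↔ (x : K) ∈ ball P b := by
  have h : (Submodule.Quotient.mk x : RelQ (ball P b) (ball P a)) = 0 ↔ (x : K) ∈ ball P b := by
    rw [Submodule.Quotient.mk_eq_zero, Submodule.mem_comap]
    rfl
  exact h

theorem LocQ.finrank (hK : IsFunctionField k K) (P : Place k K) {a b : ℤ} (h : a ≤ b) :
    Module.Finite k (LocQ P a b) ∧ (Module.finrank k (LocQ P a b) : ℤ) = (b - a) * P.deg :=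
  ball_finrank' hK P h

end Place

end Groth.Agent.H55
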