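import Groth.Agent.H55.FFStrong

set_option autoImplicit false

namespace Groth.Agent.H55

open FunFld WithZero Module IntermediateField

variable {k K : Type*} [Field k] [Field K] [Algebra k K]

theorem ell_eq_zero_of_deg_neg (hK : IsFunctionField k K) {D : Divisor k K} (h : D.deg < 0) :
    ell D = 0 := by
  have : L D = ⊥ := L_eq_bot_of_deg_neg hK _ h
  unfold ell
  rw [this]
  exact finrank_bot k K

theorem ell_pos_of_nonneg (hK : IsFunctionField k K) {D : Divisor k K} (h : 0 ≤ D) :
    0 < ell D := by
  have := ell_mono hK h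
  rw [ell_zero hK] at this
  omega

/-- S11031 -/
theorem exists_weil_of_effective (hK : IsFunctionField k K) (D : Divisor k K) (hD : 0 ≤ D)
    (hdeg : D.deg < genus k K) : ∃ ω : Module.Dual k (adele k K), ω ≠ 0 ∧ ω ∈ WD D := by
  obtain ⟨hfin, hrank⟩ := WD_finrank hK D
  have h1 : (1 : ℤ) ≤ ell D := by exact_mod_cast ell_pos_of_nonneg hK hD
  have hpos : 0 < finrank k (WD D) := by
    have : (0 : ℤ) < finrank k (WD D) := by rw [hrank]; linarith
    exact_mod_cast this
  have hne : WD D ≠ ⊥ := by
    intro h
    rw [h, finrank_bot] at hpos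
    exact lt_irrefl _ hpos
  obtain ⟨ω, hω, hω0⟩ := Submodule.exists_mem_ne_zero_of_ne_bot hne
  exact ⟨ω, hω0, hω⟩

theorem Place.deg_eq_one_of_isAlgClosed [IsAlgClosed k] (hK : IsFunctionField k K)
    (P : Place k K) : P.deg = 1 := by
  have hfd := Place.finiteDimensional_residue hK P
  have hfd' : @Module.Finite k (IsLocalRing.ResidueField P.O) _ _ Algebra.toModule := hfd
  have hint : Algebra.IsIntegral k (IsLocalRing.ResidueField P.O) :=
    Algebra.IsIntegral.of_finite k _
  have hbij : Function.Bijective (algebraMap k (IsLocalRing.ResidueField P.O)) :=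
    IsAlgClosed.algebraMap_bijective_of_isIntegral
  unfold FunFld.Place.deg
  rw [finrank_eq_one_iff_of_nonzero' (1 : IsLocalRing.ResidueField P.O) one_ne_zero]
  intro w
  obtain ⟨c, hc⟩ := hbij.2 w
  refine ⟨c, ?_⟩
  rw [← hc, Algebra.algebraMap_eq_smul_one]
  rfl

theorem deg_single_of_deg_one {P : Place k K} (hP : P.deg = 1) (n : ℤ) :
    FunFld.Divisor.deg (Finsupp.single P n : Divisor k K) = n := by
  rw [Divisor.deg_single, hP]; simp

/-- `ℓ(P) = 1` in positive genus for a place of degree one -/
theorem ell_single_one (hK : IsFunctionField k K) (hg : 0 < genus k K) {P : Place k K}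
    (hP : P.deg = 1) : ell (Finsupp.single P 1 : Divisor k K) = 1 := by
  classical
  have h0 : (0 : Divisor k K) ≤ Finsupp.single P 1 := by
    intro Q
    rw [Finsupp.zero_apply, Finsupp.single_apply]
    split_ifs <;> omega
  have h1 := ell_pos_of_nonneg hK h0
  by_contra hne
  have h2 : 2 ≤ ell (Finsupp.single P 1 : Divisor k K) := by omega
  have hnle : ¬ L (Finsupp.single P 1 : Divisor k K) ≤ L (0 : Divisor k K) := by
    intro hle
    have hfin := (finrank_L_zero hK).1
    have := Submodule.finrank_mono hle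
    rw [(finrank_L_zero hK).2] at this
    unfold ell at h2
    omega
  obtain ⟨x, hxL, hx0⟩ := Set.not_subset.mp hnle
  have hxk : x ∉ Set.range (algebraMap k K) := by
    intro hmem
    apply hx0
    show x ∈ L (0 : Divisor k K)
    rw [L_zero hK, Submodule.mem_one]
    exact hmem
  have htr := transcendental_of_notMem_range hK hxk
  have hxne : x ≠ 0 := fun h => htr (h ▸ isAlgebraic_zero)
  have hple : poleDiv k x ≤ Finsupp.single P 1 := by
    intro Q
    rw [poleDiv_apply hK]
    have h3 := (mem_L_iff_ord hxne).mp hxL Q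
    exact max_le (by omega) (h0 Q)
  have h5 := Divisor.deg_mono hple
  rw [deg_single_of_deg_one hP, deg_poleDiv hK htr] at h5
  have hfd := finiteDimensional_adjoin_of_transcendental hK htr
  have h6 : 0 < finrank k⟮x⟯ K := Module.finrank_pos
  have h7 : k⟮x⟯ = ⊤ := eq_top_of_finrank_eq_one _ (by omega)
  have := genus_eq_zero_of_adjoin_eq_top hK h7
  omega

/-- S11044 -/
theorem ell_sub_single_lt (hK : IsFunctionField k K) (hg : 0 < genus k K) (D : Divisor k K)
    (hD : 2 * (genus k K : ℤ) ≤ D.deg ∨ IsCanonical k K D) {P : Place k K} (hP : P.deg = 1) :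
    ell (D - Finsupp.single P 1) < ell D := by
  have hdeg : (D - Finsupp.single P 1).deg = D.deg - 1 := by
    rw [Divisor.deg_sub, deg_single_of_deg_one hP]
  rcases hD with hD | hD
  · have h1 := ell_of_deg_ge hK D (by omega)
    have h2 := ell_of_deg_ge hK (D - Finsupp.single P 1) (by rw [hdeg]; omega)
    rw [hdeg] at h2
    have : (ell (D - Finsupp.single P 1) : ℤ) < ell D := by omega
    exact_mod_cast this
  · obtain ⟨hell, hDdeg⟩ := canonical_ell_deg hK hD
    have h1 := riemann_roch hK hD (D - Finsupp.single P 1)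
    rw [hdeg, hDdeg, sub_sub_cancel, ell_single_one hK hg hP] at h1
    have : (ell (D - Finsupp.single P 1) : ℤ) < ell D := by
      rw [hell]; push_cast at h1 ⊢; omega
    exact_mod_cast this

end Groth.Agent.H55
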