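import Groth.Agent.H55.FFAut

set_option autoImplicit false

namespace Groth.Agent.H55

open FunFld WithZero Module IntermediateField

variable {k K : Type*} [Field k] [Field K] [Algebra k K]

/-- the `k`-algebra generated by the ratios `w / s`, `w ∈ W` -/
def ratioAlg (W : Submodule k K) (s : K) : Subalgebra k K :=
  Algebra.adjoin k ((fun w => w / s) '' (W : Set K))

theorem div_mem_ratioAlg {W : Submodule k K} {s w : K} (hw : w ∈ W) : w / s ∈ ratioAlg W s :=
  Algebra.subset_adjoin ⟨w, hw, rfl⟩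

theorem pow_div_mem_ratioAlg {W : Submodule k K} {s : K} (N : ℕ) :
    ∀ w ∈ W ^ N, w / s ^ N ∈ ratioAlg W s := by
  induction N with
  | zero =>
    intro w hw
    rw [pow_zero, Submodule.mem_one] at hw
    obtain ⟨c, rfl⟩ := hw
    rw [pow_zero, div_one]
    exact (ratioAlg W s).algebraMap_mem c
  | succ N ih =>
    intro w hw
    rw [pow_succ] at hw
    refine Submodule.mul_induction_on hw ?_ ?_
    · intro a ha b hb
      have : a * b / s ^ (N + 1) = (a / s ^ N) * (b / s) := by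
        rw [pow_succ]; field_simp
      rw [this]
      exact (ratioAlg W s).mul_mem (ih a ha) (div_mem_ratioAlg hb)
    · intro a b ha hb
      rw [add_div]
      exact (ratioAlg W s).add_mem ha hb

theorem one_le_pow_of_mem {W : Submodule k K} (h1 : (1 : K) ∈ W) (N : ℕ) : (1 : K) ∈ W ^ N :=
  Submodule.one_le.mp (one_le_pow_of_one_le' (Submodule.one_le.mpr h1) N)

theorem pow_mem_pow_of_mem {W : Submodule k K} {s : K} (hs : s ∈ W) (N : ℕ) : s ^ N ∈ W ^ N :=
  Submodule.pow_mem_pow W hs N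

theorem mem_ratioAlg_iff {W : Submodule k K} {s : K} (hs : s ∈ W) (hs0 : s ≠ 0) {z : K} :
    z ∈ ratioAlg W s ↔ ∃ N : ℕ, ∃ w ∈ W ^ N, z = w / s ^ N := by
  constructor
  · intro hz
    unfold ratioAlg at hz
    induction hz using Algebra.adjoin_induction with
    | mem x hx =>
      obtain ⟨w, hw, rfl⟩ := hx
      exact ⟨1, w, by rwa [pow_one], by rw [pow_one]⟩
    | algebraMap c =>
      refine ⟨0, algebraMap k K c, ?_, by rw [pow_zero, div_one]⟩
      rw [pow_zero, Submodule.mem_one]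
      exact ⟨c, rfl⟩
    | add x y _ _ hx hy =>
      obtain ⟨N, w, hw, rfl⟩ := hx
      obtain ⟨N', w', hw', rfl⟩ := hy
      refine ⟨N + N', w * s ^ N' + w' * s ^ N, ?_, ?_⟩
      · rw [pow_add]
        refine Submodule.add_mem _ (Submodule.mul_mem_mul hw (pow_mem_pow_of_mem hs N')) ?_
        rw [mul_comm (W ^ N)]
        exact Submodule.mul_mem_mul hw' (pow_mem_pow_of_mem hs N)
      · rw [pow_add]; field_simp
    | mul x y _ _ hx hy =>
      obtain ⟨N, w, hw, rfl⟩ := hx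
      obtain ⟨N', w', hw', rfl⟩ := hy
      refine ⟨N + N', w * w', ?_, ?_⟩
      · rw [pow_add]; exact Submodule.mul_mem_mul hw hw'
      · rw [pow_add]; field_simp
  · rintro ⟨N, w, hw, rfl⟩
    exact pow_div_mem_ratioAlg N w hw

theorem ratioAlg_eq_adjoin_range {ι : Type*} (φ : ι → K) (j : ι) :
    ratioAlg (Submodule.span k (Set.range φ)) (φ j) =
      Algebra.adjoin k (Set.range fun i => φ i / φ j) := by
  apply le_antisymm
  · apply Algebra.adjoin_le
    rintro _ ⟨w, hw, rfl⟩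
    exact span_div_mem_adjoin φ j hw
  · apply Algebra.adjoin_le
    rintro _ ⟨i, rfl⟩
    exact div_mem_ratioAlg (Submodule.subset_span ⟨i, rfl⟩)

/-- membership in the local ring of `W` at `P`, computed with the denominator `s` -/
def InLoc (W : Submodule k K) (s : K) (P : Place k K) (z : K) : Prop :=
  ∃ u ∈ ratioAlg W s, ∃ w ∈ ratioAlg W s, P.1 w = 1 ∧ z * w = u

/-- independence of the denominator -/
theorem InLoc.change {W : Submodule k K} {s s' : K} (hs : s ∈ W) (hs0 : s ≠ 0) (hs' : s' ∈ W)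
    (hs'0 : s' ≠ 0) {P : Place k K} (hP : P.1 s' = P.1 s) {z : K} (h : InLoc W s' P z) :
    InLoc W s P z := by
  obtain ⟨u, hu, w, hw, hw1, hzw⟩ := h
  obtain ⟨N, a, ha, rfl⟩ := (mem_ratioAlg_iff hs' hs'0).mp hu
  obtain ⟨N', b, hb, rfl⟩ := (mem_ratioAlg_iff hs' hs'0).mp hw
  set ρ := s' / s with hρ
  have hρA : ρ ∈ ratioAlg W s := div_mem_ratioAlg hs'
  have hρ1 : P.1 ρ = 1 := by
    rw [hρ, map_div₀, hP]
    exact div_self ((Valuation.ne_zero_iff _).mpr hs0)
  refine ⟨(a / s ^ N) * ρ ^ N', ?_, (b / s ^ N') * ρ ^ N, ?_, ?_, ?_⟩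
  · exact (ratioAlg W s).mul_mem (pow_div_mem_ratioAlg N a ha) ((ratioAlg W s).pow_mem hρA N')
  · exact (ratioAlg W s).mul_mem (pow_div_mem_ratioAlg N' b hb) ((ratioAlg W s).pow_mem hρA N)
  · have h1 : b / s ^ N' = (b / s' ^ N') * ρ ^ N' := by
      rw [hρ, div_pow]; field_simp
    rw [h1, map_mul, map_mul, map_pow, map_pow, hρ1, hw1]
    simp
  · have h1 : b / s ^ N' = (b / s' ^ N') * ρ ^ N' := by
      rw [hρ, div_pow]; field_simp
    have h2 : a / s ^ N = (a / s' ^ N) * ρ ^ N := by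
      rw [hρ, div_pow]; field_simp
    rw [h1, h2, ← hzw]; ring

/-- the abstract nonsingularity condition -/
def NonsingAt (W : Submodule k K) (P : Place k K) : Prop :=
  ∀ z : K, P.1 z ≤ 1 → ∃ s ∈ W, s ≠ 0 ∧ (∀ w ∈ W, P.1 w ≤ P.1 s) ∧ InLoc W s P z

theorem val_le_of_mem_span {ι : Type*} (φ : ι → K) (P : Place k K) (j : ι)
    (hj : ∀ i, P.1 (φ i) ≤ P.1 (φ j)) :
    ∀ w ∈ Submodule.span k (Set.range φ), P.1 w ≤ P.1 (φ j) := by
  intro w hw
  induction hw using Submodule.span_induction with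
  | mem x hx =>
    obtain ⟨i, rfl⟩ := hx
    exact hj i
  | zero => simp
  | add x y _ _ hx hy => exact (P.1.map_add _ _).trans (max_le hx hy)
  | smul c x _ hx =>
    rw [Algebra.smul_def, map_mul]
    exact (mul_le_mul' (P.2.1 c) hx).trans_eq (one_mul _)

theorem inLocRing_iff {ι : Type*} (φ : ι → K) (P : Place k K) (z : K) :
    InLocRing φ P z ↔ ∃ j, φ j ≠ 0 ∧ (∀ i, P.1 (φ i) ≤ P.1 (φ j)) ∧
      InLoc (Submodule.span k (Set.range φ)) (φ j) P z := by
  unfold InLocRing InLoc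
  simp_rw [ratioAlg_eq_adjoin_range]

/-- a nonzero entry of largest value -/
theorem exists_max_entry {ι : Type*} [Fintype ι] (φ : ι → K) (P : Place k K)
    (h0 : ∃ i, φ i ≠ 0) : ∃ j, φ j ≠ 0 ∧ ∀ i, P.1 (φ i) ≤ P.1 (φ j) := by
  classical
  obtain ⟨i0, hi0⟩ := h0
  obtain ⟨j, -, hj⟩ := Finset.exists_max_image Finset.univ (fun i => P.1 (φ i))
    ⟨i0, Finset.mem_univ i0⟩
  refine ⟨j, ?_, fun i => hj i (Finset.mem_univ i)⟩
  intro h
  have := hj i0 (Finset.mem_univ i0)
  rw [h, map_zero] at this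
  exact (Valuation.ne_zero_iff _).mpr hi0 (le_antisymm this zero_le)

theorem isNonsingularAt_iff {ι : Type*} [Fintype ι] (φ : ι → K) (P : Place k K)
    (h0 : ∃ i, φ i ≠ 0) :
    IsNonsingularAt φ P ↔ NonsingAt (Submodule.span k (Set.range φ)) P := by
  have hφW : ∀ i, φ i ∈ Submodule.span k (Set.range φ) := fun i => Submodule.subset_span ⟨i, rfl⟩
  constructor
  · intro h z hz
    obtain ⟨j, hj0, hj, hloc⟩ := (inLocRing_iff φ P z).mp (h z hz)
    exact ⟨φ j, hφW j, hj0, val_le_of_mem_span φ P j hj, hloc⟩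
  · intro h z hz
    obtain ⟨s, hsW, hs0, hs, hloc⟩ := h z hz
    obtain ⟨j, hj0, hj⟩ := exists_max_entry φ P h0
    rw [inLocRing_iff]
    refine ⟨j, hj0, hj, ?_⟩
    refine InLoc.change (hφW j) hj0 hsW hs0 ?_ hloc
    exact le_antisymm (val_le_of_mem_span φ P j hj s hsW) (hs _ (hφW j))

end Groth.Agent.H55
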