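import Groth.Agent.H55.FFNS1

set_option autoImplicit false

namespace Groth.Agent.H55

open FunFld WithZero Module IntermediateField

variable {k K : Type*} [Field k] [Field K] [Algebra k K]

/-- (A): if `W^m = L(mD)` for large `m`, the map is nonsingular everywhere -/
theorem nonsingAt_of_L_le_pow (hK : IsFunctionField k K) {W : Submodule k K} {D : Divisor k K}
    (hWL : W ≤ L D) (hbpf : ∀ P : Place k K, ∃ s ∈ W, P.1 s = exp (D P))
    (hdeg : 0 < D.deg) (m₀ : ℕ) (hpow : ∀ m : ℕ, m₀ ≤ m → L (m • D) ≤ W ^ m)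
    (P : Place k K) : NonsingAt W P := by
  classical
  intro z hz
  obtain ⟨s, hsW, hsP⟩ := hbpf P
  have hs0 : s ≠ 0 := by
    rintro rfl
    rw [map_zero] at hsP
    exact exp_ne_zero hsP.symm
  have hsmax : ∀ w ∈ W, P.1 w ≤ P.1 s := by
    intro w hw
    rw [hsP]
    exact hWL hw P
  refine ⟨s, hsW, hs0, hsmax, ?_⟩
  by_cases hz0 : z = 0
  · refine ⟨0, Subalgebra.zero_mem _, 1, Subalgebra.one_mem _, map_one _, ?_⟩
    rw [hz0, zero_mul]
  set Z : Divisor k K := poleDiv k z with hZ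
  have hZ0 : 0 ≤ Z := poleDiv_nonneg z
  have hZP : Z P = 0 := by
    rw [hZ, poleDiv_apply hK]
    have := (Place.ord_nonneg_iff P hz0).mpr hz
    exact max_eq_right (by omega)
  have hZdeg : 0 ≤ Z.deg := Divisor.deg_nonneg hZ0
  have hPdeg : 0 < P.deg := Place.deg_pos hK P
  set e : ℕ := m₀ + (2 * (genus k K : ℤ) + Z.deg + P.deg).toNat with he
  have he1 : 2 * (genus k K : ℤ) + Z.deg + P.deg ≤ e := by
    have := Int.self_le_toNat (2 * (genus k K : ℤ) + Z.deg + P.deg)
    rw [he]; push_cast; omega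
  have hem : m₀ ≤ e := by omega
  set E : Divisor k K := e • D - Z with hE
  have hEdeg : E.deg = e * D.deg - Z.deg := by
    rw [hE, Divisor.deg_sub, Divisor.deg_nsmul]
  have hed : (e : ℤ) ≤ e * D.deg := by
    have : (0 : ℤ) ≤ e := by positivity
    nlinarith
  have h1 := ell_of_deg_ge hK E (by rw [hEdeg]; omega)
  have h2 := ell_of_deg_ge hK (E - Finsupp.single P 1) (by
    rw [Divisor.deg_sub, Divisor.deg_single, hEdeg]; push_cast; omega)
  rw [Divisor.deg_sub, Divisor.deg_single] at h2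
  have hlt : ell (E - Finsupp.single P 1) < ell E := by
    have : (ell (E - Finsupp.single P 1) : ℤ) < ell E := by
      rw [h1, h2]; push_cast; omega
    exact_mod_cast this
  obtain ⟨G, hGE, hGE'⟩ := exists_mem_notMem_of_ell_lt hK hlt
  obtain ⟨hG0, hGord⟩ := ord_eq_of_mem_of_notMem hGE hGE'
  have hGord' : P.ord G = -(e * D P) := by
    rw [hGord, hE, Finsupp.sub_apply, Finsupp.smul_apply, hZP, nsmul_eq_mul]; ring
  have hEle : E ≤ e • D := sub_le_self _ hZ0
  have hGL : G ∈ L (e • D) := L_mono hEle hGE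
  have hzL : z ∈ L Z := mem_L_of_poleDiv_le hK le_rfl
  have hzGL : z * G ∈ L (e • D) := by
    have := mul_mem_L hzL hGE
    rwa [hE, add_sub_cancel] at this
  have hGW : G ∈ W ^ e := hpow e hem hGL
  have hzGW : z * G ∈ W ^ e := hpow e hem hzGL
  refine ⟨z * G / s ^ e, pow_div_mem_ratioAlg e _ hzGW, G / s ^ e,
    pow_div_mem_ratioAlg e _ hGW, ?_, by ring⟩
  rw [map_div₀, map_pow, hsP, Place.val_eq_exp_neg_ord P hG0, hGord', neg_neg, ← exp_nsmul,
    nsmul_eq_mul]
  exact div_self exp_ne_zero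

/-- a place centred on a proper nonzero ideal of a subalgebra -/
theorem exists_place_center (hK : IsFunctionField k K) (A : Subalgebra k K)
    (I : Ideal A.toSubring) (hI : I ≠ ⊤) (r : A.toSubring) (hr : r ∈ I) (hr0 : (r : K) ≠ 0) :
    ∃ P : Place k K, (∀ a ∈ A, P.1 a ≤ 1) ∧ ∀ a : A.toSubring, a ∈ I → P.1 (a : K) < 1 := by
  obtain ⟨B, hAB, hIB⟩ := Ideal.image_subset_nonunits_valuationSubring I hI
  have hkB : ∀ c : k, algebraMap k K c ∈ B := fun c => hAB (A.algebraMap_mem c)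
  have hrB : (r : K) ∈ B.nonunits := hIB ⟨r, hr, rfl⟩
  have hrB' : (r : K) ∈ B := B.nonunits_subset hrB
  have hrinv : (r : K)⁻¹ ∉ B := by
    rcases B.mem_nonunits_iff_or.mp hrB with h | h
    · exact absurd h hr0
    · exact h
  obtain ⟨P, hP⟩ := exists_place_of_vs hK B hkB (r : K) hrB' hr0 hrinv
  refine ⟨P, fun a ha => (hP a).mpr (hAB ha), ?_⟩
  intro a ha
  have haB : (a : K) ∈ B.nonunits := hIB ⟨a, ha, rfl⟩
  rcases B.mem_nonunits_iff_or.mp haB with h | h
  · rw [h, map_zero]; exact zero_lt_one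
  · have h1 : ¬ P.1 (a : K)⁻¹ ≤ 1 := fun hle => h ((hP _).mp hle)
    rw [map_inv₀, not_le] at h1
    by_contra hge
    push Not at hge
    exact absurd (inv_le_one_of_one_le₀ hge) (not_le.mpr h1)

/-- (B1): elements of `L(mD)` become polynomial after multiplication by a power of `s` -/
theorem exists_pow_mul_mem (hK : IsFunctionField k K) {W : Submodule k K} {D : Divisor k K}
    (hbpf : ∀ P : Place k K, ∃ s ∈ W, P.1 s = exp (D P)) {s : K} (hs : s ∈ W) (hs0 : s ≠ 0)
    (hfrac : ∀ z : K, ∃ r ∈ ratioAlg W s, r ≠ 0 ∧ r * z ∈ ratioAlg W s)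
    (hns : ∀ P : Place k K, NonsingAt W P) (m : ℕ) {z : K} (hz : z ∈ L (m • D)) :
    ∃ N : ℕ, s ^ N * z ∈ W ^ (m + N) := by
  set A := ratioAlg W s with hA
  set z' := z / s ^ m with hz'
  suffices hmem : z' ∈ A by
    obtain ⟨N, w, hw, hzw⟩ := (mem_ratioAlg_iff hs hs0).mp hmem
    refine ⟨N, ?_⟩
    have : s ^ N * z = s ^ m * w := by
      rw [hz'] at hzw
      field_simp at hzw
      linear_combination hzw
    rw [this, pow_add]
    exact Submodule.mul_mem_mul (pow_mem_pow_of_mem hs m) hw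
  by_contra hnot
  let I : Ideal A.toSubring :=
    { carrier := {r | (r : K) * z' ∈ A}
      add_mem' := fun {a b} ha hb => by
        show ((a + b : A.toSubring) : K) * z' ∈ A
        rw [Subring.coe_add, add_mul]
        exact A.add_mem ha hb
      zero_mem' := by
        show ((0 : A.toSubring) : K) * z' ∈ A
        rw [Subring.coe_zero, zero_mul]
        exact A.zero_mem
      smul_mem' := fun c a ha => by
        show ((c • a : A.toSubring) : K) * z' ∈ A
        rw [smul_eq_mul, Subring.coe_mul, mul_assoc]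
        exact A.mul_mem c.2 ha }
  have hI : I ≠ ⊤ := by
    intro htop
    have h1 : (1 : A.toSubring) ∈ I := by rw [htop]; trivial
    have h2 : ((1 : A.toSubring) : K) * z' ∈ A := h1
    rw [Subring.coe_one, one_mul] at h2
    exact hnot h2
  obtain ⟨r, hrA, hr0, hrz⟩ := hfrac z'
  obtain ⟨P, hPA, hPI⟩ := exists_place_center hK A I hI ⟨r, hrA⟩ hrz hr0
  -- `s` has least order at `P`
  have hsmax : ∀ w ∈ W, P.1 w ≤ P.1 s := by
    intro w hw
    have h1 := hPA (w / s) (div_mem_ratioAlg hw)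
    rw [map_div₀] at h1
    have hs0' : 0 < P.1 s := zero_lt_iff.mpr ((Valuation.ne_zero_iff _).mpr hs0)
    exact (div_le_one₀ hs0').mp h1
  obtain ⟨s₀, hs₀W, hs₀P⟩ := hbpf P
  have hsD : exp (D P) ≤ P.1 s := hs₀P ▸ hsmax s₀ hs₀W
  -- `z'` is integral at `P`
  have hz'P : P.1 z' ≤ 1 := by
    rw [hz', map_div₀, map_pow]
    have hs0' : 0 < P.1 s ^ m := pow_pos (zero_lt_iff.mpr ((Valuation.ne_zero_iff _).mpr hs0)) m
    rw [div_le_one₀ hs0']
    have h1 := hz P
    rw [Finsupp.smul_apply, exp_nsmul] at h1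
    exact h1.trans (pow_le_pow_left' hsD m)
  obtain ⟨s₁, hs₁W, hs₁0, hs₁max, hloc⟩ := hns P z' hz'P
  have hss : P.1 s₁ = P.1 s := le_antisymm (hsmax s₁ hs₁W) (hs₁max s hs)
  obtain ⟨u, hu, w, hw, hw1, hzw⟩ := InLoc.change hs hs0 hs₁W hs₁0 hss hloc
  have hwI : (⟨w, hw⟩ : A.toSubring) ∈ I := by
    show w * z' ∈ A
    rw [mul_comm, hzw]; exact hu
  have := hPI ⟨w, hw⟩ hwI
  rw [show ((⟨w, hw⟩ : A.toSubring) : K) = w from rfl, hw1] at this
  exact lt_irrefl _ this

/-- uniform version of (B1) on a finite-dimensional space -/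
theorem exists_pow_mul_mem_uniform (hK : IsFunctionField k K) {W : Submodule k K}
    {D : Divisor k K}
    (hbpf : ∀ P : Place k K, ∃ s ∈ W, P.1 s = exp (D P)) {s : K} (hs : s ∈ W) (hs0 : s ≠ 0)
    (hfrac : ∀ z : K, ∃ r ∈ ratioAlg W s, r ≠ 0 ∧ r * z ∈ ratioAlg W s)
    (hns : ∀ P : Place k K, NonsingAt W P) (m : ℕ) :
    ∃ N : ℕ, ∀ z ∈ L (m • D), s ^ N * z ∈ W ^ (m + N) := by
  classical
  have hfin : Module.Finite k (L (m • D)) := L_finite hK _
  obtain ⟨S, hS⟩ := (Submodule.fg_iff_finiteDimensional (L (m • D))).mpr hfin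
  have hSL : ∀ z ∈ S, z ∈ L (m • D) := fun z hz => hS ▸ Submodule.subset_span hz
  choose! Nf hNf using fun z (hz : z ∈ S) => exists_pow_mul_mem hK hbpf hs hs0 hfrac hns m (hSL z hz)
  refine ⟨S.sup Nf, ?_⟩
  intro z hz
  rw [← hS] at hz
  induction hz using Submodule.span_induction with
  | mem x hx =>
    have hle : Nf x ≤ S.sup Nf := Finset.le_sup hx
    obtain ⟨c, hc⟩ := Nat.exists_eq_add_of_le hle
    have h1 : s ^ (S.sup Nf) * x = s ^ c * (s ^ Nf x * x) := by rw [hc, pow_add]; ring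
    have h2 : m + S.sup Nf = c + (m + Nf x) := by omega
    rw [h1, h2, pow_add]
    exact Submodule.mul_mem_mul (pow_mem_pow_of_mem hs c) (hNf x hx)
  | zero => rw [mul_zero]; exact Submodule.zero_mem _
  | add x y _ _ hx hy => rw [mul_add]; exact Submodule.add_mem _ hx hy
  | smul c x _ hx => rw [mul_smul_comm]; exact Submodule.smul_mem _ c hx

end Groth.Agent.H55
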