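import Groth.Agent.H55.FFNS2

set_option autoImplicit false

namespace Groth.Agent.H55

open FunFld WithZero Module IntermediateField

variable {k K : Type*} [Field k] [Field K] [Algebra k K]

/-- the span of `x'^i * z`, `i ≤ a`, `z ∈ M` -/
def powSpan (x' : K) (M : Submodule k K) (a : ℕ) : Submodule k K :=
  ⨆ i ∈ Finset.range (a + 1), M.map (LinearMap.mulLeft k (x' ^ i))

theorem mem_powSpan {x' : K} {M : Submodule k K} {a i : ℕ} (hi : i ≤ a) {z : K} (hz : z ∈ M) :
    x' ^ i * z ∈ powSpan x' M a := by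
  unfold powSpan
  refine Submodule.mem_iSup_of_mem i (Submodule.mem_iSup_of_mem (Finset.mem_range.mpr (by omega)) ?_)
  exact ⟨z, hz, rfl⟩

theorem powSpan_mono (x' : K) (M : Submodule k K) {a b : ℕ} (h : a ≤ b) :
    powSpan x' M a ≤ powSpan x' M b := by
  unfold powSpan
  refine iSup₂_le fun i hi => ?_
  rw [Finset.mem_range] at hi
  exact le_iSup₂_of_le i (Finset.mem_range.mpr (by omega)) le_rfl

theorem mul_powSpan (x' : K) (M : Submodule k K) (a : ℕ) :
    (powSpan x' M a).map (LinearMap.mulLeft k x') ≤ powSpan x' M (a + 1) := by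
  unfold powSpan
  rw [Submodule.map_iSup]
  refine iSup_le fun i => ?_
  rw [Submodule.map_iSup]
  refine iSup_le fun hi => ?_
  rw [Finset.mem_range] at hi
  rintro _ ⟨_, ⟨z, hz, rfl⟩, rfl⟩
  have : (LinearMap.mulLeft k x') ((LinearMap.mulLeft k (x' ^ i)) z) = x' ^ (i + 1) * z := by
    simp only [LinearMap.mulLeft_apply]; rw [pow_succ]; ring
  rw [this]
  exact mem_powSpan (by omega) hz

/-- (B): a map with `1 ∈ W` that is nonsingular everywhere has `W^m = L(mD)` for large `m` -/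
theorem L_le_pow_of_nonsing (hK : IsFunctionField k K) {W : Submodule k K} {D : Divisor k K}
    (hWL : W ≤ L D) (h1 : (1 : K) ∈ W) {x' : K} (hx'W : x' ∈ W) (hx'D : poleDiv k x' = D)
    (hDne : D ≠ 0)
    (hfrac1 : ∀ z : K, ∃ r ∈ ratioAlg W 1, r ≠ 0 ∧ r * z ∈ ratioAlg W 1)
    (hfracx : ∀ z : K, ∃ r ∈ ratioAlg W x', r ≠ 0 ∧ r * z ∈ ratioAlg W x')
    (hns : ∀ P : Place k K, NonsingAt W P) :
    ∃ m₁ : ℕ, ∀ m : ℕ, m₁ ≤ m → L (m • D) ≤ W ^ m := by
  classical
  have hD0 : 0 ≤ D := hx'D ▸ poleDiv_nonneg x'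
  have hx'k : x' ∉ Set.range (algebraMap k K) := by
    rintro ⟨c, rfl⟩
    apply hDne
    rw [← hx'D]
    ext Q
    rw [poleDiv_apply hK, Place.ord_algebraMap]
    simp
  have htr := transcendental_of_notMem_range hK hx'k
  have hx'0 : x' ≠ 0 := fun h => htr (h ▸ isAlgebraic_zero)
  have hfd : FiniteDimensional k⟮x'⟯ K := finiteDimensional_adjoin_of_transcendental hK htr
  have hdeg : D.deg = finrank k⟮x'⟯ K := by rw [← hx'D]; exact deg_poleDiv hK htr
  have hdpos : 0 < finrank k⟮x'⟯ K := Module.finrank_pos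
  have hd1 : (1 : ℤ) ≤ D.deg := by rw [hdeg]; exact_mod_cast hdpos
  have hbpf : ∀ P : Place k K, ∃ s ∈ W, P.1 s = exp (D P) := by
    intro P
    by_cases hP : D P = 0
    · exact ⟨1, h1, by rw [hP, map_one, exp_zero]⟩
    · refine ⟨x', hx'W, ?_⟩
      rw [Place.val_eq_exp_neg_ord P hx'0]
      congr 1
      have h2 : D P = max (-P.ord x') 0 := by rw [← hx'D, poleDiv_apply hK]
      rcases le_total (-P.ord x') 0 with h | h
      · rw [max_eq_right h] at h2; exact absurd h2 hP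
      · rw [max_eq_left h] at h2; exact h2.symm
  have hx'ord : ∀ Q ∈ D.support, Q.ord x' = -D Q := by
    intro Q hQ
    rw [Finsupp.mem_support_iff] at hQ
    have h2 : D Q = max (-Q.ord x') 0 := by rw [← hx'D, poleDiv_apply hK]
    rcases le_total (-Q.ord x') 0 with h | h
    · rw [max_eq_right h] at h2; exact absurd h2 hQ
    · rw [max_eq_left h] at h2; omega
  have hx'L : x' ∈ L D := hWL hx'W
  set m₁ : ℕ := 2 * genus k K + 1 with hm₁
  obtain ⟨N₁, hN₁⟩ := exists_pow_mul_mem_uniform hK hbpf h1 one_ne_zero hfrac1 hns m₁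
  obtain ⟨N₂, hN₂⟩ := exists_pow_mul_mem_uniform hK hbpf hx'W hx'0 hfracx hns m₁
  set N := max N₁ N₂ with hN
  -- monotonicity of `W^m`
  have hmono : ∀ {a b : ℕ}, a ≤ b → W ^ a ≤ W ^ b := fun h =>
    pow_le_pow_right' (Submodule.one_le.mpr h1) h
  -- the pencil step
  have hpen : ∀ a : ℕ, L ((m₁ + a) • D) ≤ powSpan x' (L (m₁ • D)) a := by
    intro a
    induction a with
    | zero =>
      intro y hy
      have := mem_powSpan (x' := x') (a := 0) (i := 0) le_rfl hy
      rwa [pow_zero, one_mul] at this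
    | succ a ih =>
      intro y hy
      set m := m₁ + a with hm
      have hmd : (2 * (genus k K : ℤ)) ≤ ((m : ℤ) - 1) * D.deg := by
        have h3 : (2 * (genus k K : ℤ)) ≤ (m : ℤ) - 1 := by rw [hm, hm₁]; push_cast; omega
        nlinarith
      have hE := ell_of_deg_ge hK (m • D) (by rw [Divisor.deg_nsmul]; nlinarith)
      have hEm := ell_of_deg_ge hK (m • D - D) (by
        rw [Divisor.deg_sub, Divisor.deg_nsmul]; nlinarith)
      have hEp := ell_of_deg_ge hK (m • D + D) (by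
        rw [Divisor.deg_add, Divisor.deg_nsmul]; nlinarith)
      have hy' : y ∈ L (m • D + D) := by
        have : (m₁ + (a + 1)) • D = m • D + D := by rw [hm, ← add_assoc, succ_nsmul]
        rwa [this] at hy
      obtain ⟨b, hb, hyb⟩ := pencil hK hD0 hx'L hx'0 hx'ord hE hEm hEp y hy'
      have h4 : y = (y - x' * b) + x' * b := by ring
      rw [h4]
      refine Submodule.add_mem _ (powSpan_mono _ _ (Nat.le_succ a) (ih hyb)) ?_
      exact mul_powSpan x' _ a ⟨b, ih hb, rfl⟩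
  refine ⟨m₁ + 2 * N, ?_⟩
  intro m hm
  obtain ⟨a, rfl⟩ : ∃ a, m = m₁ + a := ⟨m - m₁, by omega⟩
  have ha : 2 * N ≤ a := by omega
  refine (hpen a).trans ?_
  unfold powSpan
  refine iSup₂_le fun i hi => ?_
  rw [Finset.mem_range] at hi
  rintro _ ⟨z, hz, rfl⟩
  show x' ^ i * z ∈ W ^ (m₁ + a)
  by_cases hia : i + N ≤ a
  · -- use the chart `s = 1`
    have h5 : z ∈ W ^ (m₁ + N) := by
      have h6 := hN₁ z hz
      rw [one_pow, one_mul] at h6
      exact hmono (by omega) h6
    have h7 : x' ^ i * z ∈ W ^ i * W ^ (m₁ + N) :=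
      Submodule.mul_mem_mul (pow_mem_pow_of_mem hx'W i) h5
    rw [← pow_add] at h7
    exact hmono (by omega) h7
  · -- use the chart `s = x'`
    have hNi : N ≤ i := by omega
    have h5 : x' ^ N * z ∈ W ^ (m₁ + N) := by
      have h6 := hN₂ z hz
      obtain ⟨c, hc⟩ := Nat.exists_eq_add_of_le (le_max_right N₁ N₂)
      have h7 : x' ^ N * z = x' ^ c * (x' ^ N₂ * z) := by rw [hN, hc, pow_add]; ring
      have h8 : m₁ + N = c + (m₁ + N₂) := by rw [hN, hc]; omega
      rw [h7, h8, pow_add]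
      exact Submodule.mul_mem_mul (pow_mem_pow_of_mem hx'W c) h6
    obtain ⟨c, hc⟩ := Nat.exists_eq_add_of_le hNi
    have h7 : x' ^ i * z = x' ^ c * (x' ^ N * z) := by rw [hc, pow_add]; ring
    have h8 : x' ^ i * z ∈ W ^ c * W ^ (m₁ + N) := by
      rw [h7]
      exact Submodule.mul_mem_mul (pow_mem_pow_of_mem hx'W c) h5
    rw [← pow_add] at h8
    exact hmono (by omega) h8

end Groth.Agent.H55
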