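import Groth.Agent.H55.FFNS3

set_option autoImplicit false

namespace Groth.Agent.H55

open FunFld WithZero Module IntermediateField Polynomial

variable {k K : Type*} [Field k] [Field K] [Algebra k K]

/-- an element regular wherever `t` is regular is integral over `k[t]` -/
theorem isIntegral_adjoin_of_places (hK : IsFunctionField k K) {t u : K}
    (h : ∀ Q : Place k K, Q.1 t ≤ 1 → Q.1 u ≤ 1) : IsIntegral (Algebra.adjoin k {t}) u := by
  set s : Set K := Set.range (algebraMap k K) ∪ {t} with hs
  have key : u ∈ (integralClosure (Subring.closure s) K).toSubring := by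
    rw [← iInf_valuationSubring_superset, Subring.mem_iInf]
    rintro ⟨V, hV⟩
    show u ∈ V
    by_cases htop : ∃ y ∈ V, y ≠ 0 ∧ y⁻¹ ∉ V
    · obtain ⟨y, hyV, hy0, hyinv⟩ := htop
      obtain ⟨P, hP⟩ := exists_place_of_vs hK V (fun c => hV (Or.inl ⟨c, rfl⟩)) y hyV hy0 hyinv
      rw [← hP]
      apply h
      rw [hP]
      exact hV (Or.inr rfl)
    · push Not at htop
      rcases V.mem_or_inv_mem u with h1 | h1
      · exact h1
      · by_cases hu0 : u = 0
        · rw [hu0]; exact V.zero_mem
        · have := htop u⁻¹ h1 (inv_ne_zero hu0)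
          rwa [inv_inv] at this
  have key' : IsIntegral (Subring.closure s) u := key
  obtain ⟨p, hp, hpu⟩ := key'
  have hle : ∀ x : Subring.closure s, (x : K) ∈ Algebra.adjoin k {t} := by
    intro x
    have h1 : Subring.closure s ≤ (Algebra.adjoin k {t}).toSubring := by
      rw [Subring.closure_le]
      rintro z (⟨c, rfl⟩ | hz)
      · exact (Algebra.adjoin k {t}).algebraMap_mem c
      · rw [Set.mem_singleton_iff] at hz
        rw [hz]
        exact Algebra.subset_adjoin (Set.mem_singleton t)
    exact h1 x.2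
  let ι : Subring.closure s →+* Algebra.adjoin k {t} :=
    (Subring.closure s).subtype.codRestrict (Algebra.adjoin k {t}) hle
  refine ⟨p.map ι, hp.map ι, ?_⟩
  rw [Polynomial.eval₂_map]
  exact hpu

/-- `k[t]` is integrally closed for transcendental `t` -/
theorem isIntegrallyClosed_adjoin {t : K} (ht : Transcendental k t) :
    IsIntegrallyClosed (Algebra.adjoin k {t}) := by
  have hinj : Function.Injective (aeval (R := k) t) := transcendental_iff_injective.mp ht
  let e₁ : k[X] ≃ₐ[k] (aeval (R := k) t).range := AlgEquiv.ofInjective _ hinj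
  have heq : (aeval (R := k) t).range = Algebra.adjoin k {t} :=
    (Algebra.adjoin_singleton_eq_range_aeval k t).symm
  let e₂ : (aeval (R := k) t).range ≃ₐ[k] Algebra.adjoin k {t} := Subalgebra.equivOfEq _ _ heq
  exact IsIntegrallyClosed.of_equiv (e₁.trans e₂).toRingEquiv

open scoped IntermediateField.algebraAdjoinAdjoin in
/-- Gauss's lemma: coefficients of the minimal polynomial of an integral element lie in `k[t]` -/
theorem minpoly_coeff_mem_adjoin {t u : K} (ht : Transcendental k t)
    (hu : IsIntegral (Algebra.adjoin k {t}) u) (i : ℕ) :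
    ∃ p : k[X], algebraMap k⟮t⟯ K ((minpoly k⟮t⟯ u).coeff i) = aeval t p := by
  have : IsIntegrallyClosed (Algebra.adjoin k {t}) := isIntegrallyClosed_adjoin ht
  have h1 := minpoly.isIntegrallyClosed_eq_field_fractions' k⟮t⟯ hu
  rw [h1, Polynomial.coeff_map]
  set r := (minpoly (Algebra.adjoin k {t}) u).coeff i with hr
  have hrmem : (r : K) ∈ (aeval (R := k) t).range := by
    rw [← Algebra.adjoin_singleton_eq_range_aeval]; exact r.2
  obtain ⟨p, hp⟩ := hrmem
  exact ⟨p, hp.symm⟩

theorem coeff_minpoly_eq_of_eq {F F' : IntermediateField k K} (h : F' = F) (u : K) (i : ℕ) :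
    algebraMap F' K ((minpoly F' u).coeff i) = algebraMap F K ((minpoly F u).coeff i) := by
  subst h; rfl

/-- the value of a polynomial at a pole -/
theorem Place.val_aeval_le (P : Place k K) {x : K} (hx : 1 ≤ P.1 x) (p : k[X]) {m : ℕ}
    (hm : p.natDegree ≤ m) : P.1 (aeval x p) ≤ P.1 x ^ m := by
  rw [Polynomial.aeval_eq_sum_range]
  apply Valuation.map_sum_le
  intro j hj
  rw [Finset.mem_range] at hj
  rw [Algebra.smul_def, map_mul, map_pow]
  calc P.1 (algebraMap k K (p.coeff j)) * P.1 x ^ j ≤ 1 * P.1 x ^ j :=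
        mul_le_mul' (P.2.1 _) le_rfl
    _ = P.1 x ^ j := one_mul _
    _ ≤ P.1 x ^ m := pow_le_pow_right₀ hx (by omega)

theorem Place.val_aeval_eq (P : Place k K) {x : K} (hx : 1 < P.1 x) {p : k[X]} (hp : p ≠ 0) :
    P.1 (aeval x p) = P.1 x ^ p.natDegree := by
  set n := p.natDegree with hn
  have hlc : p.leadingCoeff ≠ 0 := leadingCoeff_ne_zero.mpr hp
  have h1 : p = p.eraseLead + C p.leadingCoeff * X ^ n := (eraseLead_add_C_mul_X_pow p).symm
  have h2 : P.1 (aeval x (C p.leadingCoeff * X ^ n)) = P.1 x ^ n := by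
    rw [map_mul, aeval_C, map_pow, aeval_X, map_mul, map_pow,
      Place.val_algebraMap_eq_one P hlc, one_mul]
  by_cases hn0 : n = 0
  · have : p = C (p.coeff 0) := eq_C_of_natDegree_eq_zero (hn ▸ hn0)
    rw [this, aeval_C, hn0, pow_zero]
    apply Place.val_algebraMap_eq_one
    intro h0
    rw [h0, C_0] at this
    exact hp this
  · have h3 : P.1 (aeval x p.eraseLead) ≤ P.1 x ^ (n - 1) :=
      Place.val_aeval_le P hx.le _ (by
        have := eraseLead_natDegree_le p
        omega)
    have h4 : P.1 x ^ (n - 1) < P.1 x ^ n := pow_lt_pow_right₀ hx (by omega)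
    have h5 : aeval x p = aeval x p.eraseLead + aeval x (C p.leadingCoeff * X ^ n) := by
      conv_lhs => rw [h1]
      rw [map_add]
    rw [h5, Valuation.map_add_eq_of_lt_right, h2]
    rw [h2]
    exact h3.trans_lt h4

end Groth.Agent.H55
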