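import Groth.Agent.H55.FFAut

set_option autoImplicit false

namespace Groth.Agent.H55

open FunFld WithZero Polynomial

section basic

variable {k K : Type*} [Field k] [Field K] [Algebra k K]

/-- the residue map as a `k`-algebra homomorphism -/
noncomputable def Place.resAlg (P : Place k K) : P.O →ₐ[k] IsLocalRing.ResidueField P.O :=
  { IsLocalRing.residue P.O with commutes' := fun _ => rfl }

theorem Place.resAlg_apply (P : Place k K) (z : P.O) :
    Place.resAlg P z = IsLocalRing.residue P.O z := rfl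

/-- the inclusion of the valuation ring as a `k`-algebra homomorphism -/
def Place.valA (P : Place k K) : P.O →ₐ[k] K :=
  { P.O.subtype with commutes' := fun _ => rfl }

theorem Place.valA_apply (P : Place k K) (z : P.O) : Place.valA P z = (z : K) := rfl

theorem Place.aeval_mem (P : Place k K) (h : k[X]) {x : K} (hx : P.1 x ≤ 1) :
    P.1 (aeval x h) ≤ 1 := by
  have hxO : x ∈ P.O := (Valuation.mem_valuationSubring_iff P.1 x).mpr hx
  have h1 : aeval x h = Place.valA P (aeval (⟨x, hxO⟩ : P.O) h) := by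
    rw [← Polynomial.aeval_algHom_apply]; rfl
  rw [h1, Place.valA_apply]
  exact (Valuation.mem_valuationSubring_iff P.1 _).mp (Subtype.prop _)

/-- `h(y) - h(x)` has the same value as `y - x` when `h'(x)` is a unit and `y ≡ x`. -/
theorem Place.val_aeval_sub_aeval (P : Place k K) (h : k[X]) {x y : K} (hx : P.1 x ≤ 1)
    (hxy : P.1 (y - x) < 1) (hder : P.1 (aeval x (derivative h)) = 1) :
    P.1 (aeval y h - aeval x h) = P.1 (y - x) := by
  have hxO : x ∈ P.O := (Valuation.mem_valuationSubring_iff P.1 x).mpr hx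
  have hdO : y - x ∈ P.O := (Valuation.mem_valuationSubring_iff P.1 _).mpr hxy.le
  set xO : P.O := ⟨x, hxO⟩ with hxOdef
  set dO : P.O := ⟨y - x, hdO⟩ with hdOdef
  obtain ⟨c, hc⟩ := Polynomial.binomExpansion (h.map (algebraMap k P.O)) xO dO
  rw [Polynomial.eval_map_algebraMap, Polynomial.eval_map_algebraMap, derivative_map,
    Polynomial.eval_map_algebraMap] at hc
  have hc' := congrArg (Place.valA P) hc
  simp only [map_add, map_mul, map_pow, ← Polynomial.aeval_algHom_apply] at hc'
  simp only [Place.valA_apply, hxOdef, hdOdef] at hc'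
  rw [add_sub_cancel] at hc'
  have hcv : P.1 (c : K) ≤ 1 := (Valuation.mem_valuationSubring_iff P.1 _).mp c.2
  have h2 : aeval y h - aeval x h = (y - x) * (aeval x (derivative h) + (c : K) * (y - x)) := by
    rw [hc']; ring
  rw [h2, map_mul]
  have h3 : P.1 ((c : K) * (y - x)) < 1 := by
    rw [map_mul]
    exact mul_lt_one_of_nonneg_of_lt_one_right hcv zero_le hxy
  have h4 : P.1 (aeval x (derivative h) + (c : K) * (y - x)) = 1 := by
    rw [Valuation.map_add_eq_of_lt_left, hder]
    rw [hder]; exact h3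
  rw [h4, mul_one]

/-- for an element of the valuation ring with separable residue class, a polynomial over `k`
with `h(x) ∈ 𝔪` and `h'(x)` a unit -/
theorem Place.exists_sep_poly (P : Place k K) [Algebra.IsSeparable k (IsLocalRing.ResidueField P.O)]
    {x : K} (hx : P.1 x ≤ 1) :
    ∃ h : k[X], P.1 (aeval x h) < 1 ∧ P.1 (aeval x (derivative h)) = 1 := by
  have hxO : x ∈ P.O := (Valuation.mem_valuationSubring_iff P.1 x).mpr hx
  set xO : P.O := ⟨x, hxO⟩ with hxOdef
  set xb := IsLocalRing.residue P.O xO with hxb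
  have hsep : IsSeparable k xb := Algebra.IsSeparable.isSeparable k xb
  refine ⟨minpoly k xb, ?_, ?_⟩
  · have h1 : aeval x (minpoly k xb) = ((aeval xO (minpoly k xb) : P.O) : K) := by
      rw [← Place.valA_apply, ← Polynomial.aeval_algHom_apply]; rfl
    rw [h1, ← residue_eq_zero_iff, ← Place.resAlg_apply, ← Polynomial.aeval_algHom_apply,
      Place.resAlg_apply, ← hxb, minpoly.aeval]
  · have h1 : aeval x (derivative (minpoly k xb)) =
        ((aeval xO (derivative (minpoly k xb)) : P.O) : K) := by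
      rw [← Place.valA_apply, ← Polynomial.aeval_algHom_apply]; rfl
    have h2 : IsLocalRing.residue P.O (aeval xO (derivative (minpoly k xb))) ≠ 0 := by
      rw [← Place.resAlg_apply, ← Polynomial.aeval_algHom_apply, Place.resAlg_apply, ← hxb]
      exact hsep.aeval_derivative_ne_zero (minpoly.aeval k xb)
    rw [Ne, residue_eq_zero_iff, not_lt] at h2
    rw [h1]
    exact le_antisymm ((Valuation.mem_valuationSubring_iff P.1 _).mp (Subtype.prop _)) h2

end basic

section ram

set_option linter.unusedSectionVars false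

variable {k K K' : Type*} [Field k] [Field K] [Field K'] [Algebra k K] [Algebra K K']
  [Algebra k K'] [IsScalarTower k K K']

/-- `σ` lies in the `i`-th ramification group of `Q` (numbering: `G₁` is the inertia group) -/
def InG (Q : Place k K') (σ : K' ≃ₐ[K] K') (i : ℤ) : Prop :=
  ∀ x : K', Q.1 x ≤ 1 → Q.1 (σ x - x) ≤ exp (-i)

theorem aeval_algEquiv (σ : K' ≃ₐ[K] K') (h : k[X]) (x : K') :
    σ (aeval x h) = aeval (σ x) h := by
  have := Polynomial.aeval_algHom_apply ((σ : K' →ₐ[K] K').restrictScalars k) x h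
  exact this.symm

theorem InG.mem {Q : Place k K'} {σ : K' ≃ₐ[K] K'} {i : ℤ} (hσ : InG Q σ i) (hi : 0 ≤ i)
    {x : K'} (hx : Q.1 x ≤ 1) : Q.1 (σ x) ≤ 1 := by
  have h1 := hσ x hx
  have h2 : Q.1 (σ x - x) ≤ 1 := h1.trans (by rw [← exp_zero, exp_le_exp]; omega)
  have : σ x = (σ x - x) + x := by ring
  rw [this]
  exact (Q.1.map_add _ _).trans (max_le h2 hx)

theorem InG.mono {Q : Place k K'} {σ : K' ≃ₐ[K] K'} {i j : ℤ} (hσ : InG Q σ i) (hji : j ≤ i) :
    InG Q σ j := fun x hx => (hσ x hx).trans (by rw [exp_le_exp]; omega)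

/-- one step of the induction for the criterion `σ ∈ G_j ↔ v(σ t - t) ≥ j` -/
theorem ram_step (Q : Place k K') [Algebra.IsSeparable k (IsLocalRing.ResidueField Q.O)]
    (σ : K' ≃ₐ[K] K') {t : K'} (ht : Q.1 t = exp (-1 : ℤ)) {i j : ℤ} (hi1 : 1 ≤ i) (hij : i < j)
    (hPi : InG Q σ i) (htj : Q.1 (σ t - t) ≤ exp (-j)) : InG Q σ (i + 1) := by
  intro x hx
  obtain ⟨h, hh1, hh2⟩ := Place.exists_sep_poly Q hx
  have hσx : Q.1 (σ x - x) < 1 :=
    lt_of_le_of_lt (hPi x hx) (by rw [← exp_zero, exp_lt_exp]; omega)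
  have h1 := Place.val_aeval_sub_aeval Q h hx hσx hh2
  rw [← aeval_algEquiv] at h1
  rw [← h1]
  -- `h(x) = t * w`
  have ht0 : t ≠ 0 := Place.ne_zero_of_val_eq_exp Q ht
  set hx' := aeval x h with hhx
  set w := hx' / t with hw
  have hwv : Q.1 w ≤ 1 := by
    rw [hw, map_div₀, ht]
    have := le_exp_neg_one_of_lt_one hh1
    rw [div_le_iff₀ (by simp), one_mul]
    exact this
  have hxw : hx' = t * w := by rw [hw]; field_simp
  have h2 : σ hx' - hx' = (σ t - t) * σ w + t * (σ w - w) := by
    rw [hxw, map_mul]; ring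
  rw [h2]
  refine (Q.1.map_add _ _).trans (max_le ?_ ?_)
  · rw [map_mul]
    have h3 : Q.1 (σ w) ≤ 1 := hPi.mem (by omega) hwv
    calc Q.1 (σ t - t) * Q.1 (σ w) ≤ exp (-j) * 1 := mul_le_mul' htj h3
      _ = exp (-j) := mul_one _
      _ ≤ exp (-(i + 1)) := by rw [exp_le_exp]; omega
  · rw [map_mul, ht]
    calc exp (-1 : ℤ) * Q.1 (σ w - w) ≤ exp (-1 : ℤ) * exp (-i) :=
          mul_le_mul' le_rfl (hPi w hwv)
      _ = exp (-(i + 1)) := by rw [← exp_add]; congr 1; ring

/-- the criterion: for `σ` in the inertia group, `σ ∈ G_j` iff `v(σ t - t) ≥ j` -/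
theorem ram_criterion (Q : Place k K') [Algebra.IsSeparable k (IsLocalRing.ResidueField Q.O)]
    (σ : K' ≃ₐ[K] K') (hσ : InG Q σ 1) {t : K'} (ht : Q.1 t = exp (-1 : ℤ)) (j : ℕ)
    (hj : 1 ≤ j) : InG Q σ (j : ℤ) ↔ Q.1 (σ t - t) ≤ exp (-(j : ℤ)) := by
  constructor
  · intro h
    exact h t (by rw [ht, ← exp_zero, exp_le_exp]; omega)
  · intro htj
    have key : ∀ i : ℕ, 1 ≤ i → i ≤ j → InG Q σ (i : ℤ) := by
      intro i
      induction i with
      | zero => intro h; omega
      | succ i ih =>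
        intro _ hij
        by_cases hi0 : i = 0
        · subst hi0
          exact hσ
        · have h1 := ih (by omega) (by omega)
          have := ram_step Q σ ht (i := (i : ℤ)) (j := (j : ℤ)) (by omega) (by omega) h1 htj
          exact_mod_cast this
    exact key j hj le_rfl

end ram

end Groth.Agent.H55
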