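import Groth.Agent.H55.FFNS4
import Groth.Agent.H55.Ram1

set_option autoImplicit false

namespace Groth.Agent.H55

open FunFld WithZero Module IntermediateField Polynomial

variable {k K : Type*} [Field k] [Field K] [Algebra k K]

theorem val_le_max_of_poleDiv_le (hK : IsFunctionField k K) {x' y' : K} (hx'0 : x' ≠ 0)
    (hy' : poleDiv k y' ≤ poleDiv k x') (Q : Place k K) : Q.1 y' ≤ max (Q.1 x') 1 := by
  by_cases hy0 : y' = 0
  · rw [hy0, map_zero]; exact zero_le
  have h1 := hy' Q
  rw [poleDiv_apply hK, poleDiv_apply hK] at h1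
  rw [Place.val_eq_exp_neg_ord Q hy0, Place.val_eq_exp_neg_ord Q hx'0]
  rcases le_total (-Q.ord x') 0 with h | h
  · rw [max_eq_right h] at h1
    have : -Q.ord y' ≤ 0 := (le_max_left _ _).trans h1
    exact le_max_of_le_right (by rw [← exp_zero, exp_le_exp]; exact this)
  · rw [max_eq_left h] at h1
    have : -Q.ord y' ≤ -Q.ord x' := (le_max_left _ _).trans h1
    exact le_max_of_le_left (by rw [exp_le_exp]; exact this)

/-- a monic relation of degree `e ≤ [K : k(x')]` with degree-bounded coefficients -/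
theorem exists_monic_relation (hK : IsFunctionField k K) {x' y' : K} (hx' : Transcendental k x')
    (hy' : poleDiv k y' ≤ poleDiv k x') :
    ∃ (e : ℕ) (p : ℕ → k[X]), 1 ≤ e ∧ e ≤ finrank k⟮x'⟯ K ∧
      (∀ i, i < e → (p i).natDegree + i ≤ e) ∧
      y' ^ e + ∑ i ∈ Finset.range e, aeval x' (p i) * y' ^ i = 0 := by
  have hx'0 : x' ≠ 0 := fun h => hx' (h ▸ isAlgebraic_zero)
  have hfd : FiniteDimensional k⟮x'⟯ K := finiteDimensional_adjoin_of_transcendental hK hx'
  have hval := val_le_max_of_poleDiv_le hK hx'0 hy'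
  have hINT1 : IsIntegral (Algebra.adjoin k {x'}) y' := by
    apply isIntegral_adjoin_of_places hK
    intro Q hQ
    exact (hval Q).trans (max_le hQ le_rfl)
  have hinvtr : Transcendental k x'⁻¹ := fun h => hx' (by simpa using h.inv)
  have hINT2 : IsIntegral (Algebra.adjoin k {x'⁻¹}) (x'⁻¹ * y') := by
    apply isIntegral_adjoin_of_places hK
    intro Q hQ
    rw [map_inv₀] at hQ
    have hQ0 : 0 < Q.1 x' := zero_lt_iff.mpr ((Valuation.ne_zero_iff _).mpr hx'0)
    have h1 : 1 ≤ Q.1 x' := by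
      by_contra hlt
      push Not at hlt
      exact absurd hQ (not_le.mpr ((one_lt_inv₀ hQ0).mpr hlt))
    rw [map_mul, map_inv₀, inv_mul_le_iff₀ hQ0, mul_one]
    exact (hval Q).trans (max_le le_rfl h1)
  have hint : IsIntegral k⟮x'⟯ y' := IsIntegral.of_finite _ _
  set μ := minpoly k⟮x'⟯ y' with hμ
  set e := μ.natDegree with he
  have hmonic : μ.Monic := minpoly.monic hint
  have he1 : 1 ≤ e := minpoly.natDegree_pos hint
  have hed : e ≤ finrank k⟮x'⟯ K := minpoly.natDegree_le y'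
  choose p hp using fun i => minpoly_coeff_mem_adjoin hx' hINT1 i
  refine ⟨e, p, he1, hed, ?_, ?_⟩
  · -- the degree bound
    intro i hi
    by_cases hpi : p i = 0
    · rw [hpi, natDegree_zero]; omega
    let a : k⟮x'⟯ := ⟨x', mem_adjoin_simple_self k x'⟩
    have ha0 : a ≠ 0 := fun h => hx'0 (congrArg Subtype.val h)
    have hsm : a⁻¹ • y' = x'⁻¹ * y' := by
      rw [Algebra.smul_def]; rfl
    have h1 : minpoly k⟮x'⟯ (x'⁻¹ * y') = μ.scaleRoots a⁻¹ := by
      rw [← hsm]
      exact IsIntegrallyClosed.minpoly_smul (inv_ne_zero ha0) hint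
    obtain ⟨q, hq⟩ := minpoly_coeff_mem_adjoin hinvtr hINT2 i
    rw [coeff_minpoly_eq_of_eq (adjoin_inv_eq x') (x'⁻¹ * y') i, h1, coeff_scaleRoots, map_mul,
      hp i, map_pow] at hq
    have ha' : algebraMap k⟮x'⟯ K a⁻¹ = x'⁻¹ := rfl
    rw [ha'] at hq
    obtain ⟨P, hP⟩ := exists_pole hK hx'
    have hP0 : 0 < P.1 x' := lt_trans zero_lt_one hP
    have h2 : P.1 (aeval x'⁻¹ q) ≤ 1 := by
      apply Place.aeval_mem
      rw [map_inv₀]
      exact inv_le_one_of_one_le₀ hP.le
    rw [← hq, map_mul, Place.val_aeval_eq P hP hpi, map_pow, map_inv₀, inv_pow,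
      mul_inv_le_iff₀ (pow_pos hP0 _), one_mul] at h2
    have h3 := (pow_le_pow_iff_right₀ hP).mp h2
    rw [← he] at h3
    omega
  · -- the relation
    have h1 : aeval y' μ = 0 := minpoly.aeval _ _
    rw [Polynomial.aeval_eq_sum_range, ← he, Finset.sum_range_succ] at h1
    have h2 : μ.coeff e = 1 := hmonic
    rw [h2, one_smul, add_comm] at h1
    rw [← h1]
    congr 1
    apply Finset.sum_congr rfl
    intro i _
    rw [Algebra.smul_def, hp i]

end Groth.Agent.H55
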