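import Groth.Agent.H55.FFNS5

set_option autoImplicit false

namespace Groth.Agent.H55

open FunFld WithZero Module IntermediateField Polynomial

variable {k K : Type*} [Field k] [Field K] [Algebra k K]

/-- index set for the monomials `x'^a y'^b`, `b < e`, `a + b ≤ m` -/
def monoIdx (e m : ℕ) : Finset (Σ _ : ℕ, ℕ) :=
  (Finset.range e).sigma fun b => Finset.range (m + 1 - b)

theorem card_monoIdx (e m : ℕ) : (monoIdx e m).card = ∑ b ∈ Finset.range e, (m + 1 - b) := by
  unfold monoIdx
  rw [Finset.card_sigma]
  simp

theorem mem_monoIdx {e m a b : ℕ} : (⟨b, a⟩ : Σ _ : ℕ, ℕ) ∈ monoIdx e m ↔ b < e ∧ a + b ≤ m := by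
  unfold monoIdx
  rw [Finset.mem_sigma]
  show b ∈ Finset.range e ∧ a ∈ Finset.range (m + 1 - b) ↔ _
  rw [Finset.mem_range, Finset.mem_range]
  constructor
  · rintro ⟨h1, h2⟩; exact ⟨h1, by omega⟩
  · rintro ⟨h1, h2⟩; exact ⟨h1, by omega⟩

/-- the span of the monomials -/
def monoSpan (x' y' : K) (e m : ℕ) : Submodule k K :=
  Submodule.span k ((fun q : Σ _ : ℕ, ℕ => x' ^ q.2 * y' ^ q.1) '' (monoIdx e m : Set _))

theorem mem_monoSpan {x' y' : K} {e m a b : ℕ} (hb : b < e) (hab : a + b ≤ m) :
    x' ^ a * y' ^ b ∈ monoSpan (k := k) x' y' e m :=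
  Submodule.subset_span ⟨⟨b, a⟩, mem_monoIdx.mpr ⟨hb, hab⟩, rfl⟩

theorem finrank_monoSpan_le (x' y' : K) (e m : ℕ) :
    Module.Finite k (monoSpan (k := k) x' y' e m) ∧
    finrank k (monoSpan (k := k) x' y' e m) ≤ ∑ b ∈ Finset.range e, (m + 1 - b) := by
  classical
  unfold monoSpan
  rw [← Finset.coe_image]
  refine ⟨FiniteDimensional.span_finset k _, ?_⟩
  refine (finrank_span_finset_le_card _).trans ?_
  rw [← card_monoIdx]
  exact Finset.card_image_le

/-- `W^m` lies in the span of the reduced monomials -/
theorem pow_le_monoSpan {x' y' : K} {e : ℕ} (he1 : 1 ≤ e) (p : ℕ → k[X])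
    (hdeg : ∀ i, i < e → (p i).natDegree + i ≤ e)
    (hrel : y' ^ e + ∑ i ∈ Finset.range e, aeval x' (p i) * y' ^ i = 0) (m : ℕ) :
    (Submodule.span k ({1, x', y'} : Set K)) ^ m ≤ monoSpan (k := k) x' y' e m := by
  induction m with
  | zero =>
    rw [pow_zero, Submodule.one_le]
    have := mem_monoSpan (k := k) (x' := x') (y' := y') (e := e) (m := 0) (a := 0) (b := 0)
      (by omega) le_rfl
    simpa using this
  | succ m ih =>
    rw [pow_succ]
    refine (mul_le_mul' ih le_rfl).trans ?_
    rw [Submodule.mul_le]
    intro u hu w hw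
    unfold monoSpan at hu
    induction hu using Submodule.span_induction with
    | zero => rw [zero_mul]; exact Submodule.zero_mem _
    | add u v _ _ hu hv => rw [add_mul]; exact Submodule.add_mem _ hu hv
    | smul c u _ hu => rw [smul_mul_assoc]; exact Submodule.smul_mem _ c hu
    | mem u hu =>
      obtain ⟨⟨b, a⟩, hq, rfl⟩ := hu
      obtain ⟨hb, hab⟩ := mem_monoIdx.mp hq
      show x' ^ a * y' ^ b * w ∈ monoSpan (k := k) x' y' e (m + 1)
      induction hw using Submodule.span_induction with
      | zero => rw [mul_zero]; exact Submodule.zero_mem _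
      | add u v _ _ hu hv => rw [mul_add]; exact Submodule.add_mem _ hu hv
      | smul c u _ hu => rw [mul_smul_comm]; exact Submodule.smul_mem _ c hu
      | mem w hw =>
        rcases hw with h | h | h
        · rw [h, mul_one]
          exact mem_monoSpan hb (by omega)
        · have : x' ^ a * y' ^ b * w = x' ^ (a + 1) * y' ^ b := by rw [h]; ring
          rw [this]
          exact mem_monoSpan hb (by omega)
        · rw [Set.mem_singleton_iff] at h
          by_cases hb1 : b + 1 < e
          · have : x' ^ a * y' ^ b * w = x' ^ a * y' ^ (b + 1) := by rw [h]; ring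
            rw [this]
            exact mem_monoSpan hb1 (by omega)
          · have hbe : b + 1 = e := by omega
            have h1 : x' ^ a * y' ^ b * w =
                -∑ i ∈ Finset.range e, x' ^ a * (aeval x' (p i) * y' ^ i) := by
              have h2 : y' ^ e = -∑ i ∈ Finset.range e, aeval x' (p i) * y' ^ i :=
                eq_neg_of_add_eq_zero_left hrel
              have : x' ^ a * y' ^ b * w = x' ^ a * y' ^ e := by rw [h, ← hbe]; ring
              rw [this, h2, mul_neg, Finset.mul_sum]
            rw [h1]
            apply Submodule.neg_mem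
            apply Submodule.sum_mem
            intro i hi
            rw [Finset.mem_range] at hi
            rw [Polynomial.aeval_eq_sum_range, Finset.sum_mul, Finset.mul_sum]
            apply Submodule.sum_mem
            intro j hj
            rw [Finset.mem_range] at hj
            have h3 : x' ^ a * (((p i).coeff j • x' ^ j) * y' ^ i) =
                (p i).coeff j • (x' ^ (a + j) * y' ^ i) := by
              rw [smul_mul_assoc, mul_smul_comm, pow_add, mul_assoc]
            rw [h3]
            apply Submodule.smul_mem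
            have := hdeg i hi
            exact mem_monoSpan hi (by omega)

theorem sum_range_mono {e d m : ℕ} (h : e ≤ d) :
    ∑ b ∈ Finset.range e, (m + 1 - b) ≤ ∑ b ∈ Finset.range d, (m + 1 - b) :=
  Finset.sum_le_sum_of_subset (Finset.range_mono h)

/-- the upper bound for the dimension of `W^m` -/
theorem finrank_pow_le (hK : IsFunctionField k K) {x' y' : K} (hx' : Transcendental k x')
    (hy' : poleDiv k y' ≤ poleDiv k x') (m : ℕ) :
    finrank k ↥((Submodule.span k ({1, x', y'} : Set K)) ^ m) ≤
      ∑ b ∈ Finset.range (finrank k⟮x'⟯ K), (m + 1 - b) := by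
  obtain ⟨e, p, he1, hed, hdeg, hrel⟩ := exists_monic_relation hK hx' hy'
  have hle := pow_le_monoSpan he1 p hdeg hrel m
  obtain ⟨hfin, hrk⟩ := finrank_monoSpan_le (k := k) x' y' e m
  exact (Submodule.finrank_mono hle).trans (hrk.trans (sum_range_mono hed))

end Groth.Agent.H55
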