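import Groth.Agent.H55.FFNS6

set_option autoImplicit false

namespace Groth.Agent.H55

open FunFld WithZero Module IntermediateField Polynomial

variable {k K : Type*} [Field k] [Field K] [Algebra k K]

/-- the lower bound for the dimension of `W^m` -/
theorem le_finrank_pow (W : Submodule k K) (h1 : (1 : K) ∈ W) {x y : K} (hx : x ∈ W)
    (hy : y ∈ W) (hxy : IntermediateField.adjoin k ({x, y} : Set K) = ⊤) {x' : K}
    (hx'W : x' ∈ W) (htr : Transcendental k x') [FiniteDimensional k⟮x'⟯ K] (m : ℕ)
    (hm : finrank k⟮x'⟯ K ≤ m) [Module.Finite k ↥(W ^ m)] :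
    ∑ i ∈ Finset.range (finrank k⟮x'⟯ K), (m + 1 - i) ≤ finrank k ↥(W ^ m) := by
  classical
  have hdpos : 0 < finrank k⟮x'⟯ K := Module.finrank_pos
  obtain ⟨j, hj⟩ : ∃ j, finrank k⟮x'⟯ K = j + 1 := Nat.exists_eq_succ_of_ne_zero (by omega)
  obtain ⟨u, huW, huli⟩ := exists_flag k⟮x'⟯ W h1 hx hy hxy j (by omega)
  let xF : k⟮x'⟯ := ⟨x', mem_adjoin_simple_self k x'⟩
  have hxF : Transcendental k xF := by
    intro halg
    exact htr ((isAlgebraic_algHom_iff (k⟮x'⟯.val) Subtype.val_injective (a := xF)).mpr halg)
  have hpow := linearIndependent_pow_of_transcendental hxF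
  have hli : LinearIndependent k (fun p : ℕ × Fin (j + 1) => xF ^ p.1 • u p.2) :=
    linearIndependent_smul hpow huli
  have hmem : ∀ (i : Fin (j + 1)) (a : ℕ), a + i ≤ m → xF ^ a • u i ∈ W ^ m := by
    intro i a hai
    have h2 : xF ^ a • u i = x' ^ a * u i := by
      rw [Algebra.smul_def]; rfl
    rw [h2]
    have h3 : x' ^ a * u i ∈ W ^ a * W ^ (i : ℕ) :=
      Submodule.mul_mem_mul (Submodule.pow_mem_pow W hx'W a) (huW i)
    rw [← pow_add] at h3
    exact pow_le_pow_right' (Submodule.one_le.mpr h1) hai h3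
  let g : (Σ i : Fin (j + 1), Fin (m + 1 - i)) → ℕ × Fin (j + 1) := fun p => (p.2.1, p.1)
  have hg : Function.Injective g := by
    rintro ⟨i, a⟩ ⟨i', a'⟩ h
    simp only [g, Prod.mk.injEq] at h
    obtain ⟨h1, h2⟩ := h
    subst h2
    congr
    exact Fin.ext h1
  have hli2 := hli.comp g hg
  let w : (Σ i : Fin (j + 1), Fin (m + 1 - i)) → ↥(W ^ m) := fun p =>
    ⟨xF ^ p.2.1 • u p.1, hmem p.1 p.2.1 (by have := p.2.2; omega)⟩
  have hw : LinearIndependent k w := LinearIndependent.of_comp (W ^ m).subtype hli2
  have hcard := hw.fintype_card_le_finrank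
  rw [Fintype.card_sigma] at hcard
  simp only [Fintype.card_fin] at hcard
  rw [Fin.sum_univ_eq_sum_range (fun i => m + 1 - i) (j + 1)] at hcard
  rw [hj]
  exact hcard

theorem cast_sum_range (m d : ℕ) (h : d ≤ m + 1) :
    2 * ((∑ i ∈ Finset.range d, (m + 1 - i) : ℕ) : ℤ) = 2 * d * ((m : ℤ) + 1) - d * (d - 1) := by
  have hcast : ((∑ i ∈ Finset.range d, (m + 1 - i) : ℕ) : ℤ) =
      ∑ i ∈ Finset.range d, ((m : ℤ) + 1 - (i : ℤ)) := by
    rw [Nat.cast_sum]
    apply Finset.sum_congr rfl
    intro i hi
    rw [Finset.mem_range] at hi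
    rw [Nat.cast_sub (by omega)]
    push_cast
    ring
  rw [hcast, two_mul_sum_range]

/-- fractions of a subalgebra generating the field -/
theorem frac_of_top (A : Subalgebra k K) (h : IntermediateField.adjoin k (A : Set K) = ⊤)
    (z : K) : ∃ r ∈ A, r ≠ 0 ∧ r * z ∈ A := by
  have hz : z ∈ IntermediateField.adjoin k (A : Set K) := by rw [h]; trivial
  rw [mem_adjoin_iff_div, Algebra.adjoin_eq] at hz
  obtain ⟨r, hr, s, hs, rfl⟩ := hz
  by_cases hs0 : s = 0
  · refine ⟨1, A.one_mem, one_ne_zero, ?_⟩
    rw [hs0, div_zero, mul_zero]; exact A.zero_mem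
  · refine ⟨s, hs, hs0, ?_⟩
    rw [mul_div_cancel₀ _ hs0]; exact hr

theorem range_plane (x y : K) : Set.range ![(1 : K), x, y] = {1, x, y} := by
  ext z
  simp only [Set.mem_range, Set.mem_insert_iff, Set.mem_singleton_iff]
  constructor
  · rintro ⟨i, rfl⟩
    fin_cases i <;> simp
  · rintro (rfl | rfl | rfl)
    · exact ⟨0, rfl⟩
    · exact ⟨1, rfl⟩
    · exact ⟨2, rfl⟩

/-- S11059 -/
theorem plane_nonsingular_iff [Infinite k] (hK : IsFunctionField k K) (x y : K)
    (hxy : IntermediateField.adjoin k ({x, y} : Set K) = ⊤) :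
    2 * (genus k K : ℤ) =
        ((mapDiv k ![(1 : K), x, y]).deg - 1) * ((mapDiv k ![(1 : K), x, y]).deg - 2) ↔
      ∀ P : Place k K, IsNonsingularAt ![(1 : K), x, y] P := by
  classical
  have hle := two_mul_genus_le_of_plane_model hK x y hxy
  rw [mapDiv_plane hK] at hle ⊢
  set D : Divisor k K := poleDiv k x ⊔ poleDiv k y with hDdef
  have hD0 : 0 ≤ D := le_sup_of_le_left (poleDiv_nonneg x)
  have hDne : D ≠ 0 := by
    intro h0
    have hx0 : x ∈ L (0 : Divisor k K) := mem_L_of_poleDiv_le hK (by rw [← h0]; exact le_sup_left)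
    have hy0 : y ∈ L (0 : Divisor k K) := mem_L_of_poleDiv_le hK (by rw [← h0]; exact le_sup_right)
    rw [L_zero hK, Submodule.mem_one] at hx0 hy0
    obtain ⟨⟨t, ht, -⟩, -⟩ := hK
    apply ht
    have hle : IntermediateField.adjoin k ({x, y} : Set K) ≤ ⊥ := by
      rw [IntermediateField.adjoin_le_iff]
      intro z hz
      rcases hz with rfl | rfl
      · obtain ⟨c, hc⟩ := hx0
        rw [← hc]; exact (⊥ : IntermediateField k K).algebraMap_mem c
      · obtain ⟨c, hc⟩ := hy0
        rw [← hc]; exact (⊥ : IntermediateField k K).algebraMap_mem c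
    have htbot : t ∈ (⊥ : IntermediateField k K) := hle (by rw [hxy]; trivial)
    rw [IntermediateField.mem_bot] at htbot
    obtain ⟨c, rfl⟩ := htbot
    exact isAlgebraic_algebraMap c
  obtain ⟨x', hx'W, hx'D0⟩ := exists_poleDiv_eq hK x y hDne
  have hx'D : poleDiv k x' = D := hx'D0
  set W : Submodule k K := Submodule.span k ({1, x, y} : Set K) with hW
  have h1W : (1 : K) ∈ W := Submodule.subset_span (by simp)
  have hxW : x ∈ W := Submodule.subset_span (by simp)
  have hyW : y ∈ W := Submodule.subset_span (by simp)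
  have hWL : W ≤ L D := by
    rw [hW, Submodule.span_le]
    intro z hz
    rcases hz with rfl | rfl | rfl
    · exact L_mono hD0 (by rw [L_zero hK]; exact Submodule.one_le.mp le_rfl)
    · exact mem_L_of_poleDiv_le hK le_sup_left
    · exact mem_L_of_poleDiv_le hK le_sup_right
  have hx'k : x' ∉ Set.range (algebraMap k K) := by
    rintro ⟨c, rfl⟩
    apply hDne
    rw [← hx'D]
    ext Q
    rw [poleDiv_apply hK, Place.ord_algebraMap]
    simp
  have htr := transcendental_of_notMem_range hK hx'k
  have hx'0 : x' ≠ 0 := fun h => htr (h ▸ isAlgebraic_zero)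
  have hfd : FiniteDimensional k⟮x'⟯ K := finiteDimensional_adjoin_of_transcendental hK htr
  have hdeg : D.deg = finrank k⟮x'⟯ K := by rw [← hx'D]; exact deg_poleDiv hK htr
  have hdpos : 0 < finrank k⟮x'⟯ K := Module.finrank_pos
  set d := finrank k⟮x'⟯ K with hd
  have hbpf : ∀ P : Place k K, ∃ s ∈ W, P.1 s = exp (D P) := by
    intro P
    by_cases hP : D P = 0
    · exact ⟨1, h1W, by rw [hP, map_one, exp_zero]⟩
    · refine ⟨x', hx'W, ?_⟩
      rw [Place.val_eq_exp_neg_ord P hx'0]
      congr 1
      have h2 : D P = max (-P.ord x') 0 := by rw [← hx'D, poleDiv_apply hK]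
      rcases le_total (-P.ord x') 0 with h | h
      · rw [max_eq_right h] at h2; exact absurd h2 hP
      · rw [max_eq_left h] at h2; exact h2.symm
  have hWpow : ∀ m : ℕ, W ^ m ≤ L (m • D) := fun m =>
    (pow_le_pow_left' hWL m).trans (pow_L_le D m)
  have hWfin : ∀ m : ℕ, Module.Finite k ↥(W ^ m) := fun m =>
    have := L_finite hK (m • D)
    Submodule.finiteDimensional_of_le (hWpow m)
  obtain ⟨N, hN⟩ := riemann hK
  have hell : ∀ m : ℕ, N ≤ m → (ell (m • D) : ℤ) = m * d + 1 - genus k K := by
    intro m hm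
    have := hN (m • D) (by
      rw [Divisor.deg_nsmul, hdeg]
      have : (1 : ℤ) ≤ d := by exact_mod_cast hdpos
      have hm0 : (0 : ℤ) ≤ m := by positivity
      nlinarith)
    rw [Divisor.deg_nsmul, hdeg] at this
    linarith
  have hφ0 : ∃ i, ![(1 : K), x, y] i ≠ 0 := ⟨0, by simp⟩
  have hiff : ∀ P : Place k K, IsNonsingularAt ![(1 : K), x, y] P ↔ NonsingAt W P := by
    intro P
    rw [isNonsingularAt_iff _ P hφ0, range_plane]
  simp_rw [hiff]
  rw [hdeg] at hle ⊢
  constructor
  · -- equality of genus gives nonsingularity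
    intro hg P
    set m₀ : ℕ := max N.toNat d with hm₀
    refine nonsingAt_of_L_le_pow hK hWL hbpf (by rw [hdeg]; exact_mod_cast hdpos) m₀ ?_ P
    intro m hm
    have hmN : N ≤ (m : ℤ) :=
      (Int.self_le_toNat N).trans (by exact_mod_cast (le_max_left _ _).trans hm)
    have hmd : d ≤ m := (le_max_right _ _).trans hm
    have := hWfin m
    have hlow := le_finrank_pow W h1W hxW hyW hxy hx'W htr m hmd
    have hLfin := L_finite hK (m • D)
    have hcast := cast_sum_range m d (by omega)
    have h3 : ((∑ i ∈ Finset.range d, (m + 1 - i) : ℕ) : ℤ) ≤ finrank k ↥(W ^ m) := by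
      exact_mod_cast hlow
    have h4 := hell m hmN
    have h5 : finrank k ↥(L (m • D)) ≤ finrank k ↥(W ^ m) := by
      have : (finrank k ↥(L (m • D)) : ℤ) ≤ finrank k ↥(W ^ m) := by
        unfold ell at h4
        nlinarith
      exact_mod_cast this
    exact (Submodule.eq_of_le_of_finrank_le (hWpow m) h5).ge
  · -- nonsingularity gives equality of genus
    intro hns
    -- a second coordinate
    obtain ⟨y', hy'D, hW'⟩ : ∃ y' : K, poleDiv k y' ≤ poleDiv k x' ∧
        W = Submodule.span k ({1, x', y'} : Set K) := by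
      obtain ⟨α, β, γ, hαβγ⟩ := Submodule.mem_span_triple.mp hx'W
      by_cases hγ : γ = 0
      · have hβ : β ≠ 0 := by
          intro hβ
          apply hx'k
          refine ⟨α, ?_⟩
          rw [← hαβγ, hβ, hγ, zero_smul, zero_smul, add_zero, add_zero, Algebra.smul_def, mul_one]
        refine ⟨y, hx'D ▸ le_sup_right, ?_⟩
        apply le_antisymm
        · rw [hW, Submodule.span_le]
          intro z hz
          rcases hz with rfl | rfl | rfl
          · exact Submodule.subset_span (by simp)
          · have : z = β⁻¹ • x' - (β⁻¹ * α) • (1 : K) := by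
              rw [← hαβγ, hγ, zero_smul, add_zero, smul_add, smul_smul, smul_smul,
                inv_mul_cancel₀ hβ, one_smul]
              ring
            rw [this]
            exact Submodule.sub_mem _
              (Submodule.smul_mem _ _ (Submodule.subset_span (by simp)))
              (Submodule.smul_mem _ _ (Submodule.subset_span (by simp)))
          · exact Submodule.subset_span (by simp)
        · rw [Submodule.span_le]
          intro z hz
          rcases hz with rfl | rfl | rfl
          · exact h1W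
          · exact hx'W
          · exact hyW
      · refine ⟨x, hx'D ▸ le_sup_left, ?_⟩
        apply le_antisymm
        · rw [hW, Submodule.span_le]
          intro z hz
          rcases hz with rfl | rfl | rfl
          · exact Submodule.subset_span (by simp)
          · exact Submodule.subset_span (by simp)
          · have : z = γ⁻¹ • x' - (γ⁻¹ * α) • (1 : K) - (γ⁻¹ * β) • x := by
              rw [← hαβγ, smul_add, smul_add, smul_smul, smul_smul, smul_smul,
                inv_mul_cancel₀ hγ, one_smul]
              ring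
            rw [this]
            exact Submodule.sub_mem _ (Submodule.sub_mem _
              (Submodule.smul_mem _ _ (Submodule.subset_span (by simp)))
              (Submodule.smul_mem _ _ (Submodule.subset_span (by simp))))
              (Submodule.smul_mem _ _ (Submodule.subset_span (by simp)))
        · rw [Submodule.span_le]
          intro z hz
          rcases hz with rfl | rfl | rfl
          · exact h1W
          · exact hx'W
          · exact hxW
    have hfrac1 : ∀ z : K, ∃ r ∈ ratioAlg W 1, r ≠ 0 ∧ r * z ∈ ratioAlg W 1 := by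
      apply frac_of_top
      rw [eq_top_iff, ← hxy, IntermediateField.adjoin_le_iff]
      intro z hz
      apply IntermediateField.subset_adjoin
      have hzW : z ∈ W := by
        rcases hz with rfl | rfl
        · exact hxW
        · exact hyW
      have := div_mem_ratioAlg (s := (1 : K)) hzW
      rwa [div_one] at this
    have hfracx : ∀ z : K, ∃ r ∈ ratioAlg W x', r ≠ 0 ∧ r * z ∈ ratioAlg W x' := by
      apply frac_of_top
      set F := IntermediateField.adjoin k ((ratioAlg W x' : Subalgebra k K) : Set K) with hF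
      have hx'F : x' ∈ F := by
        have h2 : (1 : K) / x' ∈ F :=
          IntermediateField.subset_adjoin _ _ (div_mem_ratioAlg h1W)
        have := F.inv_mem h2
        rwa [one_div, inv_inv] at this
      rw [eq_top_iff, ← hxy, IntermediateField.adjoin_le_iff]
      intro z hz
      have hzW : z ∈ W := by
        rcases hz with rfl | rfl
        · exact hxW
        · exact hyW
      have h2 : z / x' ∈ F := IntermediateField.subset_adjoin _ _ (div_mem_ratioAlg hzW)
      have := F.mul_mem h2 hx'F
      rwa [div_mul_cancel₀ _ hx'0] at this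
    obtain ⟨m₁, hm₁⟩ := L_le_pow_of_nonsing hK hWL h1W hx'W hx'D hDne hfrac1 hfracx hns
    set m : ℕ := max (max N.toNat d) m₁ with hm
    have hmN : N ≤ (m : ℤ) :=
      (Int.self_le_toNat N).trans (by
        exact_mod_cast (le_max_left _ _).trans (le_max_left _ _))
    have hmd : d ≤ m := (le_max_right _ _).trans (le_max_left _ _)
    have hmm : m₁ ≤ m := le_max_right _ _
    have := hWfin m
    have hup := finrank_pow_le hK htr hy'D m
    rw [← hW', ← hd] at hup
    have h5 : finrank k ↥(L (m • D)) ≤ finrank k ↥(W ^ m) := Submodule.finrank_mono (hm₁ m hmm)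
    have hcast := cast_sum_range m d (by omega)
    have h4 := hell m hmN
    unfold ell at h4
    have h6 : (finrank k ↥(W ^ m) : ℤ) ≤ ((∑ i ∈ Finset.range d, (m + 1 - i) : ℕ) : ℤ) := by
      exact_mod_cast hup
    have h7 : (finrank k ↥(L (m • D)) : ℤ) ≤ finrank k ↥(W ^ m) := by exact_mod_cast h5
    nlinarith

end Groth.Agent.H55
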