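import Groth.Prelude.Def_W4bk4goldsch23FF
import Mathlib

set_option autoImplicit false

namespace Groth.Agent.H55

open FunFld WithZero

variable {k K : Type*} [Field k] [Field K] [Algebra k K]

namespace Place

theorem ext' {P Q : Place k K} (h : ∀ x, P.1 x = Q.1 x) : P = Q :=
  Subtype.ext (Valuation.ext h)

theorem val_algebraMap_le_one (P : Place k K) (c : k) : P.1 (algebraMap k K c) ≤ 1 := P.2.1 c

theorem val_algebraMap_eq_one (P : Place k K) {c : k} (hc : c ≠ 0) :
    P.1 (algebraMap k K c) = 1 := by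
  apply le_antisymm (P.2.1 c)
  have h1 : P.1 (algebraMap k K c⁻¹) ≤ 1 := P.2.1 _
  have h2 : P.1 (algebraMap k K c) * P.1 (algebraMap k K c⁻¹) = 1 := by
    rw [← map_mul, ← map_mul, mul_inv_cancel₀ hc, map_one, map_one]
  by_contra h
  push Not at h
  have h0 : P.1 (algebraMap k K c) ≠ 0 := by
    intro h0; rw [h0, zero_mul] at h2; exact zero_ne_one h2
  have : P.1 (algebraMap k K c) * P.1 (algebraMap k K c⁻¹) < 1 := by
    calc P.1 (algebraMap k K c) * P.1 (algebraMap k K c⁻¹)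
        ≤ P.1 (algebraMap k K c) * 1 := by gcongr
      _ < 1 := by rwa [mul_one]
  exact absurd h2 this.ne

theorem exists_uniformizer (P : Place k K) : ∃ t : K, P.1 t = exp (-1 : ℤ) := P.2.2 _

theorem exists_val_eq_exp (P : Place k K) (n : ℤ) : ∃ t : K, P.1 t = exp n := P.2.2 _

theorem val_eq_exp_neg_ord (P : Place k K) {x : K} (hx : x ≠ 0) : P.1 x = exp (-(P.ord x)) := by
  unfold Place.ord
  rw [neg_neg, exp_log]
  exact (Valuation.ne_zero_iff _).mpr hx

theorem ord_eq_iff (P : Place k K) {x : K} (hx : x ≠ 0) (n : ℤ) : P.ord x = n ↔ P.1 x = exp (-n) := by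
  rw [val_eq_exp_neg_ord P hx, exp_inj, neg_inj]

theorem le_ord_iff (P : Place k K) {x : K} (hx : x ≠ 0) (n : ℤ) : n ≤ P.ord x ↔ P.1 x ≤ exp (-n) := by
  rw [val_eq_exp_neg_ord P hx, exp_le_exp, neg_le_neg_iff]

theorem ord_mul (P : Place k K) {x y : K} (hx : x ≠ 0) (hy : y ≠ 0) :
    P.ord (x * y) = P.ord x + P.ord y := by
  unfold Place.ord
  rw [map_mul, log_mul ((Valuation.ne_zero_iff _).mpr hx) ((Valuation.ne_zero_iff _).mpr hy)]
  ring

theorem ord_inv (P : Place k K) (x : K) : P.ord x⁻¹ = - P.ord x := by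
  unfold Place.ord
  rw [map_inv₀, log_inv]

theorem ord_zero (P : Place k K) : P.ord (0 : K) = 0 := by
  unfold Place.ord; simp

theorem ord_one (P : Place k K) : P.ord (1 : K) = 0 := by
  unfold Place.ord; simp

theorem ord_pow (P : Place k K) (x : K) (n : ℕ) : P.ord (x ^ n) = n * P.ord x := by
  unfold Place.ord
  rw [map_pow, log_pow]; simp

theorem ord_algebraMap (P : Place k K) (c : k) : P.ord (algebraMap k K c) = 0 := by
  by_cases hc : c = 0
  · subst hc; simp [ord_zero]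
  · unfold Place.ord; rw [val_algebraMap_eq_one P hc]; simp

/-- If `O_P ⊆ O_Q` then `P = Q`. -/
theorem eq_of_le (P Q : Place k K) (h : ∀ x, P.1 x ≤ 1 → Q.1 x ≤ 1) : P = Q := by
  obtain ⟨t, ht⟩ := exists_uniformizer P
  have ht0 : t ≠ 0 := by
    intro h0; rw [h0, map_zero] at ht; exact exp_ne_zero ht.symm
  -- units of P are units of Q
  have hunit : ∀ u : K, P.1 u = 1 → Q.1 u = 1 := by
    intro u hu
    have hu0 : u ≠ 0 := by
      intro h0; rw [h0, map_zero] at hu; exact zero_ne_one hu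
    apply le_antisymm (h u hu.le)
    have h1 : Q.1 u⁻¹ ≤ 1 := h _ (by rw [map_inv₀, hu, inv_one])
    rw [map_inv₀] at h1
    have hq0 : Q.1 u ≠ 0 := (Valuation.ne_zero_iff _).mpr hu0
    rwa [inv_le_one₀ (zero_lt_iff.mpr hq0)] at h1
  -- every x ≠ 0 is t^n * u
  have hdecomp : ∀ x : K, x ≠ 0 → Q.1 x = Q.1 t ^ (P.ord x) := by
    intro x hx
    have hu : P.1 (x * (t ^ (P.ord x))⁻¹) = 1 := by
      rw [map_mul, map_inv₀, map_zpow₀, ht, val_eq_exp_neg_ord P hx, ← exp_zsmul, smul_eq_mul,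
        mul_neg, mul_one]
      exact mul_inv_cancel₀ exp_ne_zero
    have := hunit _ hu
    rw [map_mul, map_inv₀, map_zpow₀] at this
    have hqt : Q.1 t ^ P.ord x ≠ 0 := zpow_ne_zero _ ((Valuation.ne_zero_iff _).mpr ht0)
    field_simp at this
    exact this
  have hqt0 : Q.1 t ≠ 0 := (Valuation.ne_zero_iff _).mpr ht0
  -- Q.1 t = exp (-m)
  obtain ⟨m, hm⟩ : ∃ m : ℤ, Q.1 t = exp m := ⟨log (Q.1 t), (exp_log hqt0).symm⟩
  -- surjectivity forces m = -1
  obtain ⟨s, hs⟩ := exists_uniformizer Q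
  have hs0 : s ≠ 0 := by
    intro h0; rw [h0, map_zero] at hs; exact exp_ne_zero hs.symm
  have h1 := hdecomp s hs0
  rw [hs, hm, ← exp_zsmul, exp_inj, smul_eq_mul] at h1
  have hle : Q.1 t ≤ 1 := h t (by rw [ht]; exact (exp_le_exp.mpr (by norm_num)).trans_eq exp_zero)
  rw [hm, ← exp_zero, exp_le_exp] at hle
  have hm1 : m = -1 := by
    have : P.ord s * m = -1 := h1.symm
    have hdvd : m ∣ 1 := ⟨-P.ord s, by linarith⟩
    rcases Int.isUnit_iff.mp (isUnit_of_dvd_one hdvd) with h | h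
    · omega
    · exact h
  apply ext'
  intro x
  by_cases hx : x = 0
  · simp [hx]
  · rw [hdecomp x hx, hm, hm1, val_eq_exp_neg_ord P hx, ← exp_zsmul]
    congr 1
    simp

end Place

end Groth.Agent.H55
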