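import Groth.Agent.H55.FFEmbed4

set_option autoImplicit false

namespace Groth.Agent.H55

open FunFld WithZero Module IntermediateField

variable {k K : Type*} [Field k] [Field K] [Algebra k K]

theorem mapDiv_support_finite (hK : IsFunctionField k K) {ι : Type*} [Fintype ι] [Nonempty ι]
    (φ : ι → K) : (Function.support fun P : Place k K =>
      -Finset.univ.inf' Finset.univ_nonempty (fun i => P.ord (φ i))).Finite := by
  classical
  have hfin : (⋃ i : ι, Function.support fun P : Place k K => P.ord (φ i)).Finite :=
    Set.finite_iUnion fun i => Place.finite_support_ord hK (φ i)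
  apply hfin.subset
  intro P hP
  rw [Function.mem_support] at hP
  by_contra hcon
  rw [Set.mem_iUnion] at hcon
  push Not at hcon
  apply hP
  have h0 : ∀ i, P.ord (φ i) = 0 := by
    intro i
    have := hcon i
    rwa [Function.mem_support, not_not] at this
  have : Finset.univ.inf' Finset.univ_nonempty (fun i => P.ord (φ i)) = 0 := by
    apply le_antisymm
    · obtain ⟨i⟩ := ‹Nonempty ι›
      exact (Finset.inf'_le _ (Finset.mem_univ i)).trans_eq (h0 i)
    · apply Finset.le_inf'
      intro i _
      rw [h0 i]
  rw [this, neg_zero]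

theorem mapDiv_apply (hK : IsFunctionField k K) {ι : Type*} [Fintype ι] [Nonempty ι]
    (φ : ι → K) (P : Place k K) :
    mapDiv k φ P = -Finset.univ.inf' Finset.univ_nonempty (fun i => P.ord (φ i)) := by
  unfold FunFld.mapDiv
  rw [dif_pos (mapDiv_support_finite hK φ)]
  rfl

theorem neg_mapDiv_le_ord (hK : IsFunctionField k K) {ι : Type*} [Fintype ι] [Nonempty ι]
    (φ : ι → K) (P : Place k K) (i : ι) : -mapDiv k φ P ≤ P.ord (φ i) := by
  rw [mapDiv_apply hK, neg_neg]
  exact Finset.inf'_le _ (Finset.mem_univ i)

theorem exists_ord_eq_neg_mapDiv (hK : IsFunctionField k K) {ι : Type*} [Fintype ι] [Nonempty ι]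
    (φ : ι → K) (P : Place k K) : ∃ i, P.ord (φ i) = -mapDiv k φ P := by
  obtain ⟨i, -, hi⟩ := Finset.exists_mem_eq_inf' Finset.univ_nonempty (fun i => P.ord (φ i))
  exact ⟨i, by rw [mapDiv_apply hK, neg_neg, hi]⟩

/-- the divisor of the plane map `(1 : x : y)` -/
theorem mapDiv_plane (hK : IsFunctionField k K) (x y : K) :
    mapDiv k ![(1 : K), x, y] = poleDiv k x ⊔ poleDiv k y := by
  ext P
  rw [Finsupp.sup_apply, poleDiv_apply hK, poleDiv_apply hK]
  have h0 := neg_mapDiv_le_ord hK ![(1 : K), x, y] P 0
  have h1 := neg_mapDiv_le_ord hK ![(1 : K), x, y] P 1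
  have h2 := neg_mapDiv_le_ord hK ![(1 : K), x, y] P 2
  simp only [Matrix.cons_val_zero, Matrix.cons_val_one, Matrix.cons_val] at h0 h1 h2
  rw [Place.ord_one] at h0
  obtain ⟨i, hi⟩ := exists_ord_eq_neg_mapDiv hK ![(1 : K), x, y] P
  apply le_antisymm
  · fin_cases i
    · simp only [Fin.zero_eta, Matrix.cons_val_zero] at hi
      rw [Place.ord_one] at hi
      have : mapDiv k ![(1 : K), x, y] P = 0 := by omega
      rw [this]
      exact le_sup_of_le_left (le_max_right _ _)
    · simp only [Fin.mk_one, Matrix.cons_val_one, Matrix.cons_val_zero] at hi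
      have : mapDiv k ![(1 : K), x, y] P = -P.ord x := by omega
      rw [this]
      exact le_sup_of_le_left (le_max_left _ _)
    · simp only [Fin.reduceFinMk, Matrix.cons_val] at hi
      have : mapDiv k ![(1 : K), x, y] P = -P.ord y := by omega
      rw [this]
      exact le_sup_of_le_right (le_max_left _ _)
  · apply sup_le
    · exact max_le (by omega) (by omega)
    · exact max_le (by omega) (by omega)

end Groth.Agent.H55
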