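import Groth.Agent.H55.FFPlane1

set_option autoImplicit false

namespace Groth.Agent.H55

open FunFld WithZero Module IntermediateField

variable {k K : Type*} [Field k] [Field K] [Algebra k K]

theorem mem_L_of_poleDiv_le (hK : IsFunctionField k K) {D : Divisor k K} {x : K}
    (h : poleDiv k x ≤ D) : x ∈ L D := by
  by_cases hx0 : x = 0
  · rw [hx0]; exact Submodule.zero_mem _
  rw [mem_L_iff_ord hx0]
  intro Q
  have h1 := h Q
  rw [poleDiv_apply hK] at h1
  have := le_max_left (-Q.ord x) 0
  omega

theorem pow_L_le (D : Divisor k K) (j : ℕ) : (L D) ^ j ≤ L (j • D) := by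
  induction j with
  | zero =>
    rw [pow_zero, zero_smul, Submodule.one_le]
    intro P
    rw [map_one, Finsupp.zero_apply, exp_zero]
  | succ j ih =>
    rw [pow_succ, succ_nsmul, Submodule.mul_le]
    intro a ha b hb
    exact mul_mem_L (ih ha) hb

/-- some element of `span {1, x, y}` has pole divisor exactly `(x)_∞ ⊔ (y)_∞` -/
theorem exists_poleDiv_eq [Infinite k] (hK : IsFunctionField k K) (x y : K)
    (hD : poleDiv k x ⊔ poleDiv k y ≠ 0) :
    ∃ x' ∈ Submodule.span k ({1, x, y} : Set K), poleDiv k x' = poleDiv k x ⊔ poleDiv k y := by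
  classical
  set D : Divisor k K := poleDiv k x ⊔ poleDiv k y with hDdef
  set W : Submodule k K := Submodule.span k ({1, x, y} : Set K) with hW
  have hD0 : 0 ≤ D := le_sup_of_le_left (poleDiv_nonneg x)
  have hxW : x ∈ W := Submodule.subset_span (by simp)
  have hyW : y ∈ W := Submodule.subset_span (by simp)
  have hWL : W ≤ L D := by
    rw [hW, Submodule.span_le]
    intro z hz
    rcases hz with rfl | rfl | rfl
    · exact L_mono hD0 (by rw [L_zero hK]; exact Submodule.one_le.mp le_rfl)
    · exact mem_L_of_poleDiv_le hK le_sup_left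
    · exact mem_L_of_poleDiv_le hK le_sup_right
  let p : D.support → Submodule k W := fun P =>
    (L (D - Finsupp.single P.1 1)).comap W.subtype
  have hp : ∀ P, p P ≠ ⊤ := by
    intro P htop
    have hDP : D P.1 ≠ 0 := Finsupp.mem_support_iff.mp P.2
    have hDP' : D P.1 = max (poleDiv k x P.1) (poleDiv k y P.1) := Finsupp.sup_apply _ _ _
    have key : ∀ z : K, z ∈ W → poleDiv k z P.1 = D P.1 → False := by
      intro z hzW hz
      have hz0 : z ≠ 0 := by
        rintro rfl
        rw [poleDiv_apply hK, Place.ord_zero] at hz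
        simp at hz
        exact hDP hz.symm
      have hmem : (⟨z, hzW⟩ : W) ∈ p P := by rw [htop]; trivial
      have hmem' : z ∈ L (D - Finsupp.single P.1 1) := hmem
      have := (mem_L_iff_ord hz0).mp hmem' P.1
      rw [Finsupp.sub_apply, Finsupp.single_eq_same] at this
      rw [poleDiv_apply hK] at hz
      have h3 : 0 < D P.1 := lt_of_le_of_ne (hD0 P.1) (Ne.symm hDP)
      rcases max_cases (-P.1.ord z) 0 with ⟨h1, h2⟩ | ⟨h1, h2⟩ <;> omega
    rcases max_cases (poleDiv k x P.1) (poleDiv k y P.1) with ⟨h1, _⟩ | ⟨h1, _⟩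
    · exact key x hxW (by rw [hDP', h1])
    · exact key y hyW (by rw [hDP', h1])
  obtain ⟨x', hx'⟩ := Submodule.exists_forall_notMem_of_forall_ne_top p hp
  refine ⟨x'.1, x'.2, ?_⟩
  have hx'L : x'.1 ∈ L D := hWL x'.2
  have hord : ∀ P ∈ D.support, x'.1 ≠ 0 ∧ P.ord x'.1 = -D P := by
    intro P hP
    have h1 : x'.1 ∉ L (D - Finsupp.single P 1) := fun hmem => hx' ⟨P, hP⟩ hmem
    exact ord_eq_of_mem_of_notMem hx'L h1
  have hne : x'.1 ≠ 0 := by
    obtain ⟨P, hP⟩ : ∃ P, D P ≠ 0 := by
      by_contra hcon
      push Not at hcon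
      exact hD (Finsupp.ext hcon)
    exact (hord P (Finsupp.mem_support_iff.mpr hP)).1
  ext Q
  rw [poleDiv_apply hK]
  by_cases hQ : Q ∈ D.support
  · rw [(hord Q hQ).2, neg_neg]
    exact max_eq_left (hD0 Q)
  · rw [Finsupp.notMem_support_iff] at hQ
    have := (mem_L_iff_ord hne).mp hx'L Q
    rw [hQ]
    exact max_eq_right (by omega)

/-- if the `F`-spans of the powers of `W` stabilise, they are everything -/
theorem span_pow_eq_top (F : IntermediateField k K) [FiniteDimensional F K]
    (W : Submodule k K) (h1 : (1 : K) ∈ W) {x y : K} (hx : x ∈ W) (hy : y ∈ W)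
    (hxy : IntermediateField.adjoin k ({x, y} : Set K) = ⊤) (j : ℕ)
    (hstab : Submodule.span F ((W ^ (j + 1) : Submodule k K) : Set K) ≤
      Submodule.span F ((W ^ j : Submodule k K) : Set K)) :
    Submodule.span F ((W ^ j : Submodule k K) : Set K) = ⊤ := by
  set M : Submodule F K := Submodule.span F ((W ^ j : Submodule k K) : Set K) with hM
  -- multiplication by elements of `W` preserves `M`
  have hWM : ∀ w ∈ W, ∀ m ∈ M, w * m ∈ M := by
    intro w hw m hm
    apply hstab
    have : M ≤ (Submodule.span F ((W ^ (j + 1) : Submodule k K) : Set K)).comap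
        (LinearMap.mulLeft F w) := by
      rw [hM, Submodule.span_le]
      intro a ha
      rw [SetLike.mem_coe, Submodule.mem_comap, LinearMap.mulLeft_apply]
      apply Submodule.subset_span
      rw [SetLike.mem_coe, pow_succ']
      exact Submodule.mul_mem_mul hw ha
    exact this hm
  have hall : ∀ z ∈ IntermediateField.adjoin k ({x, y} : Set K), ∀ m ∈ M, z * m ∈ M := by
    intro z hz
    induction hz using IntermediateField.adjoin_induction with
    | mem z hz =>
      rcases hz with rfl | rfl
      · exact hWM _ hx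
      · exact hWM _ hy
    | algebraMap c =>
      intro m hm
      have : algebraMap k K c * m = (algebraMap k F c) • m := by
        rw [Algebra.smul_def]; rfl
      rw [this]
      exact M.smul_mem _ hm
    | add a b _ _ ha hb =>
      intro m hm
      rw [add_mul]
      exact M.add_mem (ha m hm) (hb m hm)
    | inv a _ ha =>
      intro m hm
      by_cases ha0 : a = 0
      · rw [ha0, inv_zero, zero_mul]; exact M.zero_mem
      have hmaps : ∀ m' ∈ M, LinearMap.mulLeft F a m' ∈ M := fun m' hm' => ha m' hm'
      have hinj : Function.Injective ((LinearMap.mulLeft F a).restrict hmaps) := by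
        intro m₁ m₂ h12
        have : a * (m₁ : K) = a * (m₂ : K) := congrArg Subtype.val h12
        exact Subtype.ext (mul_left_cancel₀ ha0 this)
      have hsurj := LinearMap.surjective_of_injective hinj
      obtain ⟨m', hm'⟩ := hsurj ⟨m, hm⟩
      have h2 : a * (m' : K) = m := congrArg Subtype.val hm'
      rw [← h2, ← mul_assoc, inv_mul_cancel₀ ha0, one_mul]
      exact m'.2
    | mul a b _ _ ha hb =>
      intro m hm
      rw [mul_assoc]
      exact ha _ (hb m hm)
  have h1M : (1 : K) ∈ M := by
    apply Submodule.subset_span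
    rw [SetLike.mem_coe]
    exact Submodule.one_le.mp (one_le_pow_of_one_le' (Submodule.one_le.mpr h1) j)
  rw [eq_top_iff]
  intro z _
  have := hall z (by rw [hxy]; trivial) 1 h1M
  rwa [mul_one] at this

end Groth.Agent.H55
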