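import Groth.Agent.H55.FFPlane2

set_option autoImplicit false

namespace Groth.Agent.H55

open FunFld WithZero Module IntermediateField

variable {k K : Type*} [Field k] [Field K] [Algebra k K]

/-- an `F`-independent flag `u_i ∈ W^i` -/
theorem exists_flag (F : IntermediateField k K) [FiniteDimensional F K]
    (W : Submodule k K) (h1 : (1 : K) ∈ W) {x y : K} (hx : x ∈ W) (hy : y ∈ W)
    (hxy : IntermediateField.adjoin k ({x, y} : Set K) = ⊤) :
    ∀ j : ℕ, j + 1 ≤ finrank F K → ∃ u : Fin (j + 1) → K,
      (∀ i : Fin (j + 1), u i ∈ W ^ (i : ℕ)) ∧ LinearIndependent F u := by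
  have hmono : ∀ {a b : ℕ}, a ≤ b → W ^ a ≤ W ^ b := fun h =>
    pow_le_pow_right' (Submodule.one_le.mpr h1) h
  intro j
  induction j with
  | zero =>
    intro _
    refine ⟨fun _ => 1, fun i => ?_, ?_⟩
    · exact Submodule.one_le.mp (one_le_pow_of_one_le' (Submodule.one_le.mpr h1) _)
    · have : Unique (Fin (0 + 1)) := inferInstanceAs (Unique (Fin 1))
      rw [linearIndependent_unique_iff]
      exact one_ne_zero
  | succ j ih =>
    intro hj
    obtain ⟨u, huW, huli⟩ := ih (by omega)
    set U : Submodule F K := Submodule.span F (Set.range u) with hU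
    have hUrank : finrank F U = j + 1 := by
      rw [hU, finrank_span_eq_card huli, Fintype.card_fin]
    obtain ⟨w, hwW, hwU⟩ : ∃ w ∈ W ^ (j + 1), w ∉ U := by
      by_contra hcon
      push Not at hcon
      have h2 : Submodule.span F ((W ^ (j + 1) : Submodule k K) : Set K) ≤ U := by
        rw [Submodule.span_le]
        intro w hw
        exact hcon w hw
      have h3 : U ≤ Submodule.span F ((W ^ j : Submodule k K) : Set K) := by
        rw [hU, Submodule.span_le]
        rintro _ ⟨i, rfl⟩
        apply Submodule.subset_span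
        exact hmono (Nat.lt_succ_iff.mp i.2) (huW i)
      have h4 := span_pow_eq_top F W h1 hx hy hxy j (h2.trans h3)
      have h5 : Submodule.span F ((W ^ j : Submodule k K) : Set K) ≤
          Submodule.span F ((W ^ (j + 1) : Submodule k K) : Set K) :=
        Submodule.span_mono (hmono (Nat.le_succ j))
      have h6 : U = ⊤ := by
        rw [eq_top_iff, ← h4]
        exact h5.trans h2
      rw [h6, finrank_top] at hUrank
      omega
    refine ⟨Fin.snoc u w, fun i => ?_, ?_⟩
    · induction i using Fin.lastCases with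
      | last =>
        rw [Fin.snoc_last]
        exact hwW
      | cast i =>
        rw [Fin.snoc_castSucc]
        exact huW i
    · rw [linearIndependent_finSnoc]
      exact ⟨huli, hwU⟩

theorem two_mul_sum_range (m : ℤ) (n : ℕ) :
    2 * ∑ i ∈ Finset.range n, (m + 1 - (i : ℤ)) = 2 * n * (m + 1) - n * (n - 1) := by
  induction n with
  | zero => simp
  | succ n ih =>
    rw [Finset.sum_range_succ, mul_add, ih]
    push_cast
    ring

/-- S11054: the genus bound for a plane model -/
theorem two_mul_genus_le_of_plane_model [Infinite k] (hK : IsFunctionField k K) (x y : K)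
    (hxy : IntermediateField.adjoin k ({x, y} : Set K) = ⊤) :
    2 * (genus k K : ℤ) ≤
      ((mapDiv k ![(1 : K), x, y]).deg - 1) * ((mapDiv k ![(1 : K), x, y]).deg - 2) := by
  classical
  rw [mapDiv_plane hK]
  set D : Divisor k K := poleDiv k x ⊔ poleDiv k y with hDdef
  have hD0 : 0 ≤ D := le_sup_of_le_left (poleDiv_nonneg x)
  -- `D ≠ 0`
  have hDne : D ≠ 0 := by
    intro h0
    have hx0 : x ∈ L (0 : Divisor k K) := mem_L_of_poleDiv_le hK (by rw [← h0]; exact le_sup_left)
    have hy0 : y ∈ L (0 : Divisor k K) := mem_L_of_poleDiv_le hK (by rw [← h0]; exact le_sup_right)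
    rw [L_zero hK, Submodule.mem_one] at hx0 hy0
    obtain ⟨⟨t, ht, -⟩, -⟩ := hK
    apply ht
    have hle : IntermediateField.adjoin k ({x, y} : Set K) ≤ ⊥ := by
      rw [IntermediateField.adjoin_le_iff]
      intro z hz
      rcases hz with rfl | rfl
      · obtain ⟨c, hc⟩ := hx0
        rw [← hc]; exact (⊥ : IntermediateField k K).algebraMap_mem c
      · obtain ⟨c, hc⟩ := hy0
        rw [← hc]; exact (⊥ : IntermediateField k K).algebraMap_mem c
    have htbot : t ∈ (⊥ : IntermediateField k K) := hle (by rw [hxy]; trivial)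
    rw [IntermediateField.mem_bot] at htbot
    obtain ⟨c, rfl⟩ := htbot
    exact isAlgebraic_algebraMap c
  obtain ⟨x', hx'W, hx'D0⟩ := exists_poleDiv_eq hK x y hDne
  have hx'D : poleDiv k x' = D := hx'D0
  set W : Submodule k K := Submodule.span k ({1, x, y} : Set K) with hW
  have h1W : (1 : K) ∈ W := Submodule.subset_span (by simp)
  have hxW : x ∈ W := Submodule.subset_span (by simp)
  have hyW : y ∈ W := Submodule.subset_span (by simp)
  have hWL : W ≤ L D := by
    rw [hW, Submodule.span_le]
    intro z hz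
    rcases hz with rfl | rfl | rfl
    · exact L_mono hD0 (by rw [L_zero hK]; exact Submodule.one_le.mp le_rfl)
    · exact mem_L_of_poleDiv_le hK le_sup_left
    · exact mem_L_of_poleDiv_le hK le_sup_right
  have hx'L : x' ∈ L D := hWL hx'W
  -- `x'` is transcendental
  have hx'k : x' ∉ Set.range (algebraMap k K) := by
    rintro ⟨c, rfl⟩
    apply hDne
    rw [← hx'D]
    ext Q
    rw [poleDiv_apply hK, Place.ord_algebraMap]
    simp
  have htr := transcendental_of_notMem_range hK hx'k
  have hx'0 : x' ≠ 0 := fun h => htr (h ▸ isAlgebraic_zero)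
  have hfd : FiniteDimensional k⟮x'⟯ K := finiteDimensional_adjoin_of_transcendental hK htr
  have hdeg : D.deg = finrank k⟮x'⟯ K := by rw [← hx'D]; exact deg_poleDiv hK htr
  have hdpos : 0 < finrank k⟮x'⟯ K := Module.finrank_pos
  obtain ⟨j, hj⟩ : ∃ j, finrank k⟮x'⟯ K = j + 1 := Nat.exists_eq_succ_of_ne_zero (by omega)
  obtain ⟨u, huW, huli⟩ := exists_flag k⟮x'⟯ W h1W hxW hyW hxy j (by omega)
  -- powers of `x'`
  let xF : k⟮x'⟯ := ⟨x', mem_adjoin_simple_self k x'⟩
  have hxF : Transcendental k xF := by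
    intro halg
    exact htr ((isAlgebraic_algHom_iff (k⟮x'⟯.val) Subtype.val_injective (a := xF)).mpr halg)
  have hpow := linearIndependent_pow_of_transcendental hxF
  have hli : LinearIndependent k (fun p : ℕ × Fin (j + 1) => xF ^ p.1 • u p.2) :=
    linearIndependent_smul hpow huli
  obtain ⟨N, hN⟩ := riemann hK
  set m : ℕ := max N.toNat (j + 1) with hm
  have hmN : N ≤ (m : ℤ) := (Int.self_le_toNat N).trans (by exact_mod_cast le_max_left _ _)
  have hmj : j + 1 ≤ m := le_max_right _ _
  have hmem : ∀ (i : Fin (j + 1)) (a : ℕ), a + i ≤ m → xF ^ a • u i ∈ L (m • D) := by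
    intro i a hai
    have h1 : xF ^ a • u i = x' ^ a * u i := by
      rw [Algebra.smul_def]; rfl
    rw [h1]
    have h2 : x' ^ a ∈ L (a • D) := pow_L_le D a (Submodule.pow_mem_pow _ hx'L a)
    have h3 : u i ∈ L ((i : ℕ) • D) :=
      pow_L_le D i (pow_le_pow_left' hWL _ (huW i))
    have h4 := mul_mem_L h2 h3
    rw [← add_smul] at h4
    exact L_mono (nsmul_mono_of_nonneg hD0 hai) h4
  have hfin : Module.Finite k (L (m • D)) := L_finite hK _
  let g : (Σ i : Fin (j + 1), Fin (m + 1 - i)) → ℕ × Fin (j + 1) := fun p => (p.2.1, p.1)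
  have hg : Function.Injective g := by
    rintro ⟨i, a⟩ ⟨i', a'⟩ h
    simp only [g, Prod.mk.injEq] at h
    obtain ⟨h1, h2⟩ := h
    subst h2
    congr
    exact Fin.ext h1
  have hli2 := hli.comp g hg
  let w : (Σ i : Fin (j + 1), Fin (m + 1 - i)) → L (m • D) := fun p =>
    ⟨xF ^ p.2.1 • u p.1, hmem p.1 p.2.1 (by have := p.2.2; omega)⟩
  have hw : LinearIndependent k w := LinearIndependent.of_comp (L (m • D)).subtype hli2
  have hcard := hw.fintype_card_le_finrank
  rw [Fintype.card_sigma] at hcard
  simp only [Fintype.card_fin] at hcard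
  rw [Fin.sum_univ_eq_sum_range (fun i => m + 1 - i) (j + 1)] at hcard
  have hell := hN (m • D) (by
    rw [Divisor.deg_nsmul, hdeg, hj]
    have : (1 : ℤ) ≤ ((j + 1 : ℕ) : ℤ) := by push_cast; omega
    have hm0 : (0 : ℤ) ≤ m := by positivity
    nlinarith)
  rw [Divisor.deg_nsmul, hdeg, hj] at hell
  have hcast : ((∑ i ∈ Finset.range (j + 1), (m + 1 - i) : ℕ) : ℤ) =
      ∑ i ∈ Finset.range (j + 1), ((m : ℤ) + 1 - (i : ℤ)) := by
    rw [Nat.cast_sum]
    apply Finset.sum_congr rfl
    intro i hi
    rw [Finset.mem_range] at hi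
    rw [Nat.cast_sub (by omega)]
    push_cast
    ring
  have hsum := two_mul_sum_range (m : ℤ) (j + 1)
  have hcard' : ((∑ i ∈ Finset.range (j + 1), (m + 1 - i) : ℕ) : ℤ) ≤ ell (m • D) := by
    exact_mod_cast hcard
  rw [hcast] at hcard'
  rw [hdeg, hj]
  push_cast at hsum hell ⊢
  nlinarith

end Groth.Agent.H55
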