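import Groth.Agent.H55.FFElliptic
import Groth.Prelude.Def_W4bk4goldsch45

set_option autoImplicit false

namespace Groth.Agent.H55

open FunFld WithZero Module IntermediateField

variable {k K : Type*} [Field k] [Field K] [Algebra k K]

/-- S11064: a projective map nonsingular at some place is birational -/
theorem adjoin_ratios_eq_top {n : ℕ} (φ : Fin (n + 1) → K) (h0 : φ 0 ≠ 0) (P : Place k K)
    (h : IsNonsingularAt φ P) :
    IntermediateField.adjoin k (Set.range fun i => φ i / φ 0) = ⊤ := by
  set F := IntermediateField.adjoin k (Set.range fun i => φ i / φ 0) with hF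
  have hgen : ∀ i, φ i / φ 0 ∈ F := fun i =>
    IntermediateField.subset_adjoin k _ ⟨i, rfl⟩
  have hO : ∀ z : K, P.1 z ≤ 1 → z ∈ F := by
    intro z hz
    obtain ⟨j, hj0, -, u, hu, w, hw, hw1, hzw⟩ := h z hz
    have hsub : Algebra.adjoin k (Set.range fun i => φ i / φ j) ≤ F.toSubalgebra := by
      apply Algebra.adjoin_le
      rintro _ ⟨i, rfl⟩
      have h1 : φ i / φ j = (φ i / φ 0) / (φ j / φ 0) := by
        field_simp
      show φ i / φ j ∈ F
      rw [h1]
      exact F.div_mem (hgen i) (hgen j)
    have hw0 : w ≠ 0 := by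
      rintro rfl
      rw [map_zero] at hw1
      exact zero_ne_one hw1
    have hz_eq : z = u / w := by
      rw [← hzw, mul_div_assoc, div_self hw0, mul_one]
    rw [hz_eq]
    exact F.div_mem (hsub hu) (hsub hw)
  rw [eq_top_iff]
  intro z _
  rcases le_total (P.1 z) 1 with hz | hz
  · exact hO z hz
  · have hz0 : z ≠ 0 := by
      rintro rfl
      rw [map_zero] at hz
      exact absurd hz (by simp)
    have h1 : P.1 z⁻¹ ≤ 1 := by
      rw [map_inv₀]
      exact inv_le_one_of_one_le₀ hz
    have := F.inv_mem (hO _ h1)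
    rwa [inv_inv] at this

theorem lt_one_iff_le_exp_neg_one {x : WithZero (Multiplicative ℤ)} :
    x < 1 ↔ x ≤ exp (-1 : ℤ) := by
  have := Place.lt_exp_iff_le_exp_sub_one (x := x) (n := 0)
  rwa [exp_zero, zero_sub] at this

/-- at a place of degree one every integral element is congruent to a constant -/
theorem Place.exists_const_sub_lt_one {P : Place k K} (hP : P.deg = 1) {y : K} (hy : P.1 y ≤ 1) :
    ∃ c : k, P.1 (y - algebraMap k K c) < 1 := by
  unfold FunFld.Place.deg at hP
  obtain ⟨c, hc⟩ := (finrank_eq_one_iff_of_nonzero' (1 : IsLocalRing.ResidueField P.O)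
    one_ne_zero).mp hP (IsLocalRing.residue P.O ⟨y, hy⟩)
  refine ⟨c, ?_⟩
  have h1 : IsLocalRing.residue P.O (⟨y, hy⟩ - algebraMap k P.O c) = 0 := by
    rw [map_sub, ← hc, Algebra.algebraMap_eq_smul_one, sub_eq_zero]
    rfl
  rw [Place.residue_eq_zero_iff] at h1
  exact h1

/-- the subspace `k + N + m_P²` is a subalgebra when `N ⊆ m_P` -/
theorem mul_mem_one_sup (P : Place k K) (N : Submodule k K) (hN : N ≤ Place.ball P 1)
    {x y : K} (hx : x ∈ (1 : Submodule k K) ⊔ N ⊔ Place.ball P 2)
    (hy : y ∈ (1 : Submodule k K) ⊔ N ⊔ Place.ball P 2) :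
    x * y ∈ (1 : Submodule k K) ⊔ N ⊔ Place.ball P 2 := by
  have hmul : ∀ {a b : ℤ} {u v : K}, u ∈ Place.ball P a → v ∈ Place.ball P b →
      u * v ∈ Place.ball P (a + b) := by
    intro a b u v hu hv
    rw [Place.mem_ball] at hu hv ⊢
    rw [map_mul, neg_add, exp_add]
    exact mul_le_mul' hu hv
  have hone : ∀ {u : K}, u ∈ (1 : Submodule k K) → u ∈ Place.ball P 0 := by
    intro u hu
    obtain ⟨c, rfl⟩ := Submodule.mem_one.mp hu
    rw [Place.mem_ball, neg_zero, exp_zero]
    exact P.2.1 c
  have hS : (1 : Submodule k K) ⊔ N ⊔ Place.ball P 2 ≤ Place.ball P 0 := by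
    refine sup_le (sup_le (fun u hu => hone hu) (hN.trans (Place.ball_anti P (by norm_num))))
      (Place.ball_anti P (by norm_num))
  have hprod : ((1 : Submodule k K) ⊔ N ⊔ Place.ball P 2) *
      ((1 : Submodule k K) ⊔ N ⊔ Place.ball P 2) ≤ (1 : Submodule k K) ⊔ N ⊔ Place.ball P 2 := by
    rw [Submodule.sup_mul, Submodule.sup_mul, one_mul]
    refine sup_le (sup_le le_rfl ?_) ?_
    · rw [Submodule.mul_sup, Submodule.mul_sup, mul_one]
      refine sup_le (sup_le (le_sup_of_le_left le_sup_right) ?_) ?_
      · refine le_sup_of_le_right ?_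
        rw [Submodule.mul_le]
        intro u hu v hv
        have := hmul (hN hu) (hN hv)
        exact this
      · refine le_sup_of_le_right ?_
        rw [Submodule.mul_le]
        intro u hu v hv
        have := hmul (hN hu) hv
        exact Place.ball_anti P (by norm_num) this
    · refine le_sup_of_le_right ?_
      rw [Submodule.mul_le]
      intro u hu v hv
      have := hmul hu (hS hv)
      exact Place.ball_anti P (by norm_num) this
  exact hprod (Submodule.mul_mem_mul hx hy)

/-- S11066 -/
theorem exists_uniformizer_inLocRing_iff_span {n : ℕ} (φ : Fin (n + 1) → K) {P : Place k K}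
    (hP : P.deg = 1) (heff : (1 : K) ∈ Submodule.span k (Set.range φ))
    (hnorm : ∀ i, P.1 (φ i) ≤ 1) :
    (∃ t : K, InLocRing φ P t ∧ P.1 t = exp (-1)) ↔
      ∃ t ∈ Submodule.span k (Set.range φ), P.1 t = exp (-1) := by
  -- every element of the span is integral
  have hspanO : ∀ x ∈ Submodule.span k (Set.range φ), P.1 x ≤ 1 := by
    intro x hx
    have : Submodule.span k (Set.range φ) ≤ Place.OSub P := by
      rw [Submodule.span_le]
      rintro _ ⟨i, rfl⟩
      exact hnorm i
    exact this hx
  -- an entry of least order is a unit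
  have hunit : ∀ j, (∀ i, P.1 (φ i) ≤ P.1 (φ j)) → P.1 (φ j) = 1 := by
    intro j hj
    apply le_antisymm (hnorm j)
    by_contra hlt
    push Not at hlt
    have : Submodule.span k (Set.range φ) ≤ Place.ball P 1 := by
      rw [Submodule.span_le]
      rintro _ ⟨i, rfl⟩
      show P.1 (φ i) ≤ exp (-1)
      exact lt_one_iff_le_exp_neg_one.mp ((hj i).trans_lt hlt)
    have h1 := this heff
    rw [Place.mem_ball, map_one] at h1
    exact absurd h1 (not_le.mpr Place.exp_neg_one_lt_one)
  -- the span divided by a unit entry lies in the affine coordinate ring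
  have hdiv : ∀ j, ∀ x ∈ Submodule.span k (Set.range φ),
      x / φ j ∈ Algebra.adjoin k (Set.range fun i => φ i / φ j) := by
    intro j x hx
    have : Submodule.span k (Set.range φ) ≤
        (Subalgebra.toSubmodule (Algebra.adjoin k (Set.range fun i => φ i / φ j))).comap
          (LinearMap.mulRight k (φ j)⁻¹) := by
      rw [Submodule.span_le]
      rintro _ ⟨i, rfl⟩
      show φ i * (φ j)⁻¹ ∈ Algebra.adjoin k (Set.range fun i => φ i / φ j)
      rw [← div_eq_mul_inv]
      exact Algebra.subset_adjoin ⟨i, rfl⟩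
    have h1 := this hx
    rw [Submodule.mem_comap, LinearMap.mulRight_apply, ← div_eq_mul_inv] at h1
    exact h1
  constructor
  · rintro ⟨t, ⟨j, hj0, hj, u, hu, w, hw, hw1, htw⟩, ht⟩
    have hφj := hunit j hj
    -- constants approximating the ratios
    have hy : ∀ i, P.1 (φ i / φ j) ≤ 1 := by
      intro i
      rw [map_div₀, hφj, div_one]
      exact hnorm i
    choose c hc using fun i => Place.exists_const_sub_lt_one hP (hy i)
    set N : Submodule k K := Submodule.span k (Set.range fun i => φ i / φ j - algebraMap k K (c i))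
      with hNdef
    have hN : N ≤ Place.ball P 1 := by
      rw [Submodule.span_le]
      rintro _ ⟨i, rfl⟩
      show P.1 _ ≤ exp (-1)
      exact lt_one_iff_le_exp_neg_one.mp (hc i)
    -- the subalgebra `k + N + m²`
    let S : Subalgebra k K := Submodule.toSubalgebra ((1 : Submodule k K) ⊔ N ⊔ Place.ball P 2)
      (Submodule.mem_sup_left (Submodule.mem_sup_left (Submodule.one_le.mp le_rfl)))
      (fun x y hx hy => mul_mem_one_sup P N hN hx hy)
    have hRS : Algebra.adjoin k (Set.range fun i => φ i / φ j) ≤ S := by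
      apply Algebra.adjoin_le
      rintro _ ⟨i, rfl⟩
      show φ i / φ j ∈ (1 : Submodule k K) ⊔ N ⊔ Place.ball P 2
      have h1 : φ i / φ j = algebraMap k K (c i) + (φ i / φ j - algebraMap k K (c i)) := by ring
      rw [h1]
      apply Submodule.mem_sup_left
      exact Submodule.add_mem_sup (Submodule.mem_one.mpr ⟨c i, rfl⟩)
        (Submodule.subset_span ⟨i, rfl⟩)
    have huS : u ∈ (1 : Submodule k K) ⊔ N ⊔ Place.ball P 2 := hRS hu
    obtain ⟨an, han, q, hq, hsum⟩ := Submodule.mem_sup.mp huS
    obtain ⟨a', ha', n', hn', hsum'⟩ := Submodule.mem_sup.mp han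
    obtain ⟨a, rfl⟩ := Submodule.mem_one.mp ha'
    have hvu : P.1 u = exp (-1) := by
      rw [← htw, map_mul, hw1, mul_one, ht]
    have hvq : P.1 q ≤ exp (-2) := hq
    have hvn : P.1 n' ≤ exp (-1) := hN hn'
    have hlt21 : (exp (-2 : ℤ) : WithZero (Multiplicative ℤ)) < exp (-1) :=
      exp_lt_exp.mpr (by norm_num)
    have ha0 : a = 0 := by
      by_contra hne
      have h1 : P.1 (algebraMap k K a) = 1 := Place.val_algebraMap_eq_one P hne
      have h2 : algebraMap k K a = u - n' - q := by rw [← hsum, ← hsum']; ring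
      have h3 : P.1 (u - n' - q) < 1 := by
        apply lt_of_le_of_lt (Valuation.map_sub _ _ _)
        apply max_lt
        · apply lt_of_le_of_lt (Valuation.map_sub _ _ _)
          apply max_lt
          · rw [hvu]; exact Place.exp_neg_one_lt_one
          · exact hvn.trans_lt Place.exp_neg_one_lt_one
        · exact (hvq.trans_lt hlt21).trans Place.exp_neg_one_lt_one
      rw [← h2, h1] at h3
      exact lt_irrefl _ h3
    have hn_eq : n' = u - q := by rw [← hsum, ← hsum', ha0, map_zero, zero_add]; ring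
    have hvn' : P.1 n' = exp (-1) := by
      rw [hn_eq, Valuation.map_sub_eq_of_lt_left, hvu]
      rw [hvu]
      exact hvq.trans_lt hlt21
    refine ⟨n' * φ j, ?_, by rw [map_mul, hvn', hφj, mul_one]⟩
    have : N ≤ (Submodule.span k (Set.range φ)).comap (LinearMap.mulRight k (φ j)) := by
      rw [Submodule.span_le]
      rintro _ ⟨i, rfl⟩
      show (φ i / φ j - algebraMap k K (c i)) * φ j ∈ Submodule.span k (Set.range φ)
      have h1 : (φ i / φ j - algebraMap k K (c i)) * φ j = φ i - c i • φ j := by
        rw [Algebra.smul_def]; field_simp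
      rw [h1]
      exact Submodule.sub_mem _ (Submodule.subset_span ⟨i, rfl⟩)
        (Submodule.smul_mem _ _ (Submodule.subset_span ⟨j, rfl⟩))
    exact this hn'
  · rintro ⟨t, htspan, ht⟩
    -- an entry of least order
    obtain ⟨j, hj⟩ : ∃ j, ∀ i, P.1 (φ i) ≤ P.1 (φ j) := by
      obtain ⟨j, -, hj⟩ := Finset.exists_max_image Finset.univ (fun i => P.1 (φ i))
        Finset.univ_nonempty
      exact ⟨j, fun i => hj i (Finset.mem_univ i)⟩
    have hφj := hunit j hj
    have hj0 : φ j ≠ 0 := by
      intro h0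
      rw [h0, map_zero] at hφj
      exact zero_ne_one hφj
    refine ⟨t, ⟨j, hj0, hj, t / φ j, hdiv j t htspan, 1 / φ j, hdiv j 1 heff, ?_, ?_⟩, ht⟩
    · rw [map_div₀, map_one, hφj, div_one]
    · rw [mul_one_div]

end Groth.Agent.H55
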