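import Groth.Agent.H55.FFDeg

set_option autoImplicit false

namespace Groth.Agent.H55

open FunFld WithZero Module IntermediateField

variable {k K : Type*} [Field k] [Field K] [Algebra k K]

theorem mem_L_iff_div (hK : IsFunctionField k K) {D : Divisor k K} {x : K} (hx : x ≠ 0) :
    x ∈ L D ↔ 0 ≤ D + div k x := by
  rw [mem_L_iff_ord hx]
  refine forall_congr' fun P => ?_
  rw [Finsupp.zero_apply, Finsupp.add_apply, Place.div_apply hK]
  omega

theorem mul_mem_L_iff (hK : IsFunctionField k K) (D : Divisor k K) (x y : K) (hx : x ≠ 0) :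
    x * y ∈ L D ↔ y ∈ L (D + div k x) := by
  by_cases hy : y = 0
  · subst hy
    rw [mul_zero]
    exact ⟨fun _ => Submodule.zero_mem _, fun _ => Submodule.zero_mem _⟩
  rw [mem_L_iff_ord (mul_ne_zero hx hy), mem_L_iff_ord hy]
  refine forall_congr' fun P => ?_
  rw [Place.ord_mul P hx hy, Finsupp.add_apply, Place.div_apply hK]
  omega

theorem L_ne_bot_iff (hK : IsFunctionField k K) (D : Divisor k K) :
    L D ≠ ⊥ ↔ ∃ x : K, x ≠ 0 ∧ 0 ≤ D + div k x := by
  constructor
  · intro h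
    obtain ⟨x, hxL, hx0⟩ := Submodule.exists_mem_ne_zero_of_ne_bot h
    exact ⟨x, hx0, (mem_L_iff_div hK hx0).mp hxL⟩
  · rintro ⟨x, hx0, hx⟩ hbot
    have : x ∈ L D := (mem_L_iff_div hK hx0).mpr hx
    rw [hbot, Submodule.mem_bot] at this
    exact hx0 this

theorem L_eq_bot_of_deg_neg (hK : IsFunctionField k K) (D : Divisor k K) (h : D.deg < 0) :
    L D = ⊥ := by
  by_contra hne
  obtain ⟨x, hx0, hx⟩ := (L_ne_bot_iff hK D).mp hne
  have := Divisor.deg_nonneg hx
  rw [Divisor.deg_add, deg_div hK, add_zero] at this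
  omega

theorem eq_smul_of_ord_eq (hK : IsFunctionField k K) (x y : K) (hx : x ≠ 0) (hy : y ≠ 0)
    (h : ∀ P : Place k K, P.ord x = P.ord y) : ∃ c : k, x = c • y := by
  have hz0 : x * y⁻¹ ≠ 0 := mul_ne_zero hx (inv_ne_zero hy)
  have hz : x * y⁻¹ ∈ L (0 : Divisor k K) := by
    rw [mem_L_iff_ord hz0]
    intro P
    rw [Place.ord_mul P hx (inv_ne_zero hy), Place.ord_inv, h P, Finsupp.zero_apply]
    omega
  rw [L_zero hK, Submodule.mem_one] at hz
  obtain ⟨c, hc⟩ := hz
  refine ⟨c, ?_⟩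
  rw [Algebra.smul_def, hc, mul_assoc, inv_mul_cancel₀ hy, mul_one]

end Groth.Agent.H55
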