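import Groth.Agent.H55.FFRiemannRoch

set_option autoImplicit false

namespace Groth.Agent.H55

open FunFld WithZero Module IntermediateField

variable {k K : Type*} [Field k] [Field K] [Algebra k K]

theorem eq_top_of_finrank_eq_one (F : IntermediateField k K) (h : finrank F K = 1) : F = ⊤ := by
  rw [eq_top_iff]
  intro z _
  obtain ⟨c, hc⟩ := (finrank_eq_one_iff_of_nonzero' (1 : K) one_ne_zero).mp h z
  rw [← hc, Algebra.smul_def, mul_one]
  exact c.2

/-- an effective divisor of degree one is a place of degree one -/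
theorem effective_deg_one (hK : IsFunctionField k K) {D : Divisor k K} (h0 : 0 ≤ D)
    (hdeg : D.deg = 1) : ∃ P : Place k K, P.deg = 1 ∧ D = Finsupp.single P 1 := by
  classical
  have hne : D ≠ 0 := by
    rintro rfl
    rw [Divisor.deg_zero] at hdeg
    omega
  obtain ⟨P, hP⟩ : ∃ P, D P ≠ 0 := by
    by_contra hcon
    push Not at hcon
    exact hne (Finsupp.ext hcon)
  have hDP : 1 ≤ D P := by
    have := h0 P
    rw [Finsupp.zero_apply] at this
    omega
  have hle : Finsupp.single P 1 ≤ D := by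
    intro Q
    by_cases hQ : Q = P
    · subst hQ; rw [Finsupp.single_eq_same]; exact hDP
    · rw [Finsupp.single_apply, if_neg (Ne.symm hQ)]
      exact h0 Q
  have hPdeg : (1 : ℤ) ≤ P.deg := by exact_mod_cast Place.deg_pos hK P
  have h1 := Divisor.deg_mono hle
  rw [Divisor.deg_single, one_mul, hdeg] at h1
  have hP1 : P.deg = 1 := by
    have : (P.deg : ℤ) = 1 := by omega
    exact_mod_cast this
  refine ⟨P, hP1, ?_⟩
  symm
  apply Divisor.eq_of_le_of_deg_eq hK hle
  rw [Divisor.deg_single, hP1, hdeg]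
  simp

theorem transcendental_of_adjoin_eq_top (hK : IsFunctionField k K) {x : K} (hx : k⟮x⟯ = ⊤) :
    Transcendental k x := by
  intro halg
  obtain ⟨⟨t, ht, -⟩, hcl⟩ := hK
  apply ht
  have h1 : Algebra.IsAlgebraic k k⟮x⟯ := isAlgebraic_adjoin_simple halg.isIntegral
  have h2 : t ∈ k⟮x⟯ := by rw [hx]; trivial
  have h3 := h1.isAlgebraic ⟨t, h2⟩
  exact (isAlgebraic_algHom_iff (k⟮x⟯.val) Subtype.val_injective (a := ⟨t, h2⟩)).mpr h3

theorem poleDiv_of_adjoin_eq_top (hK : IsFunctionField k K) {x : K} (hx : k⟮x⟯ = ⊤) :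
    ∃ P : Place k K, P.deg = 1 ∧ poleDiv k x = Finsupp.single P 1 := by
  have htr := transcendental_of_adjoin_eq_top hK hx
  have h1 : (poleDiv k x).deg = 1 := by
    rw [deg_poleDiv hK htr, hx, IntermediateField.finrank_top]
    rfl
  exact effective_deg_one hK (poleDiv_nonneg x) h1

theorem pow_mem_L_poleDiv (hK : IsFunctionField k K) {x : K} (hx0 : x ≠ 0) {i n : ℕ}
    (hin : i ≤ n) : x ^ i ∈ L (n • poleDiv k x) := by
  rw [mem_L_iff_ord (pow_ne_zero _ hx0)]
  intro P
  rw [Place.ord_pow, Finsupp.smul_apply, poleDiv_apply hK, nsmul_eq_mul]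
  have h1 : -(max (-P.ord x) 0) ≤ P.ord x := by
    have := le_max_left (-P.ord x) 0
    omega
  have h2 : (0 : ℤ) ≤ max (-P.ord x) 0 := le_max_right _ _
  have h3 : (i : ℤ) ≤ n := by exact_mod_cast hin
  have h4 : (i : ℤ) * -(max (-P.ord x) 0) ≤ i * P.ord x :=
    mul_le_mul_of_nonneg_left h1 (by positivity)
  nlinarith

theorem ell_nsmul_poleDiv_ge (hK : IsFunctionField k K) {x : K} (hx : Transcendental k x)
    (n : ℕ) : n + 1 ≤ ell (n • poleDiv k x) := by
  have hx0 : x ≠ 0 := fun h => hx (h ▸ isAlgebraic_zero)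
  have hfin : Module.Finite k (L (n • poleDiv k x)) := L_finite hK _
  have hpow := linearIndependent_pow_of_transcendental hx
  have hli2 := hpow.comp (fun i : Fin (n + 1) => (i : ℕ)) Fin.val_injective
  let w : Fin (n + 1) → L (n • poleDiv k x) := fun i =>
    ⟨x ^ (i : ℕ), pow_mem_L_poleDiv hK hx0 (Nat.lt_succ_iff.mp i.2)⟩
  have hw : LinearIndependent k w :=
    LinearIndependent.of_comp (L (n • poleDiv k x)).subtype hli2
  have hcard := hw.fintype_card_le_finrank
  rw [Fintype.card_fin] at hcard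
  exact hcard

/-- a rational function field has genus zero -/
theorem genus_eq_zero_of_adjoin_eq_top (hK : IsFunctionField k K) {x : K} (hx : k⟮x⟯ = ⊤) :
    genus k K = 0 := by
  have htr := transcendental_of_adjoin_eq_top hK hx
  obtain ⟨P, hP1, hP⟩ := poleDiv_of_adjoin_eq_top hK hx
  obtain ⟨N, hN⟩ := riemann hK
  set n : ℕ := N.toNat with hn
  have hdeg : (n • poleDiv k x).deg = n := by
    rw [Divisor.deg_nsmul, hP, Divisor.deg_single, hP1]; simp
  have h1 := hN (n • poleDiv k x) (by rw [hdeg]; exact Int.self_le_toNat N)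
  have h2 := ell_nsmul_poleDiv_ge hK htr n
  rw [hdeg] at h1
  have h3 : ((n + 1 : ℕ) : ℤ) ≤ ell (n • poleDiv k x) := by exact_mod_cast h2
  push_cast at h3
  have : (genus k K : ℤ) ≤ 0 := by linarith
  omega

theorem exists_simple_pole_of_adjoin_eq_top (hK : IsFunctionField k K) {x : K}
    (hx : k⟮x⟯ = ⊤) : ∃ P : Place k K, P.deg = 1 ∧ P.ord x = -1 ∧
      ∀ Q : Place k K, Q ≠ P → 0 ≤ Q.ord x := by
  classical
  obtain ⟨P, hP1, hP⟩ := poleDiv_of_adjoin_eq_top hK hx
  refine ⟨P, hP1, ?_, fun Q hQ => ?_⟩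
  · have := congrArg (fun D : Divisor k K => D P) hP
    simp only [Finsupp.single_eq_same] at this
    rw [poleDiv_apply hK] at this
    rcases max_cases (-P.ord x) 0 with ⟨h1, h2⟩ | ⟨h1, h2⟩ <;> omega
  · have := congrArg (fun D : Divisor k K => D Q) hP
    simp only [Finsupp.single_apply, if_neg (Ne.symm hQ)] at this
    rw [poleDiv_apply hK] at this
    have := le_max_left (-Q.ord x) 0
    omega

theorem adjoin_eq_top_of_simple_pole (hK : IsFunctionField k K) {x : K} {P : Place k K}
    (hP1 : P.deg = 1) (hPx : P.ord x = -1) (hQ : ∀ Q : Place k K, Q ≠ P → 0 ≤ Q.ord x) :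
    k⟮x⟯ = ⊤ := by
  classical
  have hx0 : x ≠ 0 := by
    rintro rfl
    rw [Place.ord_zero] at hPx
    omega
  have hxk : x ∉ Set.range (algebraMap k K) := by
    rintro ⟨c, rfl⟩
    rw [Place.ord_algebraMap] at hPx
    omega
  have htr := transcendental_of_notMem_range hK hxk
  have hpole : poleDiv k x = Finsupp.single P 1 := by
    ext Q
    rw [poleDiv_apply hK]
    by_cases h : Q = P
    · subst h
      rw [Finsupp.single_eq_same, hPx]; rfl
    · rw [Finsupp.single_apply, if_neg (Ne.symm h)]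
      have := hQ Q h
      rw [max_eq_right (by omega)]
  have h1 := deg_poleDiv hK htr
  rw [hpole, Divisor.deg_single, hP1] at h1
  apply eq_top_of_finrank_eq_one
  have : (finrank k⟮x⟯ K : ℤ) = 1 := by rw [← h1]; simp
  exact_mod_cast this

/-- S10995 -/
theorem exists_simple_pole_iff (hK : IsFunctionField k K) :
    (∃ (x : K) (P : Place k K), P.deg = 1 ∧ P.ord x = -1 ∧
        ∀ Q : Place k K, Q ≠ P → 0 ≤ Q.ord x) ↔ ∃ x : K, k⟮x⟯ = ⊤ := by
  constructor
  · rintro ⟨x, P, h1, h2, h3⟩
    exact ⟨x, adjoin_eq_top_of_simple_pole hK h1 h2 h3⟩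
  · rintro ⟨x, hx⟩
    exact ⟨x, exists_simple_pole_of_adjoin_eq_top hK hx⟩

/-- S10994 -/
theorem genus_zero_iff (hK : IsFunctionField k K) :
    (genus k K = 0 ∧ ∃ P : Place k K, P.deg = 1) ↔ ∃ x : K, k⟮x⟯ = ⊤ := by
  classical
  constructor
  · rintro ⟨hg, P, hP1⟩
    have hdeg : FunFld.Divisor.deg (Finsupp.single P 1 : Divisor k K) = 1 := by
      rw [Divisor.deg_single, hP1]; simp
    have h1 := ell_of_deg_ge hK (Finsupp.single P 1 : Divisor k K) (by rw [hdeg, hg]; simp)
    rw [hdeg, hg] at h1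
    have h2 : ell (Finsupp.single P 1 : Divisor k K) = 2 := by
      have : (ell (Finsupp.single P 1 : Divisor k K) : ℤ) = 2 := by rw [h1]; simp
      exact_mod_cast this
    -- an element of `L(P)` outside `k`
    have hnle : ¬ L (Finsupp.single P 1 : Divisor k K) ≤ L (0 : Divisor k K) := by
      intro hle
      have hfin := (finrank_L_zero hK).1
      have := Submodule.finrank_mono hle
      rw [(finrank_L_zero hK).2] at this
      unfold ell at h2
      omega
    obtain ⟨x, hxL, hx0⟩ := Set.not_subset.mp hnle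
    have hxk : x ∉ Set.range (algebraMap k K) := by
      intro hmem
      apply hx0
      show x ∈ L (0 : Divisor k K)
      rw [L_zero hK, Submodule.mem_one]
      exact hmem
    have htr := transcendental_of_notMem_range hK hxk
    have hxne : x ≠ 0 := fun h => htr (h ▸ isAlgebraic_zero)
    have hple : poleDiv k x ≤ Finsupp.single P 1 := by
      intro Q
      rw [poleDiv_apply hK]
      have h3 := (mem_L_iff_ord hxne).mp hxL Q
      have h4 : (0 : ℤ) ≤ (Finsupp.single P 1 : Divisor k K) Q := by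
        by_cases h : Q = P
        · subst h; simp
        · rw [Finsupp.single_apply, if_neg (Ne.symm h)]
      exact max_le (by omega) h4
    have h5 := Divisor.deg_mono hple
    rw [hdeg, deg_poleDiv hK htr] at h5
    have hfd := finiteDimensional_adjoin_of_transcendental hK htr
    have h6 : 0 < finrank k⟮x⟯ K := Module.finrank_pos
    refine ⟨x, eq_top_of_finrank_eq_one _ ?_⟩
    omega
  · rintro ⟨x, hx⟩
    refine ⟨genus_eq_zero_of_adjoin_eq_top hK hx, ?_⟩
    obtain ⟨P, hP1, -⟩ := exists_simple_pole_of_adjoin_eq_top hK hx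
    exact ⟨P, hP1⟩

/-- S10996 -/
theorem places_not_equiv (hK : IsFunctionField k K) (hg : 0 < genus k K) (P P' : Place k K)
    (_hP : P.deg = 1) (hP' : P'.deg = 1) (x : K) (_hx : x ≠ 0)
    (h : Finsupp.single P 1 - Finsupp.single P' 1 = div k x) : P = P' := by
  classical
  by_contra hne
  have h1 : P'.ord x = -1 := by
    have := congrArg (fun D : Divisor k K => D P') h
    simp only [Finsupp.sub_apply, Finsupp.single_eq_same, Finsupp.single_apply, if_neg hne] at this
    rw [Place.div_apply hK] at this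
    omega
  have h2 : ∀ Q : Place k K, Q ≠ P' → 0 ≤ Q.ord x := by
    intro Q hQ
    have := congrArg (fun D : Divisor k K => D Q) h
    simp only [Finsupp.sub_apply, Finsupp.single_apply, if_neg (Ne.symm hQ)] at this
    rw [Place.div_apply hK] at this
    rw [← this]
    split_ifs <;> omega
  have h3 := adjoin_eq_top_of_simple_pole hK hP' h1 h2
  have h4 := genus_eq_zero_of_adjoin_eq_top hK h3
  omega

end Groth.Agent.H55
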