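import Groth.Agent.H55.FFRational

set_option autoImplicit false

namespace Groth.Agent.H55

open FunFld WithZero Module IntermediateField

variable {k K : Type*} [Field k] [Field K] [Algebra k K]

theorem div_mul (hK : IsFunctionField k K) {x y : K} (hx : x ≠ 0) (hy : y ≠ 0) :
    div k (x * y) = div k x + div k y := by
  ext P
  rw [Finsupp.add_apply, Place.div_apply hK, Place.div_apply hK, Place.div_apply hK,
    Place.ord_mul P hx hy]

/-- Strong approximation, with inequalities. -/
theorem strong_approx_le (hK : IsFunctionField k K) (Pinf : Place k K) (S : Finset (Place k K))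
    (hS : Pinf ∉ S) (x : Place k K → K) (m : Place k K → ℤ) :
    ∃ z : K, (∀ P ∈ S, P.1 (z - x P) ≤ exp (-(m P))) ∧
      ∀ Q : Place k K, Q ≠ Pinf → Q ∉ S → Q.1 z ≤ 1 := by
  classical
  obtain ⟨N, hN⟩ := riemann hK
  set E : Divisor k K := ∑ P ∈ S, Finsupp.single P (m P) with hE
  have hEapp : ∀ Q, E Q = if Q ∈ S then m Q else 0 := by
    intro Q
    rw [hE, Finsupp.finsetSum_apply]
    simp only [Finsupp.single_apply]
    rw [Finset.sum_ite_eq' S Q]
  set l : ℕ := (N + E.deg).toNat with hl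
  set D : Divisor k K := l • Finsupp.single Pinf 1 - E with hD
  have hPdeg : (1 : ℤ) ≤ Pinf.deg := by exact_mod_cast Place.deg_pos hK Pinf
  have hDdeg : N ≤ D.deg := by
    rw [hD, Divisor.deg_sub, Divisor.deg_nsmul, Divisor.deg_single, one_mul]
    have h1 := Int.self_le_toNat (N + E.deg)
    have h2 : (0 : ℤ) ≤ (l : ℤ) := by positivity
    nlinarith
  have hA := adele_eq_of_nonspecial hK (hN D hDdeg)
  have hα : (fun P : Place k K => if P ∈ S then x P else 0) ∈ adele k K := by
    rw [mem_adele]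
    apply S.finite_toSet.subset
    intro P hP
    rw [Set.mem_ofPred_eq] at hP
    by_contra hPS
    rw [Finset.mem_coe] at hPS
    rw [if_neg hPS, map_zero] at hP
    exact absurd hP (by simp)
  rw [hA] at hα
  obtain ⟨a, ha, r, ⟨z, rfl⟩, hsum⟩ := Submodule.mem_sup.mp hα
  refine ⟨z, fun P hP => ?_, fun Q hQinf hQS => ?_⟩
  · have h1 := congrFun hsum P
    simp only [Pi.add_apply, if_pos hP] at h1
    have h2 : diag k K z P = z := rfl
    rw [h2] at h1
    have h3 := ha P
    have hPne : P ≠ Pinf := fun h => hS (h ▸ hP)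
    have h4 : D P = -(m P) := by
      rw [hD, Finsupp.sub_apply, Finsupp.smul_apply, Finsupp.single_apply, if_neg (Ne.symm hPne),
        hEapp, if_pos hP]
      simp
    rw [h4] at h3
    have h5 : z - x P = -(a P) := by rw [← h1]; ring
    rw [h5, Valuation.map_neg]
    exact h3
  · have h1 := congrFun hsum Q
    simp only [Pi.add_apply, if_neg hQS] at h1
    have h2 : diag k K z Q = z := rfl
    rw [h2] at h1
    have h3 := ha Q
    have h4 : D Q = 0 := by
      rw [hD, Finsupp.sub_apply, Finsupp.smul_apply, Finsupp.single_apply, if_neg (Ne.symm hQinf),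
        hEapp, if_neg hQS]
      simp
    rw [h4, exp_zero] at h3
    have h5 : z = -(a Q) := by linear_combination h1
    rw [h5, Valuation.map_neg]
    exact h3

/-- Strong approximation theorem. -/
theorem strong_approx (hK : IsFunctionField k K) (Pinf : Place k K) (S : Finset (Place k K))
    (hS : Pinf ∉ S) (x : Place k K → K) (m : Place k K → ℤ) :
    ∃ y : K, (∀ P ∈ S, P.1 (y - x P) = exp (-(m P))) ∧
      ∀ Q : Place k K, Q ≠ Pinf → Q ∉ S → Q.1 y ≤ 1 := by
  classical
  choose t ht using fun Q : Place k K => Place.exists_val_eq_exp Q (-(m Q))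
  obtain ⟨z, hz1, hz2⟩ := strong_approx_le hK Pinf S hS x (fun P => m P + 1)
  obtain ⟨w, hw1, hw2⟩ := strong_approx_le hK Pinf S hS t (fun P => m P + 1)
  refine ⟨z + w, fun P hP => ?_, fun Q hQ1 hQ2 => ?_⟩
  · have hlt : exp (-(m P + 1)) < exp (-(m P)) := exp_lt_exp.mpr (by omega)
    have h1 : P.1 (z - x P) < P.1 (t P) := by rw [ht]; exact (hz1 P hP).trans_lt hlt
    have h2 : P.1 (w - t P) < P.1 (t P) := by rw [ht]; exact (hw1 P hP).trans_lt hlt
    have h3 : z + w - x P = t P + ((z - x P) + (w - t P)) := by ring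
    rw [h3, Valuation.map_add_eq_of_lt_left, ht]
    exact (Valuation.map_add _ _ _).trans_lt (max_lt h1 h2)
  · exact (Valuation.map_add _ _ _).trans (max_le (hz2 Q hQ1 hQ2) (hw2 Q hQ1 hQ2))

/-- S10997 -/
theorem strong_approx_fin (hK : IsFunctionField k K) (Pinf : Place k K) (n : ℕ)
    (P : Fin n → Place k K) (hP : Function.Injective P) (hinf : Pinf ∉ Set.range P)
    (x : Fin n → K) (m : Fin n → ℤ) :
    ∃ y : K, (∀ i, (P i).1 (y - x i) = exp (-(m i))) ∧
      ∀ Q : Place k K, Q ≠ Pinf → Q ∉ Set.range P → Q.1 y ≤ 1 := by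
  classical
  have hinv : ∀ i, (if h : ∃ j, P j = P i then h.choose else i) = i := by
    intro i
    have h : ∃ j, P j = P i := ⟨i, rfl⟩
    rw [dif_pos h]
    exact hP h.choose_spec
  obtain ⟨y, hy1, hy2⟩ := strong_approx hK Pinf (Finset.univ.image P)
    (by
      intro h
      rw [Finset.mem_image] at h
      obtain ⟨i, -, hi⟩ := h
      exact hinf ⟨i, hi⟩)
    (fun Q => if h : ∃ j, P j = Q then x h.choose else 0)
    (fun Q => if h : ∃ j, P j = Q then m h.choose else 0)
  refine ⟨y, fun i => ?_, fun Q hQ1 hQ2 => ?_⟩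
  · have := hy1 (P i) (Finset.mem_image_of_mem P (Finset.mem_univ i))
    have h : ∃ j, P j = P i := ⟨i, rfl⟩
    rw [dif_pos h, dif_pos h, hP h.choose_spec] at this
    exact this
  · apply hy2 Q hQ1
    intro h
    rw [Finset.mem_image] at h
    obtain ⟨i, -, hi⟩ := h
    exact hQ2 ⟨i, hi⟩

/-- S10999 -/
theorem elliptic_class_bijection (hK : IsFunctionField k K) (hg : genus k K = 1)
    (P₀ : Place k K) (hP : P₀.deg = 1) (D : Divisor k K) (hD : D.deg = 0) :
    ∃! P : Place k K, P.deg = 1 ∧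
      ∃ x : K, x ≠ 0 ∧ D = Finsupp.single P 1 - Finsupp.single P₀ 1 + div k x := by
  classical
  have hdeg : (D + Finsupp.single P₀ 1).deg = 1 := by
    rw [Divisor.deg_add, Divisor.deg_single, hP, hD]; simp
  have h1 := ell_of_deg_ge hK (D + Finsupp.single P₀ 1) (by rw [hdeg, hg]; simp)
  rw [hdeg, hg] at h1
  have hpos : 0 < ell (D + Finsupp.single P₀ 1) := by
    have : (0 : ℤ) < ell (D + Finsupp.single P₀ 1) := by rw [h1]; simp
    exact_mod_cast this
  obtain ⟨z, hz0, hz⟩ := (L_ne_bot_iff hK _).mp ((ell_pos_iff hK _).mp hpos)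
  obtain ⟨P, hP1, hPeq⟩ := effective_deg_one hK hz (by rw [deg_add_div hK, hdeg])
  refine ⟨P, ⟨hP1, z⁻¹, inv_ne_zero hz0, ?_⟩, ?_⟩
  · rw [div_inv hK, ← hPeq]; abel
  · rintro P' ⟨hP'1, x', hx'0, hx'⟩
    have h2 : D = Finsupp.single P 1 - Finsupp.single P₀ 1 + div k z⁻¹ := by
      rw [div_inv hK, ← hPeq]; abel
    have h3 : Finsupp.single P' 1 - Finsupp.single P 1 = div k (z⁻¹ * x'⁻¹) := by
      rw [div_mul hK (inv_ne_zero hz0) (inv_ne_zero hx'0), div_inv hK x']
      have : Finsupp.single P 1 - Finsupp.single P₀ 1 + div k z⁻¹ =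
          Finsupp.single P' 1 - Finsupp.single P₀ 1 + div k x' := by rw [← h2, ← hx']
      have h4 : div k z⁻¹ - div k x' = Finsupp.single P' 1 - Finsupp.single P 1 := by
        have h5 : div k z⁻¹ = Finsupp.single P' 1 - Finsupp.single P₀ 1 + div k x' -
            (Finsupp.single P 1 - Finsupp.single P₀ 1) := by
          rw [← this]; abel
        rw [h5]; abel
      rw [← h4]; abel
    exact places_not_equiv hK (by omega) P' P hP'1 hP1 _
      (mul_ne_zero (inv_ne_zero hz0) (inv_ne_zero hx'0)) h3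

end Groth.Agent.H55
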