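import Groth.Agent.H55.FFAdele

set_option autoImplicit false

namespace Groth.Agent.H55

open FunFld WithZero Module IntermediateField

variable {k K : Type*} [Field k] [Field K] [Algebra k K]

theorem smul_mem_adele (hK : IsFunctionField k K) (x : K) {a : Place k K → K}
    (ha : a ∈ adele k K) : x • a ∈ adele k K := by
  rw [mem_adele] at ha ⊢
  by_cases hx : x = 0
  · subst hx
    convert Set.finite_empty
    ext P
    simp
  · apply ((Place.finite_poles hK hx).union ha).subset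
    intro P hP
    rw [Set.mem_ofPred_eq, Pi.smul_apply, smul_eq_mul, map_mul] at hP
    rw [Set.mem_union, Set.mem_ofPred_eq, Set.mem_ofPred_eq]
    by_contra hcon
    push Not at hcon
    exact absurd (mul_le_one' hcon.1 hcon.2) (not_le.mpr hP)

theorem mulW_apply (x : K) (hx : ∀ a ∈ adele k K, x • a ∈ adele k K)
    (ω : Module.Dual k (adele k K)) (a : Place k K → K) (ha : a ∈ adele k K) :
    mulW x hx ω ⟨a, ha⟩ = ω ⟨x • a, hx a ha⟩ := rfl

theorem diag_mem_adele (hK : IsFunctionField k K) (x : K) : diag k K x ∈ adele k K :=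
  diag_le_adele hK ⟨x, rfl⟩

theorem mem_WD_iff (hK : IsFunctionField k K) {ω : Module.Dual k (adele k K)} {D : Divisor k K} :
    ω ∈ WD D ↔ (∀ (a : Place k K → K) (ha : a ∈ AD D), ω ⟨a, AD_le_adele D ha⟩ = 0) ∧
      ∀ x : K, ω ⟨diag k K x, diag_mem_adele hK x⟩ = 0 := by
  unfold WD
  rw [Submodule.mem_dualAnnihilator]
  constructor
  · intro h
    refine ⟨fun a ha => h _ ?_, fun x => h _ ?_⟩
    · exact Submodule.mem_sup_left ha
    · exact Submodule.mem_sup_right ⟨x, rfl⟩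
  · rintro ⟨h1, h2⟩ ⟨a, ha⟩ hmem
    obtain ⟨b, hb, r, ⟨x, rfl⟩, hsum⟩ := Submodule.mem_sup.mp hmem
    have hsum' : b + diag k K x = a := hsum
    have : (⟨a, ha⟩ : adele k K) =
        ⟨b, AD_le_adele D hb⟩ + ⟨diag k K x, diag_mem_adele hK x⟩ := by
      apply Subtype.ext
      exact hsum'.symm
    rw [this, map_add, h1 b hb, h2 x, add_zero]

theorem WD_anti (hK : IsFunctionField k K) {E C : Divisor k K} (h : E ≤ C) : WD C ≤ WD E := by
  intro ω hω
  rw [mem_WD_iff hK] at hω ⊢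
  exact ⟨fun a ha => hω.1 a (AD_mono h ha), hω.2⟩

theorem AD_sup (A A' : Divisor k K) : AD (A ⊔ A') = AD A ⊔ AD A' := by
  classical
  apply le_antisymm
  · intro a ha
    rw [Submodule.mem_sup]
    refine ⟨fun P => if A' P ≤ A P then a P else 0, ?_,
      fun P => if A' P ≤ A P then 0 else a P, ?_, ?_⟩
    · intro P
      by_cases h : A' P ≤ A P
      · simp only [if_pos h]
        have := ha P
        rwa [Finsupp.sup_apply, sup_of_le_left h] at this
      · simp only [if_neg h, map_zero]; exact zero_le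
    · intro P
      by_cases h : A' P ≤ A P
      · simp only [if_pos h, map_zero]; exact zero_le
      · simp only [if_neg h]
        have := ha P
        rwa [Finsupp.sup_apply, sup_of_le_right (not_le.mp h).le] at this
    · funext P
      by_cases h : A' P ≤ A P
      · simp [if_pos h]
      · simp [if_neg h]
  · exact sup_le (AD_mono le_sup_left) (AD_mono le_sup_right)

theorem WD_sup (hK : IsFunctionField k K) {ω : Module.Dual k (adele k K)} {A A' : Divisor k K}
    (h : ω ∈ WD A) (h' : ω ∈ WD A') : ω ∈ WD (A ⊔ A') := by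
  rw [mem_WD_iff hK] at h h' ⊢
  refine ⟨fun a ha => ?_, h.2⟩
  have ha' := ha
  rw [AD_sup, Submodule.mem_sup] at ha'
  obtain ⟨b, hb, b', hb', hsum⟩ := ha'
  have : (⟨a, AD_le_adele _ ha⟩ : adele k K) =
      ⟨b, AD_le_adele A hb⟩ + ⟨b', AD_le_adele A' hb'⟩ := by
    apply Subtype.ext
    exact hsum.symm
  rw [this, map_add, h.1 b hb, h'.1 b' hb', add_zero]

theorem exists_WD_eq_bot (hK : IsFunctionField k K) :
    ∃ N : ℤ, ∀ A : Divisor k K, N ≤ A.deg → WD A = ⊥ := by
  obtain ⟨N, hN⟩ := riemann hK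
  refine ⟨N, fun A hA => ?_⟩
  obtain ⟨hfin, hrank⟩ := WD_finrank hK A
  have h0 : finrank k (WD A) = 0 := by
    have : (finrank k (WD A) : ℤ) = 0 := by rw [hrank, hN A hA]; ring
    exact_mod_cast this
  exact Submodule.finrank_eq_zero.mp h0

theorem Divisor.eq_of_le_of_deg_eq (hK : IsFunctionField k K) {D₁ D₂ : Divisor k K}
    (h : D₁ ≤ D₂) (hdeg : D₁.deg = D₂.deg) : D₁ = D₂ := by
  have h1 : (D₂ - D₁).deg = 0 := by rw [Divisor.deg_sub]; omega
  rw [Divisor.deg_eq_sum] at h1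
  have hnn : ∀ P ∈ (D₂ - D₁).support, 0 ≤ (D₂ - D₁) P * (P.deg : ℤ) := by
    intro P _
    have : 0 ≤ (D₂ - D₁) P := by
      rw [Finsupp.sub_apply]; have := h P; omega
    positivity
  rw [Finset.sum_eq_zero_iff_of_nonneg hnn] at h1
  ext P
  by_contra hne
  have hP : P ∈ (D₂ - D₁).support := by
    rw [Finsupp.mem_support_iff, Finsupp.sub_apply]
    omega
  have h2 := h1 P hP
  have h3 : (0 : ℤ) < P.deg := by exact_mod_cast Place.deg_pos hK P
  rcases mul_eq_zero.mp h2 with h4 | h4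
  · exact (Finsupp.mem_support_iff.mp hP) h4
  · omega

/-- a nonzero Weil differential has a divisor -/
theorem exists_isDivOf (hK : IsFunctionField k K) (ω : Module.Dual k (adele k K))
    (hω : IsWeil ω) (h0 : ω ≠ 0) : ∃ C : Divisor k K, IsDivOf ω C := by
  obtain ⟨N, hN⟩ := exists_WD_eq_bot hK
  obtain ⟨D₀, hD₀⟩ := hω
  have hbound : ∀ A : Divisor k K, ω ∈ WD A → A.deg ≤ N := by
    intro A hA
    by_contra hlt
    push Not at hlt
    have := hN A hlt.le
    rw [this, Submodule.mem_bot] at hA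
    exact h0 hA
  obtain ⟨d, ⟨W, hW, hWd⟩, hmax⟩ : ∃ d : ℤ, (∃ A : Divisor k K, ω ∈ WD A ∧ A.deg = d) ∧
      ∀ d' : ℤ, (∃ A : Divisor k K, ω ∈ WD A ∧ A.deg = d') → d' ≤ d := by
    apply Int.exists_greatest_of_bdd
    · exact ⟨N, fun d' ⟨A, hA, hAd⟩ => hAd ▸ hbound A hA⟩
    · exact ⟨D₀.deg, D₀, hD₀, rfl⟩
  refine ⟨W, fun E => ⟨fun hE => ?_, fun hE => WD_anti hK hE hW⟩⟩
  have h1 : ω ∈ WD (W ⊔ E) := WD_sup hK hW hE
  have h2 : (W ⊔ E).deg ≤ d := hmax _ ⟨_, h1, rfl⟩
  have h3 : W.deg ≤ (W ⊔ E).deg := Divisor.deg_mono le_sup_left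
  have h4 : W = W ⊔ E := Divisor.eq_of_le_of_deg_eq hK le_sup_left (by omega)
  rw [h4]
  exact le_sup_right

end Groth.Agent.H55
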