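import Groth.Agent.H55.FFWeil

set_option autoImplicit false

namespace Groth.Agent.H55

open FunFld WithZero Module IntermediateField

variable {k K : Type*} [Field k] [Field K] [Algebra k K]

/-- `K` acts on the adele space -/
theorem hsm (hK : IsFunctionField k K) (x : K) : ∀ a ∈ adele k K, x • a ∈ adele k K :=
  fun _ ha => smul_mem_adele hK x ha

theorem mulW_ext {x y : K} (hxy : x = y) (hx : ∀ a ∈ adele k K, x • a ∈ adele k K)
    (hy : ∀ a ∈ adele k K, y • a ∈ adele k K) (ω : Module.Dual k (adele k K)) :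
    mulW x hx ω = mulW y hy ω := by
  subst hxy; rfl

theorem mulW_mul (x y : K) (hx : ∀ a ∈ adele k K, x • a ∈ adele k K)
    (hy : ∀ a ∈ adele k K, y • a ∈ adele k K) (hxy : ∀ a ∈ adele k K, (x * y) • a ∈ adele k K)
    (ω : Module.Dual k (adele k K)) :
    mulW x hx (mulW y hy ω) = mulW (x * y) hxy ω := by
  apply LinearMap.ext
  rintro ⟨a, ha⟩
  rw [mulW_apply, mulW_apply, mulW_apply]
  congr 1
  apply Subtype.ext
  show y • x • a = (x * y) • a
  rw [smul_smul, mul_comm]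

theorem mulW_one (h1 : ∀ a ∈ adele k K, (1 : K) • a ∈ adele k K)
    (ω : Module.Dual k (adele k K)) : mulW 1 h1 ω = ω := by
  apply LinearMap.ext
  rintro ⟨a, ha⟩
  rw [mulW_apply]
  congr 1
  apply Subtype.ext
  show (1 : K) • a = a
  rw [one_smul]

theorem mulW_zero (h0 : ∀ a ∈ adele k K, (0 : K) • a ∈ adele k K)
    (ω : Module.Dual k (adele k K)) : mulW 0 h0 ω = 0 := by
  apply LinearMap.ext
  rintro ⟨a, ha⟩
  rw [mulW_apply]
  have : (⟨(0 : K) • a, h0 a ha⟩ : adele k K) = 0 := by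
    apply Subtype.ext
    show (0 : K) • a = 0
    rw [zero_smul]
  rw [this, map_zero]; rfl

theorem mulW_add (x y : K) (hx : ∀ a ∈ adele k K, x • a ∈ adele k K)
    (hy : ∀ a ∈ adele k K, y • a ∈ adele k K) (hxy : ∀ a ∈ adele k K, (x + y) • a ∈ adele k K)
    (ω : Module.Dual k (adele k K)) :
    mulW (x + y) hxy ω = mulW x hx ω + mulW y hy ω := by
  apply LinearMap.ext
  rintro ⟨a, ha⟩
  rw [LinearMap.add_apply, mulW_apply, mulW_apply, mulW_apply, ← map_add]
  congr 1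
  apply Subtype.ext
  show (x + y) • a = x • a + y • a
  rw [add_smul]

theorem mulW_smul (c : k) (x : K) (hx : ∀ a ∈ adele k K, x • a ∈ adele k K)
    (hcx : ∀ a ∈ adele k K, (c • x) • a ∈ adele k K)
    (ω : Module.Dual k (adele k K)) :
    mulW (c • x) hcx ω = c • mulW x hx ω := by
  apply LinearMap.ext
  rintro ⟨a, ha⟩
  rw [LinearMap.smul_apply, mulW_apply, mulW_apply, ← map_smul]
  congr 1
  apply Subtype.ext
  show (c • x) • a = c • (x • a)
  rw [smul_assoc]

theorem mulW_sub (hK : IsFunctionField k K) (x y : K) (ω : Module.Dual k (adele k K)) :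
    mulW (x - y) (hsm hK _) ω = mulW x (hsm hK _) ω - mulW y (hsm hK _) ω := by
  have := mulW_add (x - y) y (hsm hK _) (hsm hK _) (hsm hK _) ω
  rw [eq_sub_iff_add_eq, ← this]
  exact mulW_ext (by ring) _ _ _

theorem mulW_inv_cancel (hK : IsFunctionField k K) {x : K} (hx0 : x ≠ 0)
    (ω : Module.Dual k (adele k K)) :
    mulW x⁻¹ (hsm hK _) (mulW x (hsm hK _) ω) = ω := by
  rw [mulW_mul _ _ _ _ (hsm hK _), mulW_ext (inv_mul_cancel₀ hx0) _ (hsm hK 1), mulW_one]

theorem mulW_ne_zero (hK : IsFunctionField k K) {x : K} (hx0 : x ≠ 0)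
    {ω : Module.Dual k (adele k K)} (hω : ω ≠ 0) : mulW x (hsm hK _) ω ≠ 0 := by
  intro h
  apply hω
  rw [← mulW_inv_cancel hK hx0 ω, h]
  apply LinearMap.ext
  rintro ⟨a, ha⟩
  rw [mulW_apply]; rfl

theorem smul_mem_AD (hK : IsFunctionField k K) {x : K} (hx0 : x ≠ 0) {E : Divisor k K}
    {a : Place k K → K} (ha : a ∈ AD E) : x • a ∈ AD (E - div k x) := by
  intro P
  rw [Pi.smul_apply, smul_eq_mul, map_mul, Finsupp.sub_apply, Place.div_apply hK,
    Place.val_eq_exp_neg_ord P hx0, sub_eq_neg_add, exp_add]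
  exact mul_le_mul' le_rfl (ha P)

theorem mulW_mem_WD_iff (hK : IsFunctionField k K) {x : K} (hx0 : x ≠ 0)
    (hx : ∀ a ∈ adele k K, x • a ∈ adele k K) (ω : Module.Dual k (adele k K)) (E : Divisor k K) :
    mulW x hx ω ∈ WD E ↔ ω ∈ WD (E - div k x) := by
  rw [mem_WD_iff hK, mem_WD_iff hK]
  constructor
  · rintro ⟨h1, h2⟩
    refine ⟨fun b hb => ?_, fun y => ?_⟩
    · have hb' : x⁻¹ • b ∈ AD E := by
        have := smul_mem_AD hK (inv_ne_zero hx0) hb
        rwa [div_inv hK, sub_neg_eq_add, sub_add_cancel] at this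
      have := h1 _ hb'
      rw [mulW_apply] at this
      rw [← this]
      congr 1
      apply Subtype.ext
      show b = x • x⁻¹ • b
      rw [smul_smul, mul_inv_cancel₀ hx0, one_smul]
    · have := h2 (x⁻¹ * y)
      rw [mulW_apply] at this
      rw [← this]
      congr 1
      apply Subtype.ext
      funext P
      show y = x * (x⁻¹ * y)
      rw [← mul_assoc, mul_inv_cancel₀ hx0, one_mul]
  · rintro ⟨h1, h2⟩
    refine ⟨fun a ha => ?_, fun y => ?_⟩
    · rw [mulW_apply]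
      exact h1 _ (smul_mem_AD hK hx0 ha)
    · rw [mulW_apply]
      have := h2 (x * y)
      rw [← this]
      congr 1

theorem isDivOf_mulW (hK : IsFunctionField k K) {x : K} (hx0 : x ≠ 0)
    (hx : ∀ a ∈ adele k K, x • a ∈ adele k K) {ω : Module.Dual k (adele k K)} {C : Divisor k K}
    (hω : IsDivOf ω C) : IsDivOf (mulW x hx ω) (C + div k x) := by
  intro E
  rw [mulW_mem_WD_iff hK hx0, hω (E - div k x), sub_le_iff_le_add]

theorem mulW_mem_WD (hK : IsFunctionField k K) {A B : Divisor k K} {x : K} (hx : x ∈ L (A + B))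
    {ω : Module.Dual k (adele k K)} (hω : ω ∈ WD A) : mulW x (hsm hK x) ω ∈ WD (-B) := by
  by_cases hx0 : x = 0
  · subst hx0
    rw [mulW_zero]
    exact Submodule.zero_mem _
  · rw [mulW_mem_WD_iff hK hx0]
    refine WD_anti hK ?_ hω
    have := (mem_L_iff_div hK hx0).mp hx
    intro P
    have h1 := this P
    simp only [Finsupp.add_apply, Finsupp.sub_apply, Finsupp.neg_apply, Finsupp.zero_apply]
      at h1 ⊢
    omega

/-- multiplication `L(A+B) → W(-B)`, `x ↦ xω` -/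
noncomputable def mulWLin (hK : IsFunctionField k K) (A B : Divisor k K)
    (ω : Module.Dual k (adele k K)) (hω : ω ∈ WD A) : L (A + B) →ₗ[k] WD (-B) where
  toFun x := ⟨mulW x.1 (hsm hK x.1) ω, mulW_mem_WD hK x.2 hω⟩
  map_add' x y := Subtype.ext (mulW_add x.1 y.1 (hsm hK _) (hsm hK _) (hsm hK _) ω)
  map_smul' c x := Subtype.ext (mulW_smul c x.1 (hsm hK _) (hsm hK _) ω)

theorem mulWLin_injective (hK : IsFunctionField k K) (A B : Divisor k K)
    {ω : Module.Dual k (adele k K)} (hω : ω ∈ WD A) (h0 : ω ≠ 0) :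
    Function.Injective (mulWLin hK A B ω hω) := by
  rw [injective_iff_map_eq_zero]
  intro x hx
  by_contra hne
  have hx0 : x.1 ≠ 0 := fun h => hne (Subtype.ext h)
  exact mulW_ne_zero hK hx0 h0 (congrArg Subtype.val hx)

/-- The Weil differentials form a `K`-vector space of dimension one. -/
theorem exists_mulW_eq (hK : IsFunctionField k K) (ω₁ ω₂ : Module.Dual k (adele k K))
    (h₁ : IsWeil ω₁) (h0 : ω₁ ≠ 0) (h₂ : IsWeil ω₂) :
    ∃ x : K, mulW x (hsm hK x) ω₁ = ω₂ := by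
  classical
  by_cases h20 : ω₂ = 0
  · exact ⟨0, by rw [mulW_zero, h20]⟩
  obtain ⟨A₁, hA₁⟩ := h₁
  obtain ⟨A₂, hA₂⟩ := h₂
  obtain ⟨P⟩ := exists_place hK
  set g : ℤ := ((genus k K : ℕ) : ℤ) with hg
  set m : ℕ := (max 1 (3 * g - 2 - A₁.deg - A₂.deg)).toNat with hm
  have hm1 : (1 : ℤ) ≤ m := (le_max_left _ _).trans (Int.self_le_toNat _)
  have hm2 : 3 * g - 2 - A₁.deg - A₂.deg ≤ m := (le_max_right _ _).trans (Int.self_le_toNat _)
  set B : Divisor k K := m • Finsupp.single P 1 with hB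
  have hPdeg : (1 : ℤ) ≤ P.deg := by exact_mod_cast Place.deg_pos hK P
  have hBdeg : (m : ℤ) ≤ B.deg := by
    rw [hB, Divisor.deg_nsmul, Divisor.deg_single, one_mul]
    nlinarith
  -- dimensions
  have hW := WD_finrank hK (-B)
  obtain ⟨hWfin, hWrank⟩ := hW
  have hLB : ell (-B) = 0 := by
    have : L (-B) = ⊥ := L_eq_bot_of_deg_neg hK _ (by rw [Divisor.deg_neg]; omega)
    unfold ell
    rw [this]
    exact finrank_bot k K
  rw [hLB, Divisor.deg_neg] at hWrank
  have hL1 := le_genus hK (A₁ + B)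
  have hL2 := le_genus hK (A₂ + B)
  rw [Divisor.deg_add] at hL1 hL2
  have hf1 := L_finite hK (A₁ + B)
  have hf2 := L_finite hK (A₂ + B)
  set φ₁ := mulWLin hK A₁ B ω₁ hA₁ with hφ₁
  set φ₂ := mulWLin hK A₂ B ω₂ hA₂ with hφ₂
  let R₁ : Submodule k (WD (-B)) := LinearMap.range φ₁
  let R₂ : Submodule k (WD (-B)) := LinearMap.range φ₂
  have hr1 : finrank k R₁ = ell (A₁ + B) :=
    LinearMap.finrank_range_of_inj (mulWLin_injective hK A₁ B hA₁ h0)
  have hr2 : finrank k R₂ = ell (A₂ + B) :=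
    LinearMap.finrank_range_of_inj (mulWLin_injective hK A₂ B hA₂ h20)
  have hsum := Submodule.finrank_sup_add_finrank_inf_eq (K := k) (V := ↥(WD (-B))) R₁ R₂
  have hle : finrank k ↥(R₁ ⊔ R₂) ≤ finrank k (WD (-B)) :=
    Submodule.finrank_le _
  have hinf : 0 < finrank k ↥(R₁ ⊓ R₂) := by
    have h1 : (finrank k ↥(R₁ ⊔ R₂) : ℤ) + finrank k ↥(R₁ ⊓ R₂) =
        ell (A₁ + B) + ell (A₂ + B) := by
      rw [← hr1, ← hr2]; exact_mod_cast hsum
    have h2 : (finrank k ↥(R₁ ⊔ R₂) : ℤ) ≤ finrank k (WD (-B)) := by exact_mod_cast hle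
    have : (0 : ℤ) < finrank k ↥(R₁ ⊓ R₂) := by
      push_cast at hWrank
      linarith
    exact_mod_cast this
  have hne : R₁ ⊓ R₂ ≠ ⊥ := by
    intro h
    rw [h, finrank_bot] at hinf
    exact lt_irrefl _ hinf
  obtain ⟨η, hη, hη0⟩ := Submodule.exists_mem_ne_zero_of_ne_bot hne
  obtain ⟨⟨x₁, rfl⟩, ⟨x₂, hx₂⟩⟩ := Submodule.mem_inf.mp hη
  have hx₂0 : x₂.1 ≠ 0 := by
    intro h
    apply hη0
    rw [← hx₂]
    have : x₂ = 0 := Subtype.ext h
    rw [this, map_zero]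
  have heq : mulW x₂.1 (hsm hK _) ω₂ = mulW x₁.1 (hsm hK _) ω₁ := congrArg Subtype.val hx₂
  refine ⟨x₂.1⁻¹ * x₁.1, ?_⟩
  rw [← mulW_mul _ _ (hsm hK _) (hsm hK _), ← heq, mulW_inv_cancel hK hx₂0]

end Groth.Agent.H55
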