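import Mathlib

/-!
# Frobenius algebras are self-injective; socles of self-injective local rings (helper55)
-/

set_option autoImplicit false
set_option linter.unusedSectionVars false
universe u

namespace Groth.Agent.H55.Frob

section frobenius

variable {k : Type u} [Field k] {A : Type u} [CommRing A] [Algebra k A] [Module.Finite k A]
  (lam : A →ₗ[k] k) (hnd : ∀ a : A, a ≠ 0 → ∃ c, lam (a * c) ≠ 0)

/-- the pairing map `b ↦ λ(b · _)` -/
noncomputable def Phi : A →ₗ[k] Module.Dual k A :=
  (LinearMap.mul k A).compr₂ lam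

theorem Phi_apply (b a : A) : Phi lam b a = lam (b * a) := rfl

include hnd in
theorem Phi_injective : Function.Injective (Phi lam) := by
  rw [injective_iff_map_eq_zero]
  intro b hb
  by_contra hb0
  obtain ⟨c, hc⟩ := hnd b hb0
  apply hc
  rw [← Phi_apply, hb]
  rfl

include hnd in
theorem Phi_surjective : Function.Surjective (Phi lam) := by
  have h1 : Module.finrank k A = Module.finrank k (Module.Dual k A) :=
    Subspace.dual_finrank_eq.symm
  exact (LinearMap.injective_iff_surjective_of_finrank_eq_finrank h1).mp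
    (Phi_injective lam hnd)

include hnd in
/-- Baer's criterion for a finite-dimensional commutative algebra with a nondegenerate
functional -/
theorem baer : Module.Baer A A := by
  intro I f
  let μ : ↥(I.restrictScalars k) →ₗ[k] k :=
    { toFun := fun x => lam (f ⟨x.1, x.2⟩)
      map_add' := by
        intro x y
        have : (⟨(x + y).1, (x + y).2⟩ : I) = ⟨x.1, x.2⟩ + ⟨y.1, y.2⟩ := rfl
        rw [this, map_add, map_add]
      map_smul' := by
        intro c x
        have : (⟨(c • x).1, (c • x).2⟩ : I) = (algebraMap k A c) • ⟨x.1, x.2⟩ := by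
          apply Subtype.ext
          change c • x.1 = algebraMap k A c • x.1
          rw [algebraMap_smul]
        rw [this, map_smul, algebraMap_smul, map_smul]
        rfl }
  obtain ⟨g, hg⟩ := LinearMap.exists_extend μ
  obtain ⟨b₀, hb₀⟩ := Phi_surjective lam hnd g
  refine ⟨LinearMap.toSpanSingleton A A b₀, ?_⟩
  intro x hx
  rw [LinearMap.toSpanSingleton_apply, smul_eq_mul]
  by_contra hne
  have hne' : x * b₀ - f ⟨x, hx⟩ ≠ 0 := sub_ne_zero.mpr hne
  obtain ⟨c, hc⟩ := hnd _ hne'
  apply hc
  rw [sub_mul, map_sub, sub_eq_zero]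
  have h1 : lam (x * b₀ * c) = g (x * c) := by
    rw [← hb₀, Phi_apply]
    congr 1
    ring
  have hxc : x * c ∈ I := I.mul_mem_right c hx
  have h2 : g (x * c) = μ ⟨x * c, hxc⟩ := by
    rw [← hg]
    rfl
  have h3 : μ ⟨x * c, hxc⟩ = lam (f ⟨x * c, hxc⟩) := rfl
  have h4 : (⟨x * c, hxc⟩ : I) = c • ⟨x, hx⟩ := by
    apply Subtype.ext
    change x * c = c * x
    ring
  rw [h1, h2, h3, h4, map_smul, smul_eq_mul, mul_comm]

include hnd in
theorem injective_of_nondeg : Module.Injective A A :=
  Module.Baer.injective (baer lam hnd)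

end frobenius

section socle

variable {A : Type u} [CommRing A] [IsLocalRing A] [Module.Injective A A]

/-- in a self-injective local ring any two nonzero socle elements are proportional -/
theorem exists_mul_eq_of_socle (s₁ s₂ : A) (h2 : s₂ ≠ 0)
    (hs₁ : ∀ y ∈ IsLocalRing.maximalIdeal A, y * s₁ = 0) :
    ∃ b : A, s₁ = b * s₂ := by
  let K : Submodule A A := LinearMap.ker (LinearMap.toSpanSingleton A A s₂)
  let f : (A ⧸ K) →ₗ[A] A := K.liftQ (LinearMap.toSpanSingleton A A s₂) le_rfl
  have hf : Function.Injective f := by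
    rw [← LinearMap.ker_eq_bot]
    exact Submodule.ker_liftQ_eq_bot _ _ _ le_rfl
  have hK : K ≤ LinearMap.ker (LinearMap.toSpanSingleton A A s₁) := by
    intro c hc
    rw [LinearMap.mem_ker, LinearMap.toSpanSingleton_apply, smul_eq_mul] at hc ⊢
    apply hs₁
    rw [IsLocalRing.mem_maximalIdeal, mem_nonunits_iff]
    intro hu
    exact h2 (hu.mul_right_eq_zero.mp hc)
  let g : (A ⧸ K) →ₗ[A] A := K.liftQ (LinearMap.toSpanSingleton A A s₁) hK
  obtain ⟨h, hh⟩ := Module.Injective.out f hf g
  refine ⟨h 1, ?_⟩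
  have h1 := hh (K.mkQ 1)
  have hf1 : f (K.mkQ 1) = s₂ := by
    change (LinearMap.toSpanSingleton A A s₂) 1 = s₂
    rw [LinearMap.toSpanSingleton_apply, one_smul]
  have hg1 : g (K.mkQ 1) = s₁ := by
    change (LinearMap.toSpanSingleton A A s₁) 1 = s₁
    rw [LinearMap.toSpanSingleton_apply, one_smul]
  rw [hf1, hg1] at h1
  rw [← h1]
  have : s₂ = s₂ • (1 : A) := by rw [smul_eq_mul, mul_one]
  conv_lhs => rw [this]
  rw [map_smul, smul_eq_mul, mul_comm]

end socle

end Groth.Agent.H55.Frob
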