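import Groth.Agent.H55.Ram1

set_option autoImplicit false

namespace Groth.Agent.H55

open FunFld WithZero

set_option linter.unusedSectionVars false

variable {k K K' : Type*} [Field k] [Field K] [Field K'] [Algebra k K] [Algebra K K']
  [Algebra k K'] [IsScalarTower k K K']

/-- the place `Q ∘ σ` for a `K`-automorphism `σ` -/
def Place.comapK (Q : Place k K') (σ : K' ≃ₐ[K] K') : Place k K' :=
  Place.comapAlg Q (σ.restrictScalars k)

theorem Place.comapK_val (Q : Place k K') (σ : K' ≃ₐ[K] K') (x : K') :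
    (Place.comapK Q σ).1 x = Q.1 (σ x) := rfl

theorem Place.comapK_mul (Q : Place k K') (σ τ : K' ≃ₐ[K] K') :
    Place.comapK (Place.comapK Q σ) τ = Place.comapK Q (σ * τ) := by
  apply Place.ext'
  intro x
  rfl

/-- S11013: the Galois group acts transitively on the places above a given place -/
theorem galois_transitive [FiniteDimensional K K'] [IsGalois K K'] (Q₁ Q₂ : Place k K')
    (h : (Q₁.1.comap (algebraMap K K')).IsEquiv (Q₂.1.comap (algebraMap K K'))) :
    ∃ σ : K' ≃ₐ[K] K', Place.comapK Q₁ σ = Q₂ := by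
  classical
  by_contra hcon
  push Not at hcon
  set S : Finset (Place k K') :=
    Finset.univ.image (fun σ : K' ≃ₐ[K] K' => Place.comapK Q₁ σ) with hS
  set T : Finset (Place k K') :=
    Finset.univ.image (fun σ : K' ≃ₐ[K] K' => Place.comapK Q₂ σ) with hT
  have hST : ∀ Q ∈ T, Q ∉ S := by
    intro Q hQT hQS
    rw [hT, Finset.mem_image] at hQT
    rw [hS, Finset.mem_image] at hQS
    obtain ⟨τ, -, hτ⟩ := hQT
    obtain ⟨σ, -, hσ⟩ := hQS
    apply hcon (σ * τ⁻¹)
    rw [← Place.comapK_mul, hσ, ← hτ, Place.comapK_mul, mul_inv_cancel]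
    apply Place.ext'
    intro x
    rfl
  obtain ⟨y, hy⟩ := Place.weak_approx (S ∪ T) (fun Q => if Q ∈ S then (1 : K') else 0)
    (fun _ => 1)
  have hyS : ∀ Q ∈ S, Q.1 y = 1 := by
    intro Q hQ
    have h1 := hy Q (Finset.mem_union_left _ hQ)
    simp only [if_pos hQ] at h1
    have h2 : Q.1 (y - 1) < 1 := by rw [h1]; exact Place.exp_neg_one_lt_one
    have h3 : y = (y - 1) + 1 := by ring
    rw [h3, Valuation.map_add_eq_of_lt_right, map_one]
    rw [map_one]; exact h2
  have hyT : ∀ Q ∈ T, Q.1 y < 1 := by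
    intro Q hQ
    have h1 := hy Q (Finset.mem_union_right _ hQ)
    simp only [if_neg (hST Q hQ), sub_zero] at h1
    rw [h1]; exact Place.exp_neg_one_lt_one
  have hnorm := Algebra.norm_eq_prod_automorphisms K y
  have h1 : Q₁.1 (algebraMap K K' (Algebra.norm K y)) = 1 := by
    rw [hnorm, map_prod]
    apply Finset.prod_eq_one
    intro σ _
    rw [← Place.comapK_val]
    exact hyS _ (Finset.mem_image_of_mem _ (Finset.mem_univ σ))
  have h2 : Q₂.1 (algebraMap K K' (Algebra.norm K y)) < 1 := by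
    rw [hnorm, map_prod]
    have hle : ∀ σ ∈ (Finset.univ : Finset (K' ≃ₐ[K] K')), Q₂.1 (σ y) ≤ 1 := by
      intro σ _
      rw [← Place.comapK_val]
      exact (hyT _ (Finset.mem_image_of_mem _ (Finset.mem_univ σ))).le
    have hlt : Q₂.1 ((1 : K' ≃ₐ[K] K') y) < 1 := by
      rw [← Place.comapK_val]
      exact hyT _ (Finset.mem_image_of_mem _ (Finset.mem_univ 1))
    calc ∏ σ : K' ≃ₐ[K] K', Q₂.1 (σ y)
        = Q₂.1 ((1 : K' ≃ₐ[K] K') y) * ∏ σ ∈ Finset.univ.erase (1 : K' ≃ₐ[K] K'), Q₂.1 (σ y) :=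
          (Finset.mul_prod_erase _ _ (Finset.mem_univ _)).symm
      _ < 1 := by
          apply mul_lt_one_of_nonneg_of_lt_one_left zero_le hlt
          apply Finset.prod_le_one'
          intro σ hσ
          exact hle σ (Finset.mem_univ σ)
  have h3 := (h (1 : K) (Algebra.norm K y)).mp (by
    show Q₁.1 (algebraMap K K' 1) ≤ Q₁.1 (algebraMap K K' (Algebra.norm K y))
    rw [h1, map_one, map_one])
  have h4 : Q₂.1 (algebraMap K K' 1) ≤ Q₂.1 (algebraMap K K' (Algebra.norm K y)) := h3
  rw [map_one, map_one] at h4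
  exact absurd h4 (not_le.mpr h2)

end Groth.Agent.H55
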