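import Groth.Agent.H55.WGal
import Groth.Agent.H80.AlgClosedIn

set_option autoImplicit false

namespace Groth.Agent.H55

open FunFld Module IntermediateField
open scoped TensorProduct

universe u v

theorem algebraicClosure_eq_bot {k : Type*} {K : Type*} [Field k] [Field K] [Algebra k K]
    (hK : IsFunctionField k K) : algebraicClosure k K = ⊥ := by
  rw [eq_bot_iff]
  intro y hy
  rw [mem_algebraicClosure_iff] at hy
  obtain ⟨c, hc⟩ := hK.2 y hy
  rw [IntermediateField.mem_bot]
  exact ⟨c, hc⟩

/-- S11000 -/
theorem isGeometric_of_perfectField (k : Type u) (K : Type v) [Field k] [Field K] [Algebra k K]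
    [PerfectField k] (hK : IsFunctionField k K) : IsGeometric k K := by
  intro k' _ _ hfin
  have h1 : IsField (K ⊗[k] k') :=
    Groth.Agent.H80.isField_tensor_of_finite (algebraicClosure_eq_bot hK)
  exact (Algebra.TensorProduct.comm k k' K).toMulEquiv.isField h1

end Groth.Agent.H55
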