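import Groth.Agent.H55.Geom2

set_option autoImplicit false

namespace Groth.Agent.H55

open FunFld Module IntermediateField Polynomial
open scoped TensorProduct

universe u v

variable {k : Type u} {K : Type v} [Field k] [Field K] [Algebra k K]

/-- S11005 -/
theorem isFunctionField_and_isGeometric_intermediateField (hK : IsFunctionField k K)
    (hg : IsGeometric k K) (K₀ : IntermediateField k K) (h₀ : ∃ x ∈ K₀, Transcendental k x) :
    IsFunctionField k K₀ ∧ IsGeometric k K₀ := by
  obtain ⟨x, hxK₀, hx⟩ := h₀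
  refine ⟨⟨⟨⟨x, hxK₀⟩, ?_, ?_⟩, ?_⟩, ?_⟩
  · intro halg
    apply hx
    have := (isAlgebraic_algHom_iff K₀.val K₀.val.injective (a := (⟨x, hxK₀⟩ : K₀))).mpr halg
    exact this
  · have hfd : FiniteDimensional k⟮x⟯ K := finiteDimensional_adjoin_of_transcendental hK hx
    have h1 := finrank_adjoin_algebraMap (k := k) (K := K₀) (K' := K) (⟨x, hxK₀⟩ : K₀)
    have h2 : 0 < finrank k⟮algebraMap K₀ K (⟨x, hxK₀⟩ : K₀)⟯ K := by
      have h3 : algebraMap K₀ K (⟨x, hxK₀⟩ : K₀) = x := rfl
      rw [h3]
      exact Module.finrank_pos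
    rw [h1] at h2
    exact Module.finite_of_finrank_pos (Nat.pos_of_mul_pos_right h2)
  · intro y hy
    have h1 : IsAlgebraic k (y : K) :=
      (isAlgebraic_algHom_iff K₀.val K₀.val.injective (a := y)).mpr hy
    obtain ⟨c, hc⟩ := hK.2 (y : K) h1
    exact ⟨c, Subtype.ext hc⟩
  · intro k' _ _ hfin
    have hF : IsField (k' ⊗[k] K) := hg k' hfin
    letI := hF.toField
    let ι : k' ⊗[k] K₀ →ₐ[k] k' ⊗[k] K := Algebra.TensorProduct.map (AlgHom.id k k') K₀.val
    have hι : Function.Injective ι := by
      have := TensorProduct.map_injective_of_flat_flat (LinearMap.id : k' →ₗ[k] k')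
        K₀.val.toLinearMap Function.injective_id K₀.val.injective
      exact this
    haveI : IsDomain (k' ⊗[k] K₀) := hι.isDomain ι.toRingHom
    -- finite over `K₀` through the right factor
    let e := Algebra.TensorProduct.comm k K₀ k'
    haveI : IsDomain (K₀ ⊗[k] k') := e.toMulEquiv.isDomain
    haveI : Algebra.IsIntegral K₀ (K₀ ⊗[k] k') := Algebra.IsIntegral.of_finite K₀ _
    have h1 := isField_of_isIntegral_of_isField' (R := K₀) (S := K₀ ⊗[k] k') (Field.toIsField K₀)
    exact e.symm.toMulEquiv.isField h1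

end Groth.Agent.H55
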