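import Groth.Agent.H55.Geom3

set_option autoImplicit false

namespace Groth.Agent.H55

open FunFld Module IntermediateField Polynomial
open scoped TensorProduct

universe u v

variable {k k' : Type u} {K K' : Type v} [Field k] [Field k'] [Field K] [Field K']
  [Algebra k k'] [Algebra k K] [Algebra K K'] [Algebra k' K'] [Algebra k K']
  [IsScalarTower k k' K'] [IsScalarTower k K K']

/-- S11026 -/
theorem isSeparable_over_compositum (hK : IsFunctionField k K) (hg : IsGeometric k K)
    (hK' : IsFunctionField k' K') (hg' : IsGeometric k' K')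
    (hw : Function.Injective (KaehlerDifferential.map k k' K K')) :
    Algebra.IsSeparable (IntermediateField.adjoin K (Set.range (algebraMap k' K'))) K' := by
  obtain ⟨x, hx, hsep⟩ := exists_separating hK hg
  have hdx : KaehlerDifferential.D k K x ≠ 0 := D_ne_zero_of_separating hx hsep
  have hdx' : KaehlerDifferential.D k' K' (algebraMap K K' x) ≠ 0 := by
    rw [← KaehlerDifferential.map_D k k' K K']
    intro h0
    exact hdx (hw (by rw [h0, map_zero]))
  have hsep' : Algebra.IsSeparable k'⟮algebraMap K K' x⟯ K' :=
    separating_of_D_ne_zero hK' hg' hdx'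
  set E := IntermediateField.adjoin K (Set.range (algebraMap k' K')) with hE
  -- `k'(x) ⊆ E`
  let Ek : IntermediateField k' K' :=
    { E.toSubfield with
      algebraMap_mem' := fun c => subset_adjoin K _ ⟨c, rfl⟩ }
  have hle : k'⟮algebraMap K K' x⟯ ≤ Ek := by
    rw [adjoin_le_iff]
    rintro _ rfl
    exact E.algebraMap_mem x
  let f : k'⟮algebraMap K K' x⟯ →+* E :=
    { toFun := fun z => ⟨z.1, hle z.2⟩
      map_one' := rfl
      map_mul' := fun _ _ => rfl
      map_zero' := rfl
      map_add' := fun _ _ => rfl }
  letI : Algebra k'⟮algebraMap K K' x⟯ E := f.toAlgebra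
  haveI : IsScalarTower k'⟮algebraMap K K' x⟯ E K' := IsScalarTower.of_algebraMap_eq (fun _ => rfl)
  exact Algebra.isSeparable_tower_top_of_isSeparable k'⟮algebraMap K K' x⟯ E K'

end Groth.Agent.H55
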