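import Groth.Agent.H55.IntCl3

set_option autoImplicit false

namespace Groth.Agent.H55

open FunFld WithZero Module IntermediateField Polynomial
open scoped TensorProduct

universe u v

section Constants

variable {k k' K K' : Type*} [Field k] [Field k'] [Field K] [Field K']
  [Algebra k k'] [Algebra k K] [Algebra K K'] [Algebra k' K'] [Algebra k K']
  [IsScalarTower k k' K'] [IsScalarTower k K K']

/-- the constant field of a finite extension of a function field is algebraic over `k` -/
theorem isAlgebraic_constants [FiniteDimensional K K'] (hK : IsFunctionField k K)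
    (hK' : IsFunctionField k' K') : Algebra.IsAlgebraic k k' := by
  constructor
  intro c
  by_contra hc
  have hc' : Transcendental k (algebraMap k' K' c) := transcendental_algebraMap hc
  have hweak : W.IsWeakFF k K' := W.weak_of_finite hK.weak
  haveI hfin : FiniteDimensional k⟮algebraMap k' K' c⟯ K' :=
    W.finiteDimensional_adjoin_of_transcendental hweak hc'
  obtain ⟨⟨x₁, hx₁, -⟩, -⟩ := hK'
  apply hx₁
  obtain ⟨p, hp0, hp⟩ := Algebra.IsAlgebraic.isAlgebraic (R := k⟮algebraMap k' K' c⟯) x₁
  have hE : k⟮algebraMap k' K' c⟯ ≤ (IsScalarTower.toAlgHom k k' K').fieldRange := by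
    rw [adjoin_le_iff]
    rintro _ rfl
    exact ⟨c, rfl⟩
  have hlift : p.map (algebraMap k⟮algebraMap k' K' c⟯ K') ∈
      Polynomial.lifts (algebraMap k' K') := by
    rw [Polynomial.lifts_iff_coeff_lifts]
    intro n
    rw [coeff_map]
    obtain ⟨y, hy⟩ := hE (p.coeff n).2
    exact ⟨y, hy⟩
  obtain ⟨p', hp'⟩ := hlift
  refine ⟨p', ?_, ?_⟩
  · intro h0
    rw [h0] at hp'
    have hp'' : p.map (algebraMap k⟮algebraMap k' K' c⟯ K') = 0 := by
      rw [← hp']
      exact Polynomial.map_zero _
    exact hp0 ((Polynomial.map_eq_zero_iff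
      (algebraMap k⟮algebraMap k' K' c⟯ K').injective).mp hp'')
  · have hp'2 : p'.map (algebraMap k' K') = p.map (algebraMap k⟮algebraMap k' K' c⟯ K') := hp'
    rw [aeval_def, eval₂_eq_eval_map, hp'2, ← eval₂_eq_eval_map, ← aeval_def]
    exact hp

end Constants

/-- Finite separable extension tensored with an extension in which the base field is
algebraically closed is a field (after helper80's `isField_tensor_of_finite`). -/
theorem isField_tensor_of_finite_separable {K₀ F₀ L : Type*} [Field K₀] [Field F₀]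
    [Algebra K₀ F₀] [Field L] [Algebra K₀ L] [FiniteDimensional K₀ L]
    [Algebra.IsSeparable K₀ L]
    (h : algebraicClosure K₀ F₀ = ⊥) : IsField (F₀ ⊗[K₀] L) := by
  obtain ⟨α, hα⟩ := Field.exists_primitive_element K₀ L
  have hαint : IsIntegral K₀ α := Algebra.IsIntegral.isIntegral α
  have hfirr : Irreducible (minpoly K₀ α) := minpoly.irreducible hαint
  have hfm : (minpoly K₀ α).Monic := minpoly.monic hαint
  have hfdeg : (minpoly K₀ α).natDegree = finrank K₀ L := by
    rw [← IntermediateField.adjoin.finrank hαint, hα, IntermediateField.finrank_top']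
  have hgirr := Groth.Agent.H80.irreducible_map_of_algebraicClosure_eq_bot h hfirr hfm
  have hTrank : finrank F₀ (F₀ ⊗[K₀] L) = finrank K₀ L := Module.finrank_baseChange
  have : Nontrivial (F₀ ⊗[K₀] L) :=
    Module.nontrivial_of_finrank_pos (R := F₀) (by rw [hTrank]; exact finrank_pos)
  obtain ⟨M, hM⟩ := Ideal.exists_maximal (F₀ ⊗[K₀] L)
  let : Field ((F₀ ⊗[K₀] L) ⧸ M) := Ideal.Quotient.field M
  let q : (F₀ ⊗[K₀] L) →ₐ[F₀] ((F₀ ⊗[K₀] L) ⧸ M) := Ideal.Quotient.mkₐ F₀ M
  have hq : Function.Surjective q := Ideal.Quotient.mkₐ_surjective F₀ M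
  let a : (F₀ ⊗[K₀] L) ⧸ M := q (1 ⊗ₜ α)
  have ha : aeval a ((minpoly K₀ α).map (algebraMap K₀ F₀)) = 0 := by
    rw [aeval_map_algebraMap]
    have : a = ((q.restrictScalars K₀).comp Algebra.TensorProduct.includeRight) α := rfl
    rw [this, aeval_algHom_apply, minpoly.aeval, map_zero]
  have hmin : (minpoly K₀ α).map (algebraMap K₀ F₀) = minpoly F₀ a :=
    minpoly.eq_of_irreducible_of_monic hgirr ha (hfm.map _)
  have haint : IsIntegral F₀ a := Algebra.IsIntegral.isIntegral a
  have h1 : finrank F₀ F₀⟮a⟯ = finrank K₀ L := by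
    rw [IntermediateField.adjoin.finrank haint, ← hmin, natDegree_map, hfdeg]
  have h2 : finrank F₀ F₀⟮a⟯ ≤ finrank F₀ ((F₀ ⊗[K₀] L) ⧸ M) :=
    Submodule.finrank_le (F₀⟮a⟯.toSubalgebra.toSubmodule)
  have h3 : finrank F₀ ((F₀ ⊗[K₀] L) ⧸ M) ≤ finrank F₀ (F₀ ⊗[K₀] L) :=
    LinearMap.finrank_le_finrank_of_surjective (f := q.toLinearMap) hq
  have h4 : finrank F₀ (F₀ ⊗[K₀] L) = finrank F₀ ((F₀ ⊗[K₀] L) ⧸ M) := by omega
  have hinj : Function.Injective q :=
    (LinearMap.injective_iff_surjective_of_finrank_eq_finrank (f := q.toLinearMap) h4).2 hq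
  exact (RingEquiv.ofBijective q ⟨hinj, hq⟩).toMulEquiv.isField (Field.toIsField _)

section Geometric

variable {k k' : Type u} {K K' : Type v} [Field k] [Field k'] [Field K] [Field K']
  [Algebra k k'] [Algebra k K] [Algebra K K'] [Algebra k' K'] [Algebra k K']
  [IsScalarTower k k' K'] [IsScalarTower k K K']

/-- the constant field of a finite extension of a geometric function field is finite over `k` -/
theorem finite_constants [FiniteDimensional K K'] (hK : IsFunctionField k K)
    (hg : IsGeometric k K) (hK' : IsFunctionField k' K') : FiniteDimensional k k' := by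
  haveI := isAlgebraic_constants (K := K) hK hK'
  by_contra hnfd
  obtain ⟨L₀, hL₀fin, hlt⟩ :=
    IntermediateField.exists_lt_finrank_of_infinite_dimensional hnfd (finrank K K')
  have hF : IsField (L₀ ⊗[k] K) := hg L₀ hL₀fin
  have hF' : IsField (K ⊗[k] L₀) :=
    (Algebra.TensorProduct.comm k K L₀).toMulEquiv.isField hF
  let ψ : K ⊗[k] L₀ →ₐ[K] K' :=
    Algebra.TensorProduct.productLeftAlgHom (Algebra.ofId K K') (IsScalarTower.toAlgHom k L₀ K')
  have hinj : Function.Injective ψ := by
    letI := (show @IsField (K ⊗[k] L₀) Ring.toSemiring from hF').toField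
    exact ψ.toRingHom.injective
  have h1 : finrank K (K ⊗[k] L₀) ≤ finrank K K' :=
    LinearMap.finrank_le_finrank_of_injective (f := ψ.toLinearMap) hinj
  rw [Module.finrank_baseChange] at h1
  omega

/-- base change of a finite separable extension to a ring which is a field is reduced -/
theorem isReduced_tensor_of_isField {K L K' : Type*} [Field K] [CommRing L] [Algebra K L]
    (hL : IsField L) [Field K'] [Algebra K K'] [FiniteDimensional K K']
    [Algebra.IsSeparable K K'] : IsReduced (L ⊗[K] K') := by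
  letI := hL.toField
  exact isReduced_tensor_of_isSeparable_right

/-- `K' ⊗_{k'} l` is reduced -/
theorem isReduced_tensor_ext [FiniteDimensional K K'] [Algebra.IsSeparable K K']
    (hK : IsFunctionField k K) (hg : IsGeometric k K) (hK' : IsFunctionField k' K')
    (l : Type u) [Field l] [Algebra k' l] [FiniteDimensional k' l] :
    IsReduced (K' ⊗[k'] l) := by
  haveI := finite_constants hK hg hK'
  letI : Algebra k l := ((algebraMap k' l).comp (algebraMap k k')).toAlgebra
  haveI : IsScalarTower k k' l := IsScalarTower.of_algebraMap_eq (fun _ => rfl)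
  haveI : FiniteDimensional k l := FiniteDimensional.trans k k' l
  have hF : IsField (l ⊗[k] K) := hg l inferInstance
  have hF' : IsField (K ⊗[k] l) := (Algebra.TensorProduct.comm k K l).toMulEquiv.isField hF
  haveI h1 : IsReduced ((K ⊗[k] l) ⊗[K] K') := isReduced_tensor_of_isField hF'
  let e1 := Algebra.TensorProduct.comm K (K ⊗[k] l) K'
  let e2 := Algebra.TensorProduct.cancelBaseChange k K K K' l
  haveI h2 : IsReduced (K' ⊗[k] l) :=
    isReduced_of_injective (e1.symm.toRingEquiv.toRingHom.comp e2.symm.toRingEquiv.toRingHom)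
      (e1.symm.injective.comp e2.symm.injective)
  haveI : IsArtinianRing (K' ⊗[k] l) := IsArtinianRing.of_finite K' _
  haveI : IsSemisimpleRing (K' ⊗[k] l) := IsArtinianRing.isSemisimpleRing_of_isReduced _
  haveI : IsSemisimpleRing (K' ⊗[k'] l) :=
    RingHom.isSemisimpleRing_of_surjective
      (Algebra.TensorProduct.mapOfCompatibleSMul k' k K' K' l).toRingHom
      (Algebra.TensorProduct.mapOfCompatibleSMul_surjective k' k K' K' l)
  infer_instance

/-- a reduced tensor product which is purely inseparable over a field is a field -/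
theorem isField_tensor_of_isPurelyInseparable {k' ls l K' : Type*} [Field k'] [Field ls] [Field l]
    [Field K'] [Algebra k' ls] [Algebra k' l] [Algebra ls l] [IsScalarTower k' ls l]
    [Algebra k' K'] [IsPurelyInseparable ls l]
    (hred : IsReduced (l ⊗[k'] K')) (hS : IsField (ls ⊗[k'] K')) : IsField (l ⊗[k'] K') := by
  let φ : ls ⊗[k'] K' →ₐ[k'] l ⊗[k'] K' :=
    Algebra.TensorProduct.map (IsScalarTower.toAlgHom k' ls l) (AlgHom.id k' K')
  obtain ⟨q, hq⟩ := ExpChar.exists k'
  haveI : ExpChar (l ⊗[k'] K') q :=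
    expChar_of_injective_algebraMap (algebraMap k' (l ⊗[k'] K')).injective q
  haveI : ExpChar ls q :=
    expChar_of_injective_algebraMap (algebraMap k' ls).injective q
  have key : ∀ x : l ⊗[k'] K', ∃ M : ℕ, ∃ y : ls ⊗[k'] K', x ^ q ^ M = φ y := by
    intro x
    induction x using TensorProduct.induction_on with
    | zero => exact ⟨0, 0, by simp⟩
    | tmul a b =>
      obtain ⟨n, c, hc⟩ := (isPurelyInseparable_iff_pow_mem ls q).mp inferInstance a
      refine ⟨n, c ⊗ₜ (b ^ q ^ n), ?_⟩
      rw [Algebra.TensorProduct.tmul_pow, ← hc]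
      rfl
    | add x y hx hy =>
      obtain ⟨M₁, y₁, h₁⟩ := hx
      obtain ⟨M₂, y₂, h₂⟩ := hy
      refine ⟨M₁ + M₂, y₁ ^ q ^ M₂ + y₂ ^ q ^ M₁, ?_⟩
      rw [add_pow_expChar_pow, map_add, map_pow, map_pow, ← h₁, ← h₂, ← pow_mul, ← pow_mul,
        ← pow_add, ← pow_add, add_comm M₂ M₁]
  have hunit : ∀ x : l ⊗[k'] K', x ≠ 0 → IsUnit x := by
    intro x hx
    obtain ⟨M, y, hy⟩ := key x
    by_cases hy0 : y = 0
    · exfalso
      rw [hy0, map_zero] at hy
      exact hx (IsReduced.eq_zero x ⟨_, hy⟩)
    · have hyu : IsUnit y := by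
        obtain ⟨y', hy'⟩ := hS.mul_inv_cancel hy0
        exact IsUnit.of_mul_eq_one y' hy'
      have h1 : IsUnit (φ y) := hyu.map φ
      rw [← hy] at h1
      exact (isUnit_pow_iff (expChar_pow_pos k' q M).ne').mp h1
  refine ⟨⟨0, 1, zero_ne_one⟩, mul_comm, ?_⟩
  intro a ha
  obtain ⟨u, rfl⟩ := hunit a ha
  exact ⟨↑u⁻¹, u.mul_inv⟩

/-- S11010 -/
theorem isGeometric_of_finite_separable [FiniteDimensional K K'] [Algebra.IsSeparable K K']
    (hK : IsFunctionField k K) (hg : IsGeometric k K) (hK' : IsFunctionField k' K') :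
    IsGeometric k' K' := by
  intro l _ _ hfin
  haveI := hfin
  have hred' : IsReduced (K' ⊗[k'] l) := isReduced_tensor_ext hK hg hK' l
  have hred : IsReduced (l ⊗[k'] K') :=
    isReduced_of_injective (Algebra.TensorProduct.comm k' l K').toRingEquiv.toRingHom
      (Algebra.TensorProduct.comm k' l K').injective
  have hS' : IsField (K' ⊗[k'] separableClosure k' l) :=
    isField_tensor_of_finite_separable (algebraicClosure_eq_bot hK')
  have hS : IsField (separableClosure k' l ⊗[k'] K') :=
    (Algebra.TensorProduct.comm k' (separableClosure k' l) K').toMulEquiv.isField hS'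
  exact isField_tensor_of_isPurelyInseparable (ls := separableClosure k' l) hred hS

end Geometric
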