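import Groth.Agent.H26.GorQuot
import Groth.Agent.H26.GorFieldLocal
import Groth.Agent.S0342

/-!
# General lemmas on Gorenstein rings (helper55)
-/

set_option autoImplicit false
set_option linter.style.haveILetI false
set_option linter.unusedSectionVars false
universe u

open IsLocalRing

namespace Groth.Agent.H55.Gor

open Groth.Agent.H26.GorRegHom Groth.Agent.H26.GorQuot Groth.Agent.H26.GorFieldLocal

set_option backward.isDefEq.respectTransparency false in
/-- local iff version of `isGorensteinLocalRing_atPrime_quotient` -/
theorem gor_atPrime_iff_quotient {S : Type u} [CommRing S] [IsNoetherianRing S]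
    (x : S) (hx : IsSMulRegular S x) (I : Ideal S)
    (hI : I = Ideal.span {x}) (Q : Ideal (S ⧸ I)) [Q.IsPrime] :
    LocCoh.IsGorensteinLocalRing (Localization.AtPrime (Q.comap (Ideal.Quotient.mk I))) ↔
      LocCoh.IsGorensteinLocalRing (Localization.AtPrime Q) := by
  set P : Ideal S := Q.comap (Ideal.Quotient.mk I) with hP
  haveI : P.IsPrime := Ideal.comap_isPrime _ Q
  have hloc : IsLocalization (Algebra.algebraMapSubmonoid (S ⧸ I) P.primeCompl)
      (Localization.AtPrime P ⧸ I.map (algebraMap S (Localization.AtPrime P))) := inferInstance
  have hsub : Algebra.algebraMapSubmonoid (S ⧸ I) P.primeCompl = Q.primeCompl := by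
    ext y
    obtain ⟨y, rfl⟩ := Ideal.Quotient.mk_surjective y
    constructor
    · rintro ⟨z, hz, hzy⟩
      rw [← hzy]
      exact hz
    · intro hy
      exact ⟨y, hy, rfl⟩
  haveI : IsLocalization.AtPrime
      (Localization.AtPrime P ⧸ I.map (algebraMap S (Localization.AtPrime P))) Q := by
    show IsLocalization Q.primeCompl _
    rw [← hsub]
    exact hloc
  let e : Localization.AtPrime Q ≃+*
      (Localization.AtPrime P ⧸ I.map (algebraMap S (Localization.AtPrime P))) :=
    (IsLocalization.algEquiv Q.primeCompl (Localization.AtPrime Q)
      (Localization.AtPrime P ⧸ I.map (algebraMap S (Localization.AtPrime P)))).toRingEquiv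
  have hmap : I.map (algebraMap S (Localization.AtPrime P)) =
      Ideal.span {algebraMap S (Localization.AtPrime P) x} := by
    rw [hI, Ideal.map_span, Set.image_singleton]
  haveI : IsNoetherianRing (Localization.AtPrime P) :=
    IsLocalization.isNoetherianRing P.primeCompl _ inferInstance
  have hxP : x ∈ P := by
    rw [hP, Ideal.mem_comap]
    have : Ideal.Quotient.mk I x = 0 := by
      rw [Ideal.Quotient.eq_zero_iff_mem, hI]
      exact Ideal.mem_span_singleton_self x
    rw [this]
    exact Q.zero_mem
  have hxm : algebraMap S (Localization.AtPrime P) x ∈ maximalIdeal (Localization.AtPrime P) := by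
    rw [← Localization.AtPrime.map_eq_maximalIdeal]
    exact Ideal.mem_map_of_mem _ hxP
  have hreg : IsSMulRegular (Localization.AtPrime P) (algebraMap S (Localization.AtPrime P) x) :=
    IsSMulRegular.of_flat hx
  have h1 := Groth.Agent.S0343.result (Localization.AtPrime P) _ hxm hreg
  rw [h1]
  constructor
  · intro h
    exact isGorensteinLocalRing_of_ringEquiv ((Ideal.quotEquivOfEq hmap.symm).trans e.symm) h
  · intro h
    exact isGorensteinLocalRing_of_ringEquiv (e.trans (Ideal.quotEquivOfEq hmap)) h

/-- a local ring which is a Gorenstein ring is a Gorenstein local ring -/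
theorem isGorensteinLocalRing_of_isGorensteinRing (T : Type u) [CommRing T] [IsLocalRing T]
    (h : LocCoh.IsGorensteinRing T) : LocCoh.IsGorensteinLocalRing T := by
  have h1 := h.isGorensteinLocalRing_localization (maximalIdeal T)
  have hle : (maximalIdeal T).primeCompl ≤ IsUnit.submonoid T := by
    intro y hy
    rw [IsUnit.mem_submonoid_iff]
    by_contra hnu
    exact hy ((mem_maximalIdeal y).mpr hnu)
  let e : T ≃ₐ[T] Localization.AtPrime (maximalIdeal T) :=
    IsLocalization.atUnits T (maximalIdeal T).primeCompl hle
  exact isGorensteinLocalRing_of_ringEquiv e.symm.toRingEquiv h1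

/-- if `R[1/x]` is Gorenstein then `R_p` is Gorenstein for every prime `p` not containing `x` -/
theorem gor_atPrime_of_away {R S' : Type u} [CommRing R] [CommRing S'] [Algebra R S'] (x : R)
    [IsLocalization.Away x S'] (hS' : LocCoh.IsGorensteinRing S') (p : Ideal R) [p.IsPrime]
    (hxp : x ∉ p) : LocCoh.IsGorensteinLocalRing (Localization.AtPrime p) := by
  have hle : Submonoid.powers x ≤ p.primeCompl := by
    rintro _ ⟨n, rfl⟩
    exact fun h => hxp (Ideal.IsPrime.mem_of_pow_mem inferInstance n h)
  letI : Algebra S' (Localization.AtPrime p) :=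
    IsLocalization.localizationAlgebraOfSubmonoidLe S' (Localization.AtPrime p)
      (Submonoid.powers x) p.primeCompl hle
  haveI : IsScalarTower R S' (Localization.AtPrime p) :=
    IsLocalization.localization_isScalarTower_of_submonoid_le S' (Localization.AtPrime p)
      (Submonoid.powers x) p.primeCompl hle
  haveI : IsLocalization (p.primeCompl.map (algebraMap R S')) (Localization.AtPrime p) :=
    IsLocalization.isLocalization_of_submonoid_le S' (Localization.AtPrime p)
      (Submonoid.powers x) p.primeCompl hle
  have h1 : LocCoh.IsGorensteinRing (Localization.AtPrime p) :=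
    isGorensteinRing_of_isLocalization (p.primeCompl.map (algebraMap R S')) hS'
  exact isGorensteinLocalRing_of_isGorensteinRing _ h1

/-- a Noetherian ring all of whose localizations at primes are principal ideal domains is
Gorenstein -/
theorem isGorensteinRing_of_forall_pid (A : Type u) [CommRing A] [IsDomain A] [IsNoetherianRing A]
    (h : ∀ (p : Ideal A) [p.IsPrime], IsPrincipalIdealRing (Localization.AtPrime p)) :
    LocCoh.IsGorensteinRing A := by
  refine ⟨fun p _ => ?_⟩
  haveI := h p
  exact Groth.Agent.S0342.result (Localization.AtPrime p)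

/-- a Dedekind domain is Gorenstein -/
theorem isGorensteinRing_of_isDedekindDomain (A : Type u) [CommRing A] [IsDedekindDomain A] :
    LocCoh.IsGorensteinRing A := by
  apply isGorensteinRing_of_forall_pid
  intro p _
  by_cases hp : p = ⊥
  · subst hp
    have : IsFractionRing A (Localization.AtPrime (⊥ : Ideal A)) := by
      have h0 : (⊥ : Ideal A).primeCompl = nonZeroDivisors A := by
        ext y
        rw [mem_nonZeroDivisors_iff_ne_zero]
        exact Iff.rfl
      show IsLocalization (nonZeroDivisors A) _
      rw [← h0]
      infer_instance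
    letI := IsFractionRing.toField A (K := Localization.AtPrime (⊥ : Ideal A))
    infer_instance
  · haveI := IsLocalization.AtPrime.isDiscreteValuationRing_of_dedekind_domain A hp
      (Localization.AtPrime p)
    infer_instance

/-- a principal ideal domain is Gorenstein -/
theorem isGorensteinRing_of_pid (A : Type u) [CommRing A] [IsDomain A] [IsPrincipalIdealRing A] :
    LocCoh.IsGorensteinRing A :=
  isGorensteinRing_of_isDedekindDomain A

end Groth.Agent.H55.Gor
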