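import Groth.Agent.H55.Gor1

/-!
# More general lemmas for Gorenstein rings (helper55)
-/

set_option autoImplicit false
set_option linter.style.haveILetI false
set_option linter.unusedSectionVars false
universe u

open IsLocalRing

namespace Groth.Agent.H55.Gor

open Groth.Agent.H26.GorRegHom Groth.Agent.H26.GorQuot Groth.Agent.H26.GorFieldLocal

/-- if `B ⊆ A'` and every element of `A'` is carried into `B` by a power of `x ∈ B`, then
`A'[1/x]` is also the localization of `B` away from `x` -/
theorem away_of_injective {B A' S' : Type*} [CommRing B] [CommRing A'] [CommRing S']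
    [Algebra B A'] [Algebra A' S'] [Algebra B S'] [IsScalarTower B A' S'] (x : B)
    [IsLocalization.Away (algebraMap B A' x) S']
    (hinj : Function.Injective (algebraMap B A'))
    (hcond : ∀ a : A', ∃ m : ℕ, ∃ b : B, algebraMap B A' b = (algebraMap B A' x) ^ m * a) :
    IsLocalization.Away x S' := by
  refine IsLocalization.Away.mk x ?_ ?_ ?_
  · rw [IsScalarTower.algebraMap_apply B A' S']
    exact IsLocalization.Away.algebraMap_isUnit (algebraMap B A' x)
  · intro s
    obtain ⟨n, a, hna⟩ := IsLocalization.Away.surj (algebraMap B A' x) s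
    obtain ⟨m, b, hb⟩ := hcond a
    refine ⟨n + m, b, ?_⟩
    rw [IsScalarTower.algebraMap_apply B A' S' b, hb, IsScalarTower.algebraMap_apply B A' S' x,
      pow_add, ← mul_assoc, hna, map_mul, map_pow]
    ring
  · intro a b hab
    rw [IsScalarTower.algebraMap_apply B A' S' a, IsScalarTower.algebraMap_apply B A' S' b] at hab
    obtain ⟨n, hn⟩ := IsLocalization.Away.exists_of_eq (algebraMap B A' x) hab
    refine ⟨n, hinj ?_⟩
    rw [map_mul, map_mul, map_pow]
    exact hn

/-- a local ring is its own localization at the maximal ideal -/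
theorem gor_atPrime_maximalIdeal_iff (T : Type u) [CommRing T] [IsLocalRing T] (p : Ideal T)
    [p.IsPrime] (hp : p = maximalIdeal T) :
    LocCoh.IsGorensteinLocalRing (Localization.AtPrime p) ↔ LocCoh.IsGorensteinLocalRing T := by
  have hle : p.primeCompl ≤ IsUnit.submonoid T := by
    intro y hy
    rw [IsUnit.mem_submonoid_iff]
    by_contra hnu
    apply hy
    show y ∈ p
    rw [hp]
    exact (mem_maximalIdeal y).mpr hnu
  let e : T ≃ₐ[T] Localization.AtPrime p := IsLocalization.atUnits T p.primeCompl hle
  exact ⟨fun h => isGorensteinLocalRing_of_ringEquiv e.symm.toRingEquiv h,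
    fun h => isGorensteinLocalRing_of_ringEquiv e.toRingEquiv h⟩

/-- in a local ring with nil maximal ideal, every prime is the maximal ideal -/
theorem eq_maximalIdeal_of_nil (T : Type u) [CommRing T] [IsLocalRing T]
    (hnil : ∀ y ∈ maximalIdeal T, IsNilpotent y) (p : Ideal T) [hp : p.IsPrime] :
    p = maximalIdeal T := by
  apply le_antisymm (IsLocalRing.le_maximalIdeal hp.ne_top)
  intro y hy
  obtain ⟨n, hn⟩ := hnil y hy
  exact hp.mem_of_pow_mem n (hn ▸ p.zero_mem)

/-- `S` Noetherian, `x` regular, `S/(x)` local with nil maximal ideal and `S[1/x]` Gorenstein: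
then `S` is Gorenstein iff `S/(x)` is. -/
theorem isGorensteinRing_iff_quotient_local {S S' : Type u} [CommRing S] [IsNoetherianRing S]
    [CommRing S'] [Algebra S S'] (x : S) (hx : IsSMulRegular S x) [IsLocalization.Away x S']
    (hS' : LocCoh.IsGorensteinRing S') [IsLocalRing (S ⧸ Ideal.span {x})]
    (hnil : ∀ y ∈ maximalIdeal (S ⧸ Ideal.span {x}), IsNilpotent y) :
    LocCoh.IsGorensteinRing S ↔ LocCoh.IsGorensteinLocalRing (S ⧸ Ideal.span {x}) := by
  constructor
  · intro h
    have h1 := h.isGorensteinLocalRing_localization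
      ((maximalIdeal (S ⧸ Ideal.span {x})).comap (Ideal.Quotient.mk (Ideal.span {x})))
    rw [gor_atPrime_iff_quotient x hx _ rfl (maximalIdeal (S ⧸ Ideal.span {x})),
      gor_atPrime_maximalIdeal_iff _ _ rfl] at h1
    exact h1
  · intro h
    refine ⟨fun q _ => ?_⟩
    by_cases hxq : x ∈ q
    · have hker : RingHom.ker (Ideal.Quotient.mk (Ideal.span {x})) ≤ q := by
        rw [Ideal.mk_ker, Ideal.span_le]
        intro y hy
        rw [Set.mem_singleton_iff] at hy
        rw [hy]
        exact hxq
      haveI : (q.map (Ideal.Quotient.mk (Ideal.span {x}))).IsPrime :=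
        Ideal.map_isPrime_of_surjective Ideal.Quotient.mk_surjective hker
      have hq : q = (q.map (Ideal.Quotient.mk (Ideal.span {x}))).comap
          (Ideal.Quotient.mk (Ideal.span {x})) := by
        rw [Ideal.comap_map_of_surjective _ Ideal.Quotient.mk_surjective]
        rw [← RingHom.ker_eq_comap_bot]
        exact (sup_eq_left.mpr hker).symm
      have h2 := (gor_atPrime_iff_quotient x hx _ rfl
        (q.map (Ideal.Quotient.mk (Ideal.span {x})))).mpr
        ((gor_atPrime_maximalIdeal_iff _ _ (eq_maximalIdeal_of_nil _ hnil _)).mpr h)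
      have hcongr : ∀ (q' : Ideal S) [q'.IsPrime], q = q' →
          LocCoh.IsGorensteinLocalRing (Localization.AtPrime q') →
          LocCoh.IsGorensteinLocalRing (Localization.AtPrime q) := by
        intro q' _ hqq' h'
        subst hqq'
        exact h'
      exact hcongr _ hq h2
    · exact gor_atPrime_of_away x hS' q hxq

end Groth.Agent.H55.Gor
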