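import Groth.Agent.H55.Geom4

set_option autoImplicit false

namespace Groth.Agent.H55

open FunFld Module IntermediateField Polynomial WithZero

variable {k : Type*} [Field k]

theorem isFunctionField_ratFunc : IsFunctionField k (RatFunc k) := by
  refine ⟨⟨RatFunc.X, RatFunc.transcendental_X, ?_⟩, ?_⟩
  · rw [RatFunc.adjoin_X]
    exact Module.finite_of_finrank_pos (by rw [IntermediateField.finrank_top]; exact one_pos)
  · intro y hy
    by_contra hcon
    apply RatFunc.transcendental_of_ne_C (K := k) y _ hy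
    rintro ⟨c, rfl⟩
    exact hcon ⟨c, by rw [RatFunc.algebraMap_eq_C]⟩

section padic

variable (P₀ : Place k (RatFunc k)) {p : k[X]} (hp : Irreducible p)
  (hP₀ : P₀.1 (algebraMap k[X] (RatFunc k) p) < 1)

include hp hP₀

theorem val_X_le_one : P₀.1 (RatFunc.X : RatFunc k) ≤ 1 := by
  by_contra hgt
  push Not at hgt
  have h1 := Place.val_aeval_eq P₀ hgt hp.ne_zero
  rw [RatFunc.aeval_X_left_eq_algebraMap] at h1
  rw [h1] at hP₀
  exact absurd hP₀ (not_lt.mpr (one_le_pow₀ hgt.le))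

theorem val_poly_le_one (q : k[X]) : P₀.1 (algebraMap k[X] (RatFunc k) q) ≤ 1 := by
  rw [← RatFunc.aeval_X_left_eq_algebraMap]
  exact Place.aeval_mem P₀ q (val_X_le_one P₀ hp hP₀)

theorem val_poly_eq_one_of_not_dvd {q : k[X]} (hq : ¬ p ∣ q) :
    P₀.1 (algebraMap k[X] (RatFunc k) q) = 1 := by
  have hcop : IsCoprime p q := (Irreducible.coprime_iff_not_dvd hp).mpr hq
  obtain ⟨a, b, hab⟩ := hcop
  apply le_antisymm (val_poly_le_one P₀ hp hP₀ q)
  by_contra hlt
  push Not at hlt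
  have h1 : P₀.1 (algebraMap k[X] (RatFunc k) (a * p + b * q)) < 1 := by
    rw [map_add, map_mul, map_mul]
    apply lt_of_le_of_lt (P₀.1.map_add _ _)
    apply max_lt
    · rw [map_mul]
      exact mul_lt_one_of_nonneg_of_lt_one_right (val_poly_le_one P₀ hp hP₀ a) zero_le hP₀
    · rw [map_mul]
      exact mul_lt_one_of_nonneg_of_lt_one_right (val_poly_le_one P₀ hp hP₀ b) zero_le hlt
  rw [hab, map_one, map_one] at h1
  exact lt_irrefl _ h1

theorem ord_poly_eq {q : k[X]} (hq : q ≠ 0) : ∃ (a : ℕ),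
    P₀.ord (algebraMap k[X] (RatFunc k) q) = a * P₀.ord (algebraMap k[X] (RatFunc k) p) := by
  have hfin : FiniteMultiplicity p q := FiniteMultiplicity.of_not_isUnit hp.not_isUnit hq
  obtain ⟨c, hc, hpc⟩ := hfin.exists_eq_pow_mul_and_not_dvd
  refine ⟨multiplicity p q, ?_⟩
  have hc0 : c ≠ 0 := by rintro rfl; exact hpc (dvd_zero p)
  have hinj := IsFractionRing.injective k[X] (RatFunc k)
  have hp0' : algebraMap k[X] (RatFunc k) p ≠ 0 := by
    rw [Ne, map_eq_zero_iff _ hinj]; exact hp.ne_zero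
  have hc0' : algebraMap k[X] (RatFunc k) c ≠ 0 := by
    rw [Ne, map_eq_zero_iff _ hinj]; exact hc0
  conv_lhs => rw [hc]
  rw [map_mul, map_pow, Place.ord_mul P₀ (pow_ne_zero _ hp0') hc0', Place.ord_pow]
  have h1 : P₀.ord (algebraMap k[X] (RatFunc k) c) = 0 := by
    unfold FunFld.Place.ord
    rw [val_poly_eq_one_of_not_dvd P₀ hp hP₀ hpc]
    simp
  rw [h1, add_zero]

theorem ord_irreducible_eq_one : P₀.ord (algebraMap k[X] (RatFunc k) p) = 1 := by
  have hinj := IsFractionRing.injective k[X] (RatFunc k)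
  have hp0' : algebraMap k[X] (RatFunc k) p ≠ 0 := by
    rw [Ne, map_eq_zero_iff _ hinj]; exact hp.ne_zero
  have hpos : 0 < P₀.ord (algebraMap k[X] (RatFunc k) p) := (Place.ord_pos_iff P₀ hp0').mpr hP₀
  obtain ⟨t, ht⟩ := Place.exists_uniformizer P₀
  have ht0 : t ≠ 0 := Place.ne_zero_of_val_eq_exp P₀ ht
  have hord : P₀.ord t = 1 := (Place.ord_eq_iff P₀ ht0 1).mpr ht
  have hnum : t.num ≠ 0 := RatFunc.num_ne_zero ht0
  have hden : t.denom ≠ 0 := RatFunc.denom_ne_zero t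
  obtain ⟨a, ha⟩ := ord_poly_eq P₀ hp hP₀ hnum
  obtain ⟨b, hb⟩ := ord_poly_eq P₀ hp hP₀ hden
  have hdiv : t = algebraMap k[X] (RatFunc k) t.num / algebraMap k[X] (RatFunc k) t.denom :=
    (RatFunc.num_div_denom t).symm
  have hnum' : algebraMap k[X] (RatFunc k) t.num ≠ 0 := by
    rw [Ne, map_eq_zero_iff _ hinj]; exact hnum
  have hden' : algebraMap k[X] (RatFunc k) t.denom ≠ 0 := by
    rw [Ne, map_eq_zero_iff _ hinj]; exact hden
  rw [hdiv, div_eq_mul_inv, Place.ord_mul P₀ hnum' (inv_ne_zero hden'), Place.ord_inv, ha, hb] at hord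
  have h2 : ((a : ℤ) - b) * P₀.ord (algebraMap k[X] (RatFunc k) p) = 1 := by linarith
  have h3 : P₀.ord (algebraMap k[X] (RatFunc k) p) ∣ 1 := Dvd.intro_left _ h2
  have h4 := Int.le_of_dvd one_pos h3
  omega

theorem ord_squarefree_eq_one {f : k[X]} (hf : Squarefree f) (hpf : p ∣ f) :
    P₀.ord (algebraMap k[X] (RatFunc k) f) = 1 := by
  obtain ⟨g, rfl⟩ := hpf
  have hpg : ¬ p ∣ g := by
    intro hdvd
    have h1 : p * p ∣ p * g := mul_dvd_mul_left p hdvd
    exact hp.not_isUnit (hf p h1)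
  have hinj := IsFractionRing.injective k[X] (RatFunc k)
  have hp0' : algebraMap k[X] (RatFunc k) p ≠ 0 := by
    rw [Ne, map_eq_zero_iff _ hinj]; exact hp.ne_zero
  have hg0 : g ≠ 0 := by rintro rfl; exact hpg (dvd_zero p)
  have hg0' : algebraMap k[X] (RatFunc k) g ≠ 0 := by
    rw [Ne, map_eq_zero_iff _ hinj]; exact hg0
  rw [map_mul, Place.ord_mul P₀ hp0' hg0', ord_irreducible_eq_one P₀ hp hP₀]
  have h1 : P₀.ord (algebraMap k[X] (RatFunc k) g) = 0 := by
    unfold FunFld.Place.ord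
    rw [val_poly_eq_one_of_not_dvd P₀ hp hP₀ hpg]
    simp
  rw [h1, add_zero]

end padic

end Groth.Agent.H55
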