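import Groth.Agent.H55.Hyp1

set_option autoImplicit false

namespace Groth.Agent.H55

open FunFld Module IntermediateField Polynomial WithZero

section resdeg

variable {k K K' : Type*} [Field k] [Field K] [Field K'] [Algebra k K] [Algebra K K']
  [Algebra k K'] [IsScalarTower k K K']

/-- the residue field of the lower place embeds `k`-linearly into that of the upper place -/
theorem deg_le_of_isOverWith {Q : Place k K'} {P : Place k K} {e : ℕ} (he : IsOverWith Q P e)
    [FiniteDimensional k (IsLocalRing.ResidueField Q.O)] : P.deg ≤ Q.deg := by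
  let f : P.O →+* Q.O :=
    { toFun := fun x => ⟨algebraMap K K' x.1, (isOverWith_le_one_iff he x.1).mpr x.2⟩
      map_one' := Subtype.ext (map_one _)
      map_mul' := fun x y => Subtype.ext (map_mul _ _ _)
      map_zero' := Subtype.ext (map_zero _)
      map_add' := fun x y => Subtype.ext (map_add _ _ _) }
  have hloc : IsLocalHom f := by
    constructor
    intro x hx
    rw [(Valuation.valuationSubring.integers Q.1).isUnit_iff_valuation_eq_one] at hx
    rw [(Valuation.valuationSubring.integers P.1).isUnit_iff_valuation_eq_one]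
    have hx' : Q.1 (algebraMap K K' x.1) = 1 := hx
    apply le_antisymm x.2
    by_contra hlt
    push Not at hlt
    have := (isOverWith_lt_one_iff he x.1).mpr hlt
    rw [hx'] at this
    exact lt_irrefl _ this
  let g : IsLocalRing.ResidueField P.O →+* IsLocalRing.ResidueField Q.O :=
    IsLocalRing.ResidueField.map f
  let gl : IsLocalRing.ResidueField P.O →ₗ[k] IsLocalRing.ResidueField Q.O :=
    { toFun := g
      map_add' := map_add g
      map_smul' := fun c x => by
        obtain ⟨z, rfl⟩ := IsLocalRing.residue_surjective x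
        have h2 : f (c • z) = c • f z := by
          apply Subtype.ext
          show algebraMap K K' ((c • z : P.O) : K) = ((c • f z : Q.O) : K')
          rw [Place.coe_smul, Place.coe_smul, Algebra.smul_def, Algebra.smul_def, map_mul,
            ← IsScalarTower.algebraMap_apply]
          rfl
        show IsLocalRing.residue Q.O (f (c • z)) = c • IsLocalRing.residue Q.O (f z)
        rw [h2]
        rfl }
  have hinj : Function.Injective gl := g.injective
  exact LinearMap.finrank_le_finrank_of_injective hinj

end resdeg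

section hyper

variable {k K : Type*} [Field k] [Field K] [Algebra k K] [Algebra (RatFunc k) K]
  [IsScalarTower k (RatFunc k) K]

/-- S11034 -/
theorem hyperelliptic_ramified (hdeg : finrank (RatFunc k) K = 2) (y : K) (f : k[X])
    (hf : Squarefree f)
    (heq : y ^ 2 = algebraMap (RatFunc k) K (algebraMap k[X] (RatFunc k) f))
    (p : k[X]) (hp : Irreducible p) (hpf : p ∣ f) (P₀ : Place k (RatFunc k))
    (hP₀ : P₀.1 (algebraMap k[X] (RatFunc k) p) < 1) :
    (∃! P : Place k K, IsOver P P₀) ∧
    ∀ P : Place k K, IsOver P P₀ → IsOverWith P P₀ 2 ∧ P.deg = P₀.deg := by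
  classical
  haveI : FiniteDimensional (RatFunc k) K :=
    Module.finite_of_finrank_pos (by rw [hdeg]; norm_num)
  have hK₀ : IsFunctionField k (RatFunc k) := isFunctionField_ratFunc
  obtain ⟨hfin, hsum⟩ := sum_ramIdx_mul_deg (K' := K) hK₀ P₀
  have hK' : W.IsWeakFF k K := W.weak_of_finite hK₀.weak
  have hordf := ord_squarefree_eq_one P₀ hp hP₀ hf hpf
  have hdeg0 : 0 < P₀.deg := Place.deg_pos hK₀ P₀
  have key : ∀ P : Place k K, IsOver P P₀ → 2 ≤ ramIdx P P₀ ∧ P₀.deg ≤ P.deg := by
    intro P hP
    have he := isOverWith_ramIdx hP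
    have hepos := isOverWith_pos he
    have h1 := isOverWith_ord_eq he (algebraMap k[X] (RatFunc k) f)
    rw [hordf, mul_one, ← heq, Place.ord_pow] at h1
    have hfd := W.Place.finiteDimensional_residue hK' P
    refine ⟨?_, deg_le_of_isOverWith he⟩
    by_contra hlt
    push Not at hlt
    have h2 : ramIdx P P₀ = 1 := by omega
    rw [h2] at h1
    push_cast at h1
    omega
  have hS := hsum hfin.toFinset (fun Q => hfin.mem_toFinset)
  have hterm : ∀ P ∈ hfin.toFinset, 2 * P₀.deg ≤ ramIdx P P₀ * P.deg := by
    intro P hP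
    obtain ⟨h1, h2⟩ := key P (hfin.mem_toFinset.mp hP)
    exact Nat.mul_le_mul h1 h2
  have hcard : hfin.toFinset.card = 1 := by
    have h1 : hfin.toFinset.card * (2 * P₀.deg) ≤ ∑ P ∈ hfin.toFinset, ramIdx P P₀ * P.deg := by
      rw [← smul_eq_mul, ← Finset.sum_const]
      exact Finset.sum_le_sum hterm
    rw [hS, hdeg] at h1
    have h2 : hfin.toFinset.card ≤ 1 := by
      by_contra hgt
      push Not at hgt
      nlinarith
    have h3 : hfin.toFinset.card ≠ 0 := by
      intro h0
      rw [Finset.card_eq_zero] at h0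
      rw [h0, Finset.sum_empty, hdeg] at hS
      omega
    omega
  obtain ⟨P₁, hP₁⟩ := Finset.card_eq_one.mp hcard
  have hmem : ∀ P : Place k K, IsOver P P₀ ↔ P = P₁ := by
    intro P
    have h1 : P ∈ hfin.toFinset ↔ IsOver P P₀ := hfin.mem_toFinset
    rw [← h1, hP₁, Finset.mem_singleton]
  refine ⟨⟨P₁, (hmem P₁).mpr rfl, fun P hP => (hmem P).mp hP⟩, ?_⟩
  intro P hP
  have hPP₁ := (hmem P).mp hP
  subst hPP₁
  rw [hP₁, Finset.sum_singleton, hdeg] at hS
  obtain ⟨h1, h2⟩ := key P hP
  have he := isOverWith_ramIdx hP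
  have h3 : ramIdx P P₀ = 2 ∧ P.deg = P₀.deg := by
    constructor
    · by_contra hne
      have : 3 ≤ ramIdx P P₀ := by omega
      nlinarith
    · by_contra hne
      have : P₀.deg + 1 ≤ P.deg := by omega
      nlinarith
  rw [h3.1] at he
  exact ⟨he, h3.2⟩

end hyper

end Groth.Agent.H55
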