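import Groth.Agent.H55.Hyp2

set_option autoImplicit false

namespace Groth.Agent.H55

open FunFld Module IntermediateField Polynomial

variable {k K : Type*} [Field k] [Field K] [Algebra k K]

/-- no constant multiple of a square in `k(X)` is a squarefree polynomial of positive degree -/
theorem ratFunc_sq_ne (f : k[X]) (hf : Squarefree f) (hd : 1 ≤ f.natDegree) (c : k) (hc : c ≠ 0)
    (r : RatFunc k) :
    algebraMap k (RatFunc k) c * r ^ 2 ≠ algebraMap k[X] (RatFunc k) f := by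
  intro h
  have hinj := IsFractionRing.injective k[X] (RatFunc k)
  have hr2 : r ^ 2 = algebraMap k[X] (RatFunc k) (C c⁻¹ * f) := by
    rw [map_mul, ← h, ← mul_assoc]
    have : algebraMap k[X] (RatFunc k) (C c⁻¹) = algebraMap k (RatFunc k) c⁻¹ := by
      rw [IsScalarTower.algebraMap_apply k k[X] (RatFunc k)]
      rfl
    rw [this, ← map_mul, inv_mul_cancel₀ hc, map_one, one_mul]
  have hint : IsIntegral k[X] r := by
    refine ⟨X ^ 2 - C (C c⁻¹ * f), monic_X_pow_sub_C _ two_ne_zero, ?_⟩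
    rw [eval₂_sub, eval₂_pow, eval₂_X, eval₂_C, hr2, sub_self]
  obtain ⟨u, rfl⟩ := IsIntegrallyClosed.isIntegral_iff.mp hint
  have h1 : u ^ 2 = C c⁻¹ * f := by
    apply hinj
    rw [map_pow]
    exact hr2
  have h2 : f = C c * u ^ 2 := by
    rw [h1, ← mul_assoc, ← C_mul, mul_inv_cancel₀ hc, C_1, one_mul]
  have hu : IsUnit u := hf u ⟨C c, by rw [h2]; ring⟩
  have h3 : f.natDegree = 0 := by
    rw [h2]
    have h4 : u.natDegree = 0 := natDegree_eq_zero_of_isUnit hu
    rw [natDegree_C_mul hc, natDegree_pow, h4, mul_zero]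
  omega

/-- elements of `k(x)` algebraic over `k` are constants -/
theorem mem_range_of_isAlgebraic_adjoin {x : K} (hx : Transcendental k x) (m : k⟮x⟯)
    (h : IsAlgebraic k (m : K)) : ∃ c : k, algebraMap k k⟮x⟯ c = m := by
  let e := RatFunc.algEquivOfTranscendental x hx
  have h1 : IsAlgebraic k m :=
    (isAlgebraic_algHom_iff k⟮x⟯.val k⟮x⟯.val.injective (a := m)).mp h
  have h2 : IsAlgebraic k (e.symm m) :=
    (isAlgebraic_algHom_iff e.symm.toAlgHom e.symm.injective (a := m)).mpr h1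
  obtain ⟨c, hc⟩ := isFunctionField_ratFunc.2 _ h2
  refine ⟨c, ?_⟩
  have := congrArg e hc
  rw [AlgEquiv.commutes, AlgEquiv.apply_symm_apply] at this
  exact this

/-- the hyperelliptic field `k(x, y)`, `y² = f(x)`, `char k ≠ 2`, `f` squarefree of positive degree,
is a function field with full constant field `k`. -/
theorem isFunctionField_hyperelliptic (h2 : ringChar k ≠ 2) (x y : K) (hx : Transcendental k x)
    (hxy : IntermediateField.adjoin k ({x, y} : Set K) = ⊤)
    (f : k[X]) (hf : Squarefree f) (hd : 1 ≤ f.natDegree)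
    (heq : y ^ 2 = aeval x f) : IsFunctionField k K := by
  classical
  let e := RatFunc.algEquivOfTranscendental x hx
  let fM : k⟮x⟯ := e (algebraMap k[X] (RatFunc k) f)
  have hfM : (fM : K) = aeval x f := by
    show ((RatFunc.algEquivOfTranscendental x hx (algebraMap k[X] (RatFunc k) f) : k⟮x⟯) : K) = _
    rw [RatFunc.algEquivOfTranscendental_algebraMap]
    exact AdjoinSimple.coe_aeval_gen_apply k x f
  have hy2 : y ^ 2 = (fM : K) := by rw [hfM]; exact heq
  have hf0 : f ≠ 0 := by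
    rintro rfl
    simp at hd
  have hfM0 : fM ≠ 0 := by
    intro h
    have h1 : algebraMap k[X] (RatFunc k) f = 0 := by
      have := congrArg e.symm h
      rwa [AlgEquiv.symm_apply_apply, map_zero] at this
    exact hf0 ((map_eq_zero_iff _ (IsFractionRing.injective k[X] (RatFunc k))).mp h1)
  have hnosq : ∀ c : k, ∀ m : k⟮x⟯, algebraMap k k⟮x⟯ c * m ^ 2 ≠ fM := by
    intro c m h
    by_cases hc : c = 0
    · rw [hc, map_zero, zero_mul] at h
      exact hfM0 h.symm
    apply ratFunc_sq_ne f hf hd c hc (e.symm m)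
    have := congrArg e.symm h
    rw [map_mul, map_pow, AlgEquiv.commutes, AlgEquiv.symm_apply_apply] at this
    exact this
  -- the minimal polynomial
  have hirr : Irreducible (X ^ 2 - C fM : k⟮x⟯[X]) := by
    apply X_pow_sub_C_irreducible_of_prime Nat.prime_two
    intro b hb
    apply hnosq 1 b
    rw [map_one, one_mul, hb]
  have hroot : aeval y (X ^ 2 - C fM : k⟮x⟯[X]) = 0 := by
    rw [map_sub, map_pow, aeval_X, aeval_C, hy2]
    exact sub_self _
  have hmin : (X ^ 2 - C fM : k⟮x⟯[X]) = minpoly k⟮x⟯ y :=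
    minpoly.eq_of_irreducible_of_monic hirr hroot (monic_X_pow_sub_C _ two_ne_zero)
  have hyint : IsIntegral k⟮x⟯ y :=
    ⟨X ^ 2 - C fM, monic_X_pow_sub_C _ two_ne_zero, hroot⟩
  have hMy : k⟮x⟯⟮y⟯ = ⊤ := by
    apply IntermediateField.restrictScalars_injective k
    rw [adjoin_simple_adjoin_simple, hxy, restrictScalars_top]
  have hfin : FiniteDimensional k⟮x⟯ K := by
    have h1 : FiniteDimensional k⟮x⟯ k⟮x⟯⟮y⟯ := adjoin.finiteDimensional hyint
    rw [hMy] at h1
    exact (topEquiv (F := k⟮x⟯) (E := K)).toLinearEquiv.finiteDimensional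
  refine ⟨⟨x, hx, hfin⟩, ?_⟩
  intro z hz
  -- write z = a * y + b
  have hzmem : z ∈ k⟮x⟯⟮y⟯ := by rw [hMy]; exact mem_top
  have hzmem' : z ∈ Algebra.adjoin k⟮x⟯ {y} := by
    rw [← adjoin_simple_toSubalgebra_of_isAlgebraic hyint.isAlgebraic]
    exact hzmem
  rw [Algebra.adjoin_singleton_eq_range_aeval] at hzmem'
  obtain ⟨p, hp⟩ := hzmem'
  have hqm : (X ^ 2 - C fM : k⟮x⟯[X]).Monic := monic_X_pow_sub_C _ two_ne_zero
  have hdeg : (p %ₘ (X ^ 2 - C fM)).natDegree ≤ 1 := by
    have h1 := natDegree_modByMonic_lt p hqm (by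
      intro h
      have := congrArg natDegree h
      rw [natDegree_X_pow_sub_C, natDegree_one] at this
      omega)
    rw [natDegree_X_pow_sub_C] at h1
    omega
  obtain ⟨a, b, hab⟩ := exists_eq_X_add_C_of_natDegree_le_one hdeg
  have hz' : z = a * y + b := by
    have h1 : aeval y p = aeval y (p %ₘ (X ^ 2 - C fM)) := by
      conv_lhs => rw [← modByMonic_add_div p (X ^ 2 - C fM)]
      rw [map_add, map_mul, hroot, zero_mul, add_zero]
    have hp' : aeval y p = z := hp
    rw [← hp', h1, hab]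
    simp
  -- the conjugation
  have hneg : -y ∈ (minpoly k⟮x⟯ y).aroots K := by
    rw [mem_aroots, ← hmin]
    refine ⟨hirr.ne_zero, ?_⟩
    rw [map_sub, map_pow, aeval_X, aeval_C, neg_sq, hy2]
    exact sub_self _
  let σ : k⟮x⟯⟮y⟯ →ₐ[k⟮x⟯] K := (algHomAdjoinIntegralEquiv k⟮x⟯ hyint).symm ⟨-y, hneg⟩
  have hσ : σ (AdjoinSimple.gen k⟮x⟯ y) = -y :=
    algHomAdjoinIntegralEquiv_symm_apply_gen k⟮x⟯ hyint ⟨-y, hneg⟩
  let z' : k⟮x⟯⟮y⟯ := a • AdjoinSimple.gen k⟮x⟯ y + algebraMap k⟮x⟯ k⟮x⟯⟮y⟯ b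
  have hz'z : (z' : K) = z := by
    rw [hz']
    rfl
  have hσz : σ z' = -(a * y) + b := by
    simp only [z', map_add, map_smul, hσ, AlgHom.commutes]
    rw [Algebra.smul_def, mul_neg]
    rfl
  have halg1 : IsAlgebraic k z' := by
    have h1 : IsAlgebraic k ((k⟮x⟯⟮y⟯.val.restrictScalars k) z') := by
      show IsAlgebraic k (z' : K)
      rw [hz'z]
      exact hz
    exact (isAlgebraic_algHom_iff (k⟮x⟯⟮y⟯.val.restrictScalars k)
      (k⟮x⟯⟮y⟯.val.restrictScalars k).toRingHom.injective).mp h1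
  have halg2 : IsAlgebraic k (σ z') := halg1.algHom (σ.restrictScalars k)
  have hsum : IsAlgebraic k (((b + b : k⟮x⟯) : k⟮x⟯) : K) := by
    have h1 : IsAlgebraic k (z + σ z') := hz.add halg2
    have h3 : z + σ z' = ((b + b : k⟮x⟯) : K) := by
      rw [hσz, hz']
      push_cast
      ring
    rwa [h3] at h1
  have hprod : IsAlgebraic k (((b ^ 2 - a ^ 2 * fM : k⟮x⟯) : k⟮x⟯) : K) := by
    have h1 : IsAlgebraic k (z * σ z') := hz.mul halg2
    have h3 : z * σ z' = ((b ^ 2 - a ^ 2 * fM : k⟮x⟯) : K) := by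
      rw [hσz, hz']
      push_cast
      rw [← hy2]
      ring
    rwa [h3] at h1
  obtain ⟨c₁, hc₁⟩ := mem_range_of_isAlgebraic_adjoin hx _ hsum
  obtain ⟨c₂, hc₂⟩ := mem_range_of_isAlgebraic_adjoin hx _ hprod
  have h2' : (2 : k) ≠ 0 := Ring.two_ne_zero h2
  have h2M : (2 : k⟮x⟯) ≠ 0 := by
    have := (map_ne_zero (algebraMap k k⟮x⟯)).mpr h2'
    rwa [map_ofNat] at this
  have hb : algebraMap k k⟮x⟯ (c₁ / 2) = b := by
    rw [map_div₀, hc₁, map_ofNat, ← two_mul, mul_div_cancel_left₀ _ h2M]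
  by_cases ha : a = 0
  · refine ⟨c₁ / 2, ?_⟩
    rw [hz', ha, IsScalarTower.algebraMap_apply k k⟮x⟯ K, hb]
    simp
  · exfalso
    apply hnosq ((c₁ / 2) ^ 2 - c₂) a⁻¹
    rw [map_sub, map_pow, hb, hc₂, inv_pow]
    field_simp
    ring

end Groth.Agent.H55
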