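import Groth.Agent.H55.Jac4

/-! Semilocal subspaces of a function field and their relative dimensions (towards S11077). -/

set_option autoImplicit false
set_option linter.style.haveILetI false
set_option linter.unusedSectionVars false

namespace Groth.Agent.H55

open Polynomial FunFld WithZero Module

section
variable {k K : Type*} [Field k] [Field K] [Algebra k K]

/-- elements with orders at least `n Q` at the places `Q ∈ S` (no condition elsewhere) -/
def CS (S : Finset (Place k K)) (n : Place k K → ℤ) : Submodule k K :=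
  ⨅ Q ∈ S, Place.ball Q (n Q)

theorem mem_CS {S : Finset (Place k K)} {n : Place k K → ℤ} {z : K} :
    z ∈ CS S n ↔ ∀ Q ∈ S, Q.1 z ≤ exp (-(n Q)) := by
  unfold CS
  simp only [Submodule.mem_iInf]
  rfl

theorem CS_anti {S : Finset (Place k K)} {n m : Place k K → ℤ} (h : ∀ Q ∈ S, n Q ≤ m Q) :
    CS S m ≤ CS S n := by
  intro z hz
  rw [mem_CS] at hz ⊢
  intro Q hQ
  exact (hz Q hQ).trans (exp_le_exp.mpr (by have := h Q hQ; omega))

/-- the relative dimension of two semilocal subspaces, by weak approximation -/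
theorem CS_finrank (hK : IsFunctionField k K) (S : Finset (Place k K)) (n m : Place k K → ℤ)
    (hnm : ∀ Q ∈ S, n Q ≤ m Q) :
    Module.Finite k (RelQ (CS S m) (CS S n)) ∧
      (finrank k (RelQ (CS S m) (CS S n)) : ℤ) = ∑ Q ∈ S, (m Q - n Q) * Q.deg := by
  classical
  have hmemS : ∀ (z : CS S n) (Q : S), (z : K) ∈ Place.ball Q.1 (n Q.1) := fun z Q =>
    (mem_CS.mp z.2) Q.1 Q.2
  let g : CS S n →ₗ[k] ((Q : S) → Place.LocQ Q.1 (n Q.1) (m Q.1)) :=
    { toFun := fun z Q => Place.LocQ.mk Q.1 (n Q.1) (m Q.1) ⟨(z : K), hmemS z Q⟩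
      map_add' := by
        intro z w
        funext Q
        exact map_add (Place.LocQ.mk Q.1 (n Q.1) (m Q.1)) ⟨(z : K), hmemS z Q⟩ ⟨(w : K), hmemS w Q⟩
      map_smul' := by
        intro a z
        funext Q
        exact map_smul (Place.LocQ.mk Q.1 (n Q.1) (m Q.1)) a ⟨(z : K), hmemS z Q⟩ }
  have hg : Function.Surjective g := by
    intro t
    choose w hw using fun Q : S => Place.LocQ.mk_surjective Q.1 (n Q.1) (m Q.1) (t Q)
    -- a common bound
    obtain ⟨B, hB⟩ : ∃ B : ℤ, ∀ Q ∈ S, m Q ≤ B := by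
      refine ⟨∑ Q ∈ S, ((m Q).toNat : ℤ), ?_⟩
      intro Q hQ
      have h1 : ((m Q).toNat : ℤ) ≤ ∑ Q ∈ S, ((m Q).toNat : ℤ) :=
        Finset.single_le_sum (f := fun Q : Place k K => ((m Q).toNat : ℤ))
          (fun _ _ => Int.natCast_nonneg _) hQ
      have h2 : m Q ≤ (m Q).toNat := Int.self_le_toNat _
      omega
    obtain ⟨z, hz⟩ := Place.weak_approx_le S
      (fun Q => if h : Q ∈ S then ((w ⟨Q, h⟩ : Place.ball Q (n Q)) : K) else 0) B
    have hzS : ∀ Q : S, Q.1.1 (z - (w Q : K)) ≤ exp (-(m Q.1)) := by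
      intro Q
      have h1 := hz Q.1 Q.2
      rw [dif_pos Q.2] at h1
      exact h1.trans (exp_le_exp.mpr (by have := hB Q.1 Q.2; omega))
    have hzmem : z ∈ CS S n := by
      rw [mem_CS]
      intro Q hQ
      have h1 := hzS ⟨Q, hQ⟩
      have h2 : Q.1 ((w ⟨Q, hQ⟩ : Place.ball Q (n Q)) : K) ≤ exp (-(n Q)) := (w ⟨Q, hQ⟩).2
      have h3 : z = (z - ((w ⟨Q, hQ⟩ : Place.ball Q (n Q)) : K)) +
          ((w ⟨Q, hQ⟩ : Place.ball Q (n Q)) : K) := by ring
      rw [h3]
      refine (Q.1.map_add _ _).trans (max_le (h1.trans ?_) h2)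
      exact exp_le_exp.mpr (by have := hnm Q hQ; simp only; omega)
    refine ⟨⟨z, hzmem⟩, ?_⟩
    funext Q
    show Place.LocQ.mk Q.1 (n Q.1) (m Q.1) ⟨z, _⟩ = t Q
    rw [← hw Q, ← sub_eq_zero, ← map_sub, Place.LocQ.mk_eq_zero]
    exact hzS Q
  have hker : ∀ z : CS S n, g z = 0 ↔ (z : K) ∈ CS S m := by
    intro z
    rw [mem_CS]
    constructor
    · intro h Q hQ
      have h1 := congrFun h ⟨Q, hQ⟩
      exact (Place.LocQ.mk_eq_zero Q (n Q) (m Q) _).mp h1
    · intro h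
      funext Q
      exact (Place.LocQ.mk_eq_zero Q.1 (n Q.1) (m Q.1) _).mpr (h Q.1 Q.2)
  let e := relQEquivOfSurjective (CS S m) (CS S n) g hg hker
  have hfin : ∀ Q : S, Module.Finite k (Place.LocQ Q.1 (n Q.1) (m Q.1)) := fun Q =>
    (Place.LocQ.finrank hK Q.1 (hnm Q.1 Q.2)).1
  have hfinPi : Module.Finite k ((Q : S) → Place.LocQ Q.1 (n Q.1) (m Q.1)) := Module.Finite.pi
  refine ⟨Module.Finite.equiv e.symm, ?_⟩
  rw [e.finrank_eq, Module.finrank_pi_fintype]
  push_cast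
  rw [← Finset.sum_coe_sort S (fun Q => (m Q - n Q) * (Q.deg : ℤ))]
  apply Finset.sum_congr rfl
  intro Q _
  exact (Place.LocQ.finrank hK Q.1 (hnm Q.1 Q.2)).2

/-- For a subspace `Rk` of `K` squeezed between two semilocal subspaces and stable under
multiplication by `γ`, the codimension of `γ Rk` in `Rk` is the total order of `γ` at `S`. -/
theorem finrank_relQ_mul (hK : IsFunctionField k K) (S : Finset (Place k K))
    (hdeg : ∀ Q ∈ S, Q.deg = 1) (Rk : Submodule k K) (N : ℕ)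
    (hR0 : Rk ≤ CS S (fun _ => 0)) (hRN : CS S (fun _ => (N : ℤ)) ≤ Rk) (γ : K) (hγ0 : γ ≠ 0)
    (hγ : ∀ Q ∈ S, Q.1 γ ≤ 1) (hγR : ∀ z ∈ Rk, γ * z ∈ Rk) :
    (finrank k (RelQ (Rk.map (LinearMap.mulLeft k γ)) Rk) : ℤ) = ∑ Q ∈ S, Q.ord γ := by
  classical
  set γR : Submodule k K := Rk.map (LinearMap.mulLeft k γ) with hγRdef
  set C0 : Submodule k K := CS S (fun _ => 0) with hC0
  set CN : Submodule k K := CS S (fun _ => (N : ℤ)) with hCN
  set Cγ : Submodule k K := CS S (fun Q => (N : ℤ) + Q.ord γ) with hCγ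
  have hord : ∀ Q ∈ S, 0 ≤ Q.ord γ := by
    intro Q hQ
    rw [Place.le_ord_iff Q hγ0]
    simpa using hγ Q hQ
  have hmemγR : ∀ z, z ∈ γR ↔ ∃ w ∈ Rk, γ * w = z := by
    intro z
    rw [hγRdef, Submodule.mem_map]
    rfl
  have hγR_le : γR ≤ Rk := by
    intro z hz
    obtain ⟨w, hw, rfl⟩ := (hmemγR z).mp hz
    exact hγR w hw
  have hmulCN : ∀ z, z ∈ CN → γ * z ∈ Cγ := by
    intro z hz
    rw [hCN, mem_CS] at hz
    rw [hCγ, mem_CS]
    intro Q hQ
    rw [map_mul, Place.val_eq_exp_neg_ord Q hγ0, neg_add, exp_add, mul_comm]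
    exact mul_le_mul' (hz Q hQ) le_rfl
  have hdivCγ : ∀ z, z ∈ Cγ → γ⁻¹ * z ∈ CN := by
    intro z hz
    rw [hCγ, mem_CS] at hz
    rw [hCN, mem_CS]
    intro Q hQ
    have h1 := hz Q hQ
    rw [neg_add, exp_add] at h1
    rw [map_mul, map_inv₀, Place.val_eq_exp_neg_ord Q hγ0]
    have hne : exp (-(Q.ord γ)) ≠ 0 := exp_ne_zero
    rw [inv_mul_le_iff₀ (zero_lt_iff.mpr hne), mul_comm]
    exact h1
  have hCγ_le_γR : Cγ ≤ γR := by
    intro z hz
    rw [hmemγR]
    refine ⟨γ⁻¹ * z, hRN (hdivCγ z hz), ?_⟩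
    rw [← mul_assoc, mul_inv_cancel₀ hγ0, one_mul]
  have hCγ_le_CN : Cγ ≤ CN := CS_anti (fun Q hQ => by have := hord Q hQ; omega)
  have hCN_le_C0 : CN ≤ C0 := CS_anti (fun Q _ => by omega)
  -- finiteness and dimensions of the semilocal pieces
  obtain ⟨hfin0, -⟩ := CS_finrank hK S (fun _ => 0) (fun _ => (N : ℤ)) (fun Q _ => by omega)
  obtain ⟨hfinγ, hdimγ⟩ := CS_finrank hK S (fun _ => (N : ℤ)) (fun Q => (N : ℤ) + Q.ord γ)
    (fun Q hQ => by have := hord Q hQ; omega)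
  have hdimγ' : (finrank k (RelQ Cγ CN) : ℤ) = ∑ Q ∈ S, Q.ord γ := by
    rw [hdimγ]
    apply Finset.sum_congr rfl
    intro Q hQ
    rw [hdeg Q hQ]
    push_cast
    ring
  -- `Rk / CN` embeds into `C0 / CN`
  have hidle : ∀ A : Submodule k K, A ≤ A.comap (LinearMap.id : K →ₗ[k] K) := fun A => by simp
  have hfinR : Module.Finite k (RelQ CN Rk) := by
    have hB : Rk ≤ C0.comap (LinearMap.id : K →ₗ[k] K) := by simpa using hR0
    have hinj : Function.Injective (relQMap LinearMap.id CN Rk CN C0 hB (hidle CN)) := by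
      apply relQMap_injective
      intro x _ hx
      simpa using hx
    exact Module.Finite.of_injective _ hinj
  -- multiplication by `γ` identifies `Rk / CN` with `γ Rk / Cγ`
  have hBm : Rk ≤ γR.comap (LinearMap.mulLeft k γ) := by
    intro z hz
    rw [Submodule.mem_comap, hmemγR]
    exact ⟨z, hz, rfl⟩
  have hAm : CN ≤ Cγ.comap (LinearMap.mulLeft k γ) := by
    intro z hz
    rw [Submodule.mem_comap]
    exact hmulCN z hz
  have hinjm : Function.Injective (relQMap (LinearMap.mulLeft k γ) CN Rk Cγ γR hBm hAm) := by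
    apply relQMap_injective
    intro x _ hx
    have h1 := hdivCγ _ hx
    rwa [LinearMap.mulLeft_apply, ← mul_assoc, inv_mul_cancel₀ hγ0, one_mul] at h1
  have hsurjm : Function.Surjective (relQMap (LinearMap.mulLeft k γ) CN Rk Cγ γR hBm hAm) := by
    apply relQMap_surjective
    intro y hy
    obtain ⟨w, hw, rfl⟩ := (hmemγR y).mp hy
    exact ⟨w, hw, by simp⟩
  let em : RelQ CN Rk ≃ₗ[k] RelQ Cγ γR := LinearEquiv.ofBijective _ ⟨hinjm, hsurjm⟩
  have hfinγR : Module.Finite k (RelQ Cγ γR) := Module.Finite.equiv em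
  -- chain (2): Cγ ≤ CN ≤ Rk
  obtain ⟨hfin2, hdim2⟩ := relQ_add Cγ CN Rk hCγ_le_CN hRN
  -- `Rk / γR` is a quotient of `Rk / Cγ`
  have hfinX : Module.Finite k (RelQ γR Rk) := by
    have hA : Cγ ≤ γR.comap (LinearMap.id : K →ₗ[k] K) := by simpa using hCγ_le_γR
    have hsurj : Function.Surjective (relQMap LinearMap.id Cγ Rk γR Rk (hidle Rk) hA) := by
      apply relQMap_surjective
      intro y hy
      exact ⟨y, hy, by simp⟩
    exact Module.Finite.of_surjective _ hsurj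
  -- chain (1): Cγ ≤ γR ≤ Rk
  obtain ⟨-, hdim1⟩ := relQ_add Cγ γR Rk hCγ_le_γR hγR_le
  have hem : finrank k (RelQ CN Rk) = finrank k (RelQ Cγ γR) := em.finrank_eq
  have : finrank k (RelQ γR Rk) = finrank k (RelQ Cγ CN) := by omega
  rw [this, hdimγ']

end

end Groth.Agent.H55
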