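import Groth.Agent.H55.Int1

/-! The conductor of a plane model: a common denominator for all functions regular at the finite
places (towards S11077). -/

set_option autoImplicit false
set_option linter.style.haveILetI false
set_option linter.unusedSectionVars false

namespace Groth.Agent.H55

open Polynomial FunFld WithZero Module IntermediateField

section
variable {k K : Type*} [Field k] [Field K] [Algebra k K]

/-- the kernel of the evaluation at a plane model is generated by the irreducible relation -/
theorem ker_aeval_pair_eq_span_of_irreducible (hK : IsFunctionField k K) (x y : K)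
    (hxy : IntermediateField.adjoin k ({x, y} : Set K) = ⊤) (f : MvPolynomial (Fin 2) k)
    (hf : Irreducible f) (hfxy : MvPolynomial.aeval ![x, y] f = 0) :
    RingHom.ker (MvPolynomial.aeval ![x, y] : MvPolynomial (Fin 2) k →ₐ[k] K) =
      Ideal.span {f} := by
  have hdep : ¬ AlgebraicIndependent k ![x, y] := by
    intro h
    rw [algebraicIndependent_iff_injective_aeval] at h
    exact hf.ne_zero (h (by rw [hfxy, map_zero]))
  have hex : ∃ f' : MvPolynomial (Fin 2) k, Irreducible f' ∧
      RingHom.ker (MvPolynomial.aeval ![x, y] : MvPolynomial (Fin 2) k →ₐ[k] K) =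
        Ideal.span {f'} := by
    rcases transcendental_or_of_adjoin_pair hK hxy with hx | hy
    · apply ker_aeval_perm ![x, y] (Equiv.swap 0 1)
      have hv : ![x, y] ∘ (Equiv.swap (0 : Fin 2) 1) = ![y, x] := by
        ext i; fin_cases i <;> simp
      rw [hv]
      apply ker_aeval_pair_eq_span y x hx
      intro h
      apply hdep
      have := h.comp (Equiv.swap (0 : Fin 2) 1) (Equiv.injective _)
      convert this using 1
      ext i; fin_cases i <;> simp
    · exact ker_aeval_pair_eq_span x y hy hdep
  obtain ⟨f', hf'irr, hker⟩ := hex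
  have hmem : f ∈ RingHom.ker
      (MvPolynomial.aeval ![x, y] : MvPolynomial (Fin 2) k →ₐ[k] K) := RingHom.mem_ker.mpr hfxy
  rw [hker, Ideal.mem_span_singleton] at hmem
  have hassoc : Associated f' f := hf'irr.associated_of_dvd hf hmem
  rw [hker, Ideal.span_singleton_eq_span_singleton]
  exact hassoc

/-- general position: after a shear, the relation is monic of full degree in `X₀` -/
theorem exists_general_position [Infinite k] (hK : IsFunctionField k K) (x y : K)
    (hxy : IntermediateField.adjoin k ({x, y} : Set K) = ⊤) (f : MvPolynomial (Fin 2) k)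
    (hf : Irreducible f) (hfxy : MvPolynomial.aeval ![x, y] f = 0) :
    ∃ c : k, Irreducible (shear c f) ∧
      MvPolynomial.aeval ![x, y - c • x] (shear c f) = 0 ∧
      MvPolynomial.degreeOf 0 (shear c f) = f.totalDegree ∧
      Transcendental k (y - c • x) ∧
      IntermediateField.adjoin k ({x, y - c • x} : Set K) = ⊤ ∧
      (∀ P : Place k K, P.1 x ≤ max 1 (P.1 (y - c • x))) ∧
      (poleDiv k (y - c • x)).deg = f.totalDegree := by
  set d := f.totalDegree with hd
  have hd0 : d ≠ 0 := totalDegree_ne_zero_of_irreducible hf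
  obtain ⟨c, hc⟩ := exists_shear_coeff_ne_zero hf.ne_zero
  set y' := y - c • x with hy'
  have hyy' : y = y' + c • x := by rw [hy']; ring
  set g := shear c f with hg
  have hgirr : Irreducible g := irreducible_shear c hf
  have hgxy : MvPolynomial.aeval ![x, y'] g = 0 := by
    rw [hg, aeval_shear, ← hyy', hfxy]
  have htd : g.totalDegree ≤ d := totalDegree_shear_le c f
  have hsupp : Finsupp.single (0 : Fin 2) d ∈ g.support := MvPolynomial.mem_support_iff.mpr hc
  have hdeg0 : MvPolynomial.degreeOf 0 g = d := by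
    apply le_antisymm
    · exact (MvPolynomial.degreeOf_le_totalDegree g 0).trans htd
    · have := MvPolynomial.monomial_le_degreeOf 0 hsupp
      simpa using this
  have hval : ∀ P : Place k K, P.1 x ≤ max 1 (P.1 y') := fun P =>
    val_le_max_of_relation P hgxy htd hc
  have hxy' : IntermediateField.adjoin k ({x, y'} : Set K) = ⊤ := by
    rw [eq_top_iff, ← hxy, IntermediateField.adjoin_le_iff]
    intro z hz
    have hxm : x ∈ IntermediateField.adjoin k ({x, y'} : Set K) :=
      IntermediateField.subset_adjoin k _ (by simp)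
    have hym : y' ∈ IntermediateField.adjoin k ({x, y'} : Set K) :=
      IntermediateField.subset_adjoin k _ (by simp)
    rcases hz with rfl | hz
    · exact hxm
    · rw [Set.mem_singleton_iff] at hz
      rw [hz, hyy']
      refine add_mem hym ?_
      rw [Algebra.smul_def]
      exact mul_mem (IntermediateField.algebraMap_mem _ c) hxm
  have hy'tr : Transcendental k y' := by
    intro halg
    have hxalg : IsAlgebraic k x := by
      by_contra hxtr
      obtain ⟨P, hP⟩ := exists_pole hK hxtr
      have h1 := hval P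
      have h2 : P.1 y' ≤ 1 := W.val_le_one_of_isAlgebraic P halg
      rw [max_eq_left h2] at h1
      exact absurd hP (not_lt.mpr h1)
    rcases transcendental_or_of_adjoin_pair hK hxy' with h | h
    · exact h hxalg
    · exact h halg
  have hfin : finrank k⟮y'⟯ K = d := by
    rw [finrank_adjoin_eq_degreeOf hy'tr hxy' hgirr hgxy (by rw [hdeg0]; exact hd0), hdeg0]
  refine ⟨c, hgirr, hgxy, hdeg0, hy'tr, hxy', hval, ?_⟩
  rw [deg_poleDiv hK hy'tr, hfin]

/-- the exponent vector `(j, i)` -/
noncomputable def expo (j i : ℕ) : Fin 2 →₀ ℕ := Finsupp.single 0 j + Finsupp.single 1 i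

theorem expo_zero (j i : ℕ) : expo j i 0 = j := by simp [expo]
theorem expo_one (j i : ℕ) : expo j i 1 = i := by simp [expo]

theorem expo_injective {j i j' i' : ℕ} (h : expo j i = expo j' i') : j = j' ∧ i = i' := by
  refine ⟨?_, ?_⟩
  · have := congrArg (fun m => m 0) h
    simpa [expo_zero] using this
  · have := congrArg (fun m => m 1) h
    simpa [expo_one] using this

theorem aeval_monomial_expo (x y' : K) (j i : ℕ) (a : k) :
    MvPolynomial.aeval ![x, y'] (MvPolynomial.monomial (expo j i) a) = a • (x ^ j * y' ^ i) := by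
  rw [MvPolynomial.aeval_monomial, Algebra.smul_def]
  congr 1
  unfold expo
  rw [Finsupp.prod_add_index' (by simp) (by intro a b c; rw [pow_add]),
    Finsupp.prod_single_index (by simp), Finsupp.prod_single_index (by simp)]
  simp

/-- monomials `x^j y'^i` with `j` below the `X₀`-degree of the relation are linearly independent -/
theorem linearIndependent_monomials (x y' : K) (g : MvPolynomial (Fin 2) k)
    (hker : RingHom.ker (MvPolynomial.aeval ![x, y'] : MvPolynomial (Fin 2) k →ₐ[k] K) =
      Ideal.span {g}) (d M : ℕ) (hd : MvPolynomial.degreeOf 0 g = d) :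
    LinearIndependent k (fun ji : Fin d × Fin M => x ^ (ji.1 : ℕ) * y' ^ (ji.2 : ℕ)) := by
  classical
  rw [Fintype.linearIndependent_iff]
  intro a ha
  set G : MvPolynomial (Fin 2) k :=
    ∑ ji : Fin d × Fin M, MvPolynomial.monomial (expo ji.1 ji.2) (a ji) with hG
  have hGx : MvPolynomial.aeval ![x, y'] G = 0 := by
    rw [hG, map_sum, ← ha]
    apply Finset.sum_congr rfl
    intro ji _
    exact aeval_monomial_expo x y' _ _ _
  have hG0 : G = 0 := by
    by_contra hne
    have hmem : G ∈ RingHom.ker
        (MvPolynomial.aeval ![x, y'] : MvPolynomial (Fin 2) k →ₐ[k] K) := RingHom.mem_ker.mpr hGx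
    rw [hker, Ideal.mem_span_singleton] at hmem
    obtain ⟨q, hq⟩ := hmem
    have hg0 : g ≠ 0 := by rintro rfl; rw [zero_mul] at hq; exact hne hq
    have hq0 : q ≠ 0 := by rintro rfl; rw [mul_zero] at hq; exact hne hq
    have h1 : MvPolynomial.degreeOf 0 G = d + MvPolynomial.degreeOf 0 q := by
      rw [hq, MvPolynomial.degreeOf_mul_eq hg0 hq0, hd]
    have hdpos : 0 < d := by
      by_contra h0
      have hd0 : d = 0 := by omega
      subst hd0
      apply hne
      rw [hG]
      apply Finset.sum_eq_zero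
      intro ji _
      exact ji.1.elim0
    have h2 : MvPolynomial.degreeOf 0 G < d := by
      rw [MvPolynomial.degreeOf_lt_iff hdpos]
      intro m hm
      have hsub := MvPolynomial.support_sum (s := Finset.univ)
        (f := fun ji : Fin d × Fin M => MvPolynomial.monomial (expo ji.1 ji.2) (a ji)) hm
      rw [Finset.mem_biUnion] at hsub
      obtain ⟨ji, -, hji⟩ := hsub
      have := MvPolynomial.support_monomial_subset hji
      rw [Finset.mem_singleton] at this
      rw [this, expo_zero]
      exact ji.1.2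
    omega
  intro ji
  have h1 := congrArg (MvPolynomial.coeff (expo ji.1 ji.2)) hG0
  rw [hG, MvPolynomial.coeff_sum, MvPolynomial.coeff_zero] at h1
  rw [Finset.sum_eq_single ji] at h1
  · rwa [MvPolynomial.coeff_monomial, if_pos rfl] at h1
  · intro ji' _ hne
    rw [MvPolynomial.coeff_monomial, if_neg]
    intro h
    obtain ⟨h1', h2'⟩ := expo_injective h
    exact hne (Prod.ext (Fin.ext h1') (Fin.ext h2'))
  · intro h; exact absurd (Finset.mem_univ ji) h

end

section
variable {k : Type*} [Field k] {W : Type*} [AddCommGroup W] [Module k W]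

/-- an increasing sequence of finite-dimensional subspaces with bounded codimension modulo `A`
stabilizes modulo `A` -/
theorem exists_stable (A : Submodule k W) (Lseq : ℕ → Submodule k W) (hmono : Monotone Lseq)
    (hfin : ∀ M, Module.Finite k (Lseq M)) (B : ℕ)
    (hB : ∀ M, finrank k (RelQ A (Lseq M)) ≤ B) :
    ∃ M₀, ∀ M, ∀ z ∈ Lseq M, ∃ z₀ ∈ Lseq M₀, z - z₀ ∈ A := by
  classical
  have hfinset : (Set.range fun M => finrank k (RelQ A (Lseq M))).Finite :=
    (Set.finite_Iic B).subset (by rintro _ ⟨M, rfl⟩; exact hB M)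
  obtain ⟨v, ⟨M₀, rfl⟩, hmax⟩ := Set.exists_max_image _ id hfinset ⟨_, ⟨0, rfl⟩⟩
  refine ⟨M₀, fun M z hz => ?_⟩
  set M' := max M M₀ with hM'
  have hz' : z ∈ Lseq M' := hmono (le_max_left M M₀) hz
  have hle : Lseq M₀ ≤ Lseq M' := hmono (le_max_right M M₀)
  haveI := hfin M₀
  haveI := hfin M'
  have hB1 : Lseq M₀ ≤ (Lseq M').comap (LinearMap.id : W →ₗ[k] W) := by simpa using hle
  have hA1 : A ≤ A.comap (LinearMap.id : W →ₗ[k] W) := by simp
  set φ := relQMap LinearMap.id A (Lseq M₀) A (Lseq M') hB1 hA1 with hφ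
  have hinj : Function.Injective φ := by
    apply relQMap_injective
    intro x _ hx
    simpa using hx
  have h1 : finrank k (RelQ A (Lseq M₀)) ≤ finrank k (RelQ A (Lseq M')) :=
    LinearMap.finrank_le_finrank_of_injective hinj
  have h2 : finrank k (RelQ A (Lseq M')) ≤ finrank k (RelQ A (Lseq M₀)) :=
    hmax _ ⟨M', rfl⟩
  have hsurj : Function.Surjective φ :=
    (LinearMap.injective_iff_surjective_of_finrank_eq_finrank (le_antisymm h1 h2)).mp hinj
  obtain ⟨p, hp⟩ := hsurj (Submodule.Quotient.mk ⟨z, hz'⟩)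
  obtain ⟨z₀, rfl⟩ := Submodule.Quotient.mk_surjective _ p
  refine ⟨z₀, z₀.2, ?_⟩
  rw [hφ, relQMap_mk, Submodule.Quotient.eq, Submodule.mem_comap] at hp
  have : z - (z₀ : W) = -((z₀ : W) - z) := by abel
  rw [this]
  exact A.neg_mem (by simpa using hp)

end

section
variable {k K : Type*} [Field k] [Field K] [Algebra k K]

/-- a common denominator in `k[x, y]` for a finite-dimensional space of functions -/
theorem exists_common_denominator (x y : K)
    (hxy : IntermediateField.adjoin k ({x, y} : Set K) = ⊤) (s : Finset K) :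
    ∃ q : MvPolynomial (Fin 2) k, MvPolynomial.aeval ![x, y] q ≠ 0 ∧
      ∀ z ∈ Submodule.span k (s : Set K), ∃ p : MvPolynomial (Fin 2) k,
        MvPolynomial.aeval ![x, y] q * z = MvPolynomial.aeval ![x, y] p := by
  classical
  induction s using Finset.induction_on with
  | empty =>
    refine ⟨1, by simp, ?_⟩
    intro z hz
    rw [Finset.coe_empty, Submodule.span_empty, Submodule.mem_bot] at hz
    exact ⟨0, by rw [hz]; simp⟩
  | insert z₀ s _ ih =>
    obtain ⟨q, hq0, hq⟩ := ih
    set A : Subalgebra k K := Algebra.adjoin k (Set.range ![x, y]) with hA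
    have hAtop : IntermediateField.adjoin k (A : Set K) = ⊤ := by
      rw [eq_top_iff, ← hxy, IntermediateField.adjoin_le_iff]
      intro w hw
      apply IntermediateField.subset_adjoin k _
      apply Algebra.subset_adjoin
      rw [range_pair]
      exact hw
    obtain ⟨r, hrA, hr0, hrz⟩ := frac_of_top A hAtop z₀
    rw [hA, Algebra.adjoin_range_eq_range_aeval] at hrA hrz
    obtain ⟨R, hR⟩ := hrA
    obtain ⟨R', hR'⟩ := hrz
    replace hR : MvPolynomial.aeval ![x, y] R = r := hR
    replace hR' : MvPolynomial.aeval ![x, y] R' = r * z₀ := hR'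
    refine ⟨q * R, ?_, ?_⟩
    · rw [map_mul, hR]; exact mul_ne_zero hq0 hr0
    · intro z hz
      rw [Finset.coe_insert, Submodule.mem_span_insert] at hz
      obtain ⟨a, z₁, hz₁, rfl⟩ := hz
      obtain ⟨p₁, hp₁⟩ := hq z₁ hz₁
      refine ⟨MvPolynomial.C a * q * R' + R * p₁, ?_⟩
      simp only [map_add, map_mul, MvPolynomial.aeval_C, hR, hR', ← hp₁, Algebra.smul_def]
      ring

/-- **The conductor**: a single nonzero polynomial expression `q(x, y)` multiplies every function
regular at all finite places of the plane model into `k[x, y]`. -/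
theorem exists_conductor_element [Infinite k] (hK : IsFunctionField k K) (x y : K)
    (hxy : IntermediateField.adjoin k ({x, y} : Set K) = ⊤) (f : MvPolynomial (Fin 2) k)
    (hf : Irreducible f) (hfxy : MvPolynomial.aeval ![x, y] f = 0) :
    ∃ q : MvPolynomial (Fin 2) k, MvPolynomial.aeval ![x, y] q ≠ 0 ∧
      ∀ u : K, (∀ Q : Place k K, Q.1 x ≤ 1 → Q.1 y ≤ 1 → Q.1 u ≤ 1) →
        ∃ p : MvPolynomial (Fin 2) k,
          MvPolynomial.aeval ![x, y] q * u = MvPolynomial.aeval ![x, y] p := by
  classical
  obtain ⟨c, hgirr, hgxy, hdeg0, hy'tr, hxy', hval, hdegE⟩ :=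
    exists_general_position hK x y hxy f hf hfxy
  set y' := y - c • x with hy'
  set g := shear c f with hg
  set d := f.totalDegree with hd
  set E := poleDiv k y' with hE
  have hE0 : 0 ≤ E := poleDiv_nonneg y'
  have hyy' : y = y' + c • x := by rw [hy']; ring
  have hker' := ker_aeval_pair_eq_span_of_irreducible hK x y' hxy' g hgirr hgxy
  set A_sub : Submodule k K :=
    LinearMap.range (MvPolynomial.aeval ![x, y] : MvPolynomial (Fin 2) k →ₐ[k] K).toLinearMap
    with hA_sub
  have hmemA : ∀ z, z ∈ A_sub ↔ ∃ p : MvPolynomial (Fin 2) k,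
      MvPolynomial.aeval ![x, y] p = z := by
    intro z
    rw [hA_sub, LinearMap.mem_range]
    rfl
  -- valuations of `x`, `y'` against `E`
  have hEP : ∀ P : Place k K, (0 : ℤ) ≤ E P := fun P => by
    have := hE0 P
    simpa using this
  have hvy' : ∀ P : Place k K, P.1 y' ≤ exp (E P) := by
    intro P
    apply (pole_le_iff P y' (hEP P)).mp
    rw [hE, poleDiv_apply hK]
  have hone : ∀ P : Place k K, (1 : WithZero (Multiplicative ℤ)) ≤ exp (E P) := by
    intro P
    rw [← exp_zero, exp_le_exp]
    exact hEP P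
  have hvx : ∀ P : Place k K, P.1 x ≤ exp (E P) := fun P =>
    (hval P).trans (max_le (hone P) (hvy' P))
  set Lseq : ℕ → Submodule k K := fun M => L ((M + d) • E) with hLseq
  have hsmul : ∀ (n : ℕ) (P : Place k K), (n • E) P = n * E P := by
    intro n P
    rw [Finsupp.smul_apply, nsmul_eq_mul]
  have hmono : Monotone Lseq := by
    intro M M' hMM'
    apply L_mono
    intro P
    rw [hsmul, hsmul]
    have : ((M + d : ℕ) : ℤ) ≤ ((M' + d : ℕ) : ℤ) := by exact_mod_cast Nat.add_le_add_right hMM' d
    exact mul_le_mul_of_nonneg_right this (hEP P)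
  have hfin : ∀ M, Module.Finite k (Lseq M) := fun M => L_finite hK _
  -- the bound on the codimension
  have hB : ∀ M, finrank k (RelQ A_sub (Lseq M)) ≤ d * d + 1 := by
    intro M
    haveI := hfin M
    set b : Fin d × Fin M → K := fun ji => x ^ (ji.1 : ℕ) * y' ^ (ji.2 : ℕ) with hb
    have hli : LinearIndependent k b := linearIndependent_monomials x y' g hker' d M hdeg0
    set V : Submodule k K := Submodule.span k (Set.range b) with hV
    have hVfin : finrank k V = d * M := by
      rw [hV, finrank_span_eq_card hli, Fintype.card_prod, Fintype.card_fin, Fintype.card_fin]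
    have hVL : V ≤ Lseq M := by
      rw [hV, Submodule.span_le]
      rintro _ ⟨ji, rfl⟩
      show b ji ∈ L ((M + d) • E)
      rw [mem_L]
      intro P
      rw [hsmul, hb]
      simp only [map_mul, map_pow]
      have h1 : P.1 x ^ (ji.1 : ℕ) ≤ exp (E P) ^ (ji.1 : ℕ) := pow_le_pow_left₀ zero_le (hvx P) _
      have h2 : P.1 y' ^ (ji.2 : ℕ) ≤ exp (E P) ^ (ji.2 : ℕ) := pow_le_pow_left₀ zero_le (hvy' P) _
      refine (mul_le_mul' h1 h2).trans ?_
      rw [← pow_add, ← exp_nsmul, exp_le_exp, nsmul_eq_mul]
      have h3 : (((ji.1 : ℕ) + (ji.2 : ℕ) : ℕ) : ℤ) ≤ ((M + d : ℕ) : ℤ) := by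
        have h4 := ji.1.2
        have h5 := ji.2.2
        exact_mod_cast (by omega : (ji.1 : ℕ) + (ji.2 : ℕ) ≤ M + d)
      exact mul_le_mul_of_nonneg_right h3 (hEP P)
    have hVA : V ≤ A_sub := by
      rw [hV, Submodule.span_le]
      rintro _ ⟨ji, rfl⟩
      rw [SetLike.mem_coe, hmemA]
      refine ⟨MvPolynomial.X 0 ^ (ji.1 : ℕ) *
        (MvPolynomial.X 1 - MvPolynomial.C c * MvPolynomial.X 0) ^ (ji.2 : ℕ), ?_⟩
      simp [hb, hy', Algebra.smul_def]
    set Nq : Submodule k (Lseq M) := A_sub.comap (Lseq M).subtype with hNq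
    have h1 := Submodule.finrank_quotient_add_finrank Nq
    have h2 : finrank k (V.comap (Lseq M).subtype) ≤ finrank k Nq :=
      Submodule.finrank_mono (Submodule.comap_mono hVA)
    have h3 : finrank k (V.comap (Lseq M).subtype) = finrank k V :=
      (Submodule.comapSubtypeEquivOfLe hVL).finrank_eq
    have h4 : (finrank k (Lseq M) : ℤ) ≤ ((M + d : ℕ) : ℤ) * d + 1 := by
      have h5 := ell_le_deg_add_one hK (D := (M + d) • E) (by
        intro P
        rw [hsmul]
        exact mul_nonneg (by positivity) (hEP P))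
      rw [Divisor.deg_nsmul, hdegE] at h5
      exact h5
    have h6 : finrank k (Lseq M) ≤ (M + d) * d + 1 := by exact_mod_cast h4
    show finrank k ((Lseq M) ⧸ Nq) ≤ d * d + 1
    have h7 : (M + d) * d = d * M + d * d := by ring
    omega
  obtain ⟨M₀, hM₀⟩ := exists_stable A_sub Lseq hmono hfin (d * d + 1) hB
  haveI := hfin M₀
  obtain ⟨s, hs⟩ : (Lseq M₀).FG := Module.Finite.iff_fg.mp (hfin M₀)
  obtain ⟨q, hq0, hq⟩ := exists_common_denominator x y hxy s
  refine ⟨q, hq0, fun u hu => ?_⟩
  -- `u` lies in some `Lseq M`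
  obtain ⟨M, hM⟩ : ∃ M, u ∈ Lseq M := by
    refine ⟨∑ P ∈ E.support, (-(P.ord u)).toNat, ?_⟩
    show u ∈ L _
    rw [mem_L]
    intro P
    rw [hsmul]
    by_cases hu0 : u = 0
    · rw [hu0, map_zero]; exact zero_le
    by_cases hP : P ∈ E.support
    · have hEP1 : 1 ≤ E P := by
        have h1 := hEP P
        have h2 : E P ≠ 0 := Finsupp.mem_support_iff.mp hP
        omega
      rw [Place.val_eq_exp_neg_ord P hu0, exp_le_exp]
      have h1 : (-(P.ord u)).toNat ≤ ∑ P ∈ E.support, (-(P.ord u)).toNat :=
        Finset.single_le_sum (f := fun P : Place k K => (-(P.ord u)).toNat)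
          (fun _ _ => Nat.zero_le _) hP
      have h2 : -(P.ord u) ≤ ((-(P.ord u)).toNat : ℤ) := Int.self_le_toNat _
      have h3 : (((-(P.ord u)).toNat : ℕ) : ℤ) ≤
          ((∑ P ∈ E.support, (-(P.ord u)).toNat : ℕ) : ℤ) := by exact_mod_cast h1
      set Mz : ℤ := ((∑ P ∈ E.support, (-(P.ord u)).toNat : ℕ) : ℤ) with hMz
      have h4 : (0 : ℤ) ≤ Mz := by positivity
      have h5 : Mz ≤ ((∑ P ∈ E.support, (-(P.ord u)).toNat + d : ℕ) : ℤ) * E P := by
        rw [Nat.cast_add, ← hMz]
        have h6 : (0 : ℤ) ≤ (d : ℤ) := by positivity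
        nlinarith
      omega
    · have hEP0 : E P = 0 := Finsupp.notMem_support_iff.mp hP
      rw [hEP0, mul_zero, exp_zero]
      have hy'1 : P.1 y' ≤ 1 := by
        have := hvy' P
        rwa [hEP0, exp_zero] at this
      have hx1 : P.1 x ≤ 1 := by
        have := hvx P
        rwa [hEP0, exp_zero] at this
      apply hu P hx1
      rw [hyy']
      refine (P.1.map_add _ _).trans (max_le hy'1 ?_)
      rw [Algebra.smul_def, map_mul]
      exact mul_le_one' (Place.val_algebraMap_le_one P c) hx1
  obtain ⟨z₀, hz₀, hdiff⟩ := hM₀ M u hM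
  rw [hmemA] at hdiff
  obtain ⟨p₀, hp₀⟩ := hdiff
  obtain ⟨p₁, hp₁⟩ := hq z₀ (by rw [hs]; exact hz₀)
  refine ⟨p₁ + q * p₀, ?_⟩
  rw [map_add, map_mul, ← hp₁, hp₀]
  ring

end

end Groth.Agent.H55
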