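import Groth.Agent.H55.Int2

/-! The local ring of a plane model at a point contains a power of the Jacobson radical of its
normalization (towards S11077). -/

set_option autoImplicit false
set_option linter.style.haveILetI false
set_option linter.unusedSectionVars false

namespace Groth.Agent.H55

open Polynomial FunFld WithZero Module IntermediateField

section
variable {k K : Type*} [Field k] [Field K] [Algebra k K]

/-- the local ring of the plane model `(x, y)` at the point `c`, as a `k`-subspace of `K` -/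
def locSub (x y : K) (c : Fin 2 → k) : Submodule k K where
  carrier := {z | ∃ u w : MvPolynomial (Fin 2) k, MvPolynomial.eval c w ≠ 0 ∧
    z * MvPolynomial.aeval ![x, y] w = MvPolynomial.aeval ![x, y] u}
  add_mem' := by
    rintro z₁ z₂ ⟨u₁, w₁, hw₁, h₁⟩ ⟨u₂, w₂, hw₂, h₂⟩
    refine ⟨u₁ * w₂ + u₂ * w₁, w₁ * w₂, ?_, ?_⟩
    · rw [map_mul]; exact mul_ne_zero hw₁ hw₂
    · simp only [map_add, map_mul, ← h₁, ← h₂]
      ring
  zero_mem' := ⟨0, 1, by simp, by simp⟩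
  smul_mem' := by
    rintro a z ⟨u, w, hw, h⟩
    refine ⟨MvPolynomial.C a * u, w, hw, ?_⟩
    simp only [map_mul, MvPolynomial.aeval_C, ← h, Algebra.smul_def]
    ring

theorem mem_locSub {x y : K} {c : Fin 2 → k} {z : K} :
    z ∈ locSub x y c ↔ ∃ u w : MvPolynomial (Fin 2) k, MvPolynomial.eval c w ≠ 0 ∧
      z * MvPolynomial.aeval ![x, y] w = MvPolynomial.aeval ![x, y] u := Iff.rfl

theorem aeval_mem_locSub (x y : K) (c : Fin 2 → k) (p : MvPolynomial (Fin 2) k) :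
    MvPolynomial.aeval ![x, y] p ∈ locSub x y c :=
  ⟨p, 1, by simp, by simp⟩

theorem mul_mem_locSub {x y : K} {c : Fin 2 → k} {z₁ z₂ : K} (h₁ : z₁ ∈ locSub x y c)
    (h₂ : z₂ ∈ locSub x y c) : z₁ * z₂ ∈ locSub x y c := by
  obtain ⟨u₁, w₁, hw₁, h₁⟩ := h₁
  obtain ⟨u₂, w₂, hw₂, h₂⟩ := h₂
  refine ⟨u₁ * u₂, w₁ * w₂, ?_, ?_⟩
  · rw [map_mul]; exact mul_ne_zero hw₁ hw₂
  · simp only [map_mul, ← h₁, ← h₂]
    ring

/-- elements of the local ring are integral at every place centred at the point -/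
theorem val_le_one_of_mem_locSub {x y : K} {c : Fin 2 → k} (Q : Place k K)
    (hQ : ∀ i, Q.1 (![x, y] i - algebraMap k K (c i)) < 1) {z : K} (hz : z ∈ locSub x y c) :
    Q.1 z ≤ 1 := by
  obtain ⟨u, w, hw, h⟩ := hz
  have h1 : Q.1 (MvPolynomial.aeval ![x, y] w) = 1 := (val_aeval_eq_one_iff Q hQ w).mpr hw
  have h2 : Q.1 (MvPolynomial.aeval ![x, y] u) ≤ 1 :=
    val_aeval_le_one Q (fun i => val_le_one_of_const Q (hQ i)) u
  have h3 := congrArg Q.1 h
  rw [map_mul, h1, mul_one] at h3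
  rw [h3]; exact h2

/-- killing the poles of a function at the finite places away from the point `c` by a polynomial
not vanishing at `c` -/
theorem exists_pole_killer [IsAlgClosed k] (hK : IsFunctionField k K) (x y : K) (c : Fin 2 → k)
    (z : K)
    (hz : ∀ Q : Place k K, (∀ i, Q.1 (![x, y] i - algebraMap k K (c i)) < 1) → Q.1 z ≤ 1) :
    ∃ h : MvPolynomial (Fin 2) k, MvPolynomial.eval c h ≠ 0 ∧
      ∀ Q : Place k K, Q.1 x ≤ 1 → Q.1 y ≤ 1 →
        Q.1 (MvPolynomial.aeval ![x, y] h * z) ≤ 1 := by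
  classical
  by_cases hz0 : z = 0
  · exact ⟨1, by simp, fun Q _ _ => by simp [hz0]⟩
  have hint : ∀ Q : Place k K, Q.1 x ≤ 1 → Q.1 y ≤ 1 → ∀ i, Q.1 (![x, y] i) ≤ 1 := by
    intro Q hx hy i
    fin_cases i
    · exact hx
    · exact hy
  -- a linear form vanishing at the centre of a bad place but not at `c`
  have hℓ : ∀ Q : Place k K, Q.1 x ≤ 1 → Q.1 y ≤ 1 → 1 < Q.1 z →
      ∃ ℓ : MvPolynomial (Fin 2) k, MvPolynomial.eval c ℓ ≠ 0 ∧
        Q.1 (MvPolynomial.aeval ![x, y] ℓ) < 1 := by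
    intro Q hx hy hpole
    have hdeg1 : Q.deg = 1 := Place.deg_eq_one_of_isAlgClosed hK Q
    choose cQ hcQ using fun i => Place.exists_const_sub_lt_one hdeg1 (hint Q hx hy i)
    have hne : ∃ i, cQ i ≠ c i := by
      by_contra hcon
      push Not at hcon
      have := hz Q (fun i => by rw [← hcon i]; exact hcQ i)
      exact absurd hpole (not_lt.mpr this)
    obtain ⟨i, hi⟩ := hne
    refine ⟨MvPolynomial.X i - MvPolynomial.C (cQ i), ?_, ?_⟩
    · rw [map_sub, MvPolynomial.eval_X, MvPolynomial.eval_C]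
      exact sub_ne_zero.mpr (Ne.symm hi)
    · rw [map_sub, MvPolynomial.aeval_X, MvPolynomial.aeval_C]
      exact hcQ i
  set T : Finset (Place k K) := (Place.finite_poles hK hz0).toFinset.filter
    (fun Q => Q.1 x ≤ 1 ∧ Q.1 y ≤ 1) with hT
  have hmemT : ∀ Q, Q ∈ T ↔ 1 < Q.1 z ∧ Q.1 x ≤ 1 ∧ Q.1 y ≤ 1 := by
    intro Q
    rw [hT, Finset.mem_filter, Set.Finite.mem_toFinset]
    rfl
  let ℓ : Place k K → MvPolynomial (Fin 2) k := fun Q =>
    if h : Q.1 x ≤ 1 ∧ Q.1 y ≤ 1 ∧ 1 < Q.1 z then Classical.choose (hℓ Q h.1 h.2.1 h.2.2) else 1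
  have hℓspec : ∀ Q ∈ T, MvPolynomial.eval c (ℓ Q) ≠ 0 ∧
      Q.1 (MvPolynomial.aeval ![x, y] (ℓ Q)) < 1 := by
    intro Q hQ
    obtain ⟨h1, h2, h3⟩ := (hmemT Q).mp hQ
    have hcond : Q.1 x ≤ 1 ∧ Q.1 y ≤ 1 ∧ 1 < Q.1 z := ⟨h2, h3, h1⟩
    simp only [ℓ, dif_pos hcond]
    exact Classical.choose_spec (hℓ Q h2 h3 h1)
  let n : Place k K → ℕ := fun Q => (-(Q.ord z)).toNat
  refine ⟨∏ Q ∈ T, ℓ Q ^ n Q, ?_, ?_⟩
  · rw [map_prod, Finset.prod_ne_zero_iff]
    intro Q hQ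
    rw [map_pow]
    exact pow_ne_zero _ (hℓspec Q hQ).1
  · intro Q' hx hy
    have hfac : ∀ Q, Q'.1 (MvPolynomial.aeval ![x, y] (ℓ Q ^ n Q)) ≤ 1 := fun Q =>
      val_aeval_le_one Q' (hint Q' hx hy) _
    rw [map_mul, map_prod, map_prod]
    by_cases hQ' : Q' ∈ T
    · rw [← Finset.mul_prod_erase T _ hQ', mul_assoc, mul_comm (∏ _ ∈ _, _), ← mul_assoc]
      have h1 : ∏ Q ∈ T.erase Q', Q'.1 (MvPolynomial.aeval ![x, y] (ℓ Q ^ n Q)) ≤ 1 :=
        Finset.prod_le_one' (fun Q _ => hfac Q)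
      have h2 : Q'.1 (MvPolynomial.aeval ![x, y] (ℓ Q' ^ n Q')) * Q'.1 z ≤ 1 := by
        rw [map_pow, map_pow, Place.val_eq_exp_neg_ord Q' hz0]
        have h3 : Q'.1 (MvPolynomial.aeval ![x, y] (ℓ Q')) ≤ exp (-1 : ℤ) :=
          lt_one_iff_le_exp_neg_one.mp (hℓspec Q' hQ').2
        calc Q'.1 (MvPolynomial.aeval ![x, y] (ℓ Q')) ^ n Q' * exp (-(Q'.ord z))
            ≤ exp (-1 : ℤ) ^ n Q' * exp (-(Q'.ord z)) :=
              mul_le_mul' (pow_le_pow_left₀ zero_le h3 _) le_rfl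
          _ = exp ((n Q' : ℤ) * (-1) + -(Q'.ord z)) := by
              rw [← exp_nsmul, nsmul_eq_mul, ← exp_add]
          _ ≤ 1 := by
              rw [← exp_zero, exp_le_exp]
              have : -(Q'.ord z) ≤ ((-(Q'.ord z)).toNat : ℤ) := Int.self_le_toNat _
              show ((-(Q'.ord z)).toNat : ℤ) * (-1) + -(Q'.ord z) ≤ 0
              omega
      calc Q'.1 (MvPolynomial.aeval ![x, y] (ℓ Q' ^ n Q')) * Q'.1 z *
            ∏ Q ∈ T.erase Q', Q'.1 (MvPolynomial.aeval ![x, y] (ℓ Q ^ n Q))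
          ≤ 1 * 1 := mul_le_mul' h2 h1
        _ = 1 := one_mul 1
    · have h1 : ∏ Q ∈ T, Q'.1 (MvPolynomial.aeval ![x, y] (ℓ Q ^ n Q)) ≤ 1 :=
        Finset.prod_le_one' (fun Q _ => hfac Q)
      have h2 : Q'.1 z ≤ 1 := by
        by_contra hcon
        push Not at hcon
        exact hQ' ((hmemT Q').mpr ⟨hcon, hx, hy⟩)
      calc _ ≤ (1 : WithZero (Multiplicative ℤ)) * 1 := mul_le_mul' h1 h2
        _ = 1 := one_mul 1

/-- **Claim 1**: the local ring at `c` contains all functions vanishing to high order at the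
places centred at `c`. -/
theorem exists_CS_le_locSub [IsAlgClosed k] (hK : IsFunctionField k K) (x y : K)
    (hxy : IntermediateField.adjoin k ({x, y} : Set K) = ⊤) (f : MvPolynomial (Fin 2) k)
    (hf : Irreducible f) (hfxy : MvPolynomial.aeval ![x, y] f = 0) (c : Fin 2 → k)
    (S : Finset (Place k K))
    (hS : ∀ Q : Place k K, Q ∈ S ↔ ∀ i, Q.1 (![x, y] i - algebraMap k K (c i)) < 1) :
    ∃ N : ℕ, CS S (fun _ => (N : ℤ)) ≤ locSub x y c := by
  classical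
  haveI : Infinite k := IsAlgClosed.instInfinite
  obtain ⟨q, hq0, hq⟩ := exists_conductor_element hK x y hxy f hf hfxy
  set δ := MvPolynomial.aeval ![x, y] q with hδ
  refine ⟨∑ Q ∈ S, (Q.ord δ).toNat, ?_⟩
  intro z hz
  rw [mem_CS] at hz
  have hz' : ∀ Q : Place k K, (∀ i, Q.1 (![x, y] i - algebraMap k K (c i)) < 1) →
      Q.1 (z / δ) ≤ 1 := by
    intro Q hQ
    have hQS : Q ∈ S := (hS Q).mpr hQ
    have h1 := hz Q hQS
    rw [map_div₀, Place.val_eq_exp_neg_ord Q hq0]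
    have hne : exp (-(Q.ord δ)) ≠ 0 := exp_ne_zero
    rw [div_le_iff₀ (zero_lt_iff.mpr hne), one_mul]
    refine h1.trans ?_
    rw [exp_le_exp]
    have h2 : (Q.ord δ).toNat ≤ ∑ Q ∈ S, (Q.ord δ).toNat :=
      Finset.single_le_sum (f := fun Q : Place k K => (Q.ord δ).toNat)
        (fun _ _ => Nat.zero_le _) hQS
    have h3 : Q.ord δ ≤ ((Q.ord δ).toNat : ℤ) := Int.self_le_toNat _
    have h4 : (((Q.ord δ).toNat : ℕ) : ℤ) ≤ ((∑ Q ∈ S, (Q.ord δ).toNat : ℕ) : ℤ) := by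
      exact_mod_cast h2
    omega
  obtain ⟨h, hhc, hh⟩ := exists_pole_killer hK x y c (z / δ) hz'
  obtain ⟨p, hp⟩ := hq (MvPolynomial.aeval ![x, y] h * (z / δ)) hh
  refine ⟨p, h, hhc, ?_⟩
  rw [← hp]
  field_simp

/-- the core of S11077: the codimension of `γ O_c` in the local ring `O_c` of the plane model is
the sum of the orders of `γ` at the places centred at `c` -/
theorem finrank_locSub_quot [IsAlgClosed k] (hK : IsFunctionField k K) (x y : K)
    (hxy : IntermediateField.adjoin k ({x, y} : Set K) = ⊤) (f : MvPolynomial (Fin 2) k)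
    (hf : Irreducible f) (hfxy : MvPolynomial.aeval ![x, y] f = 0) (c : Fin 2 → k)
    (S : Finset (Place k K))
    (hS : ∀ Q : Place k K, Q ∈ S ↔ ∀ i, Q.1 (![x, y] i - algebraMap k K (c i)) < 1)
    (γ : K) (hγ : γ ∈ locSub x y c) (hγ0 : γ ≠ 0) :
    (finrank k (RelQ ((locSub x y c).map (LinearMap.mulLeft k γ)) (locSub x y c)) : ℤ) =
      ∑ Q ∈ S, Q.ord γ := by
  obtain ⟨N, hN⟩ := exists_CS_le_locSub hK x y hxy f hf hfxy c S hS
  apply finrank_relQ_mul hK S (fun Q _ => Place.deg_eq_one_of_isAlgClosed hK Q) (locSub x y c) N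
    ?_ hN γ hγ0 ?_ (fun z hz => mul_mem_locSub hγ hz)
  · intro z hz
    rw [mem_CS]
    intro Q hQ
    rw [neg_zero, exp_zero]
    exact val_le_one_of_mem_locSub Q ((hS Q).mp hQ) hz
  · intro Q hQ
    exact val_le_one_of_mem_locSub Q ((hS Q).mp hQ) hγ

end

end Groth.Agent.H55
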