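import Groth.Agent.H55.Int3

/-! S11077: intersection multiplicity as the length of the local quotient. -/

set_option autoImplicit false
set_option linter.style.haveILetI false
set_option linter.unusedSectionVars false

namespace Groth.Agent.H55

open Polynomial FunFld WithZero Module IntermediateField

section
variable {k K : Type*} [Field k] [Field K] [Algebra k K]

theorem val_div_sub_lt_one (P : Place k K) {u v : K} {a a₀ : k} (ha₀ : a₀ ≠ 0)
    (hu : P.1 (u - algebraMap k K a) < 1) (hv : P.1 (v - algebraMap k K a₀) < 1) :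
    P.1 (u / v - algebraMap k K (a / a₀)) < 1 := by
  have hv1 : P.1 v = 1 := val_eq_one_of_const_ne_zero P hv ha₀
  have hv0 : v ≠ 0 := by
    intro h; rw [h, map_zero] at hv1; exact zero_ne_one hv1
  have ha₀' : algebraMap k K a₀ ≠ 0 := by
    rwa [Ne, map_eq_zero_iff _ (algebraMap k K).injective]
  have h1 : u / v - algebraMap k K (a / a₀) =
      ((u - algebraMap k K a) * algebraMap k K a₀ -
        algebraMap k K a * (v - algebraMap k K a₀)) / (v * algebraMap k K a₀) := by
    rw [map_div₀]
    field_simp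
    ring
  rw [h1, map_div₀, map_mul, hv1, Place.val_algebraMap_eq_one P ha₀, mul_one, div_one]
  apply lt_of_le_of_lt (P.1.map_sub _ _)
  apply max_lt
  · rw [map_mul, Place.val_algebraMap_eq_one P ha₀, mul_one]; exact hu
  · rw [map_mul]
    calc P.1 (algebraMap k K a) * P.1 (v - algebraMap k K a₀)
        ≤ 1 * P.1 (v - algebraMap k K a₀) :=
          mul_le_mul_left (Place.val_algebraMap_le_one P a) _
      _ = _ := one_mul _
      _ < 1 := hv

theorem const_unique (P : Place k K) {z : K} {b c : k} (hb : P.1 (z - algebraMap k K b) < 1)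
    (hc : P.1 (z - algebraMap k K c) < 1) : b = c := by
  have h1 : algebraMap k K (b - c) = (z - algebraMap k K c) - (z - algebraMap k K b) := by
    rw [map_sub]; ring
  have h2 : P.1 (algebraMap k K (b - c)) < 1 := by
    rw [h1]
    exact lt_of_le_of_lt (P.1.map_sub _ _) (max_lt hc hb)
  exact sub_eq_zero.mp (const_eq_zero_of_val_lt_one P h2)

/-- the fibre of the plane map over a finite point -/
theorem sameImage_plane_iff (x y : K) (P : Place k K) (c : Fin 2 → k)
    (hc : ∀ i, P.1 (![x, y] i - algebraMap k K (c i)) < 1) (Q : Place k K) :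
    SameImage ![(1 : K), x, y] P Q ↔ ∀ i, Q.1 (![x, y] i - algebraMap k K (c i)) < 1 := by
  constructor
  · rintro ⟨j, hj0, hjP, hjQ, hcc⟩
    have hPle : ∀ i, P.1 (![(1 : K), x, y] i) ≤ 1 := by
      intro i
      fin_cases i
      · simp
      · exact val_le_one_of_const P (hc 0)
      · exact val_le_one_of_const P (hc 1)
    have hPj : P.1 (![(1 : K), x, y] j) = 1 := by
      apply le_antisymm (hPle j)
      have := hjP 0
      simpa using this
    obtain ⟨a₀, ha₀P, ha₀Q⟩ := hcc 0
    have h10 : ![(1 : K), x, y] 0 / ![(1 : K), x, y] j = 1 / ![(1 : K), x, y] j := by simp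
    rw [h10] at ha₀P ha₀Q
    have ha₀ : a₀ ≠ 0 := by
      intro h0
      have := (val_lt_one_iff_const_zero P ha₀P).mpr h0
      rw [map_div₀, hPj, map_one, div_one] at this
      exact lt_irrefl _ this
    have key : ∀ i : Fin 3, ∀ b : k, P.1 (![(1 : K), x, y] i - algebraMap k K b) < 1 →
        Q.1 (![(1 : K), x, y] i - algebraMap k K b) < 1 := by
      intro i b hb
      obtain ⟨a, haP, haQ⟩ := hcc i
      have hdiv : ![(1 : K), x, y] i =
          (![(1 : K), x, y] i / ![(1 : K), x, y] j) / (1 / ![(1 : K), x, y] j) := by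
        field_simp
      have hP' := val_div_sub_lt_one P ha₀ haP ha₀P
      have hQ' := val_div_sub_lt_one Q ha₀ haQ ha₀Q
      rw [← hdiv] at hP' hQ'
      have := const_unique P hP' hb
      rw [← this]
      exact hQ'
    intro i
    fin_cases i
    · exact key 1 (c 0) (hc 0)
    · exact key 2 (c 1) (hc 1)
  · intro hQ
    refine ⟨0, by simp, ?_, ?_, ?_⟩
    · intro i
      fin_cases i
      · simp
      · simpa using val_le_one_of_const P (hc 0)
      · simpa using val_le_one_of_const P (hc 1)
    · intro i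
      fin_cases i
      · simp
      · simpa using val_le_one_of_const Q (hQ 0)
      · simpa using val_le_one_of_const Q (hQ 1)
    · intro i
      fin_cases i
      · exact ⟨1, by simp, by simp⟩
      · exact ⟨c 0, by simpa using hc 0, by simpa using hQ 0⟩
      · exact ⟨c 1, by simpa using hc 1, by simpa using hQ 1⟩

theorem mem_pointIdeal_iff (c : Fin 2 → k) (M : Ideal (MvPolynomial (Fin 2) k)) [hMmax : M.IsMaximal]
    (hM : M = Ideal.span {MvPolynomial.X 0 - MvPolynomial.C (c 0),
      MvPolynomial.X 1 - MvPolynomial.C (c 1)}) (p : MvPolynomial (Fin 2) k) :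
    p ∈ M ↔ MvPolynomial.eval c p = 0 := by
  have hle : M ≤ RingHom.ker (MvPolynomial.eval c) := by
    rw [hM, Ideal.span_le]
    rintro _ (rfl | rfl) <;> simp [RingHom.mem_ker]
  have hne : RingHom.ker (MvPolynomial.eval c) ≠ ⊤ := RingHom.ker_ne_top _
  have heq : M = RingHom.ker (MvPolynomial.eval c) := hMmax.eq_of_le hne hle
  rw [heq, RingHom.mem_ker]

/-- Step A: the local quotient `A_M / (f, g)` is the quotient of the concrete local ring of the
curve by `g(x, y)`. -/
theorem finrank_localization_quot (hK : IsFunctionField k K) (x y : K)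
    (hxy : IntermediateField.adjoin k ({x, y} : Set K) = ⊤) (f g : MvPolynomial (Fin 2) k)
    (hf : Irreducible f) (hfxy : MvPolynomial.aeval ![x, y] f = 0)
    (P : Place k K) (c : Fin 2 → k)
    (hc : ∀ i, P.1 (![x, y] i - algebraMap k K (c i)) < 1)
    (M : Ideal (MvPolynomial (Fin 2) k)) [M.IsMaximal]
    (hM : M = Ideal.span {MvPolynomial.X 0 - MvPolynomial.C (c 0),
      MvPolynomial.X 1 - MvPolynomial.C (c 1)}) :
    Module.finrank k (Localization.AtPrime M ⧸
        Ideal.map (algebraMap (MvPolynomial (Fin 2) k) (Localization.AtPrime M))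
          (Ideal.span {f, g})) =
      Module.finrank k (RelQ ((locSub x y c).map
        (LinearMap.mulLeft k (MvPolynomial.aeval ![x, y] g))) (locSub x y c)) := by
  classical
  set ev : (MvPolynomial (Fin 2) k) →ₐ[k] K := MvPolynomial.aeval ![x, y] with hev
  set γ := ev g with hγ
  set R := locSub x y c with hR
  have hMmem : ∀ p : (MvPolynomial (Fin 2) k), p ∈ M ↔ MvPolynomial.eval c p = 0 := mem_pointIdeal_iff c M hM
  have hne0 : ∀ w : (MvPolynomial (Fin 2) k), w ∉ M → ev w ≠ 0 := by
    intro w hw h0
    have h1 : MvPolynomial.eval c w ≠ 0 := fun h => hw ((hMmem w).mpr h)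
    have h2 := (val_aeval_eq_one_iff P hc w).mpr h1
    rw [show MvPolynomial.aeval ![x, y] w = ev w from rfl, h0, map_zero] at h2
    exact zero_ne_one h2
  have hunit : ∀ w : M.primeCompl, IsUnit (ev w) := fun w => (hne0 w.1 w.2).isUnit
  set evM : (Localization.AtPrime M) →ₐ[k] K := IsLocalization.liftAlgHom (M := M.primeCompl) (S := (Localization.AtPrime M)) hunit
    with hevM
  have hevM_alg : ∀ p : (MvPolynomial (Fin 2) k), evM (algebraMap (MvPolynomial (Fin 2) k) (Localization.AtPrime M) p) = ev p := by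
    intro p
    rw [hevM, IsLocalization.liftAlgHom_apply, IsLocalization.lift_eq]
    rfl
  have hevM_mk : ∀ (p : (MvPolynomial (Fin 2) k)) (w : M.primeCompl),
      evM (IsLocalization.mk' (Localization.AtPrime M) p w) * ev w = ev p := by
    intro p w
    rw [← hevM_alg w, ← map_mul, IsLocalization.mk'_spec, hevM_alg]
  -- range of `evM`
  have hrange : ∀ a : (Localization.AtPrime M), evM a ∈ R := by
    intro a
    obtain ⟨p, w, rfl⟩ := IsLocalization.exists_mk'_eq M.primeCompl a
    exact ⟨p, w.1, fun h => w.2 ((hMmem w.1).mpr h), hevM_mk p w⟩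
  have hrange' : ∀ z ∈ R, ∃ a : (Localization.AtPrime M), evM a = z := by
    rintro z ⟨u, w, hw, h⟩
    have hwM : w ∉ M := fun hmem => hw ((hMmem w).mp hmem)
    refine ⟨IsLocalization.mk' (Localization.AtPrime M) u (⟨w, hwM⟩ : M.primeCompl), ?_⟩
    have h1 := hevM_mk u ⟨w, hwM⟩
    have h2 : ev w ≠ 0 := hne0 w hwM
    apply mul_right_cancel₀ h2
    rw [h1]
    exact h.symm
  -- kernel of `evM`
  have hkerev := ker_aeval_pair_eq_span_of_irreducible hK x y hxy f hf hfxy
  set I : Ideal (Localization.AtPrime M) := Ideal.map (algebraMap (MvPolynomial (Fin 2) k) (Localization.AtPrime M)) (Ideal.span {f, g}) with hI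
  have hfI : algebraMap (MvPolynomial (Fin 2) k) (Localization.AtPrime M) f ∈ I :=
    Ideal.mem_map_of_mem _ (Ideal.subset_span (by simp))
  have hgI : algebraMap (MvPolynomial (Fin 2) k) (Localization.AtPrime M) g ∈ I :=
    Ideal.mem_map_of_mem _ (Ideal.subset_span (by simp))
  have hker : ∀ a : (Localization.AtPrime M), evM a = 0 → a ∈ I := by
    intro a ha
    obtain ⟨p, w, rfl⟩ := IsLocalization.exists_mk'_eq M.primeCompl a
    have h1 := hevM_mk p w
    rw [ha, zero_mul] at h1
    have h2 : p ∈ RingHom.ker ev := RingHom.mem_ker.mpr h1.symm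
    rw [hev, hkerev, Ideal.mem_span_singleton] at h2
    obtain ⟨p', rfl⟩ := h2
    have h3 : IsLocalization.mk' (Localization.AtPrime M) (f * p') w =
        algebraMap (MvPolynomial (Fin 2) k) (Localization.AtPrime M) f * IsLocalization.mk' (Localization.AtPrime M) p' w := by
      rw [IsLocalization.mul_mk'_eq_mk'_of_mul]
    rw [h3]
    exact I.mul_mem_right _ hfI
  -- the map to the relative quotient
  set γR : Submodule k K := R.map (LinearMap.mulLeft k γ) with hγR
  let evR : (Localization.AtPrime M) →ₗ[k] R := LinearMap.codRestrict R evM.toLinearMap hrange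
  let Ψ : (Localization.AtPrime M) →ₗ[k] RelQ γR R := (Submodule.mkQ _).comp evR
  have hΨsurj : Function.Surjective Ψ := by
    intro q
    obtain ⟨z, rfl⟩ := Submodule.Quotient.mk_surjective _ q
    obtain ⟨a, ha⟩ := hrange' z.1 z.2
    refine ⟨a, ?_⟩
    show Submodule.Quotient.mk (evR a) = Submodule.Quotient.mk z
    congr 1
    exact Subtype.ext ha
  have hΨker : I.restrictScalars k = LinearMap.ker Ψ := by
    ext a
    rw [Submodule.restrictScalars_mem, LinearMap.mem_ker]
    show a ∈ I ↔ Submodule.Quotient.mk (evR a) = 0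
    rw [Submodule.Quotient.mk_eq_zero, Submodule.mem_comap]
    show a ∈ I ↔ evM a ∈ γR
    rw [hγR, Submodule.mem_map]
    constructor
    · intro ha
      rw [hI, Ideal.map_span, Set.image_pair, Ideal.mem_span_pair] at ha
      obtain ⟨a₁, a₂, rfl⟩ := ha
      refine ⟨evM a₂, hrange a₂, ?_⟩
      rw [LinearMap.mulLeft_apply, map_add, map_mul, map_mul, hevM_alg, hevM_alg]
      show γ * evM a₂ = evM a₁ * ev f + evM a₂ * γ
      rw [show ev f = 0 from hfxy, mul_zero, zero_add, mul_comm]
    · rintro ⟨w, hw, hwa⟩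
      obtain ⟨b, rfl⟩ := hrange' w hw
      rw [LinearMap.mulLeft_apply] at hwa
      have h1 : evM (a - algebraMap (MvPolynomial (Fin 2) k) (Localization.AtPrime M) g * b) = 0 := by
        rw [map_sub, map_mul, hevM_alg, ← hwa]
        exact sub_self _
      have h2 := hker _ h1
      have h3 : a = (a - algebraMap (MvPolynomial (Fin 2) k) (Localization.AtPrime M) g * b) + algebraMap (MvPolynomial (Fin 2) k) (Localization.AtPrime M) g * b := by ring
      rw [h3]
      exact I.add_mem h2 (I.mul_mem_right _ hgI)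
  let e1 : ((Localization.AtPrime M) ⧸ I) ≃ₗ[k] ((Localization.AtPrime M) ⧸ I.restrictScalars k) :=
    (Submodule.Quotient.restrictScalarsEquiv k I).symm
  let e2 : ((Localization.AtPrime M) ⧸ I.restrictScalars k) ≃ₗ[k] ((Localization.AtPrime M) ⧸ LinearMap.ker Ψ) :=
    Submodule.quotEquivOfEq _ _ hΨker
  let e3 : ((Localization.AtPrime M) ⧸ LinearMap.ker Ψ) ≃ₗ[k] RelQ γR R := Ψ.quotKerEquivOfSurjective hΨsurj
  exact (e1.trans (e2.trans e3)).finrank_eq

/-- S11077 -/
theorem intersectionMult_eq_finrank [IsAlgClosed k] (hK : IsFunctionField k K) (x y : K)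
    (hxy : IntermediateField.adjoin k ({x, y} : Set K) = ⊤) (f g : MvPolynomial (Fin 2) k)
    (hf : Irreducible f) (hfxy : MvPolynomial.aeval ![x, y] f = 0)
    (hgxy : MvPolynomial.aeval ![x, y] g ≠ 0) (P : Place k K) (c : Fin 2 → k)
    (hc : ∀ i, P.1 (![x, y] i - algebraMap k K (c i)) < 1)
    (M : Ideal (MvPolynomial (Fin 2) k)) [M.IsMaximal]
    (hM : M = Ideal.span {MvPolynomial.X 0 - MvPolynomial.C (c 0),
      MvPolynomial.X 1 - MvPolynomial.C (c 1)}) :
    ∑ᶠ Q ∈ {Q : Place k K | SameImage ![(1 : K), x, y] P Q},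
        Q.ord (MvPolynomial.aeval ![x, y] g) =
      (Module.finrank k (Localization.AtPrime M ⧸
        Ideal.map (algebraMap (MvPolynomial (Fin 2) k) (Localization.AtPrime M))
          (Ideal.span {f, g})) : ℤ) := by
  classical
  have hset : {Q : Place k K | SameImage ![(1 : K), x, y] P Q} =
      {Q : Place k K | ∀ i, Q.1 (![x, y] i - algebraMap k K (c i)) < 1} := by
    ext Q
    exact sameImage_plane_iff x y P c hc Q
  -- finiteness of the fibre
  have hfin : {Q : Place k K | ∀ i, Q.1 (![x, y] i - algebraMap k K (c i)) < 1}.Finite := by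
    rcases transcendental_or_of_adjoin_pair hK hxy with hx | hy
    · have h0 : x - algebraMap k K (c 0) ≠ 0 := by
        intro h
        apply hx
        rw [sub_eq_zero.mp h]
        exact isAlgebraic_algebraMap _
      refine (Place.finite_zeros hK h0).subset ?_
      intro Q hQ
      exact hQ 0
    · have h0 : y - algebraMap k K (c 1) ≠ 0 := by
        intro h
        apply hy
        rw [sub_eq_zero.mp h]
        exact isAlgebraic_algebraMap _
      refine (Place.finite_zeros hK h0).subset ?_
      intro Q hQ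
      exact hQ 1
  rw [hset, finsum_mem_eq_finite_toFinset_sum _ hfin]
  have hS : ∀ Q : Place k K, Q ∈ hfin.toFinset ↔
      ∀ i, Q.1 (![x, y] i - algebraMap k K (c i)) < 1 := by
    intro Q
    rw [Set.Finite.mem_toFinset]
    rfl
  rw [finrank_localization_quot hK x y hxy f g hf hfxy P c hc M hM]
  exact (finrank_locSub_quot hK x y hxy f hf hfxy c hfin.toFinset hS
    (MvPolynomial.aeval ![x, y] g) (aeval_mem_locSub x y c g) hgxy).symm

end

end Groth.Agent.H55
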