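import Groth.Agent.H55.Hyp3
import Mathlib.RingTheory.Unramified.Field
import Mathlib.RingTheory.Valuation.Integral

set_option autoImplicit false

namespace Groth.Agent.H55

open FunFld WithZero Module IntermediateField Polynomial
open scoped TensorProduct

universe u v

section General

variable {k K : Type*} [Field k] [Field K] [Algebra k K]

/-- a valuation that is `≤ 1` on the image of `R` is `≤ 1` on elements integral over `R` -/
theorem val_le_one_of_isIntegral {R Γ : Type*} [CommRing R] [Algebra R K]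
    [LinearOrderedCommGroupWithZero Γ] (v : Valuation K Γ)
    (hR : ∀ r : R, v (algebraMap R K r) ≤ 1) {z : K} (hz : IsIntegral R z) : v z ≤ 1 := by
  let φ : R →+* v.integer := (algebraMap R K).codRestrict v.integer hR
  have h1 : IsIntegral v.integer z := by
    have := hz.map_of_comp_eq φ (RingHom.id K) (by ext r; rfl)
    simpa using this
  exact (Valuation.integer.integers v).mem_of_integral h1

/-- a place centred at a maximal ideal of a `k`-algebra mapping to `K` -/
theorem exists_place_of_isMaximal (hK : IsFunctionField k K) {R : Type*} [CommRing R]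
    [Algebra k R] (ι : R →ₐ[k] K) (𝔫 : Ideal R) [h𝔫 : 𝔫.IsMaximal] (hker : RingHom.ker ι ≤ 𝔫)
    (r : R) (hr : r ∈ 𝔫) (hr0 : ι r ≠ 0) :
    ∃ Q : Place k K, (∀ a, Q.1 (ι a) ≤ 1) ∧ (∀ a ∈ 𝔫, Q.1 (ι a) < 1) ∧
      ∀ a, a ∉ 𝔫 → Q.1 (ι a) = 1 := by
  let A : Subalgebra k K := ι.range
  let φ : R →+* A.toSubring := ι.toRingHom.codRestrict A.toSubring (fun a => ⟨a, rfl⟩)
  have hφ : Function.Surjective φ := by
    rintro ⟨x, a, rfl⟩
    exact ⟨a, rfl⟩
  let I : Ideal A.toSubring := 𝔫.map φ
  have hI : I ≠ ⊤ := by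
    intro h
    have h1 : (1 : A.toSubring) ∈ I := by rw [h]; trivial
    obtain ⟨a, ha, hφa⟩ := (Ideal.mem_map_iff_of_surjective φ hφ).mp h1
    have h2 : ι a = 1 := congrArg Subtype.val hφa
    have h3 : a - 1 ∈ RingHom.ker ι := by
      rw [RingHom.mem_ker, map_sub, h2, map_one, sub_self]
    have h4 : (1 : R) ∈ 𝔫 := by
      have := 𝔫.sub_mem ha (hker h3)
      simpa using this
    exact h𝔫.ne_top ((Ideal.eq_top_iff_one _).mpr h4)
  obtain ⟨Q, hQ1, hQ2⟩ := exists_place_center hK A I hI (φ r) (Ideal.mem_map_of_mem φ hr) hr0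
  have hQ1' : ∀ a, Q.1 (ι a) ≤ 1 := fun a => hQ1 _ ⟨a, rfl⟩
  have hQ2' : ∀ a ∈ 𝔫, Q.1 (ι a) < 1 := fun a ha => hQ2 (φ a) (Ideal.mem_map_of_mem φ ha)
  refine ⟨Q, hQ1', hQ2', ?_⟩
  intro a ha
  obtain ⟨s, u, hu, hsu⟩ := h𝔫.exists_inv ha
  have h1 : ι s * ι a = 1 - ι u := by
    rw [← map_mul, ← map_one ι, ← hsu, map_add, add_sub_cancel_right]
  have h2 : Q.1 (ι s) * Q.1 (ι a) = 1 := by
    rw [← map_mul, h1]
    exact Valuation.map_one_sub_of_lt _ (hQ2' u hu)
  by_contra hne
  have hlt : Q.1 (ι a) < 1 := lt_of_le_of_ne (hQ1' a) hne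
  have : Q.1 (ι s) * Q.1 (ι a) < 1 :=
    calc Q.1 (ι s) * Q.1 (ι a) ≤ 1 * Q.1 (ι a) := mul_le_mul_left (hQ1' s) _
      _ < 1 := by rwa [one_mul]
  rw [h2] at this
  exact lt_irrefl _ this

/-- `k' ⊗ F` is reduced for `F/k` finite separable -/
theorem isReduced_tensor_of_isSeparable_right {k k' F : Type*} [Field k] [Field k'] [Field F]
    [Algebra k k'] [Algebra k F] [FiniteDimensional k F] [Algebra.IsSeparable k F] :
    IsReduced (k' ⊗[k] F) := by
  haveI : Algebra.FormallyUnramified k F := Algebra.FormallyUnramified.of_isSeparable k F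
  exact Algebra.FormallyUnramified.isReduced_of_field k' (k' ⊗[k] F)

/-- `k' ⊗ F` is reduced for `k'/k` finite separable -/
theorem isReduced_tensor_of_isSeparable_left {k k' F : Type*} [Field k] [Field k'] [Field F]
    [Algebra k k'] [Algebra k F] [FiniteDimensional k k'] [Algebra.IsSeparable k k'] :
    IsReduced (k' ⊗[k] F) := by
  haveI : IsReduced (F ⊗[k] k') := isReduced_tensor_of_isSeparable_right
  exact isReduced_of_injective (Algebra.TensorProduct.comm k k' F).toRingEquiv.toRingHom
    (Algebra.TensorProduct.comm k k' F).injective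

end General

section ConstExt

variable {k k' : Type u} {K K' : Type v} [Field k] [Field k'] [Field K] [Field K']
  [Algebra k k'] [Algebra k K] [Algebra K K'] [Algebra k' K'] [Algebra k K']
  [IsScalarTower k k' K'] [IsScalarTower k K K']

/-- the map `k' ⊗ O_P → K'` -/
noncomputable def iotaO (P : Place k K) : k' ⊗[k] P.O →ₐ[k'] K' :=
  Algebra.TensorProduct.productLeftAlgHom (Algebra.ofId k' K')
    ((IsScalarTower.toAlgHom k K K').comp (Place.valA P))

theorem iotaO_tmul (P : Place k K) (a : k') (b : P.O) :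
    iotaO (K' := K') P (a ⊗ₜ b) = algebraMap k' K' a * algebraMap K K' (b : K) := rfl

theorem iotaO_injective
    (h : Function.Bijective (Algebra.TensorProduct.productMap
      (IsScalarTower.toAlgHom k k' K') (IsScalarTower.toAlgHom k K K'))) (P : Place k K) :
    Function.Injective (iotaO (k' := k') (K' := K') P) := by
  have h1 : ∀ x, iotaO (k' := k') (K' := K') P x =
      constExtEquiv h (Algebra.TensorProduct.map (AlgHom.id k k') (Place.valA P) x) := by
    intro x
    induction x using TensorProduct.induction_on with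
    | zero => simp
    | tmul a b => rfl
    | add x y hx hy => rw [map_add, map_add, map_add, hx, hy]
  have h2 : Function.Injective (Algebra.TensorProduct.map (AlgHom.id k k') (Place.valA P)) := by
    have : Function.Injective (LinearMap.lTensor k' (Place.valA P).toLinearMap) :=
      Module.Flat.lTensor_preserves_injective_linearMap _ Subtype.val_injective
    exact this
  intro x y hxy
  rw [h1, h1] at hxy
  exact h2 ((constExtEquiv h).injective hxy)

variable {F : Type*} [Field F] [Algebra k F]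

/-- reduction `k' ⊗ O_P → k' ⊗ F_P` -/
noncomputable def rhoO {P : Place k K} (res : P.O →ₐ[k] F) :
    k' ⊗[k] P.O →ₐ[k] k' ⊗[k] F :=
  Algebra.TensorProduct.map (AlgHom.id k k') res

theorem rhoO_tmul {P : Place k K} (res : P.O →ₐ[k] F) (a : k') (b : P.O) :
    rhoO (k' := k') res (a ⊗ₜ b) = a ⊗ₜ res b := rfl

theorem rhoO_surjective {P : Place k K} (res : P.O →ₐ[k] F) (hres : Function.Surjective res) :
    Function.Surjective (rhoO (k' := k') res) :=
  Algebra.TensorProduct.map_surjective _ _ Function.surjective_id hres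

theorem exists_mul_of_rhoO_eq_zero {P : Place k K} (res : P.O →ₐ[k] F)
    (hres : Function.Surjective res) (hker : ∀ z : P.O, res z = 0 ↔ P.1 (z : K) < 1)
    {t : K} (ht : P.1 t = exp (-1 : ℤ)) (htO : P.1 t ≤ 1)
    {r : k' ⊗[k] P.O} (hr : rhoO res r = 0) :
    ∃ r' : k' ⊗[k] P.O, r = r' * (1 ⊗ₜ ⟨t, htO⟩) := by
  have ht0 : t ≠ 0 := by
    rintro rfl
    rw [map_zero] at ht
    exact exp_ne_zero ht.symm
  have hmem : r ∈ RingHom.ker (rhoO (k' := k') res) := hr
  rw [rhoO, Algebra.TensorProduct.lTensor_ker _ hres] at hmem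
  have hle : RingHom.ker res ≤ Ideal.span {(⟨t, htO⟩ : P.O)} := by
    intro z hz
    rw [RingHom.mem_ker, hker] at hz
    rw [Ideal.mem_span_singleton']
    refine ⟨⟨(z : K) / t, ?_⟩, ?_⟩
    · show P.1 ((z : K) / t) ≤ 1
      rw [map_div₀, ht]
      have := le_exp_neg_one_of_lt_one hz
      rw [div_le_iff₀ exp_pos, one_mul]
      exact this
    · apply Subtype.ext
      show (z : K) / t * t = z
      field_simp
  have h2 := Ideal.map_mono (f := (Algebra.TensorProduct.includeRight : P.O →ₐ[k] k' ⊗[k] P.O))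
    hle hmem
  rw [Ideal.map_span, Set.image_singleton] at h2
  obtain ⟨r', hr'⟩ := Ideal.mem_span_singleton'.mp h2
  exact ⟨r', hr'.symm⟩

theorem iotaO_one_tmul_pow (P : Place k K) {t : K} (htO : P.1 t ≤ 1) (j : ℕ) :
    iotaO (k' := k') (K' := K') P ((1 ⊗ₜ ⟨t, htO⟩) ^ j) = algebraMap K K' (t ^ j) := by
  rw [map_pow, iotaO_tmul, map_one, one_mul, map_pow]

/-- clearing denominators -/
theorem exists_pow_mul_mem_range
    (h : Function.Bijective (Algebra.TensorProduct.productMap
      (IsScalarTower.toAlgHom k k' K') (IsScalarTower.toAlgHom k K K')))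
    (P : Place k K) {t : K} (ht : P.1 t = exp (-1 : ℤ)) (z : K') :
    ∃ j : ℕ, ∃ r : k' ⊗[k] P.O, iotaO P r = algebraMap K K' (t ^ j) * z := by
  have htO : P.1 t ≤ 1 := by
    rw [ht, ← exp_zero]; exact exp_le_exp.mpr (by norm_num)
  obtain ⟨x, rfl⟩ := (constExtEquiv h).surjective z
  induction x using TensorProduct.induction_on with
  | zero => exact ⟨0, 0, by simp⟩
  | tmul a b =>
    by_cases hb0 : b = 0
    · exact ⟨0, 0, by simp [hb0]⟩
    · have hmem : P.1 (t ^ (-(P.ord b)).toNat * b) ≤ 1 := by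
        rw [map_mul, map_pow, ht, Place.val_eq_exp_neg_ord P hb0, ← exp_nsmul, ← exp_add,
          ← exp_zero]
        apply exp_le_exp.mpr
        have := Int.self_le_toNat (-(P.ord b))
        rw [nsmul_eq_mul]
        linarith
      refine ⟨(-(P.ord b)).toNat, a ⊗ₜ ⟨_, hmem⟩, ?_⟩
      rw [iotaO_tmul, constExtEquiv_tmul]
      show algebraMap k' K' a * algebraMap K K' (t ^ (-(P.ord b)).toNat * b) = _
      rw [map_mul]
      ring
  | add x y hx hy =>
    obtain ⟨j₁, r₁, h₁⟩ := hx
    obtain ⟨j₂, r₂, h₂⟩ := hy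
    refine ⟨j₁ + j₂, (1 ⊗ₜ ⟨t, htO⟩) ^ j₂ * r₁ + (1 ⊗ₜ ⟨t, htO⟩) ^ j₁ * r₂, ?_⟩
    rw [map_add, map_mul, map_mul, iotaO_one_tmul_pow, iotaO_one_tmul_pow, h₁, h₂, map_add,
      pow_add, map_mul]
    ring

/-- elements integral over `O_P` lie in the image of `k' ⊗ O_P` when `k' ⊗ F_P` is reduced -/
theorem mem_range_iotaO_of_isIntegral
    (h : Function.Bijective (Algebra.TensorProduct.productMap
      (IsScalarTower.toAlgHom k k' K') (IsScalarTower.toAlgHom k K K')))
    [FiniteDimensional k k'] (hK : IsFunctionField k K) (hg : IsGeometric k K)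
    {P : Place k K} [Algebra P.O K'] [IsScalarTower P.O K K']
    [FiniteDimensional k F] (res : P.O →ₐ[k] F)
    (hres : Function.Surjective res) (hker : ∀ z : P.O, res z = 0 ↔ P.1 (z : K) < 1)
    (hred : IsReduced (k' ⊗[k] F)) {z : K'} (hz : IsIntegral P.O z) :
    z ∈ Set.range (iotaO (k' := k') (K' := K') P) := by
  classical
  obtain ⟨t, ht⟩ := Place.exists_uniformizer P
  have htO : P.1 t ≤ 1 := by
    rw [ht, ← exp_zero]; exact exp_le_exp.mpr (by norm_num)
  have ht0 : t ≠ 0 := by
    rintro rfl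
    rw [map_zero] at ht
    exact exp_ne_zero ht.symm
  have ht0' : algebraMap K K' t ≠ 0 := (_root_.map_ne_zero _).mpr ht0
  have hK' : IsFunctionField k' K' := (isFunctionField_and_isGeometric_constExt h hK hg).1
  have hex := exists_pow_mul_mem_range h P ht z
  obtain ⟨r, hr⟩ := Nat.find_spec hex
  rcases Nat.eq_zero_or_pos (Nat.find hex) with hj | hj
  · rw [hj, pow_zero, map_one, one_mul] at hr
    exact ⟨r, hr⟩
  exfalso
  obtain ⟨j', hj'⟩ : ∃ j', Nat.find hex = j' + 1 := ⟨Nat.find hex - 1, by omega⟩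
  rw [hj'] at hr
  have hρ : rhoO res r = 0 := by
    by_contra hne
    have hnil : rhoO res r ∉ nilradical (k' ⊗[k] F) := by
      rw [nilradical_eq_bot_iff.mpr hred]
      exact hne
    rw [nilradical_eq_sInf, Ideal.mem_sInf] at hnil
    push Not at hnil
    obtain ⟨𝔫, h𝔫prime, h𝔫⟩ := hnil
    haveI : IsArtinianRing (k' ⊗[k] F) := IsArtinianRing.of_finite k' _
    haveI : 𝔫.IsPrime := h𝔫prime
    haveI h𝔫max : 𝔫.IsMaximal := IsArtinianRing.isMaximal_of_isPrime 𝔫
    haveI h𝔫' : (𝔫.comap (rhoO (k' := k') res)).IsMaximal :=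
      Ideal.comap_isMaximal_of_surjective _ (rhoO_surjective res hres)
    have ht𝔫 : (1 ⊗ₜ ⟨t, htO⟩ : k' ⊗[k] P.O) ∈ 𝔫.comap (rhoO (k' := k') res) := by
      rw [Ideal.mem_comap, rhoO_tmul]
      have : res ⟨t, htO⟩ = 0 := (hker _).mpr (by
        show P.1 t < 1
        rw [ht, ← exp_zero]; exact exp_lt_exp.mpr (by norm_num))
      rw [this, TensorProduct.tmul_zero]
      exact 𝔫.zero_mem
    have hkerι : RingHom.ker (iotaO (k' := k') (K' := K') P) ≤ 𝔫.comap (rhoO (k' := k') res) := by
      intro x hx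
      rw [RingHom.mem_ker] at hx
      have : x = 0 := iotaO_injective h P (by rw [hx, map_zero])
      rw [this]
      exact Ideal.zero_mem _
    obtain ⟨Q, hQ1, hQ2, hQ3⟩ := exists_place_of_isMaximal hK' (iotaO (k' := k') (K' := K') P)
      (𝔫.comap (rhoO (k' := k') res)) hkerι (1 ⊗ₜ ⟨t, htO⟩) ht𝔫 (by
        rw [iotaO_tmul, map_one, one_mul]; exact ht0')
    have h1 : Q.1 (iotaO P r) = 1 := hQ3 r (by rw [Ideal.mem_comap]; exact h𝔫)
    have h2 : Q.1 z ≤ 1 := by
      apply val_le_one_of_isIntegral Q.1 _ hz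
      intro a
      rw [IsScalarTower.algebraMap_apply P.O K K']
      have := hQ1 (1 ⊗ₜ a)
      rwa [iotaO_tmul, map_one, one_mul] at this
    have h3 : Q.1 (algebraMap K K' t) < 1 := by
      have := hQ2 _ ht𝔫
      rwa [iotaO_tmul, map_one, one_mul] at this
    rw [hr, map_mul, map_pow, map_pow, pow_succ] at h1
    have h4 : Q.1 (algebraMap K K' t) ^ j' ≤ 1 := pow_le_one' h3.le j'
    have : Q.1 (algebraMap K K' t) ^ j' * Q.1 (algebraMap K K' t) * Q.1 z < 1 :=
      calc Q.1 (algebraMap K K' t) ^ j' * Q.1 (algebraMap K K' t) * Q.1 z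
          ≤ 1 * Q.1 (algebraMap K K' t) * 1 := by gcongr
        _ < 1 := by rwa [one_mul, mul_one]
    rw [h1] at this
    exact lt_irrefl _ this
  obtain ⟨r', hr'⟩ := exists_mul_of_rhoO_eq_zero res hres hker ht htO hρ
  have hfin : iotaO P r' = algebraMap K K' (t ^ j') * z := by
    apply mul_right_cancel₀ ht0'
    have h5 : iotaO (k' := k') (K' := K') P r = iotaO P r' * algebraMap K K' t := by
      rw [hr', map_mul, iotaO_tmul, map_one, one_mul]
    rw [← h5, hr, pow_succ, map_mul]
    ring
  exact Nat.find_min hex (by omega : j' < Nat.find hex) ⟨r', hfin⟩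

/-- the integral closure of `O_P` in a constant field extension is `O_P[k']`, when `k' ⊗ F_P`
is reduced -/
theorem integralClosure_eq_adjoin_of_isReduced
    (h : Function.Bijective (Algebra.TensorProduct.productMap
      (IsScalarTower.toAlgHom k k' K') (IsScalarTower.toAlgHom k K K')))
    [FiniteDimensional k k'] (hK : IsFunctionField k K) (hg : IsGeometric k K)
    {P : Place k K} [Algebra P.O K'] [IsScalarTower P.O K K']
    [FiniteDimensional k F] (res : P.O →ₐ[k] F)
    (hres : Function.Surjective res) (hker : ∀ z : P.O, res z = 0 ↔ P.1 (z : K) < 1)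
    (hred : IsReduced (k' ⊗[k] F)) :
    integralClosure P.O K' = Algebra.adjoin P.O (Set.range (algebraMap k' K')) := by
  apply le_antisymm
  · intro z hz
    obtain ⟨r, rfl⟩ := mem_range_iotaO_of_isIntegral h hK hg res hres hker hred hz
    clear hz
    induction r using TensorProduct.induction_on with
    | zero => rw [map_zero]; exact Subalgebra.zero_mem _
    | tmul a b =>
      rw [iotaO_tmul]
      apply Subalgebra.mul_mem _ (Algebra.subset_adjoin (Set.mem_range_self a))
      have : algebraMap K K' (b : K) = algebraMap P.O K' b :=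
        (IsScalarTower.algebraMap_apply P.O K K' b).symm
      rw [this]
      exact Subalgebra.algebraMap_mem _ b
    | add x y hx hy => rw [map_add]; exact Subalgebra.add_mem _ hx hy
  · apply Algebra.adjoin_le
    rintro _ ⟨a, rfl⟩
    haveI : IsScalarTower k P.O K' := IsScalarTower.of_algebraMap_eq (fun c => by
      rw [IsScalarTower.algebraMap_apply P.O K K', IsScalarTower.algebraMap_apply k K K']
      rfl)
    have h1 : IsIntegral k (algebraMap k' K' a) :=
      (Algebra.IsIntegral.isIntegral (R := k) a).map (IsScalarTower.toAlgHom k k' K')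
    exact h1.tower_top

/-- S11018 -/
theorem integralClosure_eq_adjoin_of_isSeparable_residue
    (h : Function.Bijective (Algebra.TensorProduct.productMap
      (IsScalarTower.toAlgHom k k' K') (IsScalarTower.toAlgHom k K K')))
    [FiniteDimensional k k'] (hK : IsFunctionField k K) (hg : IsGeometric k K)
    (P : Place k K) [Algebra.IsSeparable k (IsLocalRing.ResidueField P.O)]
    [Algebra P.O K'] [IsScalarTower P.O K K'] :
    integralClosure P.O K' = Algebra.adjoin P.O (Set.range (algebraMap k' K')) := by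
  haveI : @Module.Finite k (IsLocalRing.ResidueField P.O) _ _ Algebra.toModule :=
    Place.finiteDimensional_residue hK P
  exact integralClosure_eq_adjoin_of_isReduced (F := IsLocalRing.ResidueField P.O) h hK hg
    (Place.resAlg P) IsLocalRing.residue_surjective
    (fun z => by rw [Place.resAlg_apply]; exact Place.residue_eq_zero_iff P z)
    isReduced_tensor_of_isSeparable_right

/-- S11012, first part -/
theorem integralClosure_eq_adjoin_of_isSeparable
    (h : Function.Bijective (Algebra.TensorProduct.productMap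
      (IsScalarTower.toAlgHom k k' K') (IsScalarTower.toAlgHom k K K')))
    [FiniteDimensional k k'] [Algebra.IsSeparable k k']
    (hK : IsFunctionField k K) (hg : IsGeometric k K)
    (P : Place k K) [Algebra P.O K'] [IsScalarTower P.O K K'] :
    integralClosure P.O K' = Algebra.adjoin P.O (Set.range (algebraMap k' K')) := by
  haveI : @Module.Finite k (IsLocalRing.ResidueField P.O) _ _ Algebra.toModule :=
    Place.finiteDimensional_residue hK P
  exact integralClosure_eq_adjoin_of_isReduced (F := IsLocalRing.ResidueField P.O) h hK hg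
    (Place.resAlg P) IsLocalRing.residue_surjective
    (fun z => by rw [Place.resAlg_apply]; exact Place.residue_eq_zero_iff P z)
    isReduced_tensor_of_isSeparable_left

end ConstExt

end Groth.Agent.H55
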