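import Groth.Agent.H55.IntCl1
import Groth.Agent.H62.FFUnram2

set_option autoImplicit false

namespace Groth.Agent.H55

open FunFld WithZero Module IntermediateField Polynomial
open scoped TensorProduct

universe u v

section ConstExt

variable {k k' : Type u} {K K' : Type v} [Field k] [Field k'] [Field K] [Field K']
  [Algebra k k'] [Algebra k K] [Algebra K K'] [Algebra k' K'] [Algebra k K']
  [IsScalarTower k k' K'] [IsScalarTower k K K']

/-- a primitive element of `k'/k` generates `K' = k'K` over `K` -/
theorem adjoin_algebraMap_eq_top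
    (h : Function.Bijective (Algebra.TensorProduct.productMap
      (IsScalarTower.toAlgHom k k' K') (IsScalarTower.toAlgHom k K K')))
    {α : k'} (hα : k⟮α⟯ = ⊤) : K⟮algebraMap k' K' α⟯ = ⊤ := by
  have h1 : ∀ a : k', algebraMap k' K' a ∈ K⟮algebraMap k' K' α⟯ := by
    intro a
    have h2 : algebraMap k' K' a ∈ (k⟮α⟯).map (IsScalarTower.toAlgHom k k' K') := by
      rw [hα]
      exact ⟨a, mem_top, rfl⟩
    rw [adjoin_map, Set.image_singleton] at h2
    have h3 : k⟮(IsScalarTower.toAlgHom k k' K') α⟯ ≤
        (K⟮algebraMap k' K' α⟯).restrictScalars k := by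
      rw [adjoin_le_iff]
      rintro _ rfl
      exact mem_adjoin_simple_self K _
    exact h3 h2
  rw [eq_top_iff]
  intro z _
  obtain ⟨x, rfl⟩ := h.2 z
  induction x using TensorProduct.induction_on with
  | zero => rw [map_zero]; exact zero_mem _
  | tmul a b =>
    rw [Algebra.TensorProduct.productMap_apply_tmul]
    exact mul_mem (h1 a) (IntermediateField.algebraMap_mem _ b)
  | add x y hx hy => rw [map_add]; exact add_mem (hx trivial) (hy trivial)

/-- S11012, second part: separable constant extensions are unramified -/
theorem isOverWith_one_of_isSeparable_constExt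
    (h : Function.Bijective (Algebra.TensorProduct.productMap
      (IsScalarTower.toAlgHom k k' K') (IsScalarTower.toAlgHom k K K')))
    [FiniteDimensional k k'] [Algebra.IsSeparable k k']
    {P : Place k K} {Q : Place k K'} (hQ : IsOver Q P) : IsOverWith Q P 1 := by
  obtain ⟨e, he⟩ := hQ
  obtain ⟨α, hα⟩ := Field.exists_primitive_element k k'
  have hαint : IsIntegral k α := Algebra.IsIntegral.isIntegral α
  have hyalg : IsAlgebraic k (algebraMap k' K' α) :=
    (hαint.map (IsScalarTower.toAlgHom k k' K')).isAlgebraic
  have hcomp : (H62.FFUnram.iota (K' := K') P).comp (algebraMap k P.O) = algebraMap k K' := by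
    ext c
    show algebraMap K K' (algebraMap k K c) = _
    rw [← IsScalarTower.algebraMap_apply]
  have hev : ∀ p : k[X], eval₂ (H62.FFUnram.iota (K' := K') P) (algebraMap k' K' α)
      (p.map (algebraMap k P.O)) = algebraMap k' K' (aeval α p) := by
    intro p
    rw [eval₂_map, hcomp, ← aeval_def, ← aeval_algebraMap_apply]
  have h1 : e = 1 := by
    apply H62.FFUnram.eq_one_of_unit_derivative he (y := algebraMap k' K' α)
      (W.val_le_one_of_isAlgebraic Q hyalg) (hyalg.tower_top K)
      (adjoin_algebraMap_eq_top h hα) (φ₀ := (minpoly k α).map (algebraMap k P.O))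
    · rw [hev, minpoly.aeval, map_zero]
    · rw [derivative_map, hev]
      have hne : aeval α (derivative (minpoly k α)) ≠ 0 :=
        (Algebra.IsSeparable.isSeparable k α).aeval_derivative_ne_zero (minpoly.aeval k α)
      apply W.val_eq_one_of_isAlgebraic Q
      · exact ((Algebra.IsIntegral.isIntegral (R := k) _).map
          (IsScalarTower.toAlgHom k k' K')).isAlgebraic
      · exact (_root_.map_ne_zero _).mpr hne
  rw [h1] at he
  exact he

end ConstExt

end Groth.Agent.H55
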