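import Groth.Agent.H55.IntCl2

set_option autoImplicit false

namespace Groth.Agent.H55

open FunFld WithZero Module IntermediateField Polynomial
open scoped TensorProduct

universe u v

section Core

variable {k l : Type u} {K K' : Type v} [Field k] [Field l] [Field K] [Field K']
  [Algebra k l] [Algebra k K] [Algebra K K'] [Algebra l K'] [Algebra k K']
  [IsScalarTower k l K'] [IsScalarTower k K K']
variable {F : Type*} [Field F] [Algebra k F]

/-- clearing denominators, without bijectivity -/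
theorem exists_pow_mul_mem_range' (P : Place k K) {t : K} (ht : P.1 t = exp (-1 : ℤ))
    (x : l ⊗[k] K) :
    ∃ j : ℕ, ∃ r : l ⊗[k] P.O, iotaO (k' := l) (K' := K') P r = algebraMap K K' (t ^ j) *
      Algebra.TensorProduct.productMap (IsScalarTower.toAlgHom k l K')
        (IsScalarTower.toAlgHom k K K') x := by
  have htO : P.1 t ≤ 1 := by
    rw [ht, ← exp_zero]; exact exp_le_exp.mpr (by norm_num)
  induction x using TensorProduct.induction_on with
  | zero => exact ⟨0, 0, by simp⟩
  | tmul a b =>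
    by_cases hb0 : b = 0
    · exact ⟨0, 0, by simp [hb0]⟩
    · have hmem : P.1 (t ^ (-(P.ord b)).toNat * b) ≤ 1 := by
        rw [map_mul, map_pow, ht, Place.val_eq_exp_neg_ord P hb0, ← exp_nsmul, ← exp_add,
          ← exp_zero]
        apply exp_le_exp.mpr
        have := Int.self_le_toNat (-(P.ord b))
        rw [nsmul_eq_mul]
        linarith
      refine ⟨(-(P.ord b)).toNat, a ⊗ₜ ⟨_, hmem⟩, ?_⟩
      rw [iotaO_tmul, Algebra.TensorProduct.productMap_apply_tmul]
      show algebraMap l K' a * algebraMap K K' (t ^ (-(P.ord b)).toNat * b) =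
        _ * (algebraMap l K' a * algebraMap K K' b)
      rw [map_mul]
      ring
  | add x y hx hy =>
    obtain ⟨j₁, r₁, h₁⟩ := hx
    obtain ⟨j₂, r₂, h₂⟩ := hy
    refine ⟨j₁ + j₂, (1 ⊗ₜ ⟨t, htO⟩) ^ j₂ * r₁ + (1 ⊗ₜ ⟨t, htO⟩) ^ j₁ * r₂, ?_⟩
    rw [map_add, map_mul, map_mul, iotaO_one_tmul_pow, iotaO_one_tmul_pow, h₁, h₂, map_add,
      pow_add, map_mul]
    ring

/-- a place over `P` is `≤ 1` on the image of `l ⊗ O_P` -/
theorem val_iotaO_le_one [Algebra.IsAlgebraic k l] {P : Place k K} {Q : Place k K'}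
    (hQ : IsOver Q P) (r : l ⊗[k] P.O) : Q.1 (iotaO (k' := l) (K' := K') P r) ≤ 1 := by
  obtain ⟨e, he⟩ := hQ
  induction r using TensorProduct.induction_on with
  | zero => simp
  | tmul a b =>
    rw [iotaO_tmul, map_mul]
    have h1 : Q.1 (algebraMap l K' a) ≤ 1 := by
      apply W.val_le_one_of_isAlgebraic Q
      exact ((Algebra.IsAlgebraic.isAlgebraic (R := k) a).algHom (IsScalarTower.toAlgHom k l K'))
    have h2 : Q.1 (algebraMap K K' (b : K)) ≤ 1 := (isOverWith_le_one_iff he _).mpr b.2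
    exact mul_le_one' h1 h2
  | add x y hx hy =>
    rw [map_add]
    exact (Q.1.map_add _ _).trans (max_le hx hy)

/-- if `l ⊗ F_P` is a field, an element of `lK` integral at one place over `P` lies in
`l ⊗ O_P` -/
theorem mem_range_iotaO_of_val_le_one [Algebra.IsAlgebraic k l] {P : Place k K}
    (res : P.O →ₐ[k] F)
    (hres : Function.Surjective res) (hker : ∀ z : P.O, res z = 0 ↔ P.1 (z : K) < 1)
    (hunit : ∀ x : l ⊗[k] F, x ≠ 0 → IsUnit x)
    {Q : Place k K'} (hQ : IsOver Q P) {t : K} (ht : P.1 t = exp (-1 : ℤ)) (j : ℕ) :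
    ∀ (w : K') (r : l ⊗[k] P.O), iotaO (k' := l) (K' := K') P r = algebraMap K K' (t ^ j) * w →
      Q.1 w ≤ 1 → w ∈ Set.range (iotaO (k' := l) (K' := K') P) := by
  have htO : P.1 t ≤ 1 := by
    rw [ht, ← exp_zero]; exact exp_le_exp.mpr (by norm_num)
  have ht0 : t ≠ 0 := by
    rintro rfl
    rw [map_zero] at ht
    exact exp_ne_zero ht.symm
  have ht0' : algebraMap K K' t ≠ 0 := (_root_.map_ne_zero _).mpr ht0
  have hQt : Q.1 (algebraMap K K' t) < 1 := by
    obtain ⟨e, he⟩ := hQ
    apply (isOverWith_lt_one_iff he _).mpr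
    rw [ht, ← exp_zero]; exact exp_lt_exp.mpr (by norm_num)
  induction j with
  | zero =>
    intro w r hr _
    rw [pow_zero, map_one, one_mul] at hr
    exact ⟨r, hr⟩
  | succ j ih =>
    intro w r hr hw
    have hρ : rhoO res r = 0 := by
      by_contra hne
      obtain ⟨u, hu⟩ := hunit _ hne
      obtain ⟨s, hs⟩ := rhoO_surjective (k' := l) res hres (↑u⁻¹ : l ⊗[k] F)
      have h1 : rhoO res (r * s - 1) = 0 := by
        rw [map_sub, map_mul, hs, ← hu, Units.mul_inv, map_one, sub_self]
      obtain ⟨r'', hr''⟩ := exists_mul_of_rhoO_eq_zero res hres hker ht htO h1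
      have h2 : iotaO (k' := l) (K' := K') P r * iotaO P s =
          1 + iotaO P r'' * algebraMap K K' t := by
        have := congrArg (iotaO (k' := l) (K' := K') P) hr''
        rw [map_sub, map_mul, map_one, map_mul, iotaO_tmul, map_one, one_mul] at this
        rw [← this]; ring
      have h3 : Q.1 (iotaO (k' := l) (K' := K') P r * iotaO P s) = 1 := by
        rw [h2]
        apply Valuation.map_one_add_of_lt
        rw [map_mul]
        calc Q.1 (iotaO P r'') * Q.1 (algebraMap K K' t) ≤ 1 * Q.1 (algebraMap K K' t) :=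
              mul_le_mul_left (val_iotaO_le_one hQ r'') _
          _ < 1 := by rwa [one_mul]
      have h4 : Q.1 (iotaO (k' := l) (K' := K') P r) < 1 := by
        rw [hr, map_mul, map_pow, map_pow, pow_succ]
        have h5 : Q.1 (algebraMap K K' t) ^ j ≤ 1 := pow_le_one' hQt.le j
        calc Q.1 (algebraMap K K' t) ^ j * Q.1 (algebraMap K K' t) * Q.1 w
            ≤ 1 * Q.1 (algebraMap K K' t) * 1 := by gcongr
          _ < 1 := by rwa [one_mul, mul_one]
      rw [map_mul] at h3
      have : Q.1 (iotaO (k' := l) (K' := K') P r) * Q.1 (iotaO P s) < 1 :=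
        calc Q.1 (iotaO (k' := l) (K' := K') P r) * Q.1 (iotaO P s)
            ≤ Q.1 (iotaO (k' := l) (K' := K') P r) * 1 := by
              gcongr; exact val_iotaO_le_one hQ s
          _ < 1 := by rwa [mul_one]
      rw [h3] at this
      exact lt_irrefl _ this
    obtain ⟨r', hr'⟩ := exists_mul_of_rhoO_eq_zero res hres hker ht htO hρ
    have hfin : iotaO P r' = algebraMap K K' (t ^ j) * w := by
      apply mul_right_cancel₀ ht0'
      have h5 : iotaO (k' := l) (K' := K') P r = iotaO P r' * algebraMap K K' t := by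
        rw [hr', map_mul, iotaO_tmul, map_one, one_mul]
      rw [← h5, hr, pow_succ, map_mul]
      ring
    exact ih w r' hfin hw

end Core

section Pow

variable {k l k' : Type u} {K K' : Type v} [Field k] [Field l] [Field k'] [Field K] [Field K']
  [Algebra k l] [Algebra l k'] [Algebra k k'] [IsScalarTower k l k']
  [Algebra k K] [Algebra K K'] [Algebra k' K'] [Algebra k K'] [Algebra l K']
  [IsScalarTower k k' K'] [IsScalarTower k K K'] [IsScalarTower l k' K'] [IsScalarTower k l K']

/-- if `k'/l` is purely inseparable, a `q`-power of every element of `k'K` lies in `lK` -/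
theorem exists_pow_mem_range
    (h : Function.Bijective (Algebra.TensorProduct.productMap
      (IsScalarTower.toAlgHom k k' K') (IsScalarTower.toAlgHom k K K')))
    [IsPurelyInseparable l k'] (q : ℕ) [ExpChar k q] (z : K') :
    ∃ M : ℕ, z ^ q ^ M ∈ (Algebra.TensorProduct.productMap (IsScalarTower.toAlgHom k l K')
        (IsScalarTower.toAlgHom k K K')).range := by
  haveI : ExpChar l q := expChar_of_injective_algebraMap (algebraMap k l).injective q
  haveI : ExpChar K' q := expChar_of_injective_algebraMap (algebraMap k K').injective q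
  obtain ⟨x, rfl⟩ := h.2 z
  induction x using TensorProduct.induction_on with
  | zero => exact ⟨0, by rw [map_zero, pow_zero, pow_one]; exact zero_mem _⟩
  | tmul a b =>
    obtain ⟨n, c, hc⟩ := (isPurelyInseparable_iff_pow_mem l q).mp inferInstance a
    refine ⟨n, c ⊗ₜ (b ^ q ^ n), ?_⟩
    rw [Algebra.TensorProduct.productMap_apply_tmul, mul_pow]
    show algebraMap l K' c * algebraMap K K' (b ^ q ^ n) =
      (algebraMap k' K' a) ^ (q ^ n) * (algebraMap K K' b) ^ (q ^ n)
    rw [map_pow, ← map_pow (algebraMap k' K'), ← hc, ← IsScalarTower.algebraMap_apply]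
  | add x y hx hy =>
    obtain ⟨M₁, h₁⟩ := hx
    obtain ⟨M₂, h₂⟩ := hy
    refine ⟨M₁ + M₂, ?_⟩
    rw [map_add, add_pow_expChar_pow]
    apply add_mem
    · rw [pow_add, pow_mul]
      exact pow_mem h₁ _
    · rw [pow_add, mul_comm, pow_mul]
      exact pow_mem h₂ _

end Pow

section Units

variable {k l F : Type*} [Field k] [Field l] [Field F] [Algebra k l] [Algebra k F]

/-- `l ⊗ F` is a field for `l/k` finite separable and `F/k` purely inseparable -/
theorem isUnit_tensor_of_ne_zero [FiniteDimensional k l] [Algebra.IsSeparable k l]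
    [IsPurelyInseparable k F] (x : l ⊗[k] F) (hx : x ≠ 0) : IsUnit x := by
  obtain ⟨q, hq⟩ := ExpChar.exists k
  haveI : ExpChar (l ⊗[k] F) q :=
    expChar_of_injective_algebraMap (algebraMap k (l ⊗[k] F)).injective q
  have hq0 : ∀ m : ℕ, q ^ m ≠ 0 := fun m => (expChar_pow_pos k q m).ne'
  have key : ∀ x : l ⊗[k] F, ∃ m : ℕ, ∃ a : l, x ^ q ^ m = a ⊗ₜ 1 := by
    intro x
    induction x using TensorProduct.induction_on with
    | zero => exact ⟨0, 0, by simp⟩
    | tmul a f =>
      obtain ⟨n, c, hc⟩ := (isPurelyInseparable_iff_pow_mem k q).mp inferInstance f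
      refine ⟨n, c • a ^ q ^ n, ?_⟩
      rw [Algebra.TensorProduct.tmul_pow, ← hc, Algebra.algebraMap_eq_smul_one,
        TensorProduct.tmul_smul, TensorProduct.smul_tmul']
    | add x y hx hy =>
      obtain ⟨M₁, a₁, h₁⟩ := hx
      obtain ⟨M₂, a₂, h₂⟩ := hy
      refine ⟨M₁ + M₂, a₁ ^ q ^ M₂ + a₂ ^ q ^ M₁, ?_⟩
      rw [add_pow_expChar_pow, TensorProduct.add_tmul]
      congr 1
      · rw [pow_add, pow_mul, h₁, Algebra.TensorProduct.tmul_pow, one_pow]
      · rw [pow_add, mul_comm, pow_mul, h₂, Algebra.TensorProduct.tmul_pow, one_pow]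
  obtain ⟨m, a, ha⟩ := key x
  have hred : IsReduced (l ⊗[k] F) := isReduced_tensor_of_isSeparable_left
  by_cases ha0 : a = 0
  · exfalso
    rw [ha0, TensorProduct.zero_tmul] at ha
    exact hx (IsReduced.eq_zero x ⟨_, ha⟩)
  · have h1 : IsUnit (a ⊗ₜ[k] (1 : F)) := by
      refine ⟨⟨a ⊗ₜ 1, a⁻¹ ⊗ₜ 1, ?_, ?_⟩, rfl⟩
      · rw [Algebra.TensorProduct.tmul_mul_tmul, mul_inv_cancel₀ ha0, mul_one]
        rfl
      · rw [Algebra.TensorProduct.tmul_mul_tmul, inv_mul_cancel₀ ha0, mul_one]
        rfl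
    rw [← ha] at h1
    exact (isUnit_pow_iff (hq0 m)).mp h1

theorem isUnit_self_tensor_of_ne_zero (x : k ⊗[k] F) (hx : x ≠ 0) : IsUnit x := by
  have h1 : Algebra.TensorProduct.lid k F x ≠ 0 := by
    intro h
    exact hx ((Algebra.TensorProduct.lid k F).injective (by rw [h, map_zero]))
  have h2 : IsUnit (Algebra.TensorProduct.lid k F x) := isUnit_iff_ne_zero.mpr h1
  exact (isUnit_map_iff (Algebra.TensorProduct.lid k F) x).mp h2

end Units

section Main

variable {k k' : Type u} {K K' : Type v} [Field k] [Field k'] [Field K] [Field K']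
  [Algebra k k'] [Algebra k K] [Algebra K K'] [Algebra k' K'] [Algebra k K']
  [IsScalarTower k k' K'] [IsScalarTower k K K']

/-- comparison of two places over `P` -/
theorem val_le_one_of_val_le_one {l : Type u} [Field l] [Algebra k l] [Algebra l k']
    [IsScalarTower k l k'] [Algebra l K'] [IsScalarTower l k' K'] [IsScalarTower k l K']
    [Algebra.IsAlgebraic k l] [IsPurelyInseparable l k']
    (h : Function.Bijective (Algebra.TensorProduct.productMap
      (IsScalarTower.toAlgHom k k' K') (IsScalarTower.toAlgHom k K K')))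
    {P : Place k K} {F : Type*} [Field F] [Algebra k F] (res : P.O →ₐ[k] F)
    (hres : Function.Surjective res) (hker : ∀ z : P.O, res z = 0 ↔ P.1 (z : K) < 1)
    (hunit : ∀ x : l ⊗[k] F, x ≠ 0 → IsUnit x)
    {Q₁ Q₂ : Place k K'} (h₁ : IsOver Q₁ P) (h₂ : IsOver Q₂ P) {z : K'} (hz : Q₁.1 z ≤ 1) :
    Q₂.1 z ≤ 1 := by
  obtain ⟨q, hq⟩ := ExpChar.exists k
  obtain ⟨t, ht⟩ := Place.exists_uniformizer P
  obtain ⟨M, x, hx⟩ := exists_pow_mem_range (l := l) h q z
  have hx' : Algebra.TensorProduct.productMap (IsScalarTower.toAlgHom k l K')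
      (IsScalarTower.toAlgHom k K K') x = z ^ q ^ M := hx
  obtain ⟨j, r, hr⟩ := exists_pow_mul_mem_range' (l := l) (K' := K') P ht x
  have hw : Q₁.1 (z ^ q ^ M) ≤ 1 := by rw [map_pow]; exact pow_le_one' hz _
  obtain ⟨r₀, hr₀⟩ := mem_range_iotaO_of_val_le_one res hres hker hunit h₁ ht j (z ^ q ^ M) r
    (by rw [hr, hx']) hw
  have h3 : Q₂.1 (z ^ q ^ M) ≤ 1 := by rw [← hr₀]; exact val_iotaO_le_one h₂ r₀
  rw [map_pow] at h3
  exact (pow_le_one_iff (expChar_pow_pos k q M).ne').mp h3

/-- S11011 -/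
theorem existsUnique_place_over_of_purelyInseparable
    (h : Function.Bijective (Algebra.TensorProduct.productMap
      (IsScalarTower.toAlgHom k k' K') (IsScalarTower.toAlgHom k K K')))
    [FiniteDimensional k k'] (hK : IsFunctionField k K) (P : Place k K)
    (hpi : IsPurelyInseparable k k' ∨ IsPurelyInseparable k (IsLocalRing.ResidueField P.O)) :
    ∃! Q : Place k K', IsOver Q P := by
  classical
  haveI : FiniteDimensional K K' := finite_constExt h
  obtain ⟨hfin, hsum⟩ := sum_ramIdx_mul_deg (K' := K') hK P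
  have hex : ∃ Q : Place k K', IsOver Q P := by
    by_contra hne
    push Not at hne
    have := hsum ∅ (by intro Q; simp [hne Q])
    rw [Finset.sum_empty] at this
    have h1 : 0 < finrank K K' * P.deg := Nat.mul_pos finrank_pos (Place.deg_pos hK P)
    omega
  obtain ⟨Q, hQ⟩ := hex
  refine ⟨Q, hQ, ?_⟩
  intro Q' hQ'
  have hker : ∀ z : P.O, Place.resAlg P z = 0 ↔ P.1 (z : K) < 1 := fun z => by
    rw [Place.resAlg_apply]; exact Place.residue_eq_zero_iff P z
  have key : ∀ Q₁ Q₂ : Place k K', IsOver Q₁ P → IsOver Q₂ P → ∀ z, Q₁.1 z ≤ 1 → Q₂.1 z ≤ 1 := by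
    rcases hpi with hpi | hpi
    · intro Q₁ Q₂ h₁ h₂ z hz
      exact val_le_one_of_val_le_one (l := k) h (F := IsLocalRing.ResidueField P.O)
        (Place.resAlg P) IsLocalRing.residue_surjective hker isUnit_self_tensor_of_ne_zero
        h₁ h₂ hz
    · intro Q₁ Q₂ h₁ h₂ z hz
      exact val_le_one_of_val_le_one (l := separableClosure k k') h
        (F := IsLocalRing.ResidueField P.O)
        (Place.resAlg P) IsLocalRing.residue_surjective hker isUnit_tensor_of_ne_zero
        h₁ h₂ hz
  apply Place.O_injective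
  apply ValuationSubring.ext
  intro z
  exact ⟨key Q' Q hQ' hQ z, key Q Q' hQ hQ' z⟩

end Main

end Groth.Agent.H55
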