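import Groth.Agent.H55.Ker6

set_option autoImplicit false
set_option linter.style.haveILetI false
set_option linter.unusedSectionVars false

namespace Groth.Agent.H55

open Polynomial FunFld

section
variable {k K : Type*} [Field k] [Field K] [Algebra k K]

/-- homogeneous evaluation of a homogeneous polynomial -/
theorem aeval_C_mul_X_of_isHomogeneous {σ : Type*} (u : σ → K) {F : MvPolynomial σ k} {d : ℕ}
    (hF : F.IsHomogeneous d) :
    MvPolynomial.aeval (fun i => Polynomial.C (u i) * Polynomial.X) F =
      Polynomial.C (MvPolynomial.aeval u F) * Polynomial.X ^ d := by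
  ext e
  rw [coeff_aeval_C_mul_X, Polynomial.coeff_C_mul_X_pow, MvPolynomial.homogeneousComponent_of_mem hF]
  split_ifs with h
  · rfl
  · rw [map_zero]

end

section
variable {k : Type*} [Field k] {σ : Type*} [Fintype σ]

/-- every polynomial is congruent to its value at `c` modulo the ideal `(X i - c i)` -/
theorem exists_eq_C_add_sum (c : σ → k) (G : MvPolynomial σ k) :
    ∃ B : σ → MvPolynomial σ k,
      G = MvPolynomial.C (MvPolynomial.eval c G) +
        ∑ i, (MvPolynomial.X i - MvPolynomial.C (c i)) * B i := by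
  classical
  induction G using MvPolynomial.induction_on with
  | C a => exact ⟨fun _ => 0, by simp⟩
  | add p q hp hq =>
    obtain ⟨Bp, hBp⟩ := hp
    obtain ⟨Bq, hBq⟩ := hq
    refine ⟨fun i => Bp i + Bq i, ?_⟩
    conv_lhs => rw [hBp, hBq]
    simp only [map_add, mul_add, Finset.sum_add_distrib]
    ring
  | mul_X p n hp =>
    obtain ⟨Bp, hBp⟩ := hp
    refine ⟨fun i => Bp i * MvPolynomial.X n + if i = n then MvPolynomial.C (MvPolynomial.eval c p) else 0, ?_⟩
    conv_lhs => rw [hBp]
    simp only [map_mul, MvPolynomial.eval_X, mul_add, Finset.sum_add_distrib, mul_ite, mul_zero,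
      Finset.sum_ite_eq', Finset.mem_univ, if_true, add_mul, Finset.sum_mul]
    have : ∀ i, (MvPolynomial.X i - MvPolynomial.C (c i)) * Bp i * MvPolynomial.X n =
        (MvPolynomial.X i - MvPolynomial.C (c i)) * (Bp i * MvPolynomial.X n) := fun i => by ring
    simp only [this]
    ring

theorem eval_pderiv_of_dec (c : σ → k) {G : MvPolynomial σ k} {a : k}
    {B : σ → MvPolynomial σ k}
    (h : G = MvPolynomial.C a + ∑ i, (MvPolynomial.X i - MvPolynomial.C (c i)) * B i) (l : σ) :
    MvPolynomial.eval c (MvPolynomial.pderiv l G) = MvPolynomial.eval c (B l) := by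
  classical
  rw [h, map_add, MvPolynomial.pderiv_C, zero_add, map_sum, map_sum]
  rw [Finset.sum_eq_single l]
  · rw [Derivation.leibniz, map_sub, MvPolynomial.pderiv_X_self, MvPolynomial.pderiv_C]
    simp
  · intro i _ hil
    rw [Derivation.leibniz, map_sub, MvPolynomial.pderiv_X_of_ne hil,
      MvPolynomial.pderiv_C]
    simp
  · intro h; exact absurd (Finset.mem_univ l) h

/-- Leibniz rule at a point -/
theorem eval_pderiv_mul (c : σ → k) (l : σ) (G H : MvPolynomial σ k) :
    MvPolynomial.eval c (MvPolynomial.pderiv l (G * H)) =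
      MvPolynomial.eval c G * MvPolynomial.eval c (MvPolynomial.pderiv l H) +
        MvPolynomial.eval c H * MvPolynomial.eval c (MvPolynomial.pderiv l G) := by
  rw [Derivation.leibniz]
  simp [smul_eq_mul]

end

end Groth.Agent.H55

namespace Groth.Agent.H55

open Polynomial FunFld

section
variable {k K : Type*} [Field k] [Field K] [Algebra k K] {σ : Type*}

theorem val_aeval_le_one (P : Place k K) {x : σ → K} (hx : ∀ i, P.1 (x i) ≤ 1)
    (U : MvPolynomial σ k) : P.1 (MvPolynomial.aeval x U) ≤ 1 := by
  induction U using MvPolynomial.induction_on with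
  | C a => rw [MvPolynomial.aeval_C]; exact Place.val_algebraMap_le_one P a
  | add p q hp hq => rw [map_add]; exact (P.1.map_add _ _).trans (max_le hp hq)
  | mul_X p i hp =>
    rw [map_mul, MvPolynomial.aeval_X, map_mul]
    exact mul_le_one' hp (hx i)

theorem val_aeval_sub_lt_one [Fintype σ] (P : Place k K) {x : σ → K} {c : σ → k}
    (hxc : ∀ i, P.1 (x i - algebraMap k K (c i)) < 1) (U : MvPolynomial σ k) :
    P.1 (MvPolynomial.aeval x U - algebraMap k K (MvPolynomial.eval c U)) < 1 := by
  have hx : ∀ i, P.1 (x i) ≤ 1 := fun i => val_le_one_of_const P (hxc i)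
  obtain ⟨B, hB⟩ := exists_eq_C_add_sum c U
  have h1 : MvPolynomial.aeval x U - algebraMap k K (MvPolynomial.eval c U) =
      ∑ i, (x i - algebraMap k K (c i)) * MvPolynomial.aeval x (B i) := by
    conv_lhs => rw [hB]
    simp [map_add, map_sum, map_mul, map_sub]
  rw [h1]
  apply Valuation.map_sum_lt P.1 one_ne_zero
  intro i _
  rw [map_mul]
  calc P.1 (x i - algebraMap k K (c i)) * P.1 (MvPolynomial.aeval x (B i))
      ≤ P.1 (x i - algebraMap k K (c i)) * 1 := mul_le_mul_right (val_aeval_le_one P hx _) _
    _ = P.1 (x i - algebraMap k K (c i)) := mul_one _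
    _ < 1 := hxc i

/-- a polynomial expression in the coordinates is a unit at `P` iff its value at the centre is
nonzero -/
theorem val_aeval_eq_one_iff [Fintype σ] (P : Place k K) {x : σ → K} {c : σ → k}
    (hxc : ∀ i, P.1 (x i - algebraMap k K (c i)) < 1) (U : MvPolynomial σ k) :
    P.1 (MvPolynomial.aeval x U) = 1 ↔ MvPolynomial.eval c U ≠ 0 := by
  have h := val_aeval_sub_lt_one P hxc U
  constructor
  · intro h1 h0
    have := (val_lt_one_iff_const_zero P h).mpr h0
    rw [h1] at this
    exact lt_irrefl _ this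
  · intro h0
    exact val_eq_one_of_const_ne_zero P h h0

theorem val_aeval_lt_one_iff [Fintype σ] (P : Place k K) {x : σ → K} {c : σ → k}
    (hxc : ∀ i, P.1 (x i - algebraMap k K (c i)) < 1) (U : MvPolynomial σ k) :
    P.1 (MvPolynomial.aeval x U) < 1 ↔ MvPolynomial.eval c U = 0 :=
  val_lt_one_iff_const_zero P (val_aeval_sub_lt_one P hxc U)

end

section
variable {k : Type*} [Field k] {σ : Type*} [Fintype σ]

/-- homogenization with respect to the variable `j`, in degree `e` -/
noncomputable def homog (j : σ) (e : ℕ) (G : MvPolynomial σ k) : MvPolynomial σ k :=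
  ∑ d ∈ Finset.range (e + 1), MvPolynomial.X j ^ (e - d) * MvPolynomial.homogeneousComponent d G

theorem isHomogeneous_homog (j : σ) (e : ℕ) (G : MvPolynomial σ k) :
    (homog j e G).IsHomogeneous e := by
  unfold homog
  apply MvPolynomial.IsHomogeneous.sum
  intro d hd
  rw [Finset.mem_range] at hd
  have := (MvPolynomial.isHomogeneous_X_pow (R := k) j (e - d)).mul
    (MvPolynomial.homogeneousComponent_isHomogeneous d G)
  rwa [Nat.sub_add_cancel (by omega)] at this

theorem eval_pderiv_homog {j l : σ} (hlj : l ≠ j) {c : σ → k} (hcj : c j = 1) {e : ℕ}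
    {G : MvPolynomial σ k} (he : G.totalDegree ≤ e) :
    MvPolynomial.eval c (MvPolynomial.pderiv l (homog j e G)) =
      MvPolynomial.eval c (MvPolynomial.pderiv l G) := by
  have hG : G = ∑ d ∈ Finset.range (e + 1), MvPolynomial.homogeneousComponent d G := by
    conv_lhs => rw [← MvPolynomial.sum_homogeneousComponent G]
    apply Finset.sum_subset
    · intro d hd; rw [Finset.mem_range] at hd ⊢; omega
    · intro d _ hd
      rw [Finset.mem_range, not_lt] at hd
      exact MvPolynomial.homogeneousComponent_eq_zero _ _ (by omega)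
  conv_rhs => rw [hG]
  unfold homog
  rw [map_sum, map_sum, map_sum, map_sum]
  apply Finset.sum_congr rfl
  intro d _
  rw [eval_pderiv_mul, map_pow, MvPolynomial.eval_X, hcj, one_pow, one_mul]
  have : MvPolynomial.pderiv l (MvPolynomial.X j ^ (e - d) : MvPolynomial σ k) = 0 := by
    rw [Derivation.leibniz_pow, MvPolynomial.pderiv_X_of_ne (Ne.symm hlj), smul_zero, smul_zero]
  rw [this, map_zero, mul_zero, add_zero]

end

section
variable {k K : Type*} [Field k] [Field K] [Algebra k K] {σ : Type*} [Fintype σ]

theorem aeval_homog (φ : σ → K) (j : σ) (hj : φ j ≠ 0) {e : ℕ} {G : MvPolynomial σ k}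
    (he : G.totalDegree ≤ e) :
    MvPolynomial.aeval φ (homog j e G) =
      φ j ^ e * MvPolynomial.aeval (fun i => φ i / φ j) G := by
  have hG : G = ∑ d ∈ Finset.range (e + 1), MvPolynomial.homogeneousComponent d G := by
    conv_lhs => rw [← MvPolynomial.sum_homogeneousComponent G]
    apply Finset.sum_subset
    · intro d hd; rw [Finset.mem_range] at hd ⊢; omega
    · intro d _ hd
      rw [Finset.mem_range, not_lt] at hd
      exact MvPolynomial.homogeneousComponent_eq_zero _ _ (by omega)
  conv_rhs => rw [hG]
  unfold homog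
  rw [map_sum, map_sum, Finset.mul_sum]
  apply Finset.sum_congr rfl
  intro d hd
  rw [Finset.mem_range] at hd
  rw [map_mul, map_pow, MvPolynomial.aeval_X]
  have h1 : φ = fun i => φ j * (φ i / φ j) := by
    funext i; field_simp
  have h2 := aeval_mul_of_isHomogeneous (MvPolynomial.homogeneousComponent_isHomogeneous d G)
    (fun i => φ i / φ j) (φ j)
  have h3 : MvPolynomial.aeval φ (MvPolynomial.homogeneousComponent d G) =
      φ j ^ d * MvPolynomial.aeval (fun i => φ i / φ j)
        (MvPolynomial.homogeneousComponent d G) := by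
    conv_lhs => rw [h1]
    exact h2
  rw [h3, ← mul_assoc, ← pow_add, Nat.sub_add_cancel (by omega)]

end

end Groth.Agent.H55
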