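import Groth.Agent.H55.Jac1

/-! S11072: the Jacobian criterion for plane curves. -/

set_option autoImplicit false
set_option linter.style.haveILetI false
set_option linter.unusedSectionVars false

namespace Groth.Agent.H55

open Polynomial FunFld WithZero

section
variable {k K : Type*} [Field k] [Field K] [Algebra k K]

/-- nonsingularity in terms of polynomial expressions in the chart coordinates -/
theorem isNonsingularAt_iff_chart {ι : Type*} (φ : ι → K) (P : Place k K) {j : ι} (hj0 : φ j ≠ 0)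
    (hjP : ∀ i, P.1 (φ i) ≤ P.1 (φ j)) :
    IsNonsingularAt φ P ↔ ∀ z : K, P.1 z ≤ 1 → ∃ U W : MvPolynomial ι k,
      P.1 (MvPolynomial.aeval (fun i => φ i / φ j) W) = 1 ∧
      z * MvPolynomial.aeval (fun i => φ i / φ j) W = MvPolynomial.aeval (fun i => φ i / φ j) U := by
  unfold IsNonsingularAt
  apply forall_congr'
  intro z
  apply imp_congr Iff.rfl
  rw [inLocRing_iff_inLoc φ P hj0 hjP z]
  unfold InLoc
  rw [ratioAlg_eq_adjoin_range, Algebra.adjoin_range_eq_range_aeval]
  constructor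
  · rintro ⟨u, ⟨U, rfl⟩, w, ⟨W, rfl⟩, hw, hzw⟩
    exact ⟨U, W, hw, hzw⟩
  · rintro ⟨U, W, hw, hzw⟩
    exact ⟨_, ⟨U, rfl⟩, _, ⟨W, rfl⟩, hw, hzw⟩

theorem exists_third (j l : Fin 3) (h : l ≠ j) :
    ∃ i₀ : Fin 3, i₀ ≠ j ∧ i₀ ≠ l ∧ ∀ i, i = j ∨ i = l ∨ i = i₀ := by
  revert j l
  decide

theorem sum_fin_three {M : Type*} [AddCommMonoid M] (t : Fin 3 → M) {j l i₀ : Fin 3}
    (hlj : l ≠ j) (hij : i₀ ≠ j) (hil : i₀ ≠ l) : ∑ i, t i = t j + t l + t i₀ := by
  have huniv : (Finset.univ : Finset (Fin 3)) = {j, l, i₀} := by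
    revert j l i₀
    decide
  rw [huniv, Finset.sum_insert, Finset.sum_insert, Finset.sum_singleton, add_assoc]
  · simpa using hil.symm
  · simp [hlj.symm, hij.symm]


/-- the centre constant of the chart variable `j` is `1` -/
theorem center_self (φ : Fin 3 → K) (P : Place k K) {j : Fin 3} (hj0 : φ j ≠ 0) {c : Fin 3 → k}
    (hxc : ∀ i, P.1 (φ i / φ j - algebraMap k K (c i)) < 1) : c j = 1 := by
  have h := hxc j
  rw [div_self hj0, ← map_one (algebraMap k K), ← map_sub] at h
  by_contra hne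
  have : (1 : k) - c j ≠ 0 := sub_ne_zero.mpr (Ne.symm hne)
  rw [Place.val_algebraMap_eq_one P this] at h
  exact lt_irrefl _ h

theorem chart_diff_ne_zero (φ : Fin 3 → K) (hφ : LinearIndependent k φ) {j l : Fin 3}
    (hlj : l ≠ j) (c : k) : φ l / φ j - algebraMap k K c ≠ 0 := by
  classical
  intro h
  have hj0 : φ j ≠ 0 := hφ.ne_zero j
  apply not_smul_of_linearIndependent hφ hlj c
  rw [sub_eq_zero, div_eq_iff hj0] at h
  rw [h, Algebra.smul_def]

theorem not_nonsingular_of_pderiv_eq_zero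
    (φ : Fin 3 → K) (hφ : LinearIndependent k φ) (P : Place k K) (j : Fin 3)
    (hjP : ∀ i, P.1 (φ i) ≤ P.1 (φ j)) (c : Fin 3 → k)
    (hxc : ∀ i, P.1 (φ i / φ j - algebraMap k K (c i)) < 1)
    (f : MvPolynomial (Fin 3) k)
    (hKF : ∀ (G : MvPolynomial (Fin 3) k) (e : ℕ), G.IsHomogeneous e →
      MvPolynomial.aeval φ G = 0 → f ∣ G)
    (hfc : MvPolynomial.eval c f = 0)
    (hD : ∀ l, MvPolynomial.eval c (MvPolynomial.pderiv l f) = 0) :
    ¬ IsNonsingularAt φ P := by
  classical
  intro hns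
  have hj0 : φ j ≠ 0 := hφ.ne_zero j
  have hcj : c j = 1 := center_self φ P hj0 hxc
  rw [isNonsingularAt_iff_chart φ P hj0 hjP] at hns
  set x : Fin 3 → K := fun i => φ i / φ j with hx
  set ξ : Fin 3 → K := fun i => x i - algebraMap k K (c i) with hξ
  -- choose the two other indices, `i₀` of larger value
  obtain ⟨l, i₀, hlj, hij, hil, hle⟩ : ∃ l i₀ : Fin 3, l ≠ j ∧ i₀ ≠ j ∧ i₀ ≠ l ∧
      P.1 (ξ l) ≤ P.1 (ξ i₀) := by
    obtain ⟨l₁, hl₁⟩ : ∃ l₁ : Fin 3, l₁ ≠ j := by
      fin_cases j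
      · exact ⟨1, by decide⟩
      · exact ⟨0, by decide⟩
      · exact ⟨0, by decide⟩
    obtain ⟨i₁, hi₁j, hi₁l, -⟩ := exists_third j l₁ hl₁
    rcases le_total (P.1 (ξ l₁)) (P.1 (ξ i₁)) with h | h
    · exact ⟨l₁, i₁, hl₁, hi₁j, hi₁l, h⟩
    · exact ⟨i₁, l₁, hi₁j, hl₁, hi₁l.symm, h⟩
  have hξ0 : ξ i₀ ≠ 0 := chart_diff_ne_zero φ hφ hij (c i₀)
  set z := ξ l / ξ i₀ with hz
  have hzle : P.1 z ≤ 1 := by
    rw [hz, map_div₀]
    exact (div_le_one₀ (zero_lt_iff.mpr ((Valuation.ne_zero_iff _).mpr hξ0))).mpr hle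
  obtain ⟨U, W, hW1, hzW⟩ := hns z hzle
  set G : MvPolynomial (Fin 3) k :=
    (MvPolynomial.X l - MvPolynomial.C (c l)) * W -
      (MvPolynomial.X i₀ - MvPolynomial.C (c i₀)) * U with hG
  have hGx : MvPolynomial.aeval x G = 0 := by
    rw [hG, map_sub, map_mul, map_mul, map_sub, map_sub, MvPolynomial.aeval_X,
      MvPolynomial.aeval_X, MvPolynomial.aeval_C, MvPolynomial.aeval_C, ← hzW]
    show ξ l * _ - ξ i₀ * (z * _) = 0
    rw [hz]
    field_simp
    ring
  -- homogenize and divide by `f`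
  have hGh : MvPolynomial.aeval φ (homog j G.totalDegree G) = 0 := by
    rw [aeval_homog φ j hj0 le_rfl]
    show _ * MvPolynomial.aeval x G = 0
    rw [hGx, mul_zero]
  obtain ⟨H, hH⟩ := hKF _ _ (isHomogeneous_homog j G.totalDegree G) hGh
  have h1 : MvPolynomial.eval c (MvPolynomial.pderiv l G) = 0 := by
    rw [← eval_pderiv_homog hlj hcj le_rfl, hH, eval_pderiv_mul, hfc, hD l]
    ring
  have h2 : MvPolynomial.eval c (MvPolynomial.pderiv l G) = MvPolynomial.eval c W := by
    rw [hG, map_sub, map_sub, eval_pderiv_mul, eval_pderiv_mul]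
    simp only [map_sub, MvPolynomial.eval_X, MvPolynomial.eval_C, sub_self, zero_mul, zero_add,
      MvPolynomial.pderiv_X_self, MvPolynomial.pderiv_C, map_one, sub_zero, mul_one,
      MvPolynomial.pderiv_X_of_ne hil, map_zero, mul_zero]
  have h3 : MvPolynomial.eval c W ≠ 0 := (val_aeval_eq_one_iff P hxc W).mp hW1
  exact h3 (h2 ▸ h1)


theorem nonsingular_of_pderiv_ne_zero
    (φ : Fin 3 → K) (hφ : LinearIndependent k φ)
    (hbir : IntermediateField.adjoin k (Set.range fun i => φ i / φ 0) = ⊤)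
    (P : Place k K) (j : Fin 3)
    (hjP : ∀ i, P.1 (φ i) ≤ P.1 (φ j)) (c : Fin 3 → k)
    (hxc : ∀ i, P.1 (φ i / φ j - algebraMap k K (c i)) < 1)
    (f : MvPolynomial (Fin 3) k)
    (hfx : MvPolynomial.aeval (fun i => φ i / φ j) f = 0)
    (hfc : MvPolynomial.eval c f = 0)
    {l : Fin 3} (hlj : l ≠ j) (hD : MvPolynomial.eval c (MvPolynomial.pderiv l f) ≠ 0) :
    IsNonsingularAt φ P := by
  classical
  have hj0 : φ j ≠ 0 := hφ.ne_zero j
  have hcj : c j = 1 := center_self φ P hj0 hxc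
  rw [isNonsingularAt_iff_chart φ P hj0 hjP]
  set x : Fin 3 → K := fun i => φ i / φ j with hx
  set ξ : Fin 3 → K := fun i => x i - algebraMap k K (c i) with hξ
  have hξj : ξ j = 0 := by
    show φ j / φ j - algebraMap k K (c j) = 0
    rw [div_self hj0, hcj, map_one, sub_self]
  obtain ⟨i₀, hij, hil, -⟩ := exists_third j l hlj
  -- decomposition of a polynomial vanishing at `c`
  have hdec : ∀ U : MvPolynomial (Fin 3) k, MvPolynomial.eval c U = 0 →
      ∃ E : Fin 3 → MvPolynomial (Fin 3) k,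
        MvPolynomial.aeval x U = ξ l * MvPolynomial.aeval x (E l) +
          ξ i₀ * MvPolynomial.aeval x (E i₀) ∧
        ∀ m, MvPolynomial.eval c (E m) = MvPolynomial.eval c (MvPolynomial.pderiv m U) := by
    intro U hU
    obtain ⟨E, hE⟩ := exists_eq_C_add_sum c U
    refine ⟨E, ?_, fun m => (eval_pderiv_of_dec c hE m).symm⟩
    conv_lhs => rw [hE]
    rw [hU, map_zero, zero_add, map_sum, sum_fin_three _ hlj hij hil]
    simp only [map_mul, map_sub, MvPolynomial.aeval_X, MvPolynomial.aeval_C]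
    show ξ j * _ + ξ l * _ + ξ i₀ * _ = _
    rw [hξj, zero_mul, zero_add]
  obtain ⟨B, hBx, hBc⟩ := hdec f hfc
  rw [hfx] at hBx
  set β := MvPolynomial.aeval x (B l) with hβ
  set γ := MvPolynomial.aeval x (B i₀) with hγ
  have hβ1 : P.1 β = 1 := (val_aeval_eq_one_iff P hxc (B l)).mpr (by rw [hBc]; exact hD)
  have hrel : ξ l * β = -(ξ i₀ * γ) := eq_neg_of_add_eq_zero_left hBx.symm
  have hξ0 : ξ i₀ ≠ 0 := chart_diff_ne_zero φ hφ hij (c i₀)
  have hξlt : P.1 (ξ i₀) < 1 := hxc i₀
  have hξord : 1 ≤ P.ord (ξ i₀) := by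
    rw [Place.le_ord_iff P hξ0]
    exact lt_one_iff_le_exp_neg_one.mp hξlt
  -- S1
  have hS1 : ∀ U : MvPolynomial (Fin 3) k, MvPolynomial.eval c U = 0 →
      ∃ U₁ : MvPolynomial (Fin 3) k,
        MvPolynomial.aeval x U * β = ξ i₀ * MvPolynomial.aeval x U₁ := by
    intro U hU
    obtain ⟨E, hEx, -⟩ := hdec U hU
    refine ⟨B l * E i₀ - B i₀ * E l, ?_⟩
    rw [hEx, map_sub, map_mul, map_mul]
    show _ = ξ i₀ * (β * _ - γ * _)
    have : (ξ l * MvPolynomial.aeval x (E l) + ξ i₀ * MvPolynomial.aeval x (E i₀)) * β =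
        (ξ l * β) * MvPolynomial.aeval x (E l) + ξ i₀ * (β * MvPolynomial.aeval x (E i₀)) := by
      ring
    rw [this, hrel]
    ring
  -- S2
  have hS2 : ∀ n : ℕ, ∀ U : MvPolynomial (Fin 3) k, MvPolynomial.aeval x U ≠ 0 →
      P.ord (MvPolynomial.aeval x U) ≤ n →
      ∃ (m : ℕ) (U' W' : MvPolynomial (Fin 3) k),
        P.1 (MvPolynomial.aeval x U') = 1 ∧ P.1 (MvPolynomial.aeval x W') = 1 ∧
        MvPolynomial.aeval x U * MvPolynomial.aeval x W' =
          ξ i₀ ^ m * MvPolynomial.aeval x U' := by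
    intro n
    induction n with
    | zero =>
      intro U hU0 hord
      have hle : P.1 (MvPolynomial.aeval x U) ≤ 1 :=
        val_aeval_le_one P (fun i => val_le_one_of_const P (hxc i)) U
      refine ⟨0, U, 1, ?_, by simp, by simp⟩
      apply le_antisymm hle
      have := (Place.le_ord_iff P hU0 0).mp
      rw [Place.val_eq_exp_neg_ord P hU0, ← exp_zero, exp_le_exp]
      have h0 : (0 : ℤ) ≤ P.ord (MvPolynomial.aeval x U) := by
        rw [Place.le_ord_iff P hU0]; simpa using hle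
      push_cast at hord
      omega
    | succ n ih =>
      intro U hU0 hord
      have hle : P.1 (MvPolynomial.aeval x U) ≤ 1 :=
        val_aeval_le_one P (fun i => val_le_one_of_const P (hxc i)) U
      by_cases h1 : P.1 (MvPolynomial.aeval x U) = 1
      · exact ⟨0, U, 1, h1, by simp, by simp⟩
      · have hlt : P.1 (MvPolynomial.aeval x U) < 1 := lt_of_le_of_ne hle h1
        have hUc : MvPolynomial.eval c U = 0 := (val_aeval_lt_one_iff P hxc U).mp hlt
        obtain ⟨U₁, hU₁⟩ := hS1 U hUc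
        have hβ0 : β ≠ 0 := by
          intro h; rw [h, map_zero] at hβ1; exact zero_ne_one hβ1
        have hU₁0 : MvPolynomial.aeval x U₁ ≠ 0 := by
          intro h
          rw [h, mul_zero] at hU₁
          exact (mul_ne_zero hU0 hβ0) hU₁
        have hordeq : P.ord (MvPolynomial.aeval x U) + P.ord β =
            P.ord (ξ i₀) + P.ord (MvPolynomial.aeval x U₁) := by
          rw [← Place.ord_mul P hU0 hβ0, ← Place.ord_mul P hξ0 hU₁0, hU₁]
        have hβord : P.ord β = 0 := by
          rw [Place.ord_eq_iff P hβ0, hβ1]; simp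
        obtain ⟨m, U', W', hU', hW', hrel'⟩ := ih U₁ hU₁0 (by push_cast at hord; omega)
        refine ⟨m + 1, U', B l * W', hU', ?_, ?_⟩
        · rw [map_mul, map_mul, hW', mul_one]; exact hβ1
        · rw [map_mul]
          show _ * (β * _) = _
          rw [← mul_assoc, hU₁, mul_assoc, hrel', pow_succ]
          ring
  -- S3
  intro z hz
  by_cases hz0 : z = 0
  · exact ⟨0, 1, by simp, by simp [hz0]⟩
  set A : Subalgebra k K := Algebra.adjoin k (Set.range x) with hA
  have hAtop : IntermediateField.adjoin k (A : Set K) = ⊤ := by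
    rw [eq_top_iff, ← hbir, IntermediateField.adjoin_le_iff]
    rintro _ ⟨i, rfl⟩
    have h1 : φ i / φ 0 = (φ i / φ j) / (φ 0 / φ j) := by
      have h00 : φ 0 ≠ 0 := hφ.ne_zero 0
      field_simp
    show φ i / φ 0 ∈ IntermediateField.adjoin k (A : Set K)
    rw [h1]
    apply div_mem
    · exact IntermediateField.subset_adjoin k _ (Algebra.subset_adjoin ⟨i, rfl⟩)
    · exact IntermediateField.subset_adjoin k _ (Algebra.subset_adjoin ⟨0, rfl⟩)
  obtain ⟨r, hrA, hr0, hrz⟩ := frac_of_top A hAtop z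
  rw [hA, Algebra.adjoin_range_eq_range_aeval] at hrA hrz
  obtain ⟨R, hR⟩ := hrA
  obtain ⟨S, hS⟩ := hrz
  replace hR : MvPolynomial.aeval x R = r := hR
  replace hS : MvPolynomial.aeval x S = r * z := hS
  subst hR
  have hS0 : MvPolynomial.aeval x S ≠ 0 := by
    rw [hS]; exact mul_ne_zero hr0 hz0
  obtain ⟨b, R', Wr, hR', hWr, hRrel⟩ := hS2 _ R hr0 (Int.self_le_toNat _)
  obtain ⟨a, S', Ws, hS', hWs, hSrel⟩ := hS2 _ S hS0 (Int.self_le_toNat _)
  -- compare orders
  have hne : ∀ {V : MvPolynomial (Fin 3) k}, P.1 (MvPolynomial.aeval x V) = 1 →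
      MvPolynomial.aeval x V ≠ 0 := by
    intro V hV h; rw [h, map_zero] at hV; exact zero_ne_one hV
  have hord0 : ∀ {V : MvPolynomial (Fin 3) k}, P.1 (MvPolynomial.aeval x V) = 1 →
      P.ord (MvPolynomial.aeval x V) = 0 := by
    intro V hV
    rw [Place.ord_eq_iff P (hne hV), hV]; simp
  have hab : b ≤ a := by
    have e1 : P.ord (MvPolynomial.aeval x R) = b * P.ord (ξ i₀) := by
      have := congrArg P.ord hRrel
      rw [Place.ord_mul P hr0 (hne hWr), Place.ord_mul P (pow_ne_zero _ hξ0) (hne hR'),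
        hord0 hWr, hord0 hR', Place.ord_pow] at this
      linarith
    have e2 : P.ord (MvPolynomial.aeval x S) = a * P.ord (ξ i₀) := by
      have := congrArg P.ord hSrel
      rw [Place.ord_mul P hS0 (hne hWs), Place.ord_mul P (pow_ne_zero _ hξ0) (hne hS'),
        hord0 hWs, hord0 hS', Place.ord_pow] at this
      linarith
    have e3 : P.ord (MvPolynomial.aeval x S) = P.ord (MvPolynomial.aeval x R) + P.ord z := by
      rw [hS, Place.ord_mul P hr0 hz0]
    have e4 : 0 ≤ P.ord z := by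
      rw [Place.le_ord_iff P hz0]; simpa using hz
    by_contra hlt
    push Not at hlt
    have : (a : ℤ) + 1 ≤ b := by exact_mod_cast hlt
    nlinarith
  refine ⟨(MvPolynomial.X i₀ - MvPolynomial.C (c i₀)) ^ (a - b) * S' * Wr, R' * Ws, ?_, ?_⟩
  · rw [map_mul, map_mul, hR', hWs, mul_one]
  · have hξpow : ξ i₀ ^ b ≠ 0 := pow_ne_zero _ hξ0
    apply mul_right_cancel₀ hξpow
    simp only [map_mul, map_pow, map_sub, MvPolynomial.aeval_X, MvPolynomial.aeval_C]
    show z * (_ * _) * ξ i₀ ^ b = ξ i₀ ^ (a - b) * _ * _ * ξ i₀ ^ b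
    have hpow : ξ i₀ ^ (a - b) * ξ i₀ ^ b = ξ i₀ ^ a := by
      rw [← pow_add, Nat.sub_add_cancel hab]
    calc z * (MvPolynomial.aeval x R' * MvPolynomial.aeval x Ws) * ξ i₀ ^ b
        = z * (ξ i₀ ^ b * MvPolynomial.aeval x R') * MvPolynomial.aeval x Ws := by ring
      _ = z * (MvPolynomial.aeval x R * MvPolynomial.aeval x Wr) * MvPolynomial.aeval x Ws := by
          rw [hRrel]
      _ = (MvPolynomial.aeval x R * z) * MvPolynomial.aeval x Ws * MvPolynomial.aeval x Wr := by
          ring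
      _ = (ξ i₀ ^ a * MvPolynomial.aeval x S') * MvPolynomial.aeval x Wr := by
          rw [← hS, hSrel]
      _ = ξ i₀ ^ (a - b) * MvPolynomial.aeval x S' * MvPolynomial.aeval x Wr * ξ i₀ ^ b := by
          rw [← hpow]; ring


/-- S11072 -/
theorem not_isNonsingularAt_iff_pderiv_eq_zero [IsAlgClosed k]
    (hK : IsFunctionField k K) (φ : Fin 3 → K)
    (hφ : LinearIndependent k φ)
    (hbir : IntermediateField.adjoin k (Set.range fun i => φ i / φ 0) = ⊤)
    (f : MvPolynomial (Fin 3) k) (hf : Irreducible f) (hhom : f.IsHomogeneous f.totalDegree)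
    (hfφ : MvPolynomial.aeval φ f = 0) (P : Place k K) (j : Fin 3)
    (hj : ∀ i, P.1 (φ i) ≤ P.1 (φ j)) (a : Fin 3 → P.O) (ha : ∀ i, ((a i : P.O) : K) = φ i / φ j) :
    ¬ IsNonsingularAt φ P ↔
      ∀ l : Fin 3, MvPolynomial.aeval (fun i => IsLocalRing.residue P.O (a i))
        (MvPolynomial.pderiv l f) = 0 := by
  classical
  have hj0 : φ j ≠ 0 := hφ.ne_zero j
  have h00 : φ 0 ≠ 0 := hφ.ne_zero 0
  have hdeg1 : P.deg = 1 := Place.deg_eq_one_of_isAlgClosed hK P
  have hxle : ∀ i, P.1 (φ i / φ j) ≤ 1 := by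
    intro i
    rw [map_div₀]
    exact (div_le_one₀ (zero_lt_iff.mpr ((Valuation.ne_zero_iff _).mpr hj0))).mpr (hj i)
  choose c hxc using fun i => Place.exists_const_sub_lt_one hdeg1 (hxle i)
  -- residues are the constants `c i`
  have hres : ∀ i, IsLocalRing.residue P.O (a i) =
      algebraMap k (IsLocalRing.ResidueField P.O) (c i) := by
    intro i
    have h1 : IsLocalRing.residue P.O (a i - algebraMap k P.O (c i)) = 0 := by
      rw [Place.residue_eq_zero_iff]
      have : ((a i - algebraMap k P.O (c i) : P.O) : K) = φ i / φ j - algebraMap k K (c i) := by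
        rw [← ha i]; rfl
      rw [this]
      exact hxc i
    rw [map_sub, sub_eq_zero] at h1
    rw [h1]; rfl
  have hcond : ∀ g : MvPolynomial (Fin 3) k,
      MvPolynomial.aeval (fun i => IsLocalRing.residue P.O (a i)) g = 0 ↔
        MvPolynomial.eval c g = 0 := by
    intro g
    have h1 : (fun i => IsLocalRing.residue P.O (a i)) =
        (algebraMap k (IsLocalRing.ResidueField P.O)) ∘ c := by
      funext i; exact hres i
    haveI : IsScalarTower k k (IsLocalRing.ResidueField P.O) :=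
      IsScalarTower.of_algebraMap_eq (fun r => rfl)
    rw [h1, MvPolynomial.aeval_algebraMap_apply,
      map_eq_zero_iff _ (algebraMap k (IsLocalRing.ResidueField P.O)).injective]
    rfl
  simp_rw [hcond]
  -- the kernel fact from the homogeneous ideal
  set x' := φ 1 / φ 0 with hx'
  set y' := φ 2 / φ 0 with hy'
  have hratio : (fun i => (![(1 : K), x', y'] i)) = fun i => (φ 0)⁻¹ * φ i := by
    funext i
    fin_cases i
    · simp [h00]
    · simp [hx', div_eq_inv_mul]
    · simp [hy', div_eq_inv_mul]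
  have hxy' : IntermediateField.adjoin k ({x', y'} : Set K) = ⊤ := by
    rw [eq_top_iff, ← hbir, IntermediateField.adjoin_le_iff]
    rintro _ ⟨i, rfl⟩
    fin_cases i
    · simp only [Fin.zero_eta, div_self h00]
      exact one_mem _
    · exact IntermediateField.subset_adjoin k _ (by simp [hx'])
    · exact IntermediateField.subset_adjoin k _ (by simp [hy'])
  obtain ⟨f', hf'irr, -, hker⟩ := ker_plane_relations_eq_span hK x' y' hxy'
  have hmem : ∀ (G : MvPolynomial (Fin 3) k) (e : ℕ), G.IsHomogeneous e →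
      MvPolynomial.aeval φ G = 0 → f' ∣ G := by
    intro G e hG hGφ
    rw [← Ideal.mem_span_singleton, ← hker, RingHom.mem_ker]
    show MvPolynomial.aeval (fun i => Polynomial.C (![(1 : K), x', y'] i) * Polynomial.X) G = 0
    rw [aeval_C_mul_X_of_isHomogeneous _ hG]
    have h1 : MvPolynomial.aeval (fun i => (![(1 : K), x', y'] i)) G = 0 := by
      rw [hratio, aeval_mul_of_isHomogeneous hG, hGφ, mul_zero]
    rw [h1, map_zero, zero_mul]
  have hassoc : Associated f' f := hf'irr.associated_of_dvd hf (hmem f _ hhom hfφ)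
  have hKF : ∀ (G : MvPolynomial (Fin 3) k) (e : ℕ), G.IsHomogeneous e →
      MvPolynomial.aeval φ G = 0 → f ∣ G := fun G e hG hGφ =>
    hassoc.symm.dvd.trans (hmem G e hG hGφ)
  -- `f` vanishes on the chart and at the centre
  have hfx : MvPolynomial.aeval (fun i => φ i / φ j) f = 0 := by
    have h1 : (fun i => φ i / φ j) = fun i => (φ j)⁻¹ * φ i := by
      funext i; rw [div_eq_inv_mul]
    rw [h1, aeval_mul_of_isHomogeneous hhom, hfφ, mul_zero]
  have hfc : MvPolynomial.eval c f = 0 := by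
    rw [← val_aeval_lt_one_iff P hxc f, hfx, map_zero]
    exact zero_lt_one
  have hcj : c j = 1 := center_self φ P hj0 hxc
  constructor
  · intro hns
    by_contra hcon
    push Not at hcon
    obtain ⟨l, hl⟩ := hcon
    apply hns
    -- Euler's identity gives a nonvanishing derivative in a chart direction
    have heuler := congrArg (MvPolynomial.eval c) hhom.sum_X_mul_pderiv
    rw [map_sum, map_nsmul, hfc, smul_zero] at heuler
    simp only [map_mul, MvPolynomial.eval_X] at heuler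
    obtain ⟨l', hl'j, hl'⟩ : ∃ l', l' ≠ j ∧
        MvPolynomial.eval c (MvPolynomial.pderiv l' f) ≠ 0 := by
      by_contra hno
      push Not at hno
      rw [Finset.sum_eq_single j] at heuler
      · rw [hcj, one_mul] at heuler
        by_cases hlj : l = j
        · rw [hlj] at hl; exact hl heuler
        · exact hl (hno l hlj)
      · intro i _ hij
        rw [hno i hij, mul_zero]
      · intro h; exact absurd (Finset.mem_univ j) h
    exact nonsingular_of_pderiv_ne_zero φ hφ hbir P j hj c hxc f hfx hfc hl'j hl'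
  · intro hD
    exact not_nonsingular_of_pderiv_eq_zero φ hφ P j hj c hxc f hKF hfc hD

end

end Groth.Agent.H55
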