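import Groth.Agent.H55.Jac2

/-! General-`n` Jacobian criterion, part 1: parameters, tangent vectors. -/

set_option autoImplicit false
set_option linter.style.haveILetI false
set_option linter.unusedSectionVars false

namespace Groth.Agent.H55

open Polynomial FunFld WithZero Matrix

section
variable {k K : Type*} [Field k] [Field K] [Algebra k K] {σ : Type*} [Fintype σ]

/-- the centre constant of the chart variable `j` is `1` -/
theorem center_self' (φ : σ → K) (P : Place k K) {j : σ} (hj0 : φ j ≠ 0) {c : σ → k}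
    (hxc : ∀ i, P.1 (φ i / φ j - algebraMap k K (c i)) < 1) : c j = 1 := by
  have h := hxc j
  rw [div_self hj0, ← map_one (algebraMap k K), ← map_sub] at h
  by_contra hne
  have : (1 : k) - c j ≠ 0 := sub_ne_zero.mpr (Ne.symm hne)
  rw [Place.val_algebraMap_eq_one P this] at h
  exact lt_irrefl _ h

theorem chart_diff_ne_zero' (φ : σ → K) (hφ : LinearIndependent k φ) {j l : σ}
    (hlj : l ≠ j) (c : k) : φ l / φ j - algebraMap k K c ≠ 0 := by
  classical
  intro h
  have hj0 : φ j ≠ 0 := hφ.ne_zero j
  apply not_smul_of_linearIndependent hφ hlj c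
  rw [sub_eq_zero, div_eq_iff hj0] at h
  rw [h, Algebra.smul_def]

/-- a constant of valuation `< 1` vanishes -/
theorem const_eq_zero_of_val_lt_one (P : Place k K) {a : k} (h : P.1 (algebraMap k K a) < 1) :
    a = 0 := by
  by_contra ha
  rw [Place.val_algebraMap_eq_one P ha] at h
  exact lt_irrefl _ h

/-- If some polynomial expression `τ` in the coordinates `x` divides (up to a unit `D(x)`) every
polynomial expression vanishing at the centre, then every element of the valuation ring is a
quotient of polynomial expressions with unit denominator. -/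
theorem exists_chart_frac_of_parameter (P : Place k K) {x : σ → K} {c : σ → k}
    (hxc : ∀ i, P.1 (x i - algebraMap k K (c i)) < 1)
    (htop : IntermediateField.adjoin k (Set.range x) = ⊤)
    (T : MvPolynomial σ k) (hτ0 : MvPolynomial.aeval x T ≠ 0)
    (hτ1 : P.1 (MvPolynomial.aeval x T) < 1)
    (D : MvPolynomial σ k) (hD : MvPolynomial.eval c D ≠ 0)
    (hS1 : ∀ U : MvPolynomial σ k, MvPolynomial.eval c U = 0 → ∃ U₁ : MvPolynomial σ k,
      MvPolynomial.aeval x U * MvPolynomial.aeval x D =
        MvPolynomial.aeval x T * MvPolynomial.aeval x U₁)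
    (z : K) (hz : P.1 z ≤ 1) :
    ∃ U W : MvPolynomial σ k, P.1 (MvPolynomial.aeval x W) = 1 ∧
      z * MvPolynomial.aeval x W = MvPolynomial.aeval x U := by
  classical
  set τ := MvPolynomial.aeval x T with hτ
  set β := MvPolynomial.aeval x D with hβ
  have hβ1 : P.1 β = 1 := (val_aeval_eq_one_iff P hxc D).mpr hD
  have hξord : 1 ≤ P.ord τ := by
    rw [Place.le_ord_iff P hτ0]
    exact lt_one_iff_le_exp_neg_one.mp hτ1
  -- S2
  have hS2 : ∀ n : ℕ, ∀ U : MvPolynomial σ k, MvPolynomial.aeval x U ≠ 0 →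
      P.ord (MvPolynomial.aeval x U) ≤ n →
      ∃ (m : ℕ) (U' W' : MvPolynomial σ k),
        P.1 (MvPolynomial.aeval x U') = 1 ∧ P.1 (MvPolynomial.aeval x W') = 1 ∧
        MvPolynomial.aeval x U * MvPolynomial.aeval x W' =
          τ ^ m * MvPolynomial.aeval x U' := by
    intro n
    induction n with
    | zero =>
      intro U hU0 hord
      have hle : P.1 (MvPolynomial.aeval x U) ≤ 1 :=
        val_aeval_le_one P (fun i => val_le_one_of_const P (hxc i)) U
      refine ⟨0, U, 1, ?_, by simp, by simp⟩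
      apply le_antisymm hle
      rw [Place.val_eq_exp_neg_ord P hU0, ← exp_zero, exp_le_exp]
      have h0 : (0 : ℤ) ≤ P.ord (MvPolynomial.aeval x U) := by
        rw [Place.le_ord_iff P hU0]; simpa using hle
      push_cast at hord
      omega
    | succ n ih =>
      intro U hU0 hord
      have hle : P.1 (MvPolynomial.aeval x U) ≤ 1 :=
        val_aeval_le_one P (fun i => val_le_one_of_const P (hxc i)) U
      by_cases h1 : P.1 (MvPolynomial.aeval x U) = 1
      · exact ⟨0, U, 1, h1, by simp, by simp⟩
      · have hlt : P.1 (MvPolynomial.aeval x U) < 1 := lt_of_le_of_ne hle h1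
        have hUc : MvPolynomial.eval c U = 0 := (val_aeval_lt_one_iff P hxc U).mp hlt
        obtain ⟨U₁, hU₁⟩ := hS1 U hUc
        have hβ0 : β ≠ 0 := by
          intro h; rw [h, map_zero] at hβ1; exact zero_ne_one hβ1
        have hU₁0 : MvPolynomial.aeval x U₁ ≠ 0 := by
          intro h
          rw [h, mul_zero] at hU₁
          exact (mul_ne_zero hU0 hβ0) hU₁
        have hordeq : P.ord (MvPolynomial.aeval x U) + P.ord β =
            P.ord τ + P.ord (MvPolynomial.aeval x U₁) := by
          rw [← Place.ord_mul P hU0 hβ0, ← Place.ord_mul P hτ0 hU₁0, hU₁]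
        have hβord : P.ord β = 0 := by
          rw [Place.ord_eq_iff P hβ0, hβ1]; simp
        obtain ⟨m, U', W', hU', hW', hrel'⟩ := ih U₁ hU₁0 (by push_cast at hord; omega)
        refine ⟨m + 1, U', D * W', hU', ?_, ?_⟩
        · rw [map_mul, map_mul, hW', mul_one]; exact hβ1
        · rw [map_mul]
          show _ * (β * _) = _
          rw [← mul_assoc, hU₁, mul_assoc, hrel', pow_succ]
          ring
  -- S3
  by_cases hz0 : z = 0
  · exact ⟨0, 1, by simp, by simp [hz0]⟩
  set A : Subalgebra k K := Algebra.adjoin k (Set.range x) with hA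
  have hAtop : IntermediateField.adjoin k (A : Set K) = ⊤ := by
    rw [eq_top_iff, ← htop, IntermediateField.adjoin_le_iff]
    rintro _ ⟨i, rfl⟩
    exact IntermediateField.subset_adjoin k _ (Algebra.subset_adjoin ⟨i, rfl⟩)
  obtain ⟨r, hrA, hr0, hrz⟩ := frac_of_top A hAtop z
  rw [hA, Algebra.adjoin_range_eq_range_aeval] at hrA hrz
  obtain ⟨R, hR⟩ := hrA
  obtain ⟨S, hS⟩ := hrz
  replace hR : MvPolynomial.aeval x R = r := hR
  replace hS : MvPolynomial.aeval x S = r * z := hS
  subst hR
  have hS0 : MvPolynomial.aeval x S ≠ 0 := by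
    rw [hS]; exact mul_ne_zero hr0 hz0
  obtain ⟨b, R', Wr, hR', hWr, hRrel⟩ := hS2 _ R hr0 (Int.self_le_toNat _)
  obtain ⟨a, S', Ws, hS', hWs, hSrel⟩ := hS2 _ S hS0 (Int.self_le_toNat _)
  -- compare orders
  have hne : ∀ {V : MvPolynomial σ k}, P.1 (MvPolynomial.aeval x V) = 1 →
      MvPolynomial.aeval x V ≠ 0 := by
    intro V hV h; rw [h, map_zero] at hV; exact zero_ne_one hV
  have hord0 : ∀ {V : MvPolynomial σ k}, P.1 (MvPolynomial.aeval x V) = 1 →
      P.ord (MvPolynomial.aeval x V) = 0 := by
    intro V hV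
    rw [Place.ord_eq_iff P (hne hV), hV]; simp
  have hab : b ≤ a := by
    have e1 : P.ord (MvPolynomial.aeval x R) = b * P.ord τ := by
      have := congrArg P.ord hRrel
      rw [Place.ord_mul P hr0 (hne hWr), Place.ord_mul P (pow_ne_zero _ hτ0) (hne hR'),
        hord0 hWr, hord0 hR', Place.ord_pow] at this
      linarith
    have e2 : P.ord (MvPolynomial.aeval x S) = a * P.ord τ := by
      have := congrArg P.ord hSrel
      rw [Place.ord_mul P hS0 (hne hWs), Place.ord_mul P (pow_ne_zero _ hτ0) (hne hS'),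
        hord0 hWs, hord0 hS', Place.ord_pow] at this
      linarith
    have e3 : P.ord (MvPolynomial.aeval x S) = P.ord (MvPolynomial.aeval x R) + P.ord z := by
      rw [hS, Place.ord_mul P hr0 hz0]
    have e4 : 0 ≤ P.ord z := by
      rw [Place.le_ord_iff P hz0]; simpa using hz
    by_contra hlt
    push Not at hlt
    have : (a : ℤ) + 1 ≤ b := by exact_mod_cast hlt
    nlinarith
  refine ⟨T ^ (a - b) * S' * Wr, R' * Ws, ?_, ?_⟩
  · rw [map_mul, map_mul, hR', hWs, mul_one]
  · have hξpow : τ ^ b ≠ 0 := pow_ne_zero _ hτ0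
    apply mul_right_cancel₀ hξpow
    simp only [map_mul, map_pow]
    show z * (_ * _) * τ ^ b = τ ^ (a - b) * _ * _ * τ ^ b
    have hpow : τ ^ (a - b) * τ ^ b = τ ^ a := by
      rw [← pow_add, Nat.sub_add_cancel hab]
    calc z * (MvPolynomial.aeval x R' * MvPolynomial.aeval x Ws) * τ ^ b
        = z * (τ ^ b * MvPolynomial.aeval x R') * MvPolynomial.aeval x Ws := by ring
      _ = z * (MvPolynomial.aeval x R * MvPolynomial.aeval x Wr) * MvPolynomial.aeval x Ws := by
          rw [hRrel]
      _ = (MvPolynomial.aeval x R * z) * MvPolynomial.aeval x Ws * MvPolynomial.aeval x Wr := by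
          ring
      _ = (τ ^ a * MvPolynomial.aeval x S') * MvPolynomial.aeval x Wr := by
          rw [← hS, hSrel]
      _ = τ ^ (a - b) * MvPolynomial.aeval x S' * MvPolynomial.aeval x Wr * τ ^ b := by
          rw [← hpow]; ring

end

section
variable {k K : Type*} [Field k] [Field K] [Algebra k K] {n : ℕ}

/-- decomposition of a polynomial expression vanishing at the centre along the chart directions -/
theorem chart_relation_sum {x : Fin (n + 1) → K} {c : Fin (n + 1) → k}
    (hx0 : x 0 = algebraMap k K (c 0))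
    (G : MvPolynomial (Fin (n + 1)) k) (hG : MvPolynomial.eval c G = 0) :
    ∃ E : Fin (n + 1) → MvPolynomial (Fin (n + 1)) k,
      (∀ l, MvPolynomial.eval c (E l) = MvPolynomial.eval c (MvPolynomial.pderiv l G)) ∧
      MvPolynomial.aeval x G = ∑ l : Fin n,
        (x l.succ - algebraMap k K (c l.succ)) * MvPolynomial.aeval x (E l.succ) := by
  obtain ⟨E, hE⟩ := exists_eq_C_add_sum c G
  refine ⟨E, fun l => (eval_pderiv_of_dec c hE l).symm, ?_⟩
  conv_lhs => rw [hE]
  rw [hG, map_zero, zero_add, map_sum, Fin.sum_univ_succ]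
  simp only [map_mul, map_sub, MvPolynomial.aeval_X, MvPolynomial.aeval_C]
  rw [hx0, sub_self, zero_mul, zero_add]

/-- the tangent vector at the centre is killed by the gradient of every chart relation -/
theorem tangent_relation (P : Place k K) {x : Fin (n + 1) → K} {c : Fin (n + 1) → k}
    (hx0 : x 0 = algebraMap k K (c 0))
    (hxc : ∀ i, P.1 (x i - algebraMap k K (c i)) < 1)
    (i₀ : Fin n) (t : Fin n → k)
    (ht : ∀ l : Fin n, P.1 ((x l.succ - algebraMap k K (c l.succ)) /
      (x i₀.succ - algebraMap k K (c i₀.succ)) - algebraMap k K (t l)) < 1)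
    (G : MvPolynomial (Fin (n + 1)) k) (hGx : MvPolynomial.aeval x G = 0) :
    ∑ l : Fin n, MvPolynomial.eval c (MvPolynomial.pderiv l.succ G) * t l = 0 := by
  classical
  have hGc : MvPolynomial.eval c G = 0 :=
    (val_aeval_lt_one_iff P hxc G).mp (by rw [hGx, map_zero]; exact zero_lt_one)
  obtain ⟨E, hEc, hEx⟩ := chart_relation_sum hx0 G hGc
  rw [hGx] at hEx
  set τ := x i₀.succ - algebraMap k K (c i₀.succ) with hτ
  have h0 : ∑ l : Fin n, (x l.succ - algebraMap k K (c l.succ)) / τ *
      MvPolynomial.aeval x (E l.succ) = 0 := by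
    have : ∑ l : Fin n, (x l.succ - algebraMap k K (c l.succ)) / τ *
        MvPolynomial.aeval x (E l.succ) =
        (∑ l : Fin n, (x l.succ - algebraMap k K (c l.succ)) *
          MvPolynomial.aeval x (E l.succ)) / τ := by
      rw [Finset.sum_div]
      apply Finset.sum_congr rfl
      intro l _
      ring
    rw [this, ← hEx, zero_div]
  apply const_eq_zero_of_val_lt_one P
  have hx : ∀ i, P.1 (x i) ≤ 1 := fun i => val_le_one_of_const P (hxc i)
  have hrw : algebraMap k K (∑ l : Fin n,
      MvPolynomial.eval c (MvPolynomial.pderiv l.succ G) * t l) =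
      -(∑ l : Fin n, ((x l.succ - algebraMap k K (c l.succ)) / τ *
        MvPolynomial.aeval x (E l.succ) -
        algebraMap k K (t l) * algebraMap k K (MvPolynomial.eval c (E l.succ)))) := by
    rw [Finset.sum_sub_distrib, h0, zero_sub, neg_neg, map_sum]
    apply Finset.sum_congr rfl
    intro l _
    rw [map_mul, hEc, mul_comm]
  rw [hrw, Valuation.map_neg]
  apply Valuation.map_sum_lt P.1 one_ne_zero
  intro l _
  have hsplit : (x l.succ - algebraMap k K (c l.succ)) / τ * MvPolynomial.aeval x (E l.succ) -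
      algebraMap k K (t l) * algebraMap k K (MvPolynomial.eval c (E l.succ)) =
      ((x l.succ - algebraMap k K (c l.succ)) / τ - algebraMap k K (t l)) *
        MvPolynomial.aeval x (E l.succ) +
      algebraMap k K (t l) * (MvPolynomial.aeval x (E l.succ) -
        algebraMap k K (MvPolynomial.eval c (E l.succ))) := by ring
  rw [hsplit]
  apply lt_of_le_of_lt (P.1.map_add _ _)
  apply max_lt
  · rw [map_mul]
    calc P.1 ((x l.succ - algebraMap k K (c l.succ)) / τ - algebraMap k K (t l)) *
          P.1 (MvPolynomial.aeval x (E l.succ))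
        ≤ P.1 ((x l.succ - algebraMap k K (c l.succ)) / τ - algebraMap k K (t l)) * 1 :=
          mul_le_mul_right (val_aeval_le_one P hx _) _
      _ = _ := mul_one _
      _ < 1 := ht l
  · rw [map_mul]
    calc P.1 (algebraMap k K (t l)) * P.1 (MvPolynomial.aeval x (E l.succ) -
          algebraMap k K (MvPolynomial.eval c (E l.succ)))
        ≤ 1 * P.1 (MvPolynomial.aeval x (E l.succ) -
          algebraMap k K (MvPolynomial.eval c (E l.succ))) :=
          mul_le_mul_left (Place.val_algebraMap_le_one P _) _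
      _ = _ := one_mul _
      _ < 1 := val_aeval_sub_lt_one P hxc _

/-- nonsingularity forces the kernel of the Jacobian matrix to be at most a line -/
theorem ker_constraint_of_nonsingular (φ : Fin (n + 1) → K) (hφ : LinearIndependent k φ)
    (P : Place k K) (hP : ∀ i, P.1 (φ i) ≤ P.1 (φ 0)) (c : Fin (n + 1) → k)
    (hxc : ∀ i, P.1 (φ i / φ 0 - algebraMap k K (c i)) < 1)
    {r : ℕ} (f : Fin r → MvPolynomial (Fin (n + 1)) k)
    (hfc : ∀ i, MvPolynomial.eval c (f i) = 0)
    (hmem : ∀ (G : MvPolynomial (Fin (n + 1)) k) (e : ℕ), G.IsHomogeneous e →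
      MvPolynomial.aeval φ G = 0 → G ∈ Ideal.span (Set.range f))
    (hns : IsNonsingularAt φ P) (i₀ : Fin n)
    (hmax : ∀ l : Fin n, P.1 (φ l.succ / φ 0 - algebraMap k K (c l.succ)) ≤
      P.1 (φ i₀.succ / φ 0 - algebraMap k K (c i₀.succ))) :
    ∃ lam : Fin n → k, ∀ w : Fin n → k,
      (∀ i, ∑ l : Fin n, MvPolynomial.eval c (MvPolynomial.pderiv l.succ (f i)) * w l = 0) →
      ∀ m, w m = lam m * w i₀ := by
  classical
  have hj0 : φ 0 ≠ 0 := hφ.ne_zero 0
  have hc0 : c 0 = 1 := center_self' φ P hj0 hxc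
  rw [isNonsingularAt_iff_chart φ P hj0 hP] at hns
  set x : Fin (n + 1) → K := fun i => φ i / φ 0 with hx
  set ξ : Fin (n + 1) → K := fun i => x i - algebraMap k K (c i) with hξ
  have hξ0 : ξ i₀.succ ≠ 0 := chart_diff_ne_zero' φ hφ (Fin.succ_ne_zero i₀) (c i₀.succ)
  suffices h : ∀ m : Fin n, ∃ lm : k, ∀ w : Fin n → k,
      (∀ i, ∑ l : Fin n, MvPolynomial.eval c (MvPolynomial.pderiv l.succ (f i)) * w l = 0) →
      w m = lm * w i₀ by
    choose lam hlam using h
    exact ⟨lam, fun w hw m => hlam m w hw⟩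
  intro m
  set z := ξ m.succ / ξ i₀.succ with hz
  have hzle : P.1 z ≤ 1 := by
    rw [hz, map_div₀]
    exact (div_le_one₀ (zero_lt_iff.mpr ((Valuation.ne_zero_iff _).mpr hξ0))).mpr (hmax m)
  obtain ⟨U, W, hW1, hzW⟩ := hns z hzle
  set G : MvPolynomial (Fin (n + 1)) k :=
    (MvPolynomial.X m.succ - MvPolynomial.C (c m.succ)) * W -
      (MvPolynomial.X i₀.succ - MvPolynomial.C (c i₀.succ)) * U with hG
  have hGx : MvPolynomial.aeval x G = 0 := by
    rw [hG, map_sub, map_mul, map_mul, map_sub, map_sub, MvPolynomial.aeval_X,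
      MvPolynomial.aeval_X, MvPolynomial.aeval_C, MvPolynomial.aeval_C, ← hzW]
    show ξ m.succ * _ - ξ i₀.succ * (z * _) = 0
    rw [hz]
    field_simp
    ring
  have hGh : MvPolynomial.aeval φ (homog 0 G.totalDegree G) = 0 := by
    rw [aeval_homog φ 0 hj0 le_rfl]
    show _ * MvPolynomial.aeval x G = 0
    rw [hGx, mul_zero]
  have hGmem := hmem _ _ (isHomogeneous_homog 0 G.totalDegree G) hGh
  obtain ⟨H, hH⟩ := Ideal.mem_span_range_iff_exists_fun.mp hGmem
  have hW0 : MvPolynomial.eval c W ≠ 0 := (val_aeval_eq_one_iff P hxc W).mp hW1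
  refine ⟨MvPolynomial.eval c U / MvPolynomial.eval c W, fun w hw => ?_⟩
  have hder : ∀ l : Fin n, MvPolynomial.eval c (MvPolynomial.pderiv l.succ G) =
      ∑ i, MvPolynomial.eval c (H i) * MvPolynomial.eval c (MvPolynomial.pderiv l.succ (f i)) := by
    intro l
    rw [← eval_pderiv_homog (Fin.succ_ne_zero l) hc0 le_rfl, ← hH, map_sum, map_sum]
    apply Finset.sum_congr rfl
    intro i _
    rw [eval_pderiv_mul, hfc i, zero_mul, add_zero]
  have hder2 : ∀ l : Fin n, MvPolynomial.eval c (MvPolynomial.pderiv l.succ G) =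
      MvPolynomial.eval c W * (if l = m then 1 else 0) -
        MvPolynomial.eval c U * (if l = i₀ then 1 else 0) := by
    intro l
    rw [hG, map_sub, map_sub, eval_pderiv_mul, eval_pderiv_mul]
    simp only [map_sub, MvPolynomial.eval_X, MvPolynomial.eval_C, sub_self, zero_mul, zero_add,
      MvPolynomial.pderiv_C, sub_zero, MvPolynomial.pderiv_X, Pi.single_apply, Fin.succ_inj]
    congr 2
    · split_ifs with h1 h2 h2
      · simp
      · exact absurd h1.symm h2
      · exact absurd h2.symm h1
      · simp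
    · split_ifs with h1 h2 h2
      · simp
      · exact absurd h1.symm h2
      · exact absurd h2.symm h1
      · simp
  have hsum : ∑ l : Fin n, MvPolynomial.eval c (MvPolynomial.pderiv l.succ G) * w l = 0 := by
    simp_rw [hder, Finset.sum_mul]
    rw [Finset.sum_comm]
    apply Finset.sum_eq_zero
    intro i _
    simp_rw [mul_assoc]
    rw [← Finset.mul_sum, hw i, mul_zero]
  simp_rw [hder2, sub_mul] at hsum
  rw [Finset.sum_sub_distrib] at hsum
  simp only [mul_ite, mul_one, mul_zero, ite_mul, zero_mul, Finset.sum_ite_eq', Finset.mem_univ,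
    if_true] at hsum
  field_simp
  linear_combination hsum

/-- Cramer's rule: relations whose gradients at the centre are the standard basis vectors
(outside the direction `i₀`) make every chart coordinate a multiple of the `i₀`-th one, up to a
unit. -/
theorem exists_cramer (P : Place k K) {x : Fin (n + 1) → K} {c : Fin (n + 1) → k}
    (hx0 : x 0 = algebraMap k K (c 0))
    (hxc : ∀ i, P.1 (x i - algebraMap k K (c i)) < 1)
    (g : Fin n → MvPolynomial (Fin (n + 1)) k) (hgx : ∀ m, MvPolynomial.aeval x (g m) = 0)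
    (i₀ : Fin n)
    (hgrad : ∀ m l : Fin n, l ≠ i₀ →
      MvPolynomial.eval c (MvPolynomial.pderiv l.succ (g m)) = if m = l then 1 else 0) :
    ∃ (D : MvPolynomial (Fin (n + 1)) k) (Q : Fin n → MvPolynomial (Fin (n + 1)) k),
      MvPolynomial.eval c D = 1 ∧
      ∀ l : Fin n, MvPolynomial.aeval x D * (x l.succ - algebraMap k K (c l.succ)) =
        (x i₀.succ - algebraMap k K (c i₀.succ)) * MvPolynomial.aeval x (Q l) := by
  classical
  have hgc : ∀ m, MvPolynomial.eval c (g m) = 0 := fun m =>
    (val_aeval_lt_one_iff P hxc (g m)).mp (by rw [hgx m, map_zero]; exact zero_lt_one)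
  choose E hEc hEx using fun m => chart_relation_sum (x := x) hx0 (g m) (hgc m)
  set ξ : Fin n → K := fun l => x l.succ - algebraMap k K (c l.succ) with hξ
  set τ := ξ i₀ with hτ
  let A : Matrix (Fin n) (Fin n) (MvPolynomial (Fin (n + 1)) k) :=
    Matrix.of fun m l => if l = i₀ then (if m = i₀ then 1 else 0) else E m l.succ
  have hAc : (MvPolynomial.eval c).mapMatrix A = 1 := by
    ext m l
    simp only [RingHom.mapMatrix_apply, Matrix.map_apply, A, Matrix.of_apply]
    by_cases hl : l = i₀
    · subst hl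
      rw [if_pos rfl, Matrix.one_apply]
      split_ifs <;> simp
    · rw [if_neg hl, hEc, hgrad m l hl, Matrix.one_apply]
  set D := A.det with hD
  have hDc : MvPolynomial.eval c D = 1 := by
    rw [hD, RingHom.map_det, hAc, Matrix.det_one]
  set ev : MvPolynomial (Fin (n + 1)) k →+* K := (MvPolynomial.aeval x).toRingHom with hev
  have hevapp : ∀ p, ev p = MvPolynomial.aeval x p := fun p => rfl
  set AK : Matrix (Fin n) (Fin n) K := ev.mapMatrix A with hAK
  let v : Fin n → K := fun l => if l = i₀ then 0 else ξ l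
  let ρ : Fin n → K := fun m => - MvPolynomial.aeval x (E m i₀.succ)
  have hAv : AK *ᵥ v = τ • ρ := by
    ext m
    simp only [Matrix.mulVec, dotProduct, Pi.smul_apply, smul_eq_mul]
    have h1 := hEx m
    rw [hgx m, ← Finset.add_sum_erase _ _ (Finset.mem_univ i₀)] at h1
    have h2 : ∑ l ∈ Finset.univ.erase i₀, ξ l * MvPolynomial.aeval x (E m l.succ) =
        ∑ l, AK m l * v l := by
      rw [← Finset.sum_erase (s := Finset.univ) (a := i₀) (f := fun l => AK m l * v l)
        (by simp [v])]
      apply Finset.sum_congr rfl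
      intro l hl
      have hne := Finset.ne_of_mem_erase hl
      simp only [hAK, RingHom.mapMatrix_apply, Matrix.map_apply, A, Matrix.of_apply, v,
        if_neg hne, hevapp]
      ring
    rw [← h2]
    show _ = τ * -(MvPolynomial.aeval x (E m i₀.succ))
    linear_combination -h1
  have hdet : AK.det = MvPolynomial.aeval x D := by
    rw [hAK, ← RingHom.map_det, hevapp]
  have hfinal : AK.det • v = τ • (AK.adjugate *ᵥ ρ) := by
    calc AK.det • v = (AK.det • (1 : Matrix (Fin n) (Fin n) K)) *ᵥ v := by
          rw [Matrix.smul_mulVec, Matrix.one_mulVec]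
      _ = (AK.adjugate * AK) *ᵥ v := by rw [Matrix.adjugate_mul]
      _ = AK.adjugate *ᵥ (AK *ᵥ v) := by rw [Matrix.mulVec_mulVec]
      _ = AK.adjugate *ᵥ (τ • ρ) := by rw [hAv]
      _ = τ • (AK.adjugate *ᵥ ρ) := by rw [Matrix.mulVec_smul]
  have hadj : AK.adjugate = ev.mapMatrix A.adjugate := (RingHom.map_adjugate _ _).symm
  refine ⟨D, fun l => if l = i₀ then D else ∑ m, A.adjugate l m * (- E m i₀.succ), hDc,
    fun l => ?_⟩
  beta_reduce
  by_cases hl : l = i₀
  · subst hl
    rw [if_pos rfl]
    ring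
  · rw [if_neg hl]
    have h3 := congrFun hfinal l
    simp only [Pi.smul_apply, smul_eq_mul, v, if_neg hl] at h3
    rw [← hdet]
    show AK.det * ξ l = τ * _
    rw [h3]
    congr 1
    rw [map_sum]
    simp only [Matrix.mulVec, dotProduct]
    apply Finset.sum_congr rfl
    intro m _
    rw [map_mul, map_neg, hadj]
    rfl

end

end Groth.Agent.H55
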