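import Groth.Agent.H55.Jac3

/-! General-`n` Jacobian criterion, part 2: linear algebra and the main theorem (S11071). -/

set_option autoImplicit false
set_option linter.style.haveILetI false
set_option linter.unusedSectionVars false

namespace Groth.Agent.H55

open Polynomial FunFld WithZero Matrix

section
variable {F : Type*} [Field F] {r n : ℕ}

theorem rank_add_finrank_ker (A : Matrix (Fin r) (Fin n) F) :
    A.rank + Module.finrank F (LinearMap.ker A.mulVecLin) = n := by
  have h := LinearMap.finrank_range_add_finrank_ker A.mulVecLin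
  rw [Module.finrank_fin_fun] at h
  exact h

/-- a matrix of corank one has a left inverse up to one coordinate -/
theorem exists_leftInverse_of_rank (hn : 1 ≤ n) (A : Matrix (Fin r) (Fin n) F)
    (hA : A.rank = n - 1) :
    ∃ (i₀ : Fin n) (B : Matrix (Fin n) (Fin r) F) (b : Fin n → F),
      ∀ (w : Fin n → F) (m : Fin n), w m = ∑ i, B m i * (A *ᵥ w) i + b m * w i₀ := by
  classical
  have hker : Module.finrank F (LinearMap.ker A.mulVecLin) = 1 := by
    have := rank_add_finrank_ker A
    omega
  obtain ⟨⟨v, hv⟩, hv0, hspan⟩ := finrank_eq_one_iff'.mp hker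
  have hv0' : v ≠ 0 := fun h => hv0 (Subtype.ext h)
  obtain ⟨i₀, hi₀⟩ : ∃ i₀, v i₀ ≠ 0 := by
    by_contra hcon
    push Not at hcon
    exact hv0' (funext hcon)
  let T : (Fin n → F) →ₗ[F] (Fin r → F) × F := A.mulVecLin.prod (LinearMap.proj i₀)
  have hT : LinearMap.ker T = ⊥ := by
    rw [LinearMap.ker_eq_bot']
    intro w hw
    have h1 : A.mulVecLin w = 0 := congrArg Prod.fst hw
    have h2 : w i₀ = 0 := congrArg Prod.snd hw
    obtain ⟨a, ha⟩ := hspan ⟨w, LinearMap.mem_ker.mpr h1⟩
    have ha' : a • v = w := congrArg Subtype.val ha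
    have h3 : a * v i₀ = 0 := by
      rw [← h2, ← ha']; rfl
    have ha0 : a = 0 := (mul_eq_zero.mp h3).resolve_right hi₀
    rw [← ha', ha0, zero_smul]
  obtain ⟨S, hS⟩ := LinearMap.exists_leftInverse_of_injective T hT
  refine ⟨i₀, Matrix.of fun m i => S (Pi.single i 1, 0) m, fun m => S (0, 1) m, ?_⟩
  intro w m
  have h1 : w = S (T w) := by
    rw [← LinearMap.comp_apply, hS]; rfl
  have h2 : T w = ∑ i, (A *ᵥ w) i • ((Pi.single i 1 : Fin r → F), (0 : F)) +
      w i₀ • ((0 : Fin r → F), (1 : F)) := by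
    apply Prod.ext
    · ext i
      simp [T, Prod.fst_sum, Finset.sum_apply, Pi.single_apply]
    · simp [T, Prod.snd_sum]
  conv_lhs => rw [h1, h2]
  rw [map_add, map_sum]
  simp only [map_smul, Pi.add_apply, Finset.sum_apply, Pi.smul_apply, smul_eq_mul, Matrix.of_apply]
  congr 1
  · apply Finset.sum_congr rfl
    intro i _
    ring
  · ring

/-- a one-dimensional kernel gives corank one -/
theorem rank_eq_of_ker (A : Matrix (Fin r) (Fin n) F)
    (t : Fin n → F) (ht0 : t ≠ 0) (ht : A *ᵥ t = 0) (i₀ : Fin n) (lam : Fin n → F)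
    (h : ∀ w, A *ᵥ w = 0 → ∀ m, w m = lam m * w i₀) : A.rank = n - 1 := by
  have hti : t i₀ ≠ 0 := by
    intro h0
    apply ht0
    funext m
    rw [h t ht m, h0, mul_zero]; rfl
  have hker : Module.finrank F (LinearMap.ker A.mulVecLin) = 1 := by
    rw [finrank_eq_one_iff']
    refine ⟨⟨t, LinearMap.mem_ker.mpr ht⟩, fun h0 => ht0 (congrArg Subtype.val h0), ?_⟩
    rintro ⟨w, hw⟩
    have hw' : A *ᵥ w = 0 := LinearMap.mem_ker.mp hw
    refine ⟨w i₀ / t i₀, Subtype.ext ?_⟩
    funext m
    show w i₀ / t i₀ * t m = w m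
    rw [h t ht m, h w hw' m]
    field_simp
  have := rank_add_finrank_ker A
  omega

end

section
variable {k K : Type*} [Field k] [Field K] [Algebra k K]

theorem Place.bijective_algebraMap_residue {P : Place k K} (hP : P.deg = 1) :
    Function.Bijective (algebraMap k (IsLocalRing.ResidueField P.O)) := by
  refine ⟨(algebraMap k (IsLocalRing.ResidueField P.O)).injective, fun w => ?_⟩
  unfold FunFld.Place.deg at hP
  obtain ⟨c, hc⟩ := (finrank_eq_one_iff_of_nonzero' (1 : IsLocalRing.ResidueField P.O)
    one_ne_zero).mp hP w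
  refine ⟨c, ?_⟩
  rw [← hc, Algebra.algebraMap_eq_smul_one]
  rfl

/-- S11071: the Jacobian criterion in arbitrary embedding dimension -/
theorem isNonsingularAt_iff_rank [IsAlgClosed k] (hK : IsFunctionField k K) {n : ℕ} (hn : 1 ≤ n)
    (φ : Fin (n + 1) → K) (hφ : LinearIndependent k φ)
    (hbir : IntermediateField.adjoin k (Set.range fun i => φ i / φ 0) = ⊤)
    (P : Place k K) (hP : ∀ i, P.1 (φ i) ≤ P.1 (φ 0)) {r : ℕ}
    (f : Fin r → MvPolynomial (Fin (n + 1)) k)
    (hhom : ∀ i, (f i).IsHomogeneous (f i).totalDegree)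
    (hgen : Ideal.span (Set.range f) =
      RingHom.ker (MvPolynomial.aeval fun i => Polynomial.C (φ i) * Polynomial.X))
    (M : Matrix (Fin r) (Fin n) P.O)
    (hM : ∀ i j, ((M i j : P.O) : K) =
      MvPolynomial.aeval (fun l => φ l / φ 0) (MvPolynomial.pderiv j.succ (f i))) :
    IsNonsingularAt φ P ↔ (M.map (IsLocalRing.residue P.O)).rank = n - 1 := by
  classical
  have hj0 : φ 0 ≠ 0 := hφ.ne_zero 0
  have hdeg1 : P.deg = 1 := Place.deg_eq_one_of_isAlgClosed hK P
  set x : Fin (n + 1) → K := fun i => φ i / φ 0 with hx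
  have hxle : ∀ i, P.1 (x i) ≤ 1 := by
    intro i
    rw [hx]
    simp only [map_div₀]
    exact (div_le_one₀ (zero_lt_iff.mpr ((Valuation.ne_zero_iff _).mpr hj0))).mpr (hP i)
  choose c hxc using fun i => Place.exists_const_sub_lt_one hdeg1 (hxle i)
  have hc0 : c 0 = 1 := center_self' φ P hj0 hxc
  have hx0 : x 0 = algebraMap k K (c 0) := by
    rw [hc0, map_one]; exact div_self hj0
  have hfφ : ∀ i, MvPolynomial.aeval φ (f i) = 0 := by
    intro i
    have hmem : f i ∈ RingHom.ker
        (MvPolynomial.aeval fun i => Polynomial.C (φ i) * Polynomial.X) := by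
      rw [← hgen]; exact Ideal.subset_span ⟨i, rfl⟩
    rw [RingHom.mem_ker, aeval_C_mul_X_of_isHomogeneous _ (hhom i)] at hmem
    have := congrArg (fun p => Polynomial.coeff p (f i).totalDegree) hmem
    rwa [Polynomial.coeff_C_mul_X_pow, if_pos rfl, Polynomial.coeff_zero] at this
  have hfx : ∀ i, MvPolynomial.aeval x (f i) = 0 := by
    intro i
    have h1 : x = fun l => (φ 0)⁻¹ * φ l := by
      funext l; rw [hx]; simp only [div_eq_inv_mul]
    rw [h1, aeval_mul_of_isHomogeneous (hhom i), hfφ i, mul_zero]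
  have hfc : ∀ i, MvPolynomial.eval c (f i) = 0 := fun i =>
    (val_aeval_lt_one_iff P hxc (f i)).mp (by rw [hfx i, map_zero]; exact zero_lt_one)
  have hmem : ∀ (G : MvPolynomial (Fin (n + 1)) k) (e : ℕ), G.IsHomogeneous e →
      MvPolynomial.aeval φ G = 0 → G ∈ Ideal.span (Set.range f) := by
    intro G e hG hGφ
    rw [hgen, RingHom.mem_ker, aeval_C_mul_X_of_isHomogeneous _ hG, hGφ, map_zero, zero_mul]
  -- the matrix over `k`
  let J : Matrix (Fin r) (Fin n) k :=
    Matrix.of fun i l => MvPolynomial.eval c (MvPolynomial.pderiv l.succ (f i))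
  let ι : k →+* IsLocalRing.ResidueField P.O := algebraMap k (IsLocalRing.ResidueField P.O)
  have hιbij : Function.Bijective ι := Place.bijective_algebraMap_residue hdeg1
  have hres : ∀ i l, IsLocalRing.residue P.O (M i l) = ι (J i l) := by
    intro i l
    have h1 : IsLocalRing.residue P.O (M i l - algebraMap k P.O (J i l)) = 0 := by
      rw [Place.residue_eq_zero_iff]
      have : ((M i l - algebraMap k P.O (J i l) : P.O) : K) =
          MvPolynomial.aeval x (MvPolynomial.pderiv l.succ (f i)) - algebraMap k K (J i l) := by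
        rw [← hM i l]; rfl
      rw [this]
      exact val_aeval_sub_lt_one P hxc _
    rw [map_sub, sub_eq_zero] at h1
    rw [h1]; rfl
  have hM' : M.map (IsLocalRing.residue P.O) = J.map ι := by
    ext i l
    simp only [Matrix.map_apply]
    exact hres i l
  have hmulVec : ∀ w : Fin n → k, (J.map ι) *ᵥ (ι ∘ w) = ι ∘ (J *ᵥ w) := fun w =>
    funext fun i => (RingHom.map_mulVec ι J w i).symm
  have hJapp : ∀ (w : Fin n → k) (i : Fin r), (J *ᵥ w) i =
      ∑ l : Fin n, MvPolynomial.eval c (MvPolynomial.pderiv l.succ (f i)) * w l := fun w i => rfl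
  rw [hM']
  constructor
  · intro hns
    obtain ⟨i₀, -, hmax⟩ := Finset.exists_max_image Finset.univ
      (fun l : Fin n => P.1 (x l.succ - algebraMap k K (c l.succ)))
      ⟨⟨0, hn⟩, Finset.mem_univ _⟩
    have hτ0 : x i₀.succ - algebraMap k K (c i₀.succ) ≠ 0 :=
      chart_diff_ne_zero' φ hφ (Fin.succ_ne_zero i₀) _
    have hzle : ∀ l : Fin n, P.1 ((x l.succ - algebraMap k K (c l.succ)) /
        (x i₀.succ - algebraMap k K (c i₀.succ))) ≤ 1 := by
      intro l
      rw [map_div₀]
      exact (div_le_one₀ (zero_lt_iff.mpr ((Valuation.ne_zero_iff _).mpr hτ0))).mpr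
        (hmax l (Finset.mem_univ l))
    choose t ht using fun l => Place.exists_const_sub_lt_one hdeg1 (hzle l)
    have hti : t i₀ ≠ 0 := by
      intro h0
      have := ht i₀
      rw [div_self hτ0, h0, map_zero, sub_zero, map_one] at this
      exact lt_irrefl _ this
    obtain ⟨lam, hlam⟩ := ker_constraint_of_nonsingular φ hφ P hP c hxc f hfc hmem hns i₀
      (fun l => hmax l (Finset.mem_univ l))
    apply rank_eq_of_ker (J.map ι) (ι ∘ t) ?_ ?_ i₀ (ι ∘ lam) ?_
    · intro h0
      apply hti
      have := congrFun h0 i₀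
      exact hιbij.1 (by rw [map_zero]; exact this)
    · rw [hmulVec]
      funext i
      show ι ((J *ᵥ t) i) = 0
      rw [hJapp, tangent_relation P hx0 hxc i₀ t ht (f i) (hfx i), map_zero]
    · intro w' hw' m
      obtain ⟨w, rfl⟩ : ∃ w : Fin n → k, w' = ι ∘ w :=
        ⟨fun l => (hιbij.2 (w' l)).choose, funext fun l => ((hιbij.2 (w' l)).choose_spec).symm⟩
      rw [hmulVec] at hw'
      have hw : ∀ i, ∑ l : Fin n,
          MvPolynomial.eval c (MvPolynomial.pderiv l.succ (f i)) * w l = 0 := by
        intro i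
        have := congrFun hw' i
        rw [← hJapp]
        exact hιbij.1 (by rw [map_zero]; exact this)
      show ι (w m) = ι (lam m) * ι (w i₀)
      rw [hlam w hw m, map_mul]
  · intro hrank
    obtain ⟨i₁, B', b', hB'⟩ := exists_leftInverse_of_rank hn (J.map ι) hrank
    let e : k ≃+* IsLocalRing.ResidueField P.O := RingEquiv.ofBijective ι hιbij
    have he : ∀ y, ι (e.symm y) = y := fun y => e.apply_symm_apply y
    let B : Matrix (Fin n) (Fin r) k := Matrix.of fun m i => e.symm (B' m i)
    let b : Fin n → k := fun m => e.symm (b' m)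
    have hB : ∀ (w : Fin n → k) (m : Fin n),
        w m = ∑ i, B m i * (J *ᵥ w) i + b m * w i₁ := by
      intro w m
      apply hιbij.1
      have h1 := hB' (ι ∘ w) m
      rw [hmulVec] at h1
      simp only [Function.comp_apply] at h1
      rw [h1, map_add, map_sum, map_mul]
      congr 1
      · apply Finset.sum_congr rfl
        intro i _
        rw [map_mul]
        congr 1
        exact (he (B' m i)).symm
      · congr 1
        exact (he (b' m)).symm
    let g : Fin n → MvPolynomial (Fin (n + 1)) k := fun m =>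
      ∑ i, MvPolynomial.C (B m i) * f i
    have hgx : ∀ m, MvPolynomial.aeval x (g m) = 0 := by
      intro m
      simp only [g, map_sum, map_mul, hfx, mul_zero, Finset.sum_const_zero]
    have hgrad : ∀ m l : Fin n, l ≠ i₁ →
        MvPolynomial.eval c (MvPolynomial.pderiv l.succ (g m)) = if m = l then 1 else 0 := by
      intro m l hl
      have h1 : MvPolynomial.eval c (MvPolynomial.pderiv l.succ (g m)) =
          ∑ i, B m i * J i l := by
        simp only [g, map_sum]
        apply Finset.sum_congr rfl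
        intro i _
        rw [eval_pderiv_mul, MvPolynomial.pderiv_C, map_zero, mul_zero, add_zero,
          MvPolynomial.eval_C]
        rfl
      have h2 := hB (Pi.single l 1) m
      rw [Matrix.mulVec_single_one] at h2
      simp only [Matrix.col_apply, Pi.single_apply, if_neg hl.symm, mul_zero, add_zero] at h2
      rw [h1, ← h2]
    obtain ⟨D, Q, hDc, hDQ⟩ := exists_cramer P hx0 hxc g hgx i₁ hgrad
    rw [isNonsingularAt_iff_chart φ P hj0 hP]
    intro z hz
    have hτ0 : x i₁.succ - algebraMap k K (c i₁.succ) ≠ 0 :=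
      chart_diff_ne_zero' φ hφ (Fin.succ_ne_zero i₁) _
    have hTx : MvPolynomial.aeval x
        (MvPolynomial.X i₁.succ - MvPolynomial.C (c i₁.succ) : MvPolynomial (Fin (n + 1)) k) =
        x i₁.succ - algebraMap k K (c i₁.succ) := by
      rw [map_sub, MvPolynomial.aeval_X, MvPolynomial.aeval_C]
    refine exists_chart_frac_of_parameter P hxc hbir
      (MvPolynomial.X i₁.succ - MvPolynomial.C (c i₁.succ)) ?_ ?_ D
      (by rw [hDc]; exact one_ne_zero) ?_ z hz
    · rw [hTx]; exact hτ0
    · rw [hTx]; exact hxc i₁.succ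
    · intro U hU
      obtain ⟨E, -, hEx⟩ := chart_relation_sum hx0 U hU
      refine ⟨∑ l : Fin n, Q l * E l.succ, ?_⟩
      rw [hTx, hEx, Finset.sum_mul, map_sum, Finset.mul_sum]
      apply Finset.sum_congr rfl
      intro l _
      rw [map_mul]
      calc (x l.succ - algebraMap k K (c l.succ)) * MvPolynomial.aeval x (E l.succ) *
            MvPolynomial.aeval x D
          = (MvPolynomial.aeval x D * (x l.succ - algebraMap k K (c l.succ))) *
            MvPolynomial.aeval x (E l.succ) := by ring
        _ = _ := by rw [hDQ l]; ring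

end

end Groth.Agent.H55
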