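import Groth.Agent.H55.Plane2

/-! Kernel of a plane model: Gauss lemma, base change of the relation ideal. -/

set_option autoImplicit false
set_option linter.style.haveILetI false

namespace Groth.Agent.H55

open Polynomial
open scoped TensorProduct

/-- Gauss lemma packaged: the kernel of evaluation at an algebraic element over a UFD is principal,
generated by an irreducible polynomial. -/
theorem exists_irreducible_dvd_iff {R L : Type*} [CommRing R] [IsDomain R]
    [UniqueFactorizationMonoid R] [Field L] (φ : R →+* L) (hφ : Function.Injective φ) (z : L)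
    (hz : ∃ q : R[X], q ≠ 0 ∧ Polynomial.eval₂ φ z q = 0) :
    ∃ p : R[X], Irreducible p ∧ ∀ g : R[X], Polynomial.eval₂ φ z g = 0 ↔ p ∣ g := by
  classical
  letI : Algebra R L := φ.toAlgebra
  haveI : FaithfulSMul R L := (faithfulSMul_iff_algebraMap_injective R L).mpr hφ
  let F := FractionRing R
  letI : Algebra F L := FractionRing.liftAlgebra R L
  haveI : IsScalarTower R F L := FractionRing.isScalarTower_liftAlgebra R L
  have : NormalizedGCDMonoid R := Nonempty.some inferInstance
  obtain ⟨q, hq0, hq⟩ := hz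
  have hzR : IsAlgebraic R z := ⟨q, hq0, by rw [aeval_def]; exact hq⟩
  have hzF : IsAlgebraic F z := (IsFractionRing.isAlgebraic_iff R F L).mp hzR
  set m := minpoly F z with hm
  have hmirr : Irreducible m := minpoly.irreducible hzF.isIntegral
  obtain ⟨b, hb, hq0m⟩ := IsLocalization.integerNormalization_spec (nonZeroDivisors R) m
  set q0 := IsLocalization.integerNormalization (nonZeroDivisors R) m with hq0def
  have hb0 : b ≠ 0 := nonZeroDivisors.ne_zero hb
  have hq0ne : q0 ≠ 0 := by
    intro h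
    rw [h, Polynomial.map_zero] at hq0m
    exact hmirr.ne_zero ((smul_eq_zero_iff_right hb0).mp hq0m.symm)
  have hcont : q0.content ≠ 0 := by rwa [Ne, content_eq_zero_iff]
  set p := q0.primPart with hp
  have hpprim : p.IsPrimitive := isPrimitive_primPart q0
  have hq0eq : q0 = C q0.content * p := eq_C_content_mul_primPart q0
  -- p.map is associated to m
  have hmap : C (algebraMap R F q0.content) * p.map (algebraMap R F) = C (algebraMap R F b) * m := by
    have := hq0m
    rw [hq0eq, Polynomial.map_mul, Polynomial.map_C, Algebra.smul_def,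
      Polynomial.algebraMap_apply] at this
    exact this
  have hcF : algebraMap R F q0.content ≠ 0 := by
    rwa [Ne, IsFractionRing.to_map_eq_zero_iff]
  have hbF : algebraMap R F b ≠ 0 := by
    rwa [Ne, IsFractionRing.to_map_eq_zero_iff]
  have hassoc : Associated (p.map (algebraMap R F)) m := by
    have h1 : p.map (algebraMap R F) = C ((algebraMap R F q0.content)⁻¹ * algebraMap R F b) * m := by
      rw [map_mul, mul_assoc, ← hmap, ← mul_assoc, ← map_mul, inv_mul_cancel₀ hcF, map_one, one_mul]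
    rw [h1]
    exact (associated_isUnit_mul_left_iff (Polynomial.isUnit_C.mpr
      (IsUnit.mk0 _ (mul_ne_zero (inv_ne_zero hcF) hbF)))).mpr (Associated.refl m)
  have hpirr : Irreducible p :=
    (hpprim.irreducible_iff_irreducible_map_fraction_map (K := F)).mpr
      (hassoc.symm.irreducible hmirr)
  refine ⟨p, hpirr, fun g => ?_⟩
  have hev : ∀ g : R[X], Polynomial.eval₂ φ z g = aeval z (g.map (algebraMap R F)) := by
    intro g
    rw [aeval_map_algebraMap, aeval_def]
    rfl
  rw [hev, hpprim.dvd_iff_fraction_map_dvd_fraction_map F, ← minpoly.dvd_iff (x := z)]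
  exact ⟨fun h => hassoc.dvd.trans h, fun h => hassoc.symm.dvd.trans h⟩


section
variable {k K : Type*} [Field k] [Field K] [Algebra k K]

theorem aeval_pair_eq_eval₂ (x y : K) (g : MvPolynomial (Fin 2) k) :
    MvPolynomial.aeval ![x, y] g =
      Polynomial.eval₂ ((MvPolynomial.aeval (fun _ : Fin 1 => y) :
        MvPolynomial (Fin 1) k →ₐ[k] K) : MvPolynomial (Fin 1) k →+* K) x
        (MvPolynomial.finSuccEquiv k 1 g) := by
  induction g using MvPolynomial.induction_on with
  | C a =>
    have : MvPolynomial.finSuccEquiv k 1 (MvPolynomial.C a) = Polynomial.C (MvPolynomial.C a) := by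
      have := (MvPolynomial.finSuccEquiv k 1).commutes a
      simpa using this
    rw [this, Polynomial.eval₂_C]
    simp
  | add p q hp hq => rw [map_add, map_add, Polynomial.eval₂_add, hp, hq]
  | mul_X p i hp =>
    rw [map_mul, map_mul, Polynomial.eval₂_mul, hp]
    congr 1
    fin_cases i
    · simp [MvPolynomial.finSuccEquiv_X_zero]
    · have : (⟨1, by omega⟩ : Fin 2) = Fin.succ (0 : Fin 1) := rfl
      simp only [this, MvPolynomial.finSuccEquiv_X_succ]
      simp

theorem ker_aeval_pair_eq_span (x y : K) (hy : Transcendental k y)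
    (hxy : ¬ AlgebraicIndependent k ![x, y]) :
    ∃ f : MvPolynomial (Fin 2) k, Irreducible f ∧
      RingHom.ker (MvPolynomial.aeval ![x, y] : MvPolynomial (Fin 2) k →ₐ[k] K) =
        Ideal.span {f} := by
  set φ : MvPolynomial (Fin 1) k →+* K := ((MvPolynomial.aeval (fun _ : Fin 1 => y) :
        MvPolynomial (Fin 1) k →ₐ[k] K) : MvPolynomial (Fin 1) k →+* K) with hφdef
  have hφ : Function.Injective φ := by
    have : AlgebraicIndependent k (fun _ : Fin 1 => y) :=
      algebraicIndependent_unique_type_iff.mpr hy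
    exact this
  have hz : ∃ q : (MvPolynomial (Fin 1) k)[X], q ≠ 0 ∧ Polynomial.eval₂ φ x q = 0 := by
    rw [algebraicIndependent_iff_injective_aeval, injective_iff_map_eq_zero] at hxy
    push Not at hxy
    obtain ⟨g, hg, hg0⟩ := hxy
    refine ⟨MvPolynomial.finSuccEquiv k 1 g, ?_, ?_⟩
    · rwa [Ne, EmbeddingLike.map_eq_zero_iff]
    · rw [← aeval_pair_eq_eval₂]; exact hg
  obtain ⟨p, hpirr, hp⟩ := exists_irreducible_dvd_iff φ hφ x hz
  refine ⟨(MvPolynomial.finSuccEquiv k 1).symm p, ?_, ?_⟩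
  · exact (MulEquiv.irreducible_iff (MvPolynomial.finSuccEquiv k 1).symm.toMulEquiv).mpr hpirr
  · ext g
    rw [RingHom.mem_ker, Ideal.mem_span_singleton]
    have h1 := aeval_pair_eq_eval₂ x y g
    rw [show (MvPolynomial.aeval ![x, y] : MvPolynomial (Fin 2) k →ₐ[k] K) g =
      MvPolynomial.aeval ![x, y] g from rfl, h1, hp]
    constructor
    · rintro ⟨c, hc⟩
      refine ⟨(MvPolynomial.finSuccEquiv k 1).symm c, ?_⟩
      rw [← map_mul, ← hc, AlgEquiv.symm_apply_apply]
    · rintro ⟨c, hc⟩
      refine ⟨MvPolynomial.finSuccEquiv k 1 c, ?_⟩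
      rw [hc, map_mul, AlgEquiv.apply_symm_apply]

end


section
variable {k k' K : Type*} [Field k] [Field k'] [Field K] [Algebra k K] [Algebra k k']

theorem aeval_tmul_map {σ : Type*} (v : σ → K) (p : MvPolynomial σ k) :
    MvPolynomial.aeval (fun i => (1 : k') ⊗ₜ[k] v i) (MvPolynomial.map (algebraMap k k') p) =
      (1 : k') ⊗ₜ[k] MvPolynomial.aeval v p := by
  rw [MvPolynomial.aeval_map_algebraMap]
  have := MvPolynomial.comp_aeval_apply (f := v) (Algebra.TensorProduct.includeRight : K →ₐ[k] k' ⊗[k] K) p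
  simpa using this.symm

theorem ker_aeval_tmul {σ : Type*} (v : σ → K) :
    RingHom.ker (MvPolynomial.aeval (fun i => (1 : k') ⊗ₜ[k] v i) :
        MvPolynomial σ k' →ₐ[k'] k' ⊗[k] K) =
      (RingHom.ker (MvPolynomial.aeval v : MvPolynomial σ k →ₐ[k] K)).map
        (MvPolynomial.map (algebraMap k k')) := by
  set ψ : MvPolynomial σ k →ₗ[k] K := (MvPolynomial.aeval v : MvPolynomial σ k →ₐ[k] K).toLinearMap
    with hψ
  set e := MvPolynomial.algebraTensorAlgEquiv (σ := σ) k k' with he
  have hcomp : ∀ t : k' ⊗[k] MvPolynomial σ k,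
      MvPolynomial.aeval (fun i => (1 : k') ⊗ₜ[k] v i) (e t) =
        TensorProduct.AlgebraTensorModule.lTensor k' k' ψ t := by
    intro t
    induction t using TensorProduct.induction_on with
    | zero => simp
    | tmul a p =>
      rw [he, MvPolynomial.algebraTensorAlgEquiv_tmul, map_smul, aeval_tmul_map]
      simp [hψ, TensorProduct.smul_tmul']
    | add s t hs ht => rw [map_add, map_add, map_add, hs, ht]
  apply le_antisymm
  · intro g hg
    rw [RingHom.mem_ker] at hg
    have h1 : e.symm g ∈ LinearMap.ker (TensorProduct.AlgebraTensorModule.lTensor k' k' ψ) := by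
      rw [LinearMap.mem_ker, ← hcomp, AlgEquiv.apply_symm_apply]; exact hg
    rw [Module.Flat.ker_lTensor_eq] at h1
    obtain ⟨t, ht⟩ := h1
    have h2 : g = e (TensorProduct.AlgebraTensorModule.lTensor k' k' (LinearMap.ker ψ).subtype t) := by
      rw [ht, AlgEquiv.apply_symm_apply]
    rw [h2]
    clear h2 ht hg
    induction t using TensorProduct.induction_on with
    | zero => simp
    | tmul a p =>
      simp only [TensorProduct.AlgebraTensorModule.lTensor_tmul, Submodule.subtype_apply]
      rw [he, MvPolynomial.algebraTensorAlgEquiv_tmul, Algebra.smul_def]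
      apply Ideal.mul_mem_left
      apply Ideal.mem_map_of_mem
      have := p.2
      rw [LinearMap.mem_ker] at this
      exact this
    | add s t hs ht => rw [map_add, map_add]; exact Ideal.add_mem _ hs ht
  · rw [Ideal.map_le_iff_le_comap]
    intro p hp
    rw [RingHom.mem_ker] at hp
    rw [Ideal.mem_comap, RingHom.mem_ker]
    have := aeval_tmul_map (k' := k') v p
    rw [show (MvPolynomial.aeval v : MvPolynomial σ k →ₐ[k] K) p = MvPolynomial.aeval v p from rfl] at hp
    rw [hp, TensorProduct.tmul_zero] at this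
    exact this


/-- clearing denominators in `k' ⊗ K`. -/
theorem exists_tmul_mul_eq_aeval {σ : Type*} (v : σ → K)
    (hgen : IntermediateField.adjoin k (Set.range v) = ⊤) (t : k' ⊗[k] K) :
    ∃ s : MvPolynomial σ k, MvPolynomial.aeval v s ≠ 0 ∧ ∃ P : MvPolynomial σ k',
      t * ((1 : k') ⊗ₜ[k] MvPolynomial.aeval v s) =
        MvPolynomial.aeval (fun i => (1 : k') ⊗ₜ[k] v i) P := by
  induction t using TensorProduct.induction_on with
  | zero => exact ⟨1, by simp, 0, by simp⟩
  | tmul c z =>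
    have hz : z ∈ IntermediateField.adjoin k (Set.range v) := by rw [hgen]; trivial
    rw [IntermediateField.mem_adjoin_range_iff] at hz
    obtain ⟨r, s, hrs⟩ := hz
    by_cases hs : MvPolynomial.aeval v s = 0
    · refine ⟨1, by simp, 0, ?_⟩
      rw [hrs, hs, div_zero]; simp
    · refine ⟨s, hs, MvPolynomial.C c * MvPolynomial.map (algebraMap k k') r, ?_⟩
      rw [map_mul, aeval_tmul_map, MvPolynomial.aeval_C, Algebra.TensorProduct.tmul_mul_tmul,
        Algebra.TensorProduct.algebraMap_apply, Algebra.TensorProduct.tmul_mul_tmul]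
      rw [hrs, div_mul_cancel₀ _ hs]
      simp
  | add t₁ t₂ h₁ h₂ =>
    obtain ⟨s₁, hs₁, P₁, h₁⟩ := h₁
    obtain ⟨s₂, hs₂, P₂, h₂⟩ := h₂
    refine ⟨s₁ * s₂, by rw [map_mul]; exact mul_ne_zero hs₁ hs₂,
      P₁ * MvPolynomial.map (algebraMap k k') s₂ +
        P₂ * MvPolynomial.map (algebraMap k k') s₁, ?_⟩
    have hR : MvPolynomial.aeval (fun i => (1 : k') ⊗ₜ[k] v i)
        (P₁ * MvPolynomial.map (algebraMap k k') s₂ +
          P₂ * MvPolynomial.map (algebraMap k k') s₁) =
        t₁ * ((1 : k') ⊗ₜ[k] MvPolynomial.aeval v s₁) * ((1 : k') ⊗ₜ[k] MvPolynomial.aeval v s₂) +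
          t₂ * ((1 : k') ⊗ₜ[k] MvPolynomial.aeval v s₂) *
            ((1 : k') ⊗ₜ[k] MvPolynomial.aeval v s₁) := by
      rw [map_add, map_mul, map_mul, aeval_tmul_map, aeval_tmul_map, ← h₁, ← h₂]
    have : (1 : k') ⊗ₜ[k] (MvPolynomial.aeval v (s₁ * s₂)) =
        ((1 : k') ⊗ₜ[k] MvPolynomial.aeval v s₁) * ((1 : k') ⊗ₜ[k] MvPolynomial.aeval v s₂) := by
      rw [Algebra.TensorProduct.tmul_mul_tmul, one_mul, map_mul]
    rw [hR, this]
    ring

theorem isUnit_one_tmul {a : K} (ha : a ≠ 0) : IsUnit ((1 : k') ⊗ₜ[k] a) := by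
  refine IsUnit.of_mul_eq_one ((1 : k') ⊗ₜ[k] a⁻¹) ?_
  rw [Algebra.TensorProduct.tmul_mul_tmul, one_mul, mul_inv_cancel₀ ha]
  rfl

theorem isDomain_tensor_of_ker_isPrime {σ : Type*} (v : σ → K)
    (hgen : IntermediateField.adjoin k (Set.range v) = ⊤)
    (hprime : (RingHom.ker (MvPolynomial.aeval (fun i => (1 : k') ⊗ₜ[k] v i) :
        MvPolynomial σ k' →ₐ[k'] k' ⊗[k] K)).IsPrime) : IsDomain (k' ⊗[k] K) := by
  haveI : Nontrivial (k' ⊗[k] K) := by
    refine ⟨⟨0, 1, fun h => ?_⟩⟩
    apply hprime.ne_top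
    rw [Ideal.eq_top_iff_one, RingHom.mem_ker, map_one]
    exact h.symm
  haveI : NoZeroDivisors (k' ⊗[k] K) := by
    refine ⟨fun {t₁ t₂} h => ?_⟩
    obtain ⟨s₁, hs₁, P₁, h₁⟩ := exists_tmul_mul_eq_aeval v hgen t₁
    obtain ⟨s₂, hs₂, P₂, h₂⟩ := exists_tmul_mul_eq_aeval v hgen t₂
    have h3 : P₁ * P₂ ∈ RingHom.ker (MvPolynomial.aeval (fun i => (1 : k') ⊗ₜ[k] v i) :
        MvPolynomial σ k' →ₐ[k'] k' ⊗[k] K) := by
      rw [RingHom.mem_ker, map_mul]
      change MvPolynomial.aeval _ P₁ * MvPolynomial.aeval _ P₂ = 0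
      rw [← h₁, ← h₂]
      calc t₁ * ((1 : k') ⊗ₜ[k] MvPolynomial.aeval v s₁) * (t₂ * ((1 : k') ⊗ₜ[k] MvPolynomial.aeval v s₂))
          = (t₁ * t₂) * (((1 : k') ⊗ₜ[k] MvPolynomial.aeval v s₁) *
              ((1 : k') ⊗ₜ[k] MvPolynomial.aeval v s₂)) := by ring
        _ = 0 := by rw [h, zero_mul]
    rcases hprime.mem_or_mem h3 with h4 | h4
    · left
      rw [RingHom.mem_ker] at h4
      change MvPolynomial.aeval _ P₁ = 0 at h4
      rw [← h₁] at h4
      exact (isUnit_one_tmul hs₁).mul_left_eq_zero.mp h4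
    · right
      rw [RingHom.mem_ker] at h4
      change MvPolynomial.aeval _ P₂ = 0 at h4
      rw [← h₂] at h4
      exact (isUnit_one_tmul hs₂).mul_left_eq_zero.mp h4
  exact NoZeroDivisors.to_isDomain _

theorem isField_tensor_of_ker_isPrime [FiniteDimensional k k'] {σ : Type*} (v : σ → K)
    (hgen : IntermediateField.adjoin k (Set.range v) = ⊤)
    (hprime : (RingHom.ker (MvPolynomial.aeval (fun i => (1 : k') ⊗ₜ[k] v i) :
        MvPolynomial σ k' →ₐ[k'] k' ⊗[k] K)).IsPrime) : IsField (k' ⊗[k] K) := by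
  haveI := isDomain_tensor_of_ker_isPrime v hgen hprime
  haveI : IsDomain (K ⊗[k] k') := (Algebra.TensorProduct.comm k K k').toMulEquiv.isDomain
  have h1 : IsField (K ⊗[k] k') := isField_of_isIntegral_of_isField' (R := K) (Field.toIsField K)
  exact (Algebra.TensorProduct.comm k k' K).toMulEquiv.isField h1

end


end Groth.Agent.H55
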