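import Groth.Agent.H55.Ker1

/-! Plane models of geometric function fields (S11008). -/

set_option autoImplicit false
set_option linter.style.haveILetI false
set_option linter.unusedSectionVars false

namespace Groth.Agent.H55

open FunFld IntermediateField Module
open scoped TensorProduct

universe u v

section
variable {k : Type u} {K : Type v} [Field k] [Field K] [Algebra k K]

theorem range_pair (x y : K) : Set.range ![x, y] = {x, y} := by
  simp [Matrix.range_cons, Set.pair_comm]

theorem image_pair_compl_zero (x y : K) : ![x, y] '' {0}ᶜ = {y} := by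
  ext z
  simp only [Set.mem_image, Set.mem_compl_iff, Set.mem_singleton_iff]
  constructor
  · rintro ⟨j, hj, rfl⟩
    fin_cases j
    · exact absurd rfl hj
    · rfl
  · rintro rfl
    exact ⟨1, by decide, rfl⟩

/-- if `y` is transcendental and `x` is algebraic over `k(y)`, then `x, y` are dependent -/
theorem not_algebraicIndependent_pair {x y : K} (hx : IsAlgebraic k⟮y⟯ x) :
    ¬ AlgebraicIndependent k ![x, y] := by
  intro h
  have h2 := ((AlgebraicIndependent.iff_transcendental_adjoin_image (R := k) (x := ![x, y]) 0).mp h).2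
  rw [image_pair_compl_zero] at h2
  exact h2 (isAlgebraic_adjoin_iff.mp hx)

/-- if `x, y` are dependent and `y` is transcendental then `x` is algebraic over `k(y)` -/
theorem isAlgebraic_of_not_algebraicIndependent_pair {x y : K} (hy : Transcendental k y)
    (h : ¬ AlgebraicIndependent k ![x, y]) : IsAlgebraic k⟮y⟯ x := by
  rw [AlgebraicIndependent.iff_transcendental_adjoin_image (R := k) (x := ![x, y]) 0,
    image_pair_compl_zero] at h
  letI : Unique {j : Fin 2 // j ≠ 0} :=
    ⟨⟨⟨1, by decide⟩⟩, fun ⟨j, hj⟩ => by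
      fin_cases j
      · exact absurd rfl hj
      · rfl⟩
  have h1 : AlgebraicIndependent k (fun j : {j : Fin 2 // j ≠ 0} => ![x, y] j) := by
    rw [algebraicIndependent_unique_type_iff]
    exact hy
  have h2 : ¬ Transcendental (Algebra.adjoin k ({y} : Set K)) x := fun h3 => h ⟨h1, h3⟩
  rw [Transcendental, not_not] at h2
  exact isAlgebraic_adjoin_iff.mpr h2

theorem plane_model_of_geometric (hK : IsFunctionField k K) (hg : IsGeometric k K) :
    ∃ (x y : K) (f : MvPolynomial (Fin 2) k),
      IntermediateField.adjoin k ({x, y} : Set K) = ⊤ ∧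
      (∀ (k' : Type u) [Field k'] [Algebra k k'], FiniteDimensional k k' →
        Irreducible (MvPolynomial.map (algebraMap k k') f)) ∧
      RingHom.ker (MvPolynomial.aeval ![x, y] : MvPolynomial (Fin 2) k →ₐ[k] K) =
        Ideal.span {f} := by
  obtain ⟨t, ht, hsep⟩ := exists_separating hK hg
  haveI hfd := finiteDimensional_adjoin_of_transcendental hK ht
  obtain ⟨s, hs⟩ := Field.exists_primitive_element k⟮t⟯ K
  have hst : IntermediateField.adjoin k ({s, t} : Set K) = ⊤ := by
    rw [Set.pair_comm, ← adjoin_simple_adjoin_simple, hs, restrictScalars_top]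
  have halg : IsAlgebraic k⟮t⟯ s := Algebra.IsAlgebraic.isAlgebraic s
  obtain ⟨f, hfirr, hker⟩ := ker_aeval_pair_eq_span s t ht (not_algebraicIndependent_pair halg)
  refine ⟨s, t, f, hst, ?_, hker⟩
  intro k' _ _ hfin
  have hF : IsField (k' ⊗[k] K) := hg k' hfin
  haveI : IsDomain (k' ⊗[k] K) := hF.isDomain
  have hprime : (RingHom.ker (MvPolynomial.aeval (fun i => (1 : k') ⊗ₜ[k] ![s, t] i) :
        MvPolynomial (Fin 2) k' →ₐ[k'] k' ⊗[k] K)).IsPrime := RingHom.ker_isPrime _
  rw [ker_aeval_tmul, hker, Ideal.map_span, Set.image_singleton] at hprime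
  have h0 : MvPolynomial.map (algebraMap k k') f ≠ 0 := by
    intro h
    apply hfirr.ne_zero
    exact MvPolynomial.map_injective _ (algebraMap k k').injective (by rw [h, map_zero])
  exact ((Ideal.span_singleton_prime h0).mp hprime).irreducible


/-- in a geometric extension the base field is algebraically closed -/
theorem mem_range_of_isAlgebraic_of_isGeometric (hg : IsGeometric k K) {z : K}
    (hz : IsAlgebraic k z) : z ∈ Set.range (algebraMap k K) := by
  have hirr : Irreducible (minpoly k z) := minpoly.irreducible hz.isIntegral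
  haveI : Fact (Irreducible (minpoly k z)) := ⟨hirr⟩
  let k' := AdjoinRoot (minpoly k z)
  let pb := AdjoinRoot.powerBasis hirr.ne_zero
  haveI hfin : FiniteDimensional k k' := pb.finite
  have hrank : finrank k k' = (minpoly k z).natDegree := by
    rw [pb.finrank]; rfl
  have hF : IsField (k' ⊗[k] K) := hg k' hfin
  have hF' : IsField (K ⊗[k] k') :=
    (Algebra.TensorProduct.comm k K k').toMulEquiv.isField hF
  let ι : k' →ₐ[k] K := AdjoinRoot.liftAlgHom (minpoly k z) (Algebra.ofId k K) z (by
    have := minpoly.aeval k z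
    rwa [Polynomial.aeval_def] at this)
  let ψ : K ⊗[k] k' →ₐ[K] K :=
    Algebra.TensorProduct.productLeftAlgHom (AlgHom.id K K) ι
  have hinj : Function.Injective ψ := by
    letI := (show @IsField (K ⊗[k] k') Ring.toSemiring from hF').toField
    exact ψ.toRingHom.injective
  have h1 : finrank K (K ⊗[k] k') ≤ finrank K K :=
    LinearMap.finrank_le_finrank_of_injective (f := ψ.toLinearMap) hinj
  rw [Module.finrank_baseChange, finrank_self, hrank] at h1
  have h2 : (minpoly k z).natDegree = 1 := by
    have := minpoly.natDegree_pos hz.isIntegral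
    omega
  have := minpoly.natDegree_eq_one_iff.mp h2
  exact this


omit [Field K] [Algebra k K] in
theorem degreeOf_eq_zero_of_mem_adjoin {σ : Type*} {i j : σ} (hij : j ≠ i)
    {g : MvPolynomial σ k} (hg : g ∈ Algebra.adjoin k {(MvPolynomial.X i : MvPolynomial σ k)}) :
    MvPolynomial.degreeOf j g = 0 := by
  induction hg using Algebra.adjoin_induction with
  | mem z hz =>
    rw [Set.mem_singleton_iff] at hz
    rw [hz]; exact MvPolynomial.degreeOf_X_of_ne hij
  | algebraMap c => exact MvPolynomial.degreeOf_C c j
  | add a b _ _ ha hb =>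
    have := MvPolynomial.degreeOf_add_le j a b
    rw [ha, hb] at this
    simpa using this
  | mul a b _ _ ha hb =>
    have := MvPolynomial.degreeOf_mul_le j a b
    rw [ha, hb] at this
    simpa using this

theorem degreeOf_eq_zero_of_isAlgebraic {σ : Type*} {i j : σ} (hij : j ≠ i) (v : σ → K)
    (hv : IsAlgebraic k (v i)) (f : MvPolynomial σ k)
    (hker : RingHom.ker (MvPolynomial.aeval v : MvPolynomial σ k →ₐ[k] K) = Ideal.span {f}) :
    MvPolynomial.degreeOf j f = 0 := by
  set P := minpoly k (v i) with hP
  set G : MvPolynomial σ k := Polynomial.aeval (MvPolynomial.X i : MvPolynomial σ k) P with hG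
  have hG0 : MvPolynomial.aeval v G = 0 := by
    rw [hG, ← Polynomial.aeval_algHom_apply, MvPolynomial.aeval_X, hP, minpoly.aeval]
  have hGne : G ≠ 0 := by
    intro h
    have h2 : (MvPolynomial.aeval (fun _ : σ => (Polynomial.X : Polynomial k))) G = P := by
      rw [hG, ← Polynomial.aeval_algHom_apply, MvPolynomial.aeval_X, Polynomial.aeval_X_left_apply]
    rw [h, map_zero] at h2
    exact minpoly.ne_zero hv.isIntegral h2.symm
  have hmem : G ∈ RingHom.ker (MvPolynomial.aeval v : MvPolynomial σ k →ₐ[k] K) := hG0
  rw [hker, Ideal.mem_span_singleton] at hmem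
  obtain ⟨h, hh⟩ := hmem
  have hf0 : f ≠ 0 := by rintro rfl; rw [zero_mul] at hh; exact hGne hh
  have hh0 : h ≠ 0 := by rintro rfl; rw [mul_zero] at hh; exact hGne hh
  have hdeg : MvPolynomial.degreeOf j G = 0 :=
    degreeOf_eq_zero_of_mem_adjoin hij (Polynomial.aeval_mem_adjoin_singleton _ _)
  rw [hh, MvPolynomial.degreeOf_mul_eq hf0 hh0] at hdeg
  omega

theorem transcendental_or_of_ker_eq_span (x y : K) (f : MvPolynomial (Fin 2) k)
    (hfirr : Irreducible f)
    (hker : RingHom.ker (MvPolynomial.aeval ![x, y] : MvPolynomial (Fin 2) k →ₐ[k] K) =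
      Ideal.span {f}) : Transcendental k x ∨ Transcendental k y := by
  by_contra hcon
  rw [not_or, Transcendental, Transcendental, not_not, not_not] at hcon
  have h1 : MvPolynomial.degreeOf 1 f = 0 :=
    degreeOf_eq_zero_of_isAlgebraic (i := 0) (j := 1) (by decide) ![x, y] hcon.1 f hker
  have h0 : MvPolynomial.degreeOf 0 f = 0 :=
    degreeOf_eq_zero_of_isAlgebraic (i := 1) (j := 0) (by decide) ![x, y] hcon.2 f hker
  have htd : f.totalDegree = 0 := by
    rw [MvPolynomial.totalDegree_eq]
    apply Nat.le_zero.mp
    apply Finset.sup_le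
    intro m hm
    have hm0 : m 0 = 0 := by
      have := MvPolynomial.monomial_le_degreeOf 0 hm; omega
    have hm1 : m 1 = 0 := by
      have := MvPolynomial.monomial_le_degreeOf 1 hm; omega
    have : m = 0 := by
      ext j; fin_cases j
      · exact hm0
      · exact hm1
    rw [this]; simp
  rw [MvPolynomial.totalDegree_eq_zero_iff_eq_C] at htd
  have hc : MvPolynomial.coeff 0 f ≠ 0 := by
    intro h
    rw [h, map_zero] at htd
    exact hfirr.ne_zero htd
  apply hfirr.not_isUnit
  rw [htd]
  exact (IsUnit.mk0 _ hc).map MvPolynomial.C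


theorem finiteDimensional_of_adjoin_pair {a b : K}
    (hab : IntermediateField.adjoin k ({a, b} : Set K) = ⊤) (halg : IsAlgebraic k⟮a⟯ b) :
    FiniteDimensional k⟮a⟯ K := by
  haveI h1 : FiniteDimensional k⟮a⟯ k⟮a⟯⟮b⟯ := adjoin.finiteDimensional halg.isIntegral
  have h2 : k⟮a⟯⟮b⟯ = ⊤ := by
    rw [← restrictScalars_eq_top_iff (K := k), adjoin_simple_adjoin_simple, hab]
  rw [h2] at h1
  exact Module.Finite.equiv (topEquiv (F := k⟮a⟯) (E := K)).toLinearEquiv


theorem geometric_of_plane_model (x y : K) (f : MvPolynomial (Fin 2) k)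
    (hxy : IntermediateField.adjoin k ({x, y} : Set K) = ⊤)
    (habs : ∀ (k' : Type u) [Field k'] [Algebra k k'], FiniteDimensional k k' →
      Irreducible (MvPolynomial.map (algebraMap k k') f))
    (hker : RingHom.ker (MvPolynomial.aeval ![x, y] : MvPolynomial (Fin 2) k →ₐ[k] K) =
      Ideal.span {f}) : IsFunctionField k K ∧ IsGeometric k K := by
  have hg : IsGeometric k K := by
    intro k' _ _ hfin
    have hgen : IntermediateField.adjoin k (Set.range ![x, y]) = ⊤ := by
      rw [range_pair]; exact hxy
    apply isField_tensor_of_ker_isPrime ![x, y] hgen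
    rw [ker_aeval_tmul, hker, Ideal.map_span, Set.image_singleton]
    have hirr := habs k' hfin
    exact (Ideal.span_singleton_prime hirr.ne_zero).mpr hirr.prime
  refine ⟨⟨?_, fun z hz => mem_range_of_isAlgebraic_of_isGeometric hg hz⟩, hg⟩
  have hfirr : Irreducible f := by
    have := habs k inferInstance
    rwa [Algebra.algebraMap_self, MvPolynomial.map_id] at this
  have hni : ¬ AlgebraicIndependent k ![x, y] := by
    intro h
    have h1 : RingHom.ker (MvPolynomial.aeval ![x, y] : MvPolynomial (Fin 2) k →ₐ[k] K) = ⊥ :=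
      (RingHom.injective_iff_ker_eq_bot _).mp h
    rw [hker, Ideal.span_singleton_eq_bot] at h1
    exact hfirr.ne_zero h1
  rcases transcendental_or_of_ker_eq_span x y f hfirr hker with hx | hy
  · refine ⟨x, hx, ?_⟩
    have hni' : ¬ AlgebraicIndependent k ![y, x] := by
      intro h
      apply hni
      have := h.comp (Equiv.swap (0 : Fin 2) 1) (Equiv.injective _)
      convert this using 1
      ext j; fin_cases j <;> rfl
    have halg := isAlgebraic_of_not_algebraicIndependent_pair hx hni'
    exact finiteDimensional_of_adjoin_pair hxy halg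
  · refine ⟨y, hy, ?_⟩
    have halg := isAlgebraic_of_not_algebraicIndependent_pair hy hni
    rw [Set.pair_comm] at hxy
    exact finiteDimensional_of_adjoin_pair hxy halg

/-- S11008 -/
theorem isGeometric_iff_plane_model (k : Type u) (K : Type v) [Field k] [Field K] [Algebra k K] :
    (IsFunctionField k K ∧ IsGeometric k K) ↔
      ∃ (x y : K) (f : MvPolynomial (Fin 2) k),
        IntermediateField.adjoin k ({x, y} : Set K) = ⊤ ∧
        (∀ (k' : Type u) [Field k'] [Algebra k k'], FiniteDimensional k k' →
          Irreducible (MvPolynomial.map (algebraMap k k') f)) ∧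
        RingHom.ker (MvPolynomial.aeval ![x, y] : MvPolynomial (Fin 2) k →ₐ[k] K) =
          Ideal.span {f} :=
  ⟨fun h => plane_model_of_geometric h.1 h.2,
    fun ⟨x, y, f, hxy, habs, hker⟩ => geometric_of_plane_model x y f hxy habs hker⟩

end

end Groth.Agent.H55
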