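import Groth.Agent.H55.Ker2

/-! The homogeneous ideal of a plane curve (S11073). -/

set_option autoImplicit false
set_option linter.style.haveILetI false
set_option linter.unusedSectionVars false

namespace Groth.Agent.H55

open Polynomial FunFld

/-- Gauss lemma packaged, for a domain target -/
theorem exists_irreducible_dvd_iff' {R L : Type*} [CommRing R] [IsDomain R]
    [UniqueFactorizationMonoid R] [CommRing L] [IsDomain L] (φ : R →+* L)
    (hφ : Function.Injective φ) (z : L)
    (hz : ∃ q : R[X], q ≠ 0 ∧ Polynomial.eval₂ φ z q = 0) :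
    ∃ p : R[X], Irreducible p ∧ ∀ g : R[X], Polynomial.eval₂ φ z g = 0 ↔ p ∣ g := by
  have hinj : Function.Injective (algebraMap L (FractionRing L)) := IsFractionRing.injective _ _
  have hev : ∀ g : R[X], Polynomial.eval₂ ((algebraMap L (FractionRing L)).comp φ)
      (algebraMap L (FractionRing L) z) g = algebraMap L (FractionRing L) (Polynomial.eval₂ φ z g) := by
    intro g
    rw [Polynomial.hom_eval₂]
  obtain ⟨q, hq0, hq⟩ := hz
  obtain ⟨p, hpirr, hp⟩ := exists_irreducible_dvd_iff ((algebraMap L (FractionRing L)).comp φ)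
    (hinj.comp hφ) (algebraMap L (FractionRing L) z) ⟨q, hq0, by rw [hev, hq, map_zero]⟩
  refine ⟨p, hpirr, fun g => ?_⟩
  rw [← hp, hev, map_eq_zero_iff _ hinj]

section
variable {k A : Type*} [Field k] [CommRing A] [Algebra k A]

theorem aeval_eq_eval₂_finSuccEquiv {n : ℕ} (v : Fin (n + 1) → A)
    (g : MvPolynomial (Fin (n + 1)) k) :
    MvPolynomial.aeval v g =
      Polynomial.eval₂ ((MvPolynomial.aeval (fun i : Fin n => v i.succ) :
        MvPolynomial (Fin n) k →ₐ[k] A) : MvPolynomial (Fin n) k →+* A) (v 0)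
        (MvPolynomial.finSuccEquiv k n g) := by
  induction g using MvPolynomial.induction_on with
  | C a =>
    have : MvPolynomial.finSuccEquiv k n (MvPolynomial.C a) = Polynomial.C (MvPolynomial.C a) := by
      have := (MvPolynomial.finSuccEquiv k n).commutes a
      simpa using this
    rw [this, Polynomial.eval₂_C]
    simp
  | add p q hp hq => rw [map_add, map_add, Polynomial.eval₂_add, hp, hq]
  | mul_X p i hp =>
    rw [map_mul, map_mul, Polynomial.eval₂_mul, hp]
    congr 1
    refine Fin.cases ?_ (fun j => ?_) i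
    · simp [MvPolynomial.finSuccEquiv_X_zero]
    · simp [MvPolynomial.finSuccEquiv_X_succ]

theorem ker_aeval_fin_succ_eq_span [IsDomain A] {n : ℕ} (v : Fin (n + 1) → A)
    (hind : AlgebraicIndependent k (fun i : Fin n => v i.succ))
    (hdep : ¬ AlgebraicIndependent k v) :
    ∃ f : MvPolynomial (Fin (n + 1)) k, Irreducible f ∧
      RingHom.ker (MvPolynomial.aeval v : MvPolynomial (Fin (n + 1)) k →ₐ[k] A) =
        Ideal.span {f} := by
  set φ : MvPolynomial (Fin n) k →+* A := ((MvPolynomial.aeval (fun i : Fin n => v i.succ) :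
        MvPolynomial (Fin n) k →ₐ[k] A) : MvPolynomial (Fin n) k →+* A) with hφdef
  have hφ : Function.Injective φ := hind
  have hz : ∃ q : (MvPolynomial (Fin n) k)[X], q ≠ 0 ∧ Polynomial.eval₂ φ (v 0) q = 0 := by
    rw [algebraicIndependent_iff_injective_aeval, injective_iff_map_eq_zero] at hdep
    push Not at hdep
    obtain ⟨g, hg, hg0⟩ := hdep
    refine ⟨MvPolynomial.finSuccEquiv k n g, ?_, ?_⟩
    · rwa [Ne, EmbeddingLike.map_eq_zero_iff]
    · rw [← aeval_eq_eval₂_finSuccEquiv]; exact hg
  obtain ⟨p, hpirr, hp⟩ := exists_irreducible_dvd_iff' φ hφ (v 0) hz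
  refine ⟨(MvPolynomial.finSuccEquiv k n).symm p, ?_, ?_⟩
  · exact (MulEquiv.irreducible_iff (MvPolynomial.finSuccEquiv k n).symm.toMulEquiv).mpr hpirr
  · ext g
    rw [RingHom.mem_ker, Ideal.mem_span_singleton]
    have h1 := aeval_eq_eval₂_finSuccEquiv v g
    rw [show (MvPolynomial.aeval v : MvPolynomial (Fin (n + 1)) k →ₐ[k] A) g =
      MvPolynomial.aeval v g from rfl, h1, hp]
    constructor
    · rintro ⟨c, hc⟩
      refine ⟨(MvPolynomial.finSuccEquiv k n).symm c, ?_⟩
      rw [← map_mul, ← hc, AlgEquiv.symm_apply_apply]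
    · rintro ⟨c, hc⟩
      refine ⟨MvPolynomial.finSuccEquiv k n c, ?_⟩
      rw [hc, map_mul, AlgEquiv.apply_symm_apply]

/-- transport of a principal kernel along a permutation of the variables -/
theorem ker_aeval_perm {ι : Type*} (v : ι → A) (σ : Equiv.Perm ι)
    (h : ∃ f : MvPolynomial ι k, Irreducible f ∧
      RingHom.ker (MvPolynomial.aeval (v ∘ σ) : MvPolynomial ι k →ₐ[k] A) = Ideal.span {f}) :
    ∃ f : MvPolynomial ι k, Irreducible f ∧
      RingHom.ker (MvPolynomial.aeval v : MvPolynomial ι k →ₐ[k] A) = Ideal.span {f} := by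
  obtain ⟨f, hf, hker⟩ := h
  refine ⟨MvPolynomial.renameEquiv k σ f, ?_, ?_⟩
  · exact (MulEquiv.irreducible_iff (MvPolynomial.renameEquiv k σ).toMulEquiv).mpr hf
  · ext g
    rw [RingHom.mem_ker, Ideal.mem_span_singleton]
    have h1 : (MvPolynomial.aeval v : MvPolynomial ι k →ₐ[k] A) g =
        MvPolynomial.aeval (v ∘ σ) ((MvPolynomial.renameEquiv k σ).symm g) := by
      have := MvPolynomial.aeval_rename (R := k) σ v ((MvPolynomial.renameEquiv k σ).symm g)
      rw [← this]
      congr 1
      exact ((MvPolynomial.renameEquiv k σ).apply_symm_apply g).symm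
    rw [h1, ← RingHom.mem_ker, hker, Ideal.mem_span_singleton]
    constructor
    · rintro ⟨c, hc⟩
      refine ⟨MvPolynomial.renameEquiv k σ c, ?_⟩
      rw [← map_mul, ← hc, AlgEquiv.apply_symm_apply]
    · rintro ⟨c, hc⟩
      refine ⟨(MvPolynomial.renameEquiv k σ).symm c, ?_⟩
      rw [hc, map_mul, AlgEquiv.symm_apply_apply]

end


section
variable {k K : Type*} [Field k] [Field K] [Algebra k K]

theorem finsupp_prod_C_mul_X {σ : Type*} (u : σ → K) (m : σ →₀ ℕ) :
    (m.prod fun i e => (Polynomial.C (u i) * Polynomial.X) ^ e) =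
      Polynomial.C (m.prod fun i e => u i ^ e) * Polynomial.X ^ m.degree := by
  unfold Finsupp.prod
  simp only [mul_pow, Finset.prod_mul_distrib, Finset.prod_pow_eq_pow_sum, map_prod, map_pow]
  rfl

/-- coefficients of the homogeneous evaluation -/
theorem coeff_aeval_C_mul_X {σ : Type*} (u : σ → K) (F : MvPolynomial σ k) (d : ℕ) :
    (MvPolynomial.aeval (fun i => Polynomial.C (u i) * Polynomial.X) F).coeff d =
      MvPolynomial.aeval u (MvPolynomial.homogeneousComponent d F) := by
  induction F using MvPolynomial.induction_on' with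
  | monomial m a =>
    rw [MvPolynomial.aeval_monomial, finsupp_prod_C_mul_X,
      MvPolynomial.homogeneousComponent_of_mem (MvPolynomial.isHomogeneous_monomial a rfl)]
    rw [Polynomial.algebraMap_apply, ← mul_assoc, ← map_mul, Polynomial.coeff_C_mul_X_pow]
    split_ifs with h
    · rw [MvPolynomial.aeval_monomial]
    · rw [map_zero]
  | add p q hp hq => rw [map_add, Polynomial.coeff_add, hp, hq, map_add, map_add]

theorem aeval_C_mul_X_eq_zero_iff {σ : Type*} (u : σ → K) (F : MvPolynomial σ k) :
    MvPolynomial.aeval (fun i => Polynomial.C (u i) * Polynomial.X) F = 0 ↔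
      ∀ d, MvPolynomial.aeval u (MvPolynomial.homogeneousComponent d F) = 0 := by
  constructor
  · intro h d
    rw [← coeff_aeval_C_mul_X, h, Polynomial.coeff_zero]
  · intro h
    ext d
    rw [coeff_aeval_C_mul_X, h, Polynomial.coeff_zero]

/-- the kernel of the homogeneous evaluation is a homogeneous ideal -/
theorem homogeneousComponent_mem_ker {σ : Type*} (u : σ → K) {F : MvPolynomial σ k}
    (hF : MvPolynomial.aeval (fun i => Polynomial.C (u i) * Polynomial.X) F = 0) (d : ℕ) :
    MvPolynomial.aeval (fun i => Polynomial.C (u i) * Polynomial.X)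
      (MvPolynomial.homogeneousComponent d F) = 0 := by
  rw [aeval_C_mul_X_eq_zero_iff] at hF ⊢
  intro e
  rw [MvPolynomial.homogeneousComponent_of_mem
    (MvPolynomial.homogeneousComponent_isHomogeneous d F)]
  split_ifs with h
  · exact hF d
  · rw [map_zero]

/-- a homogeneous polynomial in two variables with zero dehomogenization is zero -/
theorem eq_zero_of_dehomogenize_eq_zero {F : MvPolynomial (Fin 2) k} {d : ℕ}
    (hF : F.IsHomogeneous d)
    (h0 : MvPolynomial.aeval ![(1 : Polynomial k), Polynomial.X] F = 0) : F = 0 := by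
  by_contra hne
  obtain ⟨m₀, hm₀⟩ := MvPolynomial.support_nonempty.mpr hne
  have hsum : MvPolynomial.aeval ![(1 : Polynomial k), Polynomial.X] F =
      ∑ m ∈ F.support, Polynomial.C (MvPolynomial.coeff m F) * Polynomial.X ^ (m 1) := by
    rw [MvPolynomial.aeval_def, MvPolynomial.eval₂_eq']
    apply Finset.sum_congr rfl
    intro m _
    simp [Fin.prod_univ_two]
  have hcoef : (MvPolynomial.aeval ![(1 : Polynomial k), Polynomial.X] F).coeff (m₀ 1) =
      MvPolynomial.coeff m₀ F := by
    rw [hsum, Polynomial.finsetSum_coeff, Finset.sum_eq_single m₀]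
    · rw [Polynomial.coeff_C_mul_X_pow, if_pos rfl]
    · intro m hm hmne
      rw [Polynomial.coeff_C_mul_X_pow, if_neg]
      intro h1
      apply hmne
      have e1 := hF.degree_eq_sum_deg_support hm
      have e2 := hF.degree_eq_sum_deg_support hm₀
      rw [← Finsupp.degree_apply, Finsupp.degree_eq_sum, Fin.sum_univ_two] at e1 e2
      ext j; fin_cases j
      · simp only [Fin.zero_eta]; omega
      · exact h1.symm
    · intro h; exact absurd hm₀ h
  rw [h0, Polynomial.coeff_zero] at hcoef
  exact (MvPolynomial.mem_support_iff.mp hm₀) hcoef.symm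

end


section
universe u v
variable {k : Type u} {K : Type v} [Field k] [Field K] [Algebra k K]

theorem trdeg_eq_one (hK : IsFunctionField k K) : Algebra.trdeg k K = 1 := by
  obtain ⟨x₀, hx₀, hfin⟩ := hK.1
  have hb := isTranscendenceBasis_unit hx₀ hfin
  have := hb.lift_cardinalMk_eq_trdeg
  simpa using this.symm

theorem trdeg_polynomial_eq_two (hK : IsFunctionField k K) :
    Algebra.trdeg k (Polynomial K) = 2 := by
  have h1 := trdeg_eq_one hK
  have h2 : Algebra.trdeg K (Polynomial K) = 1 := Polynomial.trdeg_of_isDomain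
  have h3 := trdeg_add_eq k K (A := Polynomial K)
  rw [h1, h2] at h3
  rw [← h3]; norm_num

theorem not_algebraicIndependent_fin_three (hK : IsFunctionField k K)
    (v : Fin 3 → Polynomial K) : ¬ AlgebraicIndependent k v := by
  intro h
  have h1 := h.lift_cardinalMk_le_trdeg
  rw [trdeg_polynomial_eq_two hK] at h1
  simp at h1
  norm_num at h1

end


end Groth.Agent.H55
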