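import Groth.Agent.H55.Ker3

/-! S11073: the homogeneous ideal of a plane curve is principal. -/

set_option autoImplicit false
set_option linter.style.haveILetI false
set_option linter.unusedSectionVars false

namespace Groth.Agent.H55

open Polynomial FunFld

section
universe u v
variable {k : Type u} {K : Type v} [Field k] [Field K] [Algebra k K]

/-- `T, xT` are algebraically independent over `k` when `x` is transcendental -/
theorem algebraicIndependent_pair_C_mul_X {x : K} (hx : Transcendental k x) :
    AlgebraicIndependent k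
      (fun i : Fin 2 => (Polynomial.C (![(1 : K), x] i) * Polynomial.X : Polynomial K)) := by
  rw [algebraicIndependent_iff_injective_aeval, injective_iff_map_eq_zero]
  intro G hG
  rw [aeval_C_mul_X_eq_zero_iff] at hG
  have hcomp : ∀ d, MvPolynomial.homogeneousComponent d G = 0 := by
    intro d
    apply eq_zero_of_dehomogenize_eq_zero (MvPolynomial.homogeneousComponent_isHomogeneous d G)
    have h1 := hG d
    have h2 := MvPolynomial.comp_aeval_apply (f := ![(1 : Polynomial k), Polynomial.X])
      (Polynomial.aeval x : Polynomial k →ₐ[k] K) (MvPolynomial.homogeneousComponent d G)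
    have h3 : (fun i => (Polynomial.aeval x : Polynomial k →ₐ[k] K)
        (![(1 : Polynomial k), Polynomial.X] i)) = ![(1 : K), x] := by
      ext i; fin_cases i <;> simp
    rw [h3, h1] at h2
    by_contra hne
    exact hx ⟨_, hne, h2⟩
  rw [← MvPolynomial.sum_homogeneousComponent G]
  exact Finset.sum_eq_zero fun d _ => hcomp d

/-- an irreducible generator of a homogeneous kernel is homogeneous -/
theorem isHomogeneous_of_ker_eq_span {σ : Type*} (u : σ → K) {f : MvPolynomial σ k}
    (hf : Irreducible f)
    (hker : RingHom.ker (MvPolynomial.aeval (fun i => Polynomial.C (u i) * Polynomial.X) :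
      MvPolynomial σ k →ₐ[k] Polynomial K) = Ideal.span {f}) :
    f.IsHomogeneous f.totalDegree := by
  set d := f.totalDegree with hd
  set fd := MvPolynomial.homogeneousComponent d f with hfd
  have hf0 : f ≠ 0 := hf.ne_zero
  have hfdne : fd ≠ 0 := by
    obtain ⟨m, hm, hmd⟩ : ∃ m ∈ f.support, (m.sum fun _ e => e) = f.totalDegree :=
      Finset.exists_mem_eq_sup _ (MvPolynomial.support_nonempty.mpr hf0) _ |>.imp
        fun m hm => ⟨hm.1, hm.2.symm⟩
    intro h
    have h1 : MvPolynomial.coeff m fd = MvPolynomial.coeff m f := by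
      rw [hfd, MvPolynomial.coeff_homogeneousComponent, if_pos]
      rw [Finsupp.degree_apply]; exact hmd
    rw [h, MvPolynomial.coeff_zero] at h1
    exact (MvPolynomial.mem_support_iff.mp hm) h1.symm
  have hfmem : f ∈ RingHom.ker (MvPolynomial.aeval (fun i => Polynomial.C (u i) * Polynomial.X) :
      MvPolynomial σ k →ₐ[k] Polynomial K) := by
    rw [hker]; exact Ideal.mem_span_singleton_self f
  have hfdmem : fd ∈ RingHom.ker (MvPolynomial.aeval (fun i => Polynomial.C (u i) * Polynomial.X) :
      MvPolynomial σ k →ₐ[k] Polynomial K) := homogeneousComponent_mem_ker u hfmem d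
  rw [hker, Ideal.mem_span_singleton] at hfdmem
  obtain ⟨h, hh⟩ := hfdmem
  have hh0 : h ≠ 0 := by rintro rfl; rw [mul_zero] at hh; exact hfdne hh
  have hfdhom : fd.IsHomogeneous d := MvPolynomial.homogeneousComponent_isHomogeneous d f
  have htd : fd.totalDegree = d := hfdhom.totalDegree hfdne
  rw [hh, MvPolynomial.totalDegree_mul_of_isDomain hf0 hh0] at htd
  have hh_td : h.totalDegree = 0 := by omega
  rw [MvPolynomial.totalDegree_eq_zero_iff_eq_C] at hh_td
  have hc : MvPolynomial.coeff 0 h ≠ 0 := by
    intro h1; rw [h1, map_zero] at hh_td; exact hh0 hh_td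
  have hfeq : f = fd * MvPolynomial.C (MvPolynomial.coeff 0 h)⁻¹ := by
    rw [hh, hh_td, mul_assoc, ← map_mul]
    simp [hc]
  have := hfdhom.mul (MvPolynomial.isHomogeneous_C σ (MvPolynomial.coeff 0 h)⁻¹)
  rw [add_zero] at this
  convert this using 1

end

end Groth.Agent.H55

namespace Groth.Agent.H55

open Polynomial FunFld

section
universe u v
variable {k : Type u} {K : Type v} [Field k] [Field K] [Algebra k K]

theorem transcendental_or_of_adjoin_pair (hK : IsFunctionField k K) {x y : K}
    (hxy : IntermediateField.adjoin k ({x, y} : Set K) = ⊤) :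
    Transcendental k x ∨ Transcendental k y := by
  by_contra hcon
  rw [not_or, Transcendental, Transcendental, not_not, not_not] at hcon
  obtain ⟨a, ha⟩ := hK.2 x hcon.1
  obtain ⟨b, hb⟩ := hK.2 y hcon.2
  obtain ⟨x₀, hx₀, -⟩ := hK.1
  have h1 : IntermediateField.adjoin k ({x, y} : Set K) ≤ ⊥ := by
    rw [IntermediateField.adjoin_le_iff]
    intro z hz
    rcases hz with rfl | rfl
    · rw [← ha]; exact IntermediateField.algebraMap_mem _ a
    · rw [← hb]; exact IntermediateField.algebraMap_mem _ b
  rw [hxy] at h1
  have h2 : x₀ ∈ (⊥ : IntermediateField k K) := h1 IntermediateField.mem_top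
  rw [IntermediateField.mem_bot] at h2
  obtain ⟨c, rfl⟩ := h2
  exact hx₀ (isAlgebraic_algebraMap c)

/-- S11073 -/
theorem ker_plane_relations_eq_span (hK : IsFunctionField k K) (x y : K)
    (hxy : IntermediateField.adjoin k ({x, y} : Set K) = ⊤) :
    ∃ f : MvPolynomial (Fin 3) k, Irreducible f ∧ f.IsHomogeneous f.totalDegree ∧
      RingHom.ker (MvPolynomial.aeval fun i => Polynomial.C (![(1 : K), x, y] i) * Polynomial.X :
        MvPolynomial (Fin 3) k →ₐ[k] Polynomial K) = Ideal.span {f} := by
  set v : Fin 3 → Polynomial K := fun i => Polynomial.C (![(1 : K), x, y] i) * Polynomial.X with hv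
  have hdep : ¬ AlgebraicIndependent k v := not_algebraicIndependent_fin_three hK v
  have key : ∀ σ : Equiv.Perm (Fin 3),
      AlgebraicIndependent k (fun i : Fin 2 => (v ∘ σ) i.succ) →
      ∃ f : MvPolynomial (Fin 3) k, Irreducible f ∧
        RingHom.ker (MvPolynomial.aeval v : MvPolynomial (Fin 3) k →ₐ[k] Polynomial K) =
          Ideal.span {f} := by
    intro σ hind
    apply ker_aeval_perm v σ
    apply ker_aeval_fin_succ_eq_span (v ∘ σ) hind
    intro h
    apply hdep
    have := h.comp σ.symm σ.symm.injective
    convert this using 1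
    ext i
    simp
  have hex : ∃ f : MvPolynomial (Fin 3) k, Irreducible f ∧
        RingHom.ker (MvPolynomial.aeval v : MvPolynomial (Fin 3) k →ₐ[k] Polynomial K) =
          Ideal.span {f} := by
    rcases transcendental_or_of_adjoin_pair hK hxy with hx | hy
    · apply key (finRotate 3).symm
      convert algebraicIndependent_pair_C_mul_X hx using 1
      ext i
      have e0 : (finRotate 3).symm (1 : Fin 3) = 0 := by decide
      have e1 : (finRotate 3).symm (2 : Fin 3) = 1 := by decide
      fin_cases i
      · simp [hv, e0]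
      · simp [hv, e1]
    · apply key (Equiv.swap 0 1)
      convert algebraicIndependent_pair_C_mul_X hy using 1
      ext i
      have e0 : (Equiv.swap (0 : Fin 3) 1) (1 : Fin 3) = 0 := by decide
      have e1 : (Equiv.swap (0 : Fin 3) 1) (2 : Fin 3) = 2 := by decide
      fin_cases i
      · simp [hv, e0]
      · simp [hv, e1]
  obtain ⟨f, hf, hker⟩ := hex
  exact ⟨f, hf, isHomogeneous_of_ker_eq_span ![(1 : K), x, y] hf hker, hker⟩

end

end Groth.Agent.H55
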