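import Groth.Agent.H55.Ker4

set_option autoImplicit false
set_option linter.style.haveILetI false
set_option linter.unusedSectionVars false

namespace Groth.Agent.H55

open Polynomial FunFld

section
variable {k : Type*} [Field k]

/-- the shear `X₁ ↦ X₁ + c X₀` of the polynomial ring in two variables -/
noncomputable def shear (c : k) : MvPolynomial (Fin 2) k →ₐ[k] MvPolynomial (Fin 2) k :=
  MvPolynomial.aeval ![MvPolynomial.X 0, MvPolynomial.X 1 + MvPolynomial.C c * MvPolynomial.X 0]

theorem shear_comp (c : k) : (shear (-c)).comp (shear c) = AlgHom.id k _ := by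
  apply MvPolynomial.algHom_ext
  intro i
  fin_cases i
  · simp [shear]
  · simp [shear]

/-- the shear as an algebra equivalence -/
noncomputable def shearEquiv (c : k) : MvPolynomial (Fin 2) k ≃ₐ[k] MvPolynomial (Fin 2) k :=
  AlgEquiv.ofAlgHom (shear c) (shear (-c))
    (by have := shear_comp (-c); rwa [neg_neg] at this) (shear_comp c)

theorem irreducible_shear (c : k) {f : MvPolynomial (Fin 2) k} (hf : Irreducible f) :
    Irreducible (shear c f) :=
  (MulEquiv.irreducible_iff (shearEquiv c).toMulEquiv).mpr hf

theorem aeval_shear {A : Type*} [CommRing A] [Algebra k A] (c : k) (x y : A)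
    (g : MvPolynomial (Fin 2) k) :
    MvPolynomial.aeval ![x, y] (shear c g) = MvPolynomial.aeval ![x, y + c • x] g := by
  unfold shear
  rw [MvPolynomial.comp_aeval_apply]
  congr 2
  funext i
  fin_cases i
  · simp
  · simp [Algebra.smul_def]

theorem isHomogeneous_shear (c : k) {g : MvPolynomial (Fin 2) k} {e : ℕ}
    (hg : g.IsHomogeneous e) : (shear c g).IsHomogeneous e := by
  have := hg.aeval (S := k) (n := 1)
    ![(MvPolynomial.X 0 : MvPolynomial (Fin 2) k),
      MvPolynomial.X 1 + MvPolynomial.C c * MvPolynomial.X 0] (by
      intro i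
      fin_cases i
      · exact MvPolynomial.isHomogeneous_X k 0
      · exact (MvPolynomial.isHomogeneous_X k 1).add (MvPolynomial.isHomogeneous_C_mul_X c 0))
  rw [one_mul] at this
  unfold shear
  exact this

theorem totalDegree_shear_le (c : k) (f : MvPolynomial (Fin 2) k) :
    (shear c f).totalDegree ≤ f.totalDegree := by
  conv_lhs => rw [← MvPolynomial.sum_homogeneousComponent f, map_sum]
  apply MvPolynomial.totalDegree_finsetSum_le
  intro e he
  rw [Finset.mem_range] at he
  exact ((isHomogeneous_shear c (MvPolynomial.homogeneousComponent_isHomogeneous e f)).totalDegree_le).trans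
    (by omega)

/-- coefficient extraction by the substitution `X₀ ↦ T, X₁ ↦ 0` -/
theorem coeff_aeval_X_zero (g : MvPolynomial (Fin 2) k) (n : ℕ) :
    (MvPolynomial.aeval ![(Polynomial.X : Polynomial k), 0] g).coeff n =
      MvPolynomial.coeff (Finsupp.single 0 n) g := by
  induction g using MvPolynomial.induction_on' with
  | monomial m a =>
    rw [MvPolynomial.aeval_monomial, MvPolynomial.coeff_monomial]
    have hprod : (m.prod fun i e => (![(Polynomial.X : Polynomial k), 0] i) ^ e) =
        Polynomial.X ^ (m 0) * 0 ^ (m 1) := by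
      rw [Finsupp.prod_fintype _ _ (fun i => pow_zero _), Fin.prod_univ_two]
      simp
    rw [hprod]
    by_cases h1 : m 1 = 0
    · rw [h1, pow_zero, mul_one, Polynomial.algebraMap_apply, Polynomial.coeff_C_mul_X_pow]
      by_cases h0 : n = m 0
      · rw [if_pos h0, if_pos]
        · rfl
        · ext j; fin_cases j
          · simp [h0]
          · simp [h1]
      · rw [if_neg h0, if_neg]
        intro h
        apply h0
        rw [h]; simp
    · rw [zero_pow h1, mul_zero, mul_zero, Polynomial.coeff_zero, if_neg]
      intro h
      apply h1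
      rw [h]; simp
  | add p q hp hq => rw [map_add, Polynomial.coeff_add, hp, hq, MvPolynomial.coeff_add]

/-- the coefficient of `X₀ ^ d` in the shear of `f` is the value at `(1, c)` of the degree-`d`
part of `f` -/
theorem coeff_shear (c : k) (f : MvPolynomial (Fin 2) k) (d : ℕ) :
    MvPolynomial.coeff (Finsupp.single 0 d) (shear c f) =
      MvPolynomial.aeval ![(1 : k), c] (MvPolynomial.homogeneousComponent d f) := by
  rw [← coeff_aeval_X_zero, aeval_shear, ← coeff_aeval_C_mul_X (K := k)]
  congr 3
  funext i
  fin_cases i
  · simp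
  · simp [Algebra.smul_def]

end

end Groth.Agent.H55
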