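import Groth.Agent.H55.Ker5

/-! S11070: the degree of a plane curve equals the total degree of its equation. -/

set_option autoImplicit false
set_option linter.style.haveILetI false
set_option linter.unusedSectionVars false

namespace Groth.Agent.H55

open Polynomial FunFld WithZero IntermediateField Module

section
variable {k K : Type*} [Field k] [Field K] [Algebra k K]

theorem homogeneousComponent_totalDegree_ne_zero {σ : Type*} {f : MvPolynomial σ k} (hf0 : f ≠ 0) :
    MvPolynomial.homogeneousComponent f.totalDegree f ≠ 0 := by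
  obtain ⟨m, hm, hmd⟩ : ∃ m ∈ f.support, (m.sum fun _ e => e) = f.totalDegree :=
    Finset.exists_mem_eq_sup _ (MvPolynomial.support_nonempty.mpr hf0) _ |>.imp
      fun m hm => ⟨hm.1, hm.2.symm⟩
  intro h
  have h1 : MvPolynomial.coeff m (MvPolynomial.homogeneousComponent f.totalDegree f) =
      MvPolynomial.coeff m f := by
    rw [MvPolynomial.coeff_homogeneousComponent, if_pos]
    rw [Finsupp.degree_apply]; exact hmd
  rw [h, MvPolynomial.coeff_zero] at h1
  exact (MvPolynomial.mem_support_iff.mp hm) h1.symm

theorem exists_shear_coeff_ne_zero [Infinite k] {f : MvPolynomial (Fin 2) k} (hf : f ≠ 0) :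
    ∃ c : k, MvPolynomial.coeff (Finsupp.single 0 f.totalDegree) (shear c f) ≠ 0 := by
  set fd := MvPolynomial.homogeneousComponent f.totalDegree f with hfd
  have hfd0 : fd ≠ 0 := homogeneousComponent_totalDegree_ne_zero hf
  set Q : Polynomial k := MvPolynomial.aeval ![(1 : Polynomial k), Polynomial.X] fd with hQ
  have hQ0 : Q ≠ 0 := fun h => hfd0 (eq_zero_of_dehomogenize_eq_zero
    (MvPolynomial.homogeneousComponent_isHomogeneous _ f) h)
  obtain ⟨c, hc⟩ : ∃ c : k, Q.eval c ≠ 0 := by
    by_contra hcon
    push Not at hcon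
    exact hQ0 (Polynomial.eq_zero_of_infinite_isRoot Q (Set.infinite_univ.mono fun c _ => hcon c))
  refine ⟨c, ?_⟩
  rw [coeff_shear]
  have h2 := MvPolynomial.comp_aeval_apply (f := ![(1 : Polynomial k), Polynomial.X])
    (Polynomial.aeval c : Polynomial k →ₐ[k] k) fd
  have h3 : (fun i => (Polynomial.aeval c : Polynomial k →ₐ[k] k)
      (![(1 : Polynomial k), Polynomial.X] i)) = ![(1 : k), c] := by
    ext i; fin_cases i <;> simp
  rw [h3] at h2
  rw [← h2, Polynomial.coe_aeval_eq_eval]
  exact hc

/-- if `x, y'` satisfy a relation of total degree `≤ d` in which `X₀ ^ d` occurs, then `x` has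
poles only at poles of `y'`, of no larger order -/
theorem val_le_max_of_relation (P : Place k K) {x y' : K} {g : MvPolynomial (Fin 2) k} {d : ℕ}
    (hg : MvPolynomial.aeval ![x, y'] g = 0) (htd : g.totalDegree ≤ d)
    (hc : MvPolynomial.coeff (Finsupp.single 0 d) g ≠ 0) :
    P.1 x ≤ max 1 (P.1 y') := by
  by_contra hcon
  rw [not_le, max_lt_iff] at hcon
  obtain ⟨h1, h2⟩ := hcon
  set a := P.1 x with ha
  set b := P.1 y' with hb
  have ha0 : 0 < a := lt_trans zero_lt_one h1
  set md : Fin 2 →₀ ℕ := Finsupp.single 0 d with hmd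
  have hmdsupp : md ∈ g.support := MvPolynomial.mem_support_iff.mpr hc
  have hsum : MvPolynomial.aeval ![x, y'] g =
      ∑ m ∈ g.support, algebraMap k K (MvPolynomial.coeff m g) * (x ^ (m 0) * y' ^ (m 1)) := by
    rw [MvPolynomial.aeval_def, MvPolynomial.eval₂_eq']
    apply Finset.sum_congr rfl
    intro m _
    simp [Fin.prod_univ_two]
  rw [hsum, ← Finset.add_sum_erase _ _ hmdsupp] at hg
  have hterm : P.1 (algebraMap k K (MvPolynomial.coeff md g) * (x ^ (md 0) * y' ^ (md 1))) =
      a ^ d := by
    rw [map_mul, Place.val_algebraMap_eq_one P hc, one_mul, map_mul, map_pow, map_pow]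
    simp [hmd, ha]
  have hrest : P.1 (∑ m ∈ g.support.erase md,
      algebraMap k K (MvPolynomial.coeff m g) * (x ^ (m 0) * y' ^ (m 1))) < a ^ d := by
    apply Valuation.map_sum_lt P.1 (pow_ne_zero _ ha0.ne')
    intro m hm
    rw [Finset.mem_erase] at hm
    obtain ⟨hne, hm⟩ := hm
    have hdeg : m 0 + m 1 ≤ d := by
      have := MvPolynomial.le_totalDegree hm
      rw [Finsupp.sum_fintype _ _ (fun _ => rfl), Fin.sum_univ_two] at this
      omega
    rw [map_mul, map_mul, map_pow, map_pow]
    have hle : P.1 (algebraMap k K (MvPolynomial.coeff m g)) ≤ 1 := Place.val_algebraMap_le_one P _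
    calc P.1 (algebraMap k K (MvPolynomial.coeff m g)) * (a ^ m 0 * b ^ m 1)
        ≤ 1 * (a ^ m 0 * b ^ m 1) := mul_le_mul_left hle _
      _ = a ^ m 0 * b ^ m 1 := one_mul _
      _ < a ^ d := by
        by_cases hm1 : m 1 = 0
        · rw [hm1, pow_zero, mul_one]
          have hlt : m 0 < d := by
            rcases Nat.lt_or_ge (m 0) d with h | h
            · exact h
            · exfalso
              apply hne
              ext j; fin_cases j
              · simp only [Fin.zero_eta, hmd, Finsupp.single_eq_same]; omega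
              · simp [hmd, hm1]
          exact pow_lt_pow_right₀ h1 hlt
        · have hb_lt : b ^ m 1 < a ^ m 1 := pow_lt_pow_left₀ h2 zero_le hm1
          calc a ^ m 0 * b ^ m 1 < a ^ m 0 * a ^ m 1 :=
                mul_lt_mul_of_pos_left hb_lt (pow_pos ha0 _)
            _ = a ^ (m 0 + m 1) := (pow_add _ _ _).symm
            _ ≤ a ^ d := pow_le_pow_right₀ h1.le hdeg
  have heq : algebraMap k K (MvPolynomial.coeff md g) * (x ^ (md 0) * y' ^ (md 1)) =
      -(∑ m ∈ g.support.erase md,
        algebraMap k K (MvPolynomial.coeff m g) * (x ^ (m 0) * y' ^ (m 1))) :=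
    eq_neg_of_add_eq_zero_left hg
  rw [heq, Valuation.map_neg] at hterm
  rw [hterm] at hrest
  exact lt_irrefl _ hrest


/-- degree of `K = k(x, y)` over `k(y)` from an irreducible relation -/
theorem finrank_adjoin_eq_degreeOf {x y : K} (hy : Transcendental k y)
    (hxy : IntermediateField.adjoin k ({x, y} : Set K) = ⊤) {g : MvPolynomial (Fin 2) k}
    (hg : Irreducible g) (hgxy : MvPolynomial.aeval ![x, y] g = 0)
    (hdeg : MvPolynomial.degreeOf 0 g ≠ 0) :
    finrank k⟮y⟯ K = MvPolynomial.degreeOf 0 g := by
  classical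
  let R := MvPolynomial (Fin 1) k
  let E := k⟮y⟯
  let φE : R →ₐ[k] E := MvPolynomial.aeval (fun _ : Fin 1 => AdjoinSimple.gen k y)
  have hφE : ∀ r : R, ((φE r : E) : K) = MvPolynomial.aeval (fun _ : Fin 1 => y) r := by
    intro r
    have := MvPolynomial.comp_aeval_apply (f := fun _ : Fin 1 => AdjoinSimple.gen k y)
      (IntermediateField.val E) r
    simpa using this
  have hinj : Function.Injective φE := by
    intro r s hrs
    have h1 : AlgebraicIndependent k (fun _ : Fin 1 => y) :=
      algebraicIndependent_unique_type_iff.mpr hy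
    apply h1
    rw [← hφE, ← hφE, hrs]
  letI : Algebra R E := φE.toRingHom.toAlgebra
  haveI : FaithfulSMul R E := (faithfulSMul_iff_algebraMap_injective R E).mpr hinj
  haveI : IsFractionRing R E := by
    apply IsFractionRing.of_field
    intro z
    have hz : (z : K) ∈ IntermediateField.adjoin k (Set.range (fun _ : Fin 1 => y)) := by
      have : Set.range (fun _ : Fin 1 => y) = {y} := by ext w; simp [eq_comm]
      rw [this]; exact z.2
    rw [IntermediateField.mem_adjoin_range_iff] at hz
    obtain ⟨r, s, hrs⟩ := hz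
    refine ⟨r, s, ?_⟩
    apply Subtype.ext
    change (z : K) = ((φE r / φE s : E) : K)
    rw [IntermediateField.coe_div, hφE, hφE, hrs]
  set p : Polynomial R := MvPolynomial.finSuccEquiv k 1 g with hp
  have hpirr : Irreducible p :=
    (MulEquiv.irreducible_iff (MvPolynomial.finSuccEquiv k 1).toMulEquiv).mpr hg
  have hpdeg : p.natDegree = MvPolynomial.degreeOf 0 g := MvPolynomial.natDegree_finSuccEquiv g
  have hpprim : p.IsPrimitive := hpirr.isPrimitive (by rw [hpdeg]; exact hdeg)
  set q : Polynomial E := p.map (algebraMap R E) with hq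
  have hqirr : Irreducible q :=
    (hpprim.irreducible_iff_irreducible_map_fraction_map (K := E)).mp hpirr
  have hqdeg : q.natDegree = p.natDegree :=
    Polynomial.natDegree_map_eq_of_injective hinj p
  have hcomp : (algebraMap E K).comp (algebraMap R E) =
      ((MvPolynomial.aeval (fun _ : Fin 1 => y) : R →ₐ[k] K) : R →+* K) :=
    RingHom.ext fun r => hφE r
  have hqx : Polynomial.aeval x q = 0 := by
    rw [hq, Polynomial.aeval_def, Polynomial.eval₂_map, hcomp]
    have := aeval_pair_eq_eval₂ x y g
    rw [hgxy] at this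
    exact this.symm
  have hxint : IsIntegral E x := IsAlgebraic.isIntegral ⟨q, hqirr.ne_zero, hqx⟩
  obtain ⟨r, hr⟩ := minpoly.dvd E x hqx
  have hrunit : IsUnit r := by
    rcases hqirr.isUnit_or_isUnit hr with h | h
    · exact absurd h (minpoly.not_isUnit E x)
    · exact h
  obtain ⟨c, hc, rfl⟩ := Polynomial.isUnit_iff.mp hrunit
  have hmdeg : (minpoly E x).natDegree = q.natDegree := by
    rw [hr, Polynomial.natDegree_mul_C hc.ne_zero]
  have htop : E⟮x⟯ = ⊤ := by
    rw [← restrictScalars_eq_top_iff (K := k), adjoin_simple_adjoin_simple, Set.pair_comm, hxy]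
  have h1 := IntermediateField.adjoin.finrank hxint
  rw [htop, IntermediateField.finrank_top'] at h1
  rw [h1, hmdeg, hqdeg, hpdeg]


theorem totalDegree_ne_zero_of_irreducible {σ : Type*} {f : MvPolynomial σ k} (hf : Irreducible f) :
    f.totalDegree ≠ 0 := by
  intro htd
  rw [MvPolynomial.totalDegree_eq_zero_iff_eq_C] at htd
  have hc : MvPolynomial.coeff 0 f ≠ 0 := by
    intro h
    rw [h, map_zero] at htd
    exact hf.ne_zero htd
  apply hf.not_isUnit
  rw [htd]
  exact (IsUnit.mk0 _ hc).map MvPolynomial.C

theorem pole_le_iff (P : Place k K) (z : K) {N : ℤ} (hN : 0 ≤ N) :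
    max (-P.ord z) 0 ≤ N ↔ P.1 z ≤ exp N := by
  by_cases hz : z = 0
  · subst hz
    rw [Place.ord_zero, map_zero]
    simp [hN]
  · rw [max_le_iff]
    have := Place.le_ord_iff P hz (-N)
    rw [neg_neg] at this
    rw [← this]
    constructor
    · intro h; omega
    · intro h; exact ⟨by omega, hN⟩

/-- S11070 -/
theorem deg_mapDiv_plane_eq_totalDegree [Infinite k] (hK : IsFunctionField k K) (x y : K)
    (hxy : IntermediateField.adjoin k ({x, y} : Set K) = ⊤) (f : MvPolynomial (Fin 2) k)
    (hf : Irreducible f) (hfxy : MvPolynomial.aeval ![x, y] f = 0) :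
    (mapDiv k ![(1 : K), x, y]).deg = f.totalDegree := by
  set d := f.totalDegree with hd
  have hd0 : d ≠ 0 := totalDegree_ne_zero_of_irreducible hf
  obtain ⟨c, hc⟩ := exists_shear_coeff_ne_zero hf.ne_zero
  set y' := y - c • x with hy'
  have hyy' : y = y' + c • x := by rw [hy']; ring
  set g := shear c f with hg
  have hgirr : Irreducible g := irreducible_shear c hf
  have hgxy : MvPolynomial.aeval ![x, y'] g = 0 := by
    rw [hg, aeval_shear, ← hyy', hfxy]
  have htd : g.totalDegree ≤ d := totalDegree_shear_le c f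
  have hsupp : Finsupp.single (0 : Fin 2) d ∈ g.support := MvPolynomial.mem_support_iff.mpr hc
  have hdeg0 : MvPolynomial.degreeOf 0 g = d := by
    apply le_antisymm
    · exact (MvPolynomial.degreeOf_le_totalDegree g 0).trans htd
    · have := MvPolynomial.monomial_le_degreeOf 0 hsupp
      simpa using this
  have hval : ∀ P : Place k K, P.1 x ≤ max 1 (P.1 y') := fun P =>
    val_le_max_of_relation P hgxy htd hc
  have hxy' : IntermediateField.adjoin k ({x, y'} : Set K) = ⊤ := by
    rw [eq_top_iff, ← hxy, IntermediateField.adjoin_le_iff]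
    intro z hz
    have hxm : x ∈ IntermediateField.adjoin k ({x, y'} : Set K) :=
      IntermediateField.subset_adjoin k _ (by simp)
    have hym : y' ∈ IntermediateField.adjoin k ({x, y'} : Set K) :=
      IntermediateField.subset_adjoin k _ (by simp)
    rcases hz with rfl | hz
    · exact hxm
    · rw [Set.mem_singleton_iff] at hz
      rw [hz, hyy']
      refine add_mem hym ?_
      rw [Algebra.smul_def]
      exact mul_mem (IntermediateField.algebraMap_mem _ c) hxm
  have hy'tr : Transcendental k y' := by
    intro halg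
    have hxalg : IsAlgebraic k x := by
      by_contra hxtr
      obtain ⟨P, hP⟩ := exists_pole hK hxtr
      have h1 := hval P
      have h2 : P.1 y' ≤ 1 := W.val_le_one_of_isAlgebraic P halg
      rw [max_eq_left h2] at h1
      exact absurd hP (not_lt.mpr h1)
    rcases transcendental_or_of_adjoin_pair hK hxy' with h | h
    · exact h hxalg
    · exact h halg
  have hfin : finrank k⟮y'⟯ K = d := by
    rw [finrank_adjoin_eq_degreeOf hy'tr hxy' hgirr hgxy (by rw [hdeg0]; exact hd0), hdeg0]
  have hD : mapDiv k ![(1 : K), x, y] = poleDiv k y' := by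
    rw [mapDiv_plane hK]
    ext P
    rw [Finsupp.sup_apply, poleDiv_apply hK, poleDiv_apply hK, poleDiv_apply hK]
    have hA : (0 : ℤ) ≤ max (-P.ord y') 0 := le_max_right _ _
    have hB : (0 : ℤ) ≤ max (max (-P.ord x) 0) (max (-P.ord y) 0) :=
      le_max_of_le_left (le_max_right _ _)
    have hvy' : P.1 y' ≤ exp (max (-P.ord y') 0) := (pole_le_iff P y' hA).mp le_rfl
    have hone : (1 : WithZero (Multiplicative ℤ)) ≤ exp (max (-P.ord y') 0) := by
      rw [← exp_zero, exp_le_exp]; exact hA
    have hvx : P.1 x ≤ exp (max (-P.ord y') 0) := (hval P).trans (max_le hone hvy')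
    have hvcx : P.1 (c • x) ≤ P.1 x := by
      rw [Algebra.smul_def, map_mul]
      calc P.1 (algebraMap k K c) * P.1 x ≤ 1 * P.1 x :=
            mul_le_mul_left (Place.val_algebraMap_le_one P c) _
        _ = P.1 x := one_mul _
    apply le_antisymm
    · apply max_le
      · exact (pole_le_iff P x hA).mpr hvx
      · apply (pole_le_iff P y hA).mpr
        rw [hyy']
        exact (P.1.map_add _ _).trans (max_le hvy' (hvcx.trans hvx))
    · apply (pole_le_iff P y' hB).mpr
      have hvx' : P.1 x ≤ exp (max (max (-P.ord x) 0) (max (-P.ord y) 0)) :=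
        (pole_le_iff P x hB).mp (le_max_left _ _)
      have hvy : P.1 y ≤ exp (max (max (-P.ord x) 0) (max (-P.ord y) 0)) :=
        (pole_le_iff P y hB).mp (le_max_right _ _)
      rw [hy']
      exact (P.1.map_sub _ _).trans (max_le hvy (hvcx.trans hvx'))
  rw [hD, deg_poleDiv hK hy'tr, hfin]

end

end Groth.Agent.H55
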