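import Mathlib

/-!
# The semigroup algebra of a numerical semigroup modulo `X^N` (helper55)
-/

set_option autoImplicit false
set_option linter.unusedSectionVars false
universe u

open Polynomial

namespace Groth.Agent.H55.Kunz

/-- a numerical semigroup with all `n ≥ N` in it and `1 ∉ H` -/
structure NumSg (H : Set ℕ) (N : ℕ) : Prop where
  zero_mem : 0 ∈ H
  add_mem : ∀ a ∈ H, ∀ b ∈ H, a + b ∈ H
  ge_mem : ∀ n, N ≤ n → n ∈ H
  one_notMem : 1 ∉ H

theorem NumSg.two_le {H : Set ℕ} {N : ℕ} (hH : NumSg H N) : 2 ≤ N := by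
  by_contra h
  exact hH.one_notMem (hH.ge_mem 1 (by omega))

variable (k : Type u) [Field k] {H : Set ℕ} {N : ℕ} (hH : NumSg H N)

/-- the semigroup algebra `k[H]` as a subalgebra of `k[X]` -/
def sgAlg : Subalgebra k k[X] where
  carrier := {p | ∀ n, p.coeff n ≠ 0 → n ∈ H}
  mul_mem' := by
    intro p q hp hq n hn
    rw [coeff_mul] at hn
    obtain ⟨x, hx, hx0⟩ := Finset.exists_ne_zero_of_sum_ne_zero hn
    have hxs : x.1 + x.2 = n := by simpa using hx
    rw [← hxs]
    exact hH.add_mem _ (hp _ (left_ne_zero_of_mul hx0)) _ (hq _ (right_ne_zero_of_mul hx0))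
  add_mem' := by
    intro p q hp hq n hn
    rw [coeff_add] at hn
    by_cases h : p.coeff n = 0
    · rw [h, zero_add] at hn; exact hq n hn
    · exact hp n h
  algebraMap_mem' := by
    intro c n hn
    rw [Polynomial.algebraMap_apply, coeff_C] at hn
    split_ifs at hn with h
    · subst h; exact hH.zero_mem
    · exact absurd rfl hn

theorem mem_sgAlg (p : k[X]) : p ∈ sgAlg k hH ↔ ∀ n, p.coeff n ≠ 0 → n ∈ H := Iff.rfl

/-- the monomial `X^n` for `n ∈ H` -/
noncomputable def xpow (n : ℕ) (hn : n ∈ H) : sgAlg k hH := ⟨X ^ n, fun m hm => by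
  rw [coeff_X_pow] at hm
  split_ifs at hm with h
  · subst h; exact hn
  · exact absurd rfl hm⟩

@[simp] theorem xpow_coe (n : ℕ) (hn : n ∈ H) : ((xpow k hH n hn : sgAlg k hH) : k[X]) = X ^ n := rfl

/-- the element `X^N` -/
noncomputable def xN : sgAlg k hH := xpow k hH N (hH.ge_mem N le_rfl)

@[simp] theorem xN_coe : ((xN k hH : sgAlg k hH) : k[X]) = X ^ N := rfl

/-- the Artinian quotient `k[H]/(X^N)` -/
def B0 : Type u := sgAlg k hH ⧸ Ideal.span {xN k hH}

noncomputable instance : CommRing (B0 k hH) :=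
  inferInstanceAs (CommRing (sgAlg k hH ⧸ Ideal.span {xN k hH}))

noncomputable instance : Algebra k (B0 k hH) :=
  inferInstanceAs (Algebra k (sgAlg k hH ⧸ Ideal.span {xN k hH}))

/-- the quotient map -/
noncomputable def pi : sgAlg k hH →+* B0 k hH := Ideal.Quotient.mk (Ideal.span {xN k hH})

theorem pi_smul (c : k) (p : sgAlg k hH) : pi k hH (c • p) = c • pi k hH p := rfl

theorem pi_eq_zero_iff (p : sgAlg k hH) :
    pi k hH p = 0 ↔
      (∀ d < N, (p : k[X]).coeff d = 0) ∧ ∀ m, (p : k[X]).coeff (m + N) ≠ 0 → m ∈ H := by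
  have h0 : pi k hH p = 0 ↔ p ∈ Ideal.span {xN k hH} := Ideal.Quotient.eq_zero_iff_mem
  rw [h0, Ideal.mem_span_singleton']
  constructor
  · rintro ⟨q, rfl⟩
    refine ⟨fun d hd => ?_, fun m hm => ?_⟩
    · change ((q : k[X]) * X ^ N).coeff d = 0
      rw [coeff_mul_X_pow', if_neg (by omega)]
    · change ((q : k[X]) * X ^ N).coeff (m + N) ≠ 0 at hm
      rw [coeff_mul_X_pow] at hm
      exact q.2 m hm
  · rintro ⟨h1, h2⟩
    obtain ⟨q, hq⟩ := (X_pow_dvd_iff.mpr h1 : X ^ N ∣ (p : k[X]))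
    have hqc : ∀ m, q.coeff m = (p : k[X]).coeff (m + N) := by
      intro m; rw [hq, coeff_X_pow_mul]
    refine ⟨⟨q, fun m hm => h2 m (by rwa [← hqc])⟩, ?_⟩
    apply Subtype.ext
    change q * X ^ N = (p : k[X])
    rw [hq, mul_comm]

theorem pi_surjective : Function.Surjective (pi k hH) := Ideal.Quotient.mk_surjective

theorem pi_pow_eq_zero (p : sgAlg k hH) (h0 : (p : k[X]).coeff 0 = 0) :
    (pi k hH p) ^ (2 * N) = 0 := by
  rw [← map_pow, pi_eq_zero_iff]
  have hdvd : X ^ (2 * N) ∣ ((p ^ (2 * N) : sgAlg k hH) : k[X]) := by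
    rw [SubmonoidClass.coe_pow]
    exact pow_dvd_pow_of_dvd (X_dvd_iff.mpr h0) _
  rw [X_pow_dvd_iff] at hdvd
  refine ⟨fun d hd => hdvd d (by omega), fun m hm => ?_⟩
  by_contra hmH
  have : m < N := by
    by_contra h
    exact hmH (hH.ge_mem m (by omega))
  exact hm (hdvd _ (by omega))

instance nontrivial_B0 : Nontrivial (B0 k hH) := by
  refine ⟨⟨1, 0, ?_⟩⟩
  intro h
  have h1 : pi k hH 1 = 0 := by rw [map_one]; exact h
  rw [pi_eq_zero_iff] at h1
  have := h1.1 0 (by have := hH.two_le; omega)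
  simp at this

theorem isUnit_pi_iff (p : sgAlg k hH) : IsUnit (pi k hH p) ↔ (p : k[X]).coeff 0 ≠ 0 := by
  constructor
  · intro hu h0
    have h1 := pi_pow_eq_zero k hH p h0
    have hu' := hu.pow (2 * N)
    rw [h1] at hu'
    exact not_isUnit_zero hu'
  · intro h0
    have hp : p = algebraMap k (sgAlg k hH) ((p : k[X]).coeff 0) +
        (p - algebraMap k (sgAlg k hH) ((p : k[X]).coeff 0)) := by ring
    rw [hp, map_add]
    have hnil : IsNilpotent (pi k hH (p - algebraMap k (sgAlg k hH) ((p : k[X]).coeff 0))) := by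
      refine ⟨2 * N, pi_pow_eq_zero k hH _ ?_⟩
      simp
    have hunit : IsUnit (pi k hH (algebraMap k (sgAlg k hH) ((p : k[X]).coeff 0))) := by
      apply IsUnit.map
      apply IsUnit.map
      exact isUnit_iff_ne_zero.mpr h0
    refine hnil.isUnit_add_left_of_commute hunit ?_
    exact Commute.all (pi k hH _) (pi k hH _)

instance isLocalRing_B0 : IsLocalRing (B0 k hH) := by
  refine IsLocalRing.of_nonunits_add ?_
  intro a b ha hb
  obtain ⟨p, rfl⟩ := pi_surjective k hH a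
  obtain ⟨q, rfl⟩ := pi_surjective k hH b
  rw [mem_nonunits_iff, isUnit_pi_iff, not_not] at ha hb
  rw [← map_add, mem_nonunits_iff, isUnit_pi_iff, not_not]
  simp [ha, hb]

theorem mem_maximalIdeal_pi_iff (p : sgAlg k hH) :
    pi k hH p ∈ IsLocalRing.maximalIdeal (B0 k hH) ↔ (p : k[X]).coeff 0 = 0 := by
  rw [IsLocalRing.mem_maximalIdeal, mem_nonunits_iff, isUnit_pi_iff, not_not]

/-- every element of `k[H]` is a combination of monomials -/
theorem eq_sum_xpow (p : sgAlg k hH) :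
    p = ∑ n ∈ (p : k[X]).support.attach,
      ((p : k[X]).coeff n.1) • xpow k hH n.1 (p.2 n.1 (mem_support_iff.mp n.2)) := by
  apply Subtype.ext
  rw [AddSubmonoidClass.coe_finsetSum]
  simp only [Subalgebra.coe_smul, xpow_coe]
  rw [Finset.sum_attach _ (fun n => (p : k[X]).coeff n • (X : k[X]) ^ n)]
  conv_lhs => rw [as_sum_support_C_mul_X_pow (p : k[X])]
  simp [smul_eq_C_mul]

theorem pi_xpow_eq_zero (n : ℕ) (hn : 2 * N ≤ n) :
    pi k hH (xpow k hH n (hH.ge_mem n (by omega))) = 0 := by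
  rw [pi_eq_zero_iff]
  refine ⟨fun d hd => ?_, fun m hm => ?_⟩
  · rw [xpow_coe, coeff_X_pow, if_neg (by omega)]
  · rw [xpow_coe, coeff_X_pow] at hm
    split_ifs at hm with h
    · exact hH.ge_mem m (by omega)
    · exact absurd rfl hm

instance finite_B0 : Module.Finite k (B0 k hH) := by
  have hfin : (Set.range (fun u : {u : ℕ // u ∈ H ∧ u < 2 * N} =>
      pi k hH (xpow k hH u.1 u.2.1))).Finite := by
    have : Finite {u : ℕ // u ∈ H ∧ u < 2 * N} := by
      apply Set.Finite.to_subtype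
      exact (Set.finite_Iio (2 * N)).subset (fun u hu => hu.2)
    exact Set.finite_range _
  refine ⟨⟨hfin.toFinset, ?_⟩⟩
  rw [Set.Finite.coe_toFinset, eq_top_iff]
  intro a _
  obtain ⟨p, rfl⟩ := pi_surjective k hH a
  rw [eq_sum_xpow k hH p, map_sum]
  refine Submodule.sum_mem _ fun n _ => ?_
  rw [pi_smul]
  refine Submodule.smul_mem _ _ ?_
  by_cases hn : n.1 < 2 * N
  · exact Submodule.subset_span ⟨⟨n.1, p.2 n.1 (mem_support_iff.mp n.2), hn⟩, rfl⟩
  · rw [pi_xpow_eq_zero k hH n.1 (by omega)]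
    exact zero_mem _

instance isNoetherianRing_B0 : IsNoetherianRing (B0 k hH) :=
  isNoetherian_of_tower k (inferInstance : IsNoetherian k (B0 k hH))

end Groth.Agent.H55.Kunz
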