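import Groth.Agent.H55.Kunz1
import Groth.Agent.H55.Frob

/-!
# Self-injectivity of `k[H]/(X^N)` and symmetry of `H` (helper55)
-/

set_option autoImplicit false
set_option linter.unusedSectionVars false
universe u

open Polynomial

namespace Groth.Agent.H55.Kunz

variable (k : Type u) [Field k] {H : Set ℕ} {N : ℕ} (hH : NumSg H N)

/-- the functional "coefficient of `X^(D+N)`" on `k[H]/(X^N)`, for a gap `D` -/
noncomputable def lam (D : ℕ) (hD : D ∉ H) : B0 k hH →ₗ[k] k :=
  (Submodule.liftQ ((Ideal.span {xN k hH}).restrictScalars k)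
    ((lcoeff k (D + N)).comp (sgAlg k hH).val.toLinearMap) (by
      intro p hp
      rw [Submodule.restrictScalars_mem, Ideal.mem_span_singleton'] at hp
      obtain ⟨q, rfl⟩ := hp
      rw [LinearMap.mem_ker]
      change ((q : k[X]) * X ^ N).coeff (D + N) = 0
      rw [coeff_mul_X_pow]
      by_contra h
      exact hD (q.2 D h))).comp
    (Submodule.Quotient.restrictScalarsEquiv k (Ideal.span {xN k hH})).symm.toLinearMap

theorem lam_pi (D : ℕ) (hD : D ∉ H) (p : sgAlg k hH) :
    lam k hH D hD (pi k hH p) = (p : k[X]).coeff (D + N) := rfl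

section symm

variable {D : ℕ} (hD : D ∉ H) (hsym : ∀ m, m ∉ H → ∃ e ∈ H, e + m = D)

include hsym in
theorem mem_of_gt (e : ℕ) (he : D < e) : e ∈ H := by
  by_contra h
  obtain ⟨e', _, h2⟩ := hsym e h
  omega

include hsym in
theorem lam_nondeg (a : B0 k hH) (ha : a ≠ 0) : ∃ c, lam k hH D hD (a * c) ≠ 0 := by
  obtain ⟨p, rfl⟩ := pi_surjective k hH a
  rw [Ne, pi_eq_zero_iff, not_and_or] at ha
  have key : ∀ w e : ℕ, (p : k[X]).coeff w ≠ 0 → ∀ he : e ∈ H, e + w = D + N →
      ∃ c, lam k hH D hD (pi k hH p * c) ≠ 0 := by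
    intro w e hw he hew
    refine ⟨pi k hH (xpow k hH e he), ?_⟩
    rw [← map_mul, lam_pi]
    change ((p : k[X]) * X ^ e).coeff (D + N) ≠ 0
    rw [coeff_mul_X_pow', if_pos (by omega)]
    have : D + N - e = w := by omega
    rwa [this]
  rcases ha with ha | ha
  · push Not at ha
    obtain ⟨d, hd, hd0⟩ := ha
    exact key d (D + N - d) hd0 (mem_of_gt hsym _ (by omega)) (by omega)
  · push Not at ha
    obtain ⟨m, hm0, hmH⟩ := ha
    obtain ⟨e, he, hem⟩ := hsym m hmH
    exact key (m + N) e hm0 he (by omega)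

include hD hsym in
theorem injective_of_symm : Module.Injective (B0 k hH) (B0 k hH) :=
  Frob.injective_of_nondeg (lam k hH D hD) (lam_nondeg k hH hD hsym)

end symm

section pf

/-- pseudo-Frobenius numbers give socle elements -/
theorem socle_of_pf (u : ℕ) (hu : u ∉ H) (hpf : ∀ h ∈ H, h ≠ 0 → u + h ∈ H) :
    pi k hH (xpow k hH (u + N) (hH.ge_mem _ (by omega))) ≠ 0 ∧
      ∀ y ∈ IsLocalRing.maximalIdeal (B0 k hH),
        y * pi k hH (xpow k hH (u + N) (hH.ge_mem _ (by omega))) = 0 := by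
  constructor
  · rw [Ne, pi_eq_zero_iff, not_and_or]
    right
    push Not
    refine ⟨u, ?_, hu⟩
    rw [xpow_coe, coeff_X_pow, if_pos rfl]
    exact one_ne_zero
  · intro y hy
    obtain ⟨p, rfl⟩ := pi_surjective k hH y
    rw [mem_maximalIdeal_pi_iff] at hy
    rw [← map_mul, pi_eq_zero_iff]
    refine ⟨fun d hd => ?_, fun m hm => ?_⟩
    · change ((p : k[X]) * X ^ (u + N)).coeff d = 0
      rw [coeff_mul_X_pow', if_neg (by omega)]
    · change ((p : k[X]) * X ^ (u + N)).coeff (m + N) ≠ 0 at hm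
      rw [coeff_mul_X_pow'] at hm
      split_ifs at hm with hle
      · have hmem : m + N - (u + N) ∈ H := p.2 _ hm
        have hne : m + N - (u + N) ≠ 0 := by
          intro h0
          rw [h0] at hm
          exact hm hy
        have := hpf _ hmem hne
        have h2 : u + (m + N - (u + N)) = m := by omega
        rwa [h2] at this
      · exact absurd rfl hm

/-- if `k[H]/(X^N)` is self-injective, any two pseudo-Frobenius numbers agree -/
theorem pf_unique [Module.Injective (B0 k hH) (B0 k hH)] (u v : ℕ) (hu : u ∉ H) (hv : v ∉ H)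
    (hpfu : ∀ h ∈ H, h ≠ 0 → u + h ∈ H) (hpfv : ∀ h ∈ H, h ≠ 0 → v + h ∈ H) : u = v := by
  by_contra huv
  obtain ⟨hu0, hus⟩ := socle_of_pf k hH u hu hpfu
  obtain ⟨hv0, hvs⟩ := socle_of_pf k hH v hv hpfv
  obtain ⟨b, hb⟩ := Frob.exists_mul_eq_of_socle _ _ hv0 hus
  obtain ⟨q, rfl⟩ := pi_surjective k hH b
  -- split `q` into constant term and the rest
  have hq : q = algebraMap k (sgAlg k hH) ((q : k[X]).coeff 0) +
      (q - algebraMap k (sgAlg k hH) ((q : k[X]).coeff 0)) := by ring
  have hrest : pi k hH (q - algebraMap k (sgAlg k hH) ((q : k[X]).coeff 0)) ∈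
      IsLocalRing.maximalIdeal (B0 k hH) := by
    rw [mem_maximalIdeal_pi_iff]
    simp
  have h1 := hvs _ hrest
  rw [hq, map_add, add_mul, h1, add_zero, ← map_mul, ← sub_eq_zero, ← map_sub,
    pi_eq_zero_iff] at hb
  have h2 := hb.2 u
  apply hu
  apply h2
  simp only [AddSubgroupClass.coe_sub, MulMemClass.coe_mul, xpow_coe, Subalgebra.coe_algebraMap,
    Polynomial.algebraMap_apply, Algebra.algebraMap_self, RingHom.id_apply, coeff_sub, coeff_X_pow,
    if_true, coeff_C_mul]
  rw [if_neg (by omega)]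
  simp

end pf

end Groth.Agent.H55.Kunz
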