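import Groth.Agent.H55.Kunz2
import Groth.Prelude.Def_CAlg
import Groth.Prelude.Def_W4c6gradedringsgwSect
import Groth.Agent.H2.GorensteinCM

/-!
# `k[H]/(X^N)` is Gorenstein iff `H` is symmetric (helper55)
-/

set_option autoImplicit false
set_option linter.unusedSectionVars false
universe u

open Polynomial CategoryTheory

namespace Groth.Agent.H55.Kunz

variable (k : Type u) [Field k] {H : Set ℕ} {N : ℕ} (hH : NumSg H N)

theorem gor_of_injective [Module.Injective (B0 k hH) (B0 k hH)] :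
    LocCoh.IsGorensteinLocalRing (B0 k hH) := by
  have h1 : Injective (ModuleCat.of (B0 k hH) (B0 k hH)) :=
    Module.injective_object_of_injective_module (B0 k hH) (B0 k hH)
  exact { exists_hasInjectiveDimensionLT := ⟨1, inferInstance⟩ }

theorem gor_of_isSymmetric (hs : W4c6gradedringsgw.IsSymmetric H) :
    LocCoh.IsGorensteinLocalRing (B0 k hH) := by
  obtain ⟨d, hd⟩ := hs
  have hd0 : 0 ≤ d := by
    by_contra hneg
    have h1 := hd (d - 1)
    have h2 : ¬ ∃ h ∈ H, (h : ℤ) = d - 1 := by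
      rintro ⟨h, _, hh⟩
      omega
    have h3 : ∃ h ∈ H, (h : ℤ) = d - (d - 1) := by
      by_contra h3
      exact h2 (h1.mpr h3)
    obtain ⟨h, hh, he⟩ := h3
    have : h = 1 := by omega
    rw [this] at hh
    exact hH.one_notMem hh
  obtain ⟨D, rfl⟩ := Int.eq_ofNat_of_zero_le hd0
  have hD : D ∉ H := by
    intro hD
    have h1 := (hd 0).mp ⟨0, hH.zero_mem, rfl⟩
    exact h1 ⟨D, hD, by simp⟩
  have hsym : ∀ m, m ∉ H → ∃ e ∈ H, e + m = D := by
    intro m hm
    have h1 : ¬ ∃ h ∈ H, (h : ℤ) = (m : ℤ) := by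
      rintro ⟨h, hh, he⟩
      have : h = m := by omega
      rw [this] at hh
      exact hm hh
    have h2 : ∃ h ∈ H, (h : ℤ) = (D : ℤ) - m := by
      by_contra h2
      exact h1 ((hd m).mpr h2)
    obtain ⟨e, he, hee⟩ := h2
    exact ⟨e, he, by omega⟩
  have := injective_of_symm k hH hD hsym
  exact gor_of_injective k hH

open Classical in
theorem isSymmetric_of_gor (hG : LocCoh.IsGorensteinLocalRing (B0 k hH)) :
    W4c6gradedringsgw.IsSymmetric H := by
  have hN := hH.two_le
  -- the Frobenius number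
  obtain ⟨F, hFdef⟩ : ∃ F, F = Nat.findGreatest (fun n => n ∉ H) N := ⟨_, rfl⟩
  have hF : F ∉ H := by
    rw [hFdef]
    exact Nat.findGreatest_spec (P := fun n => n ∉ H) (m := 1) (by omega) hH.one_notMem
  have hgt : ∀ n, F < n → n ∈ H := by
    intro n hn
    by_cases hnN : n ≤ N
    · by_contra hnH
      rw [hFdef] at hn
      exact Nat.findGreatest_is_greatest (P := fun n => n ∉ H) hn hnN hnH
    · exact hH.ge_mem n (by omega)
  have hpfF : ∀ h ∈ H, h ≠ 0 → F + h ∈ H := fun h _ h0 => hgt _ (by omega)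
  obtain ⟨hs0, hss⟩ := socle_of_pf k hH F hF hpfF
  obtain ⟨n, hn⟩ := hG.exists_hasInjectiveDimensionLT
  have hn1 : HasInjectiveDimensionLT (ModuleCat.of (B0 k hH) (B0 k hH)) (n + 1) :=
    hasInjectiveDimensionLT_of_ge _ n (n + 1) (by omega)
  have : Module.Injective (B0 k hH) (B0 k hH) :=
    Groth.Agent.H2.GorensteinCM.injective_of_socle _ hs0 hss n hn1
  refine ⟨(F : ℤ), fun z => ?_⟩
  constructor
  · rintro ⟨h, hh, rfl⟩ ⟨h', hh', he⟩
    have : h + h' = F := by omega
    rw [← this] at hF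
    exact hF (hH.add_mem _ hh _ hh')
  · intro h2
    by_contra h1
    have hz0 : 0 ≤ z := by
      by_contra hneg
      apply h2
      refine ⟨((F : ℤ) - z).toNat, hgt _ (by omega), by omega⟩
    obtain ⟨m, rfl⟩ := Int.eq_ofNat_of_zero_le hz0
    have hmH : m ∉ H := fun hm => h1 ⟨m, hm, rfl⟩
    have hmF : m ≤ F := by
      by_contra hlt
      exact hmH (hgt m (by omega))
    -- the largest gap of the form `m + h`
    obtain ⟨u, hudef⟩ : ∃ u, u = Nat.findGreatest (fun v => v ∉ H ∧ ∃ h ∈ H, m + h = v) F :=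
      ⟨_, rfl⟩
    have hu : u ∉ H ∧ ∃ h ∈ H, m + h = u := by
      rw [hudef]
      exact Nat.findGreatest_spec (P := fun v => v ∉ H ∧ ∃ h ∈ H, m + h = v) (m := m) hmF
        ⟨hmH, 0, hH.zero_mem, rfl⟩
    obtain ⟨huH, h, hh, hmu⟩ := hu
    have hpfu : ∀ h' ∈ H, h' ≠ 0 → u + h' ∈ H := by
      intro h' hh' h0
      by_contra hcon
      have hle : u + h' ≤ F := by
        by_contra hlt
        exact hcon (hgt _ (by omega))
      have hlt : Nat.findGreatest (fun v => v ∉ H ∧ ∃ h ∈ H, m + h = v) F < u + h' := by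
        rw [← hudef]; omega
      exact Nat.findGreatest_is_greatest (P := fun v => v ∉ H ∧ ∃ h ∈ H, m + h = v) hlt hle
        ⟨hcon, h + h', hH.add_mem _ hh _ hh', by omega⟩
    have huF : u = F := pf_unique k hH u F huH hF hpfu hpfF
    apply h2
    exact ⟨h, hh, by omega⟩

theorem isGorensteinLocalRing_B0_iff :
    LocCoh.IsGorensteinLocalRing (B0 k hH) ↔ W4c6gradedringsgw.IsSymmetric H :=
  ⟨isSymmetric_of_gor k hH, gor_of_isSymmetric k hH⟩

end Groth.Agent.H55.Kunz
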