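import Groth.Agent.H55.Kunz3
import Groth.Agent.H55.Gor2

/-!
# `k[H]` is Gorenstein iff `H` is symmetric (helper55)
-/

set_option autoImplicit false
set_option linter.style.haveILetI false
set_option linter.unusedSectionVars false
universe u

open Polynomial CategoryTheory

namespace Groth.Agent.H55.Kunz

variable (k : Type u) [Field k] {H : Set ℕ} {N : ℕ} (hH : NumSg H N)

theorem xpow_mem_adjoin (n : ℕ) (hn : n ∈ H) :
    xpow k hH n hn ∈ Algebra.adjoin k
      (Set.range (fun u : {u : ℕ // u ∈ H ∧ u < 2 * N} => xpow k hH u.1 u.2.1)) := by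
  induction n using Nat.strong_induction_on with
  | _ n ih =>
    by_cases hlt : n < 2 * N
    · exact Algebra.subset_adjoin ⟨⟨n, hn, hlt⟩, rfl⟩
    · have hN := hH.two_le
      have h1 : n - N ∈ H := hH.ge_mem _ (by omega)
      have h2 : xpow k hH n hn = xpow k hH N (hH.ge_mem N le_rfl) * xpow k hH (n - N) h1 := by
        apply Subtype.ext
        change (X : k[X]) ^ n = X ^ N * X ^ (n - N)
        rw [← pow_add]
        congr 1
        omega
      rw [h2]
      exact mul_mem (ih N (by omega) _) (ih (n - N) (by omega) _)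

instance finiteType_sgAlg : Algebra.FiniteType k (sgAlg k hH) := by
  have hfin : (Set.range (fun u : {u : ℕ // u ∈ H ∧ u < 2 * N} =>
      xpow k hH u.1 u.2.1)).Finite := by
    have : Finite {u : ℕ // u ∈ H ∧ u < 2 * N} := by
      apply Set.Finite.to_subtype
      exact (Set.finite_Iio (2 * N)).subset (fun u hu => hu.2)
    exact Set.finite_range _
  refine ⟨⟨hfin.toFinset, ?_⟩⟩
  rw [Set.Finite.coe_toFinset, eq_top_iff]
  intro p _
  rw [eq_sum_xpow k hH p]
  refine Subalgebra.sum_mem _ fun n _ => ?_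
  exact Subalgebra.smul_mem _ (xpow_mem_adjoin k hH _ _) _

instance isNoetherianRing_sgAlg : IsNoetherianRing (sgAlg k hH) :=
  Algebra.FiniteType.isNoetherianRing k _

theorem xN_ne_zero : xN k hH ≠ 0 := by
  intro h
  have := congrArg (fun p : sgAlg k hH => (p : k[X])) h
  simp only [xN_coe, ZeroMemClass.coe_zero] at this
  exact pow_ne_zero N X_ne_zero this

theorem xN_regular : IsSMulRegular (sgAlg k hH) (xN k hH) := by
  intro a b hab
  exact mul_left_cancel₀ (xN_ne_zero k hH) hab

instance isLocalization_away_xN :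
    IsLocalization.Away (xN k hH) (Localization.Away ((X : k[X]) ^ N)) := by
  have hx : algebraMap (sgAlg k hH) k[X] (xN k hH) = X ^ N := rfl
  haveI : IsLocalization.Away (algebraMap (sgAlg k hH) k[X] (xN k hH))
      (Localization.Away ((X : k[X]) ^ N)) := by
    rw [hx]; infer_instance
  refine Gor.away_of_injective (A' := k[X]) (xN k hH) Subtype.val_injective ?_
  intro a
  refine ⟨1, ⟨X ^ N * a, ?_⟩, ?_⟩
  · intro n hn
    rw [coeff_X_pow_mul'] at hn
    split_ifs at hn with h
    · exact hH.ge_mem n h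
    · exact absurd rfl hn
  · rw [hx, pow_one]
    rfl

theorem nil_maximalIdeal_B0 (y : B0 k hH) (hy : y ∈ IsLocalRing.maximalIdeal (B0 k hH)) :
    IsNilpotent y := by
  obtain ⟨p, rfl⟩ := pi_surjective k hH y
  rw [mem_maximalIdeal_pi_iff] at hy
  exact ⟨2 * N, pi_pow_eq_zero k hH p hy⟩

/-- `k[H]` is Gorenstein iff `k[H]/(X^N)` is -/
theorem isGorensteinRing_sgAlg_iff_B0 :
    LocCoh.IsGorensteinRing (sgAlg k hH) ↔ LocCoh.IsGorensteinLocalRing (B0 k hH) := by
  haveI : IsLocalRing (sgAlg k hH ⧸ Ideal.span {xN k hH}) := isLocalRing_B0 k hH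
  have hS' : LocCoh.IsGorensteinRing (Localization.Away ((X : k[X]) ^ N)) :=
    Groth.Agent.H26.GorQuot.isGorensteinRing_of_isLocalization (Submonoid.powers ((X : k[X]) ^ N))
      (Gor.isGorensteinRing_of_pid k[X])
  exact Gor.isGorensteinRing_iff_quotient_local (S' := Localization.Away ((X : k[X]) ^ N))
    (xN k hH) (xN_regular k hH) hS' (nil_maximalIdeal_B0 k hH)

/-- **Kunz**: the semigroup algebra `k[H]` is Gorenstein iff `H` is symmetric -/
theorem isGorensteinRing_sgAlg_iff :
    LocCoh.IsGorensteinRing (sgAlg k hH) ↔ W4c6gradedringsgw.IsSymmetric H :=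
  (isGorensteinRing_sgAlg_iff_B0 k hH).trans (isGorensteinLocalRing_B0_iff k hH)

end Groth.Agent.H55.Kunz
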