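import Mathlib
import Groth.Agent.H39.RegSeqCM
import Groth.Agent.H78.CosetAvoid

/-!
# Lifting a system of parameters of a Cohen–Macaulay localization (helper55)
-/

set_option autoImplicit false
universe u

namespace Groth.Agent.H55.LiftSop

open IsLocalRing RingTheory.Sequence

/-- If `x` avoids all minimal primes of `I`, then `dim A/(I + x) + 1 ≤ dim A/I`. -/
theorem ringKrullDim_quotient_sup_span_singleton_succ_le {A : Type u} [CommRing A] (I : Ideal A)
    (x : A) (h : ∀ q ∈ I.minimalPrimes, x ∉ q) :
    ringKrullDim (A ⧸ (I ⊔ Ideal.span {x})) + 1 ≤ ringKrullDim (A ⧸ I) := by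
  by_cases hr' : I ⊔ Ideal.span {x} = ⊤
  · rw [hr', ringKrullDim_eq_bot_of_subsingleton]
    simp
  have : Nonempty (PrimeSpectrum.zeroLocus (R := A) ((I ⊔ Ideal.span {x} : Ideal A) : Set A)) := by
    rwa [Set.nonempty_coe_sort, Set.nonempty_iff_ne_empty, ne_eq,
      PrimeSpectrum.zeroLocus_empty_iff_eq_top]
  have hI : I ≠ ⊤ := by
    rintro rfl
    exact hr' (by simp)
  have : Nonempty (PrimeSpectrum.zeroLocus (R := A) (I : Set A)) := by
    rwa [Set.nonempty_coe_sort, Set.nonempty_iff_ne_empty, ne_eq,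
      PrimeSpectrum.zeroLocus_empty_iff_eq_top]
  rw [ringKrullDim_quotient, Order.krullDim_eq_iSup_length, ringKrullDim_quotient,
    Order.krullDim_eq_iSup_length, ← WithBot.coe_one, ← WithBot.coe_add,
    ENat.iSup_add, WithBot.coe_le_coe, iSup_le_iff]
  intro l
  have hIle : I ≤ l.head.1.asIdeal := by
    have := l.head.2
    rw [PrimeSpectrum.mem_zeroLocus] at this
    exact le_trans le_sup_left this
  have hxl : x ∈ l.head.1.asIdeal := by
    have := l.head.2
    rw [PrimeSpectrum.mem_zeroLocus] at this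
    exact this (Ideal.mem_sup_right (Ideal.mem_span_singleton_self x))
  obtain ⟨p, hp, hp'⟩ := Ideal.exists_minimalPrimes_le (J := l.head.1.asIdeal) hIle
  let p' : PrimeSpectrum.zeroLocus (R := A) (I : Set A) := ⟨⟨p, hp.1.1⟩, by
    rw [PrimeSpectrum.mem_zeroLocus]; exact hp.1.2⟩
  let f : PrimeSpectrum.zeroLocus (R := A) ((I ⊔ Ideal.span {x} : Ideal A) : Set A) →
      PrimeSpectrum.zeroLocus (R := A) (I : Set A) := fun P => ⟨P.1, by
    have := P.2
    rw [PrimeSpectrum.mem_zeroLocus] at this ⊢
    exact le_trans (show (I : Set A) ⊆ ((I ⊔ Ideal.span {x} : Ideal A) : Set A) from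
      (le_sup_left : I ≤ I ⊔ Ideal.span {x})) this⟩
  have hf : StrictMono f := fun _ _ hab => hab
  have hp'' : p' < f l.head := by
    refine lt_of_le_of_ne hp' fun heq => ?_
    have h1 : p = l.head.1.asIdeal := congrArg (fun P => P.1.asIdeal) heq
    exact h p hp (h1 ▸ hxl)
  refine le_trans ?_ (le_iSup _ ((l.map f hf).cons p' hp''))
  simp

/-- extension of `t : Fin s → R` by zero. -/
noncomputable def ext0 {R : Type u} [Zero R] {s : ℕ} (t : Fin s → R) : ℕ → R :=
  fun j => if h : j < s then t ⟨j, h⟩ else 0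

theorem ext0_apply {R : Type u} [Zero R] {s : ℕ} (t : Fin s → R) (j : ℕ) (h : j < s) :
    ext0 t j = t ⟨j, h⟩ := by
  simp [ext0, h]

theorem ofList_take_ofFn {R : Type u} [CommRing R] {s : ℕ} (t : Fin s → R) (k : ℕ) (hk : k ≤ s) :
    Ideal.ofList ((List.ofFn t).take k) = Ideal.span (ext0 t '' {j | j < k}) := by
  unfold Ideal.ofList
  congr 1
  ext x
  simp only [List.mem_take_iff_getElem, List.length_ofFn, List.getElem_ofFn, Set.mem_ofPred_eq,
    Set.mem_image]
  constructor
  · rintro ⟨i, hi, rfl⟩
    have hi' : i < k ∧ i < s := by simpa using hi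
    exact ⟨i, hi'.1, ext0_apply t i hi'.2⟩
  · rintro ⟨i, hi, rfl⟩
    have his : i < s := lt_of_lt_of_le hi hk
    exact ⟨i, by simpa using ⟨hi, his⟩, (ext0_apply t i his).symm⟩

/-- In a CM local ring with sop `t`, `t k` avoids all minimal primes of `(t_{<k})`. -/
theorem notMem_of_mem_minimalPrimes {R : Type u} [CommRing R]
    [LocCoh.IsCohenMacaulayLocalRing R] (s : ℕ) (hs : ringKrullDim R = s) (t : Fin s → R)
    (ht : ∀ i, t i ∈ maximalIdeal R)
    (hsop : ringKrullDim (R ⧸ Ideal.span (Set.range t)) = 0) (k : ℕ) (hk : k < s)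
    (Q : Ideal R) (hQ : Q ∈ (Ideal.span (ext0 t '' {j | j < k})).minimalPrimes) :
    ext0 t k ∉ Q := by
  have hJ : Ideal.span (Set.range t) ≠ ⊤ := by
    intro h
    have hle : Ideal.span (Set.range t) ≤ maximalIdeal R := by
      rw [Ideal.span_le]
      rintro _ ⟨i, rfl⟩
      exact ht i
    rw [h] at hle
    exact (maximalIdeal.isMaximal R).ne_top (top_le_iff.mp hle)
  have hreg : IsRegular R (List.ofFn t) :=
    Groth.Agent.H39.RegSeqCM.isRegular_ofFn_of_ringKrullDim_quotient
      (LocCoh.IsCohenMacaulayLocalRing.supportDim_eq_depth) _ hJ t rfl (by rw [hsop, hs]; simp)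
  have hw := (isWeaklyRegular_iff_Fin R (List.ofFn t)).mp hreg.toIsWeaklyRegular
  have hk' : k < (List.ofFn t).length := by simpa using hk
  have h1 := hw ⟨k, hk'⟩
  have h2 : (List.ofFn t)[k] = ext0 t k := by
    rw [List.getElem_ofFn, ext0_apply t k hk]
  simp only [Fin.getElem_fin] at h1
  rw [h2] at h1
  refine IsSMulRegular.notMem_of_mem_minimalPrimes h1 ?_
  have h3 : Module.annihilator R (R ⧸ (Ideal.ofList ((List.ofFn t).take k) • ⊤ : Submodule R R)) =
      Ideal.span (ext0 t '' {j | j < k}) := by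
    rw [← ofList_take_ofFn t k hk.le]
    have : (Ideal.ofList ((List.ofFn t).take k) • ⊤ : Submodule R R) =
        Ideal.ofList ((List.ofFn t).take k) := by
      rw [smul_eq_mul, Ideal.mul_top]
    rw [this]
    exact Ideal.annihilator_quotient
  rw [h3]
  exact hQ

variable {A : Type u} [CommRing A] [IsNoetherianRing A] [IsLocalRing A] (p : Ideal A) [p.IsPrime]

omit [IsLocalRing A] in
theorem exists_next (I : Ideal A) (T : Ideal (Localization.AtPrime p))
    (hIT : I.map (algebraMap A (Localization.AtPrime p)) = T)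
    (hT : T ≤ maximalIdeal (Localization.AtPrime p)) (τ : Localization.AtPrime p)
    (hτ : τ ∈ maximalIdeal (Localization.AtPrime p))
    (hreg : ∀ Q ∈ T.minimalPrimes, τ ∉ Q) :
    ∃ x a : A, x ∈ p ∧ a ∉ p ∧
      algebraMap A (Localization.AtPrime p) x - algebraMap A (Localization.AtPrime p) a * τ ∈ T ∧
      (∀ q ∈ I.minimalPrimes, x ∉ q) ∧
      (I ⊔ Ideal.span {x}).map (algebraMap A (Localization.AtPrime p)) = T ⊔ Ideal.span {τ} := by
  classical
  set φ := algebraMap A (Localization.AtPrime p) with hφdef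
  obtain ⟨y, u, hyu⟩ := IsLocalization.exists_mk'_eq p.primeCompl τ
  have hφ : φ u * τ = φ y := by
    rw [← hyu]
    exact IsLocalization.mk'_spec' _ y u
  have hy : y ∈ p := by
    rw [← IsLocalization.AtPrime.to_map_mem_maximal_iff (Localization.AtPrime p) p y, ← hφ]
    exact Ideal.mul_mem_left _ _ hτ
  have hcm0 : (maximalIdeal (Localization.AtPrime p)).comap φ = p :=
    IsLocalization.AtPrime.under_maximalIdeal (Localization.AtPrime p) p
  set J : Ideal A := T.comap φ with hJ
  have hJp : J ≤ p := by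
    have h1 : J ≤ (maximalIdeal (Localization.AtPrime p)).comap φ := Ideal.comap_mono hT
    rwa [hcm0] at h1
  have hIJ : I ≤ J := by
    rw [hJ, ← hIT]
    exact Ideal.le_comap_map
  have hfin : I.minimalPrimes.Finite := Ideal.finite_minimalPrimes_of_isNoetherianRing A I
  set S : Finset (Ideal A) := hfin.toFinset.filter (fun q => ¬ q ≤ p) with hS
  have hSmem : ∀ q, q ∈ S ↔ q ∈ I.minimalPrimes ∧ ¬ q ≤ p := by
    intro q
    simp [hS]
  have hprime : ∀ q ∈ S, q.IsPrime := fun q hq => ((hSmem q).mp hq).1.1.1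
  have hcomap_le : ∀ Q : Ideal (Localization.AtPrime p), Q.IsPrime → Q.comap φ ≤ p := by
    intro Q hQ
    have h1 : Q.comap φ ≤ (maximalIdeal (Localization.AtPrime p)).comap φ :=
      Ideal.comap_mono (IsLocalRing.le_maximalIdeal hQ.ne_top)
    rwa [hcm0] at h1
  have hcond : ∀ q ∈ S, ¬ (y ∈ q ∧ J ≤ q) := by
    rintro q hq ⟨-, hJq⟩
    obtain ⟨hqmin, hqp⟩ := (hSmem q).mp hq
    have hqJ : q ∈ J.minimalPrimes := by
      refine ⟨⟨hqmin.1.1, hJq⟩, ?_⟩
      rintro P ⟨hP, hJP⟩ hPq
      exact hqmin.2 ⟨hP, hIJ.trans hJP⟩ hPq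
    rw [hJ, IsLocalization.minimalPrimes_comap p.primeCompl (Localization.AtPrime p) T] at hqJ
    obtain ⟨Q, hQ, rfl⟩ := hqJ
    exact hqp (hcomap_le Q hQ.1.1)
  obtain ⟨z, hzJ, hz⟩ := Groth.Agent.H78.coset_prime_avoidance S hprime y J hcond
  have hφz : φ z ∈ T := hzJ
  have hφx : φ (y + z) = φ u * τ + φ z := by rw [map_add, hφ]
  refine ⟨y + z, u, p.add_mem hy (hJp hzJ), u.2, ?_, ?_, ?_⟩
  · rw [hφx, add_sub_cancel_left]
    exact hφz
  · intro q hq
    by_cases hqp : q ≤ p
    · have hqprime : q.IsPrime := hq.1.1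
      have hdisj : Disjoint (p.primeCompl : Set A) q := by
        rw [Set.disjoint_left]
        intro a ha haq
        exact ha (hqp haq)
      have hcm : (q.map φ).comap φ = q :=
        IsLocalization.under_map_of_isPrime_disjoint p.primeCompl (Localization.AtPrime p)
          hqprime hdisj
      have hQmin : q.map φ ∈ T.minimalPrimes := by
        rw [← hIT, IsLocalization.minimalPrimes_map p.primeCompl (Localization.AtPrime p) I,
          Set.mem_preimage]
        change (q.map φ).comap φ ∈ I.minimalPrimes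
        rw [hcm]
        exact hq
      have hτQ := hreg _ hQmin
      intro hxq
      have h1 : φ (y + z) ∈ q.map φ := Ideal.mem_map_of_mem _ hxq
      rw [hφx] at h1
      have h2 : φ u * τ ∈ q.map φ := by
        have := (q.map φ).sub_mem h1 (hQmin.1.2 hφz)
        rwa [add_sub_cancel_right] at this
      rcases hQmin.1.1.mem_or_mem h2 with h3 | h3
      · have : (u : A) ∈ (q.map φ).comap φ := h3
        rw [hcm] at this
        exact u.2 (hqp this)
      · exact hτQ h3
    · exact hz q ((hSmem q).mpr ⟨hq, hqp⟩)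
  · rw [Ideal.map_sup, hIT, Ideal.map_span, Set.image_singleton]
    apply le_antisymm
    · refine sup_le le_sup_left ?_
      rw [Ideal.span_singleton_le_iff_mem, hφx]
      exact Ideal.add_mem _
        (Ideal.mem_sup_right (Ideal.mul_mem_left _ _ (Ideal.mem_span_singleton_self τ)))
        (Ideal.mem_sup_left hφz)
    · refine sup_le le_sup_left ?_
      rw [Ideal.span_singleton_le_iff_mem]
      obtain ⟨v, hv⟩ := IsLocalization.map_units (Localization.AtPrime p) u
      have h1 : τ = (↑v⁻¹ : Localization.AtPrime p) * (φ (y + z) - φ z) := by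
        rw [hφx, add_sub_cancel_right, ← hv, ← mul_assoc, Units.inv_mul, one_mul]
      rw [h1]
      exact Ideal.mul_mem_left _ _ (Ideal.sub_mem _
        (Ideal.mem_sup_right (Ideal.mem_span_singleton_self _)) (Ideal.mem_sup_left hφz))

omit [IsLocalRing A] in
theorem lt_succ_set (k : ℕ) : {j : ℕ | j < k + 1} = insert k {j | j < k} := by
  ext j
  simp only [Set.mem_ofPred_eq, Set.mem_insert_iff]
  omega

theorem main [LocCoh.IsCohenMacaulayLocalRing (Localization.AtPrime p)] (s : ℕ)
    (hs : ringKrullDim (Localization.AtPrime p) = s) (t : Fin s → Localization.AtPrime p)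
    (ht : ∀ i, t i ∈ maximalIdeal (Localization.AtPrime p))
    (hsop : ringKrullDim (Localization.AtPrime p ⧸ Ideal.span (Set.range t)) = 0) :
    ∀ k : ℕ, k ≤ s → ∃ x a : ℕ → A, (∀ i < k, x i ∈ p) ∧ (∀ i < k, a i ∉ p) ∧
      (∀ i < k, algebraMap A (Localization.AtPrime p) (x i) -
          algebraMap A (Localization.AtPrime p) (a i) * ext0 t i ∈
        Ideal.span (ext0 t '' {j | j < i})) ∧
      (Ideal.span (x '' {j | j < k})).map (algebraMap A (Localization.AtPrime p)) =
        Ideal.span (ext0 t '' {j | j < k}) ∧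
      ringKrullDim (A ⧸ Ideal.span (x '' {j | j < k})) + (k : WithBot ℕ∞) ≤ ringKrullDim A := by
  have hext : ∀ j, ext0 t j ∈ maximalIdeal (Localization.AtPrime p) := by
    intro j
    by_cases h : j < s
    · rw [ext0_apply t j h]
      exact ht _
    · simp [ext0, h]
  intro k
  induction k with
  | zero =>
    intro _
    refine ⟨fun _ => 0, fun _ => 0, by simp, by simp, by simp, by simp, ?_⟩
    simp only [CharP.cast_eq_zero, add_zero]
    exact ringKrullDim_quotient_le _
  | succ k ih =>
    intro hk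
    obtain ⟨x, a, hx, ha, hcong, hmap, hdim⟩ := ih (by omega)
    have hT : Ideal.span (ext0 t '' {j | j < k}) ≤ maximalIdeal (Localization.AtPrime p) := by
      rw [Ideal.span_le]
      rintro _ ⟨j, -, rfl⟩
      exact hext j
    obtain ⟨xk, ak, hxk, hak, hck, havoid, hmapk⟩ := exists_next p (Ideal.span (x '' {j | j < k}))
      (Ideal.span (ext0 t '' {j | j < k})) hmap hT (ext0 t k) (hext k)
      (fun Q hQ => notMem_of_mem_minimalPrimes s hs t ht hsop k (by omega) Q hQ)
    have hupd : ∀ (f : ℕ → A) (v : A), Function.update f k v '' {j | j < k + 1} =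
        insert v (f '' {j | j < k}) := by
      intro f v
      rw [lt_succ_set, Set.image_insert_eq, Function.update_self]
      congr 1
      apply Set.image_congr
      intro j hj
      have : j ≠ k := ne_of_lt hj
      exact Function.update_of_ne this _ _
    have hspan : Ideal.span (Function.update x k xk '' {j | j < k + 1}) =
        Ideal.span (x '' {j | j < k}) ⊔ Ideal.span {xk} := by
      rw [hupd, Ideal.span_insert, sup_comm]
    have hspanT : Ideal.span (ext0 t '' {j | j < k + 1}) =
        Ideal.span (ext0 t '' {j | j < k}) ⊔ Ideal.span {ext0 t k} := by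
      rw [lt_succ_set, Set.image_insert_eq, Ideal.span_insert, sup_comm]
    refine ⟨Function.update x k xk, Function.update a k ak, ?_, ?_, ?_, ?_, ?_⟩
    · intro i hi
      by_cases hik : i = k
      · subst hik
        rw [Function.update_self]
        exact hxk
      · rw [Function.update_of_ne hik]
        exact hx i (by omega)
    · intro i hi
      by_cases hik : i = k
      · subst hik
        rw [Function.update_self]
        exact hak
      · rw [Function.update_of_ne hik]
        exact ha i (by omega)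
    · intro i hi
      by_cases hik : i = k
      · subst hik
        rw [Function.update_self, Function.update_self]
        exact hck
      · rw [Function.update_of_ne hik, Function.update_of_ne hik]
        exact hcong i (by omega)
    · rw [hspan, hspanT]
      exact hmapk
    · rw [hspan]
      have h1 := ringKrullDim_quotient_sup_span_singleton_succ_le _ xk havoid
      calc ringKrullDim (A ⧸ (Ideal.span (x '' {j | j < k}) ⊔ Ideal.span {xk})) +
            ((k + 1 : ℕ) : WithBot ℕ∞)
          = ringKrullDim (A ⧸ (Ideal.span (x '' {j | j < k}) ⊔ Ideal.span {xk})) + 1 +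
            (k : WithBot ℕ∞) := by
            push_cast
            rw [add_assoc, add_comm (1 : WithBot ℕ∞)]
        _ ≤ ringKrullDim (A ⧸ Ideal.span (x '' {j | j < k})) + (k : WithBot ℕ∞) := by
            gcongr
        _ ≤ ringKrullDim A := hdim

theorem result' [LocCoh.IsCohenMacaulayLocalRing (Localization.AtPrime p)] (s : ℕ)
    (hs : ringKrullDim (Localization.AtPrime p) = s) (t : Fin s → Localization.AtPrime p)
    (ht : ∀ i, t i ∈ IsLocalRing.maximalIdeal (Localization.AtPrime p))
    (hsop : ringKrullDim (Localization.AtPrime p ⧸ Ideal.span (Set.range t)) = 0) :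
    ∃ x a : Fin s → A, (∀ i, x i ∈ p) ∧ (∀ i, a i ∉ p) ∧
      ringKrullDim (A ⧸ Ideal.span (Set.range x)) + (s : WithBot ℕ∞) = ringKrullDim A ∧
      ∀ i : Fin s, algebraMap A (Localization.AtPrime p) (x i) -
          algebraMap A (Localization.AtPrime p) (a i) * t i ∈
        Ideal.span (t '' {j : Fin s | j < i}) := by
  classical
  obtain ⟨x, a, hx, ha, hcong, -, hdim⟩ := main p s hs t ht hsop s le_rfl
  have hrange : Set.range (fun i : Fin s => x i) = x '' {j | j < s} := by
    ext y
    simp only [Set.mem_range, Set.mem_image, Set.mem_ofPred_eq]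
    constructor
    · rintro ⟨i, rfl⟩
      exact ⟨i, i.2, rfl⟩
    · rintro ⟨j, hj, rfl⟩
      exact ⟨⟨j, hj⟩, rfl⟩
  refine ⟨fun i => x i, fun i => a i, fun i => hx i i.2, fun i => ha i i.2, ?_, ?_⟩
  · rw [hrange]
    refine le_antisymm hdim ?_
    have hsub : x '' {j | j < s} ⊆ Ring.jacobson A := by
      rw [IsLocalRing.ringJacobson_eq_maximalIdeal]
      rintro _ ⟨j, hj, rfl⟩
      exact IsLocalRing.le_maximalIdeal (Ideal.IsPrime.ne_top inferInstance) (hx j hj)
    refine (ringKrullDim_le_ringKrullDim_quotient_add_encard _ hsub).trans ?_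
    gcongr
    rw [← hrange]
    have h1 : (Set.range (fun i : Fin s => x i)).encard ≤ (s : ℕ∞) := by
      calc (Set.range (fun i : Fin s => x i)).encard
          = ((fun i : Fin s => x i) '' Set.univ).encard := by rw [Set.image_univ]
        _ ≤ (Set.univ : Set (Fin s)).encard := Set.encard_image_le _ _
        _ = (s : ℕ∞) := by simp
    exact_mod_cast h1
  · intro i
    have h1 := hcong i i.2
    rw [ext0_apply t i i.2] at h1
    have h2 : ext0 t '' {j | j < (i : ℕ)} = t '' {j : Fin s | j < i} := by
      ext y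
      simp only [Set.mem_image, Set.mem_ofPred_eq]
      constructor
      · rintro ⟨j, hj, rfl⟩
        have hjs : j < s := lt_trans hj i.2
        exact ⟨⟨j, hjs⟩, hj, (ext0_apply t j hjs).symm⟩
      · rintro ⟨j, hj, rfl⟩
        exact ⟨j, hj, ext0_apply t j j.2⟩
    rw [h2] at h1
    exact h1

end Groth.Agent.H55.LiftSop
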