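
import Groth.Agent.H31.ProjLoc3
import Groth.Agent.H18.TwistPow
import Groth.Agent.H18.ResProp.Ample
import Groth.Agent.H19.ProjSec
import Groth.Agent.Lead.Coh.SerreAffine
import Groth.Agent.H5.PerfectPull

set_option autoImplicit false
universe u
open CategoryTheory CategoryTheory.Limits AlgebraicGeometry

namespace Groth.Agent.H55.MReg

theorem isFlat_twistProjSpace (k : Type u) [CommRing k] (n : ℕ) (d : ℤ) :
    FlatMod.IsFlat (Twist.twistProjSpace n k d) := by
  apply Groth.Agent.H5.PerfectPull.flatMod_of_isFinLocFree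
  apply Groth.Agent.H18.ResProp.isFinLocFree_of_isInvertible
  exact Groth.Agent.H18.isInvertible_twist (CohB1.polyGrading n k) (fun y =>
    let ⟨i, hi⟩ := Groth.Agent.H19.ProjSec.exists_coord_mem n y
    ⟨MvPolynomial.X i, MvPolynomial.isHomogeneous_X k i, hi⟩) d

theorem shortExact_tensor {X : Scheme.{u}} (L : X.Modules) (hL : FlatMod.IsFlat L)
    (S : ShortComplex X.Modules) (hS : S.ShortExact) :
    (S.map (DCoh.tensorRightMod L)).ShortExact := by
  have := Groth.Agent.H31.ProjLoc.preservesFiniteLimits_tensorRightMod L hL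
  have := Groth.Agent.H31.ProjLoc.preservesFiniteColimits_tensorRightMod L hL
  exact hS.map_of_exact _

theorem isMRegular_of_shortExact (k : Type u) [Field k]
    (n : ℕ) (S : ShortComplex (CohB1.ProjSpace n k).Modules) (hS : S.ShortExact) (m : ℤ)
    (hreg₁ : Curv2.IsMRegular k n S.X₁ m) (hreg₃ : Curv2.IsMRegular k n S.X₃ m) :
    Curv2.IsMRegular k n S.X₂ m := by
  intro i hi1 hin
  have hS' := shortExact_tensor _ (isFlat_twistProjSpace k n (m - i)) S hS
  exact Groth.Agent.Lead.SerreAffine.subsingleton_HH_of_shortExact _ hS' i (hreg₁ i hi1 hin)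
    (hreg₃ i hi1 hin)

end Groth.Agent.H55.MReg
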