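import Groth.Agent.H55.MReg
import Groth.Agent.Lead.Coh.ZeroDimSupp2
import Groth.Agent.H71.QCoh.TensorQCoh
import Groth.Agent.H12.QCohEpi
import Groth.Agent.H12.QCohAbelian
import Groth.Agent.H5.Stalk.Tensor
import Groth.Agent.H71.QCoh.LocFreeRank
import Groth.Agent.H97.ProjProper
import Groth.Agent.H18.ProjSpaceVanish

set_option autoImplicit false
universe u
open CategoryTheory CategoryTheory.Limits AlgebraicGeometry

namespace Groth.Agent.H55.MReg

open Groth.Agent.H5.Stalk Groth.Agent.H5.Stalk.Tensor in
/-- the support of a tensor product is contained in the support of the first factor -/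
theorem support_tensorMod_subset {X : Scheme.{u}} (Q L : X.Modules) :
    CohB1.support (CohB1.tensorMod Q L) ⊆ CohB1.support Q := by
  intro x hx hsub
  apply hx
  have hsub' : Subsingleton ((stalkFunctor x).obj Q) := hsub
  have h1 : Subsingleton (N x Q L) := by
    change Subsingleton (TensorProduct (X.presheaf.stalk x) ((stalkFunctor x).obj Q)
      ((stalkFunctor x).obj L))
    refine ⟨fun a b => ?_⟩
    have h0 : ∀ c : TensorProduct (X.presheaf.stalk x) ((stalkFunctor x).obj Q)
        ((stalkFunctor x).obj L), c = 0 := by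
      intro c
      induction c using TensorProduct.induction_on with
      | zero => rfl
      | tmul q l =>
        rw [Subsingleton.elim q 0, TensorProduct.zero_tmul]
      | add c d hc hd => rw [hc, hd, add_zero]
    rw [h0 a, h0 b]
  exact (stalkTensorIso x Q L).toLinearEquiv.toEquiv.subsingleton

instance isLocallyNoetherian_projSpace (k : Type u) [Field k] (n : ℕ) :
    IsLocallyNoetherian (CohB1.ProjSpace n k) :=
  LocallyOfFiniteType.isLocallyNoetherian (CohB1.ProjSpace.toSpec n k)

theorem isMRegular_of_mono_cokernel (k : Type u) [Field k] (n : ℕ)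
    (F' F : (CohB1.ProjSpace n k).Modules) (hF' : Coh.IsCoh F') (hF : Coh.IsCoh F) (φ : F' ⟶ F)
    [Mono φ]
    (hsupp : topologicalKrullDim (CohB1.support (cokernel φ)) ≤ 0) (m : ℤ)
    (h : Curv2.IsMRegular k n F' m) : Curv2.IsMRegular k n F m := by
  intro i hi1 hin
  have hS : (ShortComplex.mk φ (cokernel.π φ) (cokernel.condition φ)).ShortExact :=
    { exact := ShortComplex.exact_cokernel φ
      mono_f := inferInstanceAs (Mono φ)
      epi_g := inferInstanceAs (Epi (cokernel.π φ)) }
  have hS' := shortExact_tensor _ (isFlat_twistProjSpace k n (m - i)) _ hS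
  have h1 := h i hi1 hin
  have : F'.IsQuasicoherent := hF'.1
  have : F.IsQuasicoherent := hF.1
  have hQq := Groth.Agent.H12.QCohAbelian.isQuasicoherent_cokernel φ
  have hQf := @Groth.Agent.H12.QCohEpi.isFiniteType_of_epi _ F (cokernel φ) _ hQq (cokernel.π φ) _
    hF.2
  have : (Twist.twistProjSpace n k (m - i)).IsQuasicoherent :=
    Groth.Agent.H18.PSL.isQCoh_twistProjSpace n k (m - i)
  have : SheafOfModules.IsFiniteType (R := (CohB1.ProjSpace n k).ringCatSheaf)
      (Twist.twistProjSpace n k (m - i)) :=
    Groth.Agent.H71.QCoh.isFiniteType_of_isFinLocFree _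
      (Groth.Agent.H18.ResProp.isFinLocFree_of_isInvertible
        (Groth.Agent.H18.isInvertible_twist (CohB1.polyGrading n k) (fun y =>
          let ⟨i, hi⟩ := Groth.Agent.H19.ProjSec.exists_coord_mem n y
          ⟨MvPolynomial.X i, MvPolynomial.isHomogeneous_X k i, hi⟩) (m - i)))
  have h3 : Subsingleton (Coh.HH (CohB1.ProjSpace n k)
      (CohB1.tensorMod (cokernel φ) (Twist.twistProjSpace n k (m - i))) i) := by
    obtain ⟨j, rfl⟩ : ∃ j, i = j + 1 := ⟨i - 1, by omega⟩
    apply Groth.Agent.Lead.Coh.subsingleton_HH_of_support_krullDim_nonpos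
    · exact @Groth.Agent.H71.QCoh.isFiniteType_tensorMod _ (cokernel φ) _ hQq _ hQf _
    · refine le_trans ?_ hsupp
      exact (Topology.IsEmbedding.inclusion
        (support_tensorMod_subset _ _)).isInducing.topologicalKrullDim_le
  exact Groth.Agent.Lead.SerreAffine.subsingleton_HH_of_shortExact _ hS' i h1 h3

end Groth.Agent.H55.MReg
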