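import Groth.Agent.H55.Frob
import Groth.Agent.H26.GorFibre
import Groth.Agent.H20.ComplNoeth2
import Groth.Agent.S0343
import Groth.Agent.S0342
import Groth.Agent.H2.GorensteinCM

/-!
# A Gorenstein multicross singularity is a node (helper55)
-/

set_option autoImplicit false
set_option linter.style.haveILetI false
set_option linter.unusedSectionVars false
universe u

open IsLocalRing PowerSeries

namespace Groth.Agent.H55.MultiX

/-- the completion of a Gorenstein local ring is Gorenstein -/
theorem isGorensteinLocalRing_adicCompletion (A : Type u) [CommRing A] [IsLocalRing A]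
    [IsNoetherianRing A] (hA : LocCoh.IsGorensteinLocalRing A) :
    LocCoh.IsGorensteinLocalRing (AdicCompletion (maximalIdeal A) A) := by
  have hN : IsNoetherianRing (AdicCompletion (maximalIdeal A) A) :=
    Groth.Agent.H20.isNoetherianRing_adicCompletion _
  have hflat : Module.Flat A (AdicCompletion (maximalIdeal A) A) := inferInstance
  rw [Groth.Agent.H26.GorFibre.isGorensteinLocalRing_iff_of_flat A
    (AdicCompletion (maximalIdeal A) A)]
  refine ⟨hA, ?_⟩
  have hmax : ((maximalIdeal A).map (algebraMap A (AdicCompletion (maximalIdeal A) A))).IsMaximal := by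
    rw [← AdicCompletion.maximalIdeal_eq_map]
    exact maximalIdeal.isMaximal _
  letI : Field (AdicCompletion (maximalIdeal A) A ⧸
      (maximalIdeal A).map (algebraMap A (AdicCompletion (maximalIdeal A) A))) :=
    Ideal.Quotient.field _
  exact Groth.Agent.S0342.result _

section main

variable {k : Type u} [Field k] {B : Type u} [CommRing B] [IsLocalRing B] {n : ℕ}
  (φ : B →+* (Fin n → PowerSeries k)) (hinj : Function.Injective φ)
  (hrange : Set.range φ = {f : Fin n → PowerSeries k |
    ∀ i j : Fin n, constantCoeff (f i) = constantCoeff (f j)})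

include hrange in
theorem exists_preimage (g : Fin n → PowerSeries k)
    (hg : ∀ i j : Fin n, constantCoeff (g i) = constantCoeff (g j)) : ∃ b : B, φ b = g := by
  have : g ∈ Set.range φ := by rw [hrange]; exact hg
  exact this

include hrange in
theorem const_eq (b : B) (i j : Fin n) :
    constantCoeff (φ b i) = constantCoeff (φ b j) := by
  have : φ b ∈ Set.range φ := ⟨b, rfl⟩
  rw [hrange] at this
  exact this i j

/-- the tuple `(X, …, X)` -/
noncomputable def diagX : Fin n → PowerSeries k := fun _ => X

/-- the tuple with `X` in position `i` and zero elsewhere -/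
noncomputable def eX (i : Fin n) : Fin n → PowerSeries k := fun j => if j = i then X else 0

theorem diagX_const (i j : Fin n) :
    constantCoeff (diagX (k := k) (n := n) i) = constantCoeff (diagX (k := k) (n := n) j) := rfl

theorem eX_const (l : Fin n) (i j : Fin n) :
    constantCoeff (eX (k := k) l i) = constantCoeff (eX (k := k) l j) := by
  unfold eX
  split_ifs <;> simp

include hinj hrange in
/-- a non-unit has zero constant term -/
theorem const_eq_zero_of_not_isUnit (b : B) (hb : ¬ IsUnit b) (i : Fin n) :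
    constantCoeff (φ b i) = 0 := by
  by_contra hc
  apply hb
  have hu : ∀ j, IsUnit (φ b j) := by
    intro j
    rw [PowerSeries.isUnit_iff_constantCoeff, const_eq φ hrange b j i]
    exact isUnit_iff_ne_zero.mpr hc
  -- the inverse tuple
  obtain ⟨c, hc'⟩ := exists_preimage φ hrange (fun j => ((hu j).unit⁻¹ : (PowerSeries k)ˣ)) (by
    intro j l
    have h1 : ∀ j, constantCoeff (φ b j) * constantCoeff (((hu j).unit⁻¹ : (PowerSeries k)ˣ) :
        PowerSeries k) = 1 := by
      intro j
      rw [← map_mul]
      have : φ b j * (((hu j).unit⁻¹ : (PowerSeries k)ˣ) : PowerSeries k) = 1 :=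
        (hu j).mul_val_inv
      rw [this, map_one]
    have h2 := h1 j
    have h3 := h1 l
    rw [const_eq φ hrange b j i] at h2
    rw [const_eq φ hrange b l i] at h3
    exact mul_left_cancel₀ hc (h2.trans h3.symm))
  refine IsUnit.of_mul_eq_one c ?_
  apply hinj
  rw [map_mul, map_one, hc']
  funext j
  exact (hu j).mul_val_inv

include hinj hrange in
/-- a Gorenstein multicross ring has at most two branches -/
theorem le_two_of_gor [IsNoetherianRing B] (hB : LocCoh.IsGorensteinLocalRing B) (hn : 2 ≤ n) :
    n ≤ 2 := by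
  by_contra h3
  have h3' : 3 ≤ n := by omega
  obtain ⟨i0, hi0⟩ : ∃ i : Fin n, i = ⟨0, by omega⟩ := ⟨_, rfl⟩
  obtain ⟨i1, hi1⟩ : ∃ i : Fin n, i = ⟨1, by omega⟩ := ⟨_, rfl⟩
  obtain ⟨i2, hi2⟩ : ∃ i : Fin n, i = ⟨2, by omega⟩ := ⟨_, rfl⟩
  have h01 : i0 ≠ i1 := by rw [hi0, hi1]; simp
  have h02 : i0 ≠ i2 := by rw [hi0, hi2]; simp
  have h12 : i1 ≠ i2 := by rw [hi1, hi2]; simp
  obtain ⟨s, hs⟩ := exists_preimage φ hrange diagX diagX_const
  obtain ⟨e0, he0⟩ := exists_preimage φ hrange (eX i0) (eX_const i0)
  obtain ⟨e1, he1⟩ := exists_preimage φ hrange (eX i1) (eX_const i1)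
  have hsreg : IsSMulRegular B s := by
    intro a b hab
    apply hinj
    have h := congrArg φ hab
    simp only [smul_eq_mul, map_mul, hs] at h
    funext j
    have hj := congrFun h j
    exact mul_left_cancel₀ PowerSeries.X_ne_zero hj
  have hXnu : ¬ IsUnit (X : PowerSeries k) := by
    rw [PowerSeries.isUnit_iff_constantCoeff, PowerSeries.constantCoeff_X]
    exact not_isUnit_zero
  have hsm : s ∈ maximalIdeal B := by
    rw [mem_maximalIdeal, mem_nonunits_iff]
    intro hu
    have h1 := hu.map φ
    rw [hs] at h1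
    exact hXnu ((Pi.isUnit_iff.mp h1) i0)
  have hQ : LocCoh.IsGorensteinLocalRing (B ⧸ Ideal.span {s}) :=
    (Groth.Agent.S0343.result B s hsm hsreg).mp hB
  haveI : IsLocalRing (B ⧸ Ideal.span {s}) := hQ.toIsLocalRing
  obtain ⟨m, hm⟩ := hQ.exists_hasInjectiveDimensionLT
  have hm1 : CategoryTheory.HasInjectiveDimensionLT
      (ModuleCat.of (B ⧸ Ideal.span {s}) (B ⧸ Ideal.span {s})) (m + 1) :=
    CategoryTheory.hasInjectiveDimensionLT_of_ge _ m _ (by omega)
  -- the socle property
  have hsoc : ∀ (l : Fin n) (e : B), φ e = eX l → ∀ y ∈ maximalIdeal (B ⧸ Ideal.span {s}),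
      y * Ideal.Quotient.mk (Ideal.span {s}) e = 0 := by
    intro l e he y hy
    obtain ⟨a, rfl⟩ := Ideal.Quotient.mk_surjective y
    have ha : ¬ IsUnit a := by
      intro hu
      rw [mem_maximalIdeal, mem_nonunits_iff] at hy
      exact hy (hu.map _)
    have hc := const_eq_zero_of_not_isUnit φ hinj hrange a ha
    choose g hg using fun j => (PowerSeries.X_dvd_iff.mpr (hc j))
    obtain ⟨d, hd⟩ := exists_preimage φ hrange (fun j => if j = l then X * g l else 0) (by
      intro i j
      split_ifs <;> simp)
    rw [← map_mul, Ideal.Quotient.eq_zero_iff_mem, Ideal.mem_span_singleton']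
    refine ⟨d, ?_⟩
    apply hinj
    rw [map_mul, map_mul, hd, hs, he]
    funext j
    simp only [Pi.mul_apply, eX, diagX]
    split_ifs with hjl
    · subst hjl
      rw [hg j]
    · simp
  -- nonvanishing
  have hne : ∀ (l l' : Fin n) (e : B), l ≠ l' → φ e = eX l →
      Ideal.Quotient.mk (Ideal.span {s}) e ≠ 0 := by
    intro l l' e hll he h0
    rw [Ideal.Quotient.eq_zero_iff_mem, Ideal.mem_span_singleton'] at h0
    obtain ⟨c, hc⟩ := h0
    have h1 := congrArg φ hc
    rw [map_mul, hs, he] at h1
    have hl := congrFun h1 l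
    have hl' := congrFun h1 l'
    simp only [Pi.mul_apply, eX, diagX, if_neg hll.symm, ↓reduceIte] at hl hl'
    have hcl : φ c l = 1 := by
      have : φ c l * X = 1 * X := by rw [hl, one_mul]
      exact mul_right_cancel₀ PowerSeries.X_ne_zero this
    have hcl' : φ c l' = 0 := by
      rcases mul_eq_zero.mp hl' with h | h
      · exact h
      · exact absurd h PowerSeries.X_ne_zero
    have := const_eq φ hrange c l l'
    rw [hcl, hcl'] at this
    simp at this
  haveI : Module.Injective (B ⧸ Ideal.span {s}) (B ⧸ Ideal.span {s}) :=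
    Groth.Agent.H2.GorensteinCM.injective_of_socle _ (hne i1 i0 e1 h01.symm he1)
      (hsoc i1 e1 he1) m hm1
  obtain ⟨b, hb⟩ := Groth.Agent.H55.Frob.exists_mul_eq_of_socle
    (Ideal.Quotient.mk (Ideal.span {s}) e0) (Ideal.Quotient.mk (Ideal.span {s}) e1)
    (hne i1 i0 e1 h01.symm he1) (hsoc i0 e0 he0)
  obtain ⟨b', rfl⟩ := Ideal.Quotient.mk_surjective b
  rw [← map_mul, Ideal.Quotient.eq, Ideal.mem_span_singleton'] at hb
  obtain ⟨c, hc⟩ := hb
  have h1 := congrArg φ hc
  rw [map_mul, map_sub, map_mul, hs, he0, he1] at h1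
  have hl := congrFun h1 i0
  have hl' := congrFun h1 i2
  simp only [Pi.mul_apply, Pi.sub_apply, eX, diagX, if_neg h01, if_neg h02.symm,
    if_neg h12.symm, mul_zero, sub_zero, ↓reduceIte] at hl hl'
  have hcl : φ c i0 = 1 := by
    have : φ c i0 * X = 1 * X := by rw [hl, one_mul]
    exact mul_right_cancel₀ PowerSeries.X_ne_zero this
  have hcl' : φ c i2 = 0 := by
    rcases mul_eq_zero.mp hl' with h | h
    · exact h
    · exact absurd h PowerSeries.X_ne_zero
  have := const_eq φ hrange c i0 i2
  rw [hcl, hcl'] at this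
  simp at this

end main

/-- **A Gorenstein multicross singularity is a node** -/
theorem eq_two_of_gor (k : Type u) [Field k]
    (A : Type u) [CommRing A] [hA : LocCoh.IsGorensteinLocalRing A] (n : ℕ) (hn : 2 ≤ n)
    (φ : AdicCompletion (maximalIdeal A) A →+* (Fin n → PowerSeries k))
    (hinj : Function.Injective φ)
    (hrange : Set.range φ = {f : Fin n → PowerSeries k | ∀ i j : Fin n,
      PowerSeries.constantCoeff (f i) = PowerSeries.constantCoeff (f j)}) :
    n = 2 := by
  haveI : IsNoetherianRing A := hA.toIsNoetherian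
  have hN : IsNoetherianRing (AdicCompletion (maximalIdeal A) A) :=
    Groth.Agent.H20.isNoetherianRing_adicCompletion _
  have h1 := isGorensteinLocalRing_adicCompletion A hA
  have h2 := le_two_of_gor φ hinj hrange h1 hn
  omega

end Groth.Agent.H55.MultiX
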