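import Groth.Agent.H55.Geom5

set_option autoImplicit false

namespace Groth.Agent.H55

open FunFld WithZero Module IntermediateField Polynomial

variable {k K : Type*} [Field k] [Field K] [Algebra k K]

theorem adjoin_gen_eq_top (x : K) : k⟮AdjoinSimple.gen k x⟯ = (⊤ : IntermediateField k k⟮x⟯) := by
  apply IntermediateField.map_injective k⟮x⟯.val
  rw [adjoin_map, Set.image_singleton, ← AlgHom.fieldRange_eq_map, fieldRange_val]
  rfl

/-- `k(x)` is a function field -/
theorem isFunctionField_adjoin {x : K} (hx : Transcendental k x) : IsFunctionField k k⟮x⟯ := by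
  refine ⟨⟨AdjoinSimple.gen k x, ?_, ?_⟩, ?_⟩
  · intro h
    apply hx
    exact (isAlgebraic_algHom_iff k⟮x⟯.val k⟮x⟯.val.injective
      (a := AdjoinSimple.gen k x)).mpr h
  · rw [adjoin_gen_eq_top]
    exact Module.finite_of_finrank_pos (by rw [IntermediateField.finrank_top]; exact one_pos)
  · intro m hm
    obtain ⟨c, hc⟩ := mem_range_of_isAlgebraic_adjoin hx m
      ((isAlgebraic_algHom_iff k⟮x⟯.val k⟮x⟯.val.injective (a := m)).mpr hm)
    exact ⟨c, hc⟩

theorem transcendental_gen {x : K} (hx : Transcendental k x) :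
    Transcendental k (AdjoinSimple.gen k x) := by
  intro h
  apply hx
  exact (isAlgebraic_algHom_iff k⟮x⟯.val k⟮x⟯.val.injective
    (a := AdjoinSimple.gen k x)).mpr h

/-- an element of `k(x)` integral at all places where `x` is integral is a polynomial in `x` -/
theorem exists_poly_of_forall_place {x : K} (hx : Transcendental k x) (a : k⟮x⟯)
    (h : ∀ P : Place k k⟮x⟯, P.1 (AdjoinSimple.gen k x) ≤ 1 → P.1 a ≤ 1) :
    ∃ p : k[X], a = aeval (AdjoinSimple.gen k x) p := by
  set g := AdjoinSimple.gen k x with hg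
  have hgtr : Transcendental k g := transcendental_gen hx
  have hK : W.IsWeakFF k k⟮x⟯ := (isFunctionField_adjoin hx).weak
  let e := RatFunc.algEquivOfTranscendental x hx
  obtain ⟨ρ, rfl⟩ := e.surjective a
  have hd0 : ρ.denom ≠ 0 := RatFunc.denom_ne_zero ρ
  have hρ : e ρ * aeval g ρ.denom = aeval g ρ.num := by
    have h1 : e (algebraMap k[X] (RatFunc k) ρ.num) = aeval g ρ.num :=
      RatFunc.algEquivOfTranscendental_algebraMap x hx _
    have h2 : e (algebraMap k[X] (RatFunc k) ρ.denom) = aeval g ρ.denom :=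
      RatFunc.algEquivOfTranscendental_algebraMap x hx _
    rw [← h1, ← h2, ← map_mul]
    congr 1
    have h3 := RatFunc.num_div_denom ρ
    have h4 : algebraMap k[X] (RatFunc k) ρ.denom ≠ 0 := by
      rw [Ne, map_eq_zero_iff _ (IsFractionRing.injective k[X] (RatFunc k))]
      exact hd0
    rw [div_eq_iff h4] at h3
    exact h3.symm
  by_cases hone : ρ.denom = 1
  · refine ⟨ρ.num, ?_⟩
    rw [← hρ, hone, map_one, mul_one]
  exfalso
  have hmon : ρ.denom.Monic := RatFunc.monic_denom ρ
  have hdeg : ρ.denom.natDegree ≠ 0 := by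
    intro h0
    exact hone ((Polynomial.Monic.natDegree_eq_zero hmon).mp h0)
  have htr : Transcendental k (aeval g ρ.denom) :=
    hgtr.aeval _ hdeg (by rw [hmon.leadingCoeff]; exact one_mem _)
  obtain ⟨P, hP⟩ := W.exists_zero hK htr
  have hPx : P.1 g ≤ 1 := by
    by_contra hlt
    push Not at hlt
    rw [Place.val_aeval_eq P hlt hd0] at hP
    exact absurd hP (not_lt.mpr (one_le_pow₀ hlt.le))
  obtain ⟨u, w, huw⟩ := RatFunc.isCoprime_num_denom ρ
  have h1 : aeval g u * aeval g ρ.num + aeval g w * aeval g ρ.denom = 1 := by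
    rw [← map_mul, ← map_mul, ← map_add, huw, map_one]
  have hnum : P.1 (aeval g ρ.num) = 1 := by
    apply le_antisymm (Place.aeval_mem P _ hPx)
    by_contra hlt
    push Not at hlt
    have h2 : P.1 (aeval g u * aeval g ρ.num + aeval g w * aeval g ρ.denom) < 1 := by
      apply (P.1.map_add _ _).trans_lt
      apply max_lt
      · rw [map_mul]
        exact mul_lt_one_of_nonneg_of_lt_one_right (Place.aeval_mem P _ hPx) zero_le hlt
      · rw [map_mul]
        exact mul_lt_one_of_nonneg_of_lt_one_right (Place.aeval_mem P _ hPx) zero_le hP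
    rw [h1, map_one] at h2
    exact lt_irrefl _ h2
  have h3 := h P hPx
  have h4 : P.1 (e ρ) * P.1 (aeval g ρ.denom) = 1 := by
    rw [← map_mul, hρ, hnum]
  have h5 : P.1 (e ρ) * P.1 (aeval g ρ.denom) < 1 :=
    mul_lt_one_of_nonneg_of_lt_one_right h3 zero_le hP
  rw [h4] at h5
  exact lt_irrefl _ h5

theorem eq_of_aeval_eq_of_degree_lt {M : Type*} [Field M] [Algebra M K] {y : K}
    {r r' : M[X]} (h : aeval y r = aeval y r') (hr : r.degree < (minpoly M y).degree)
    (hr' : r'.degree < (minpoly M y).degree) : r = r' := by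
  by_contra hne
  have h0 : r - r' ≠ 0 := sub_ne_zero.mpr hne
  have h1 : aeval y (r - r') = 0 := by rw [map_sub, h, sub_self]
  have h2 := minpoly.degree_le_of_ne_zero M y h0 h1
  have h3 : (r - r').degree < (minpoly M y).degree :=
    (degree_sub_le r r').trans_lt (max_lt hr hr')
  exact absurd h2 (not_le.mpr h3)

/-- elements of `O_P[y]` are polynomial expressions in `y` over `O_P` -/
theorem exists_eval₂_of_mem_closure {x : K} (P : Place k k⟮x⟯) (y : K) {z : K}
    (hz : z ∈ Subring.closure ((algebraMap k⟮x⟯ K '' (P.O : Set k⟮x⟯)) ∪ {y})) :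
    ∃ q : P.O[X], z = eval₂ ((algebraMap k⟮x⟯ K).comp P.O.subtype) y q := by
  have hle : Subring.closure ((algebraMap k⟮x⟯ K '' (P.O : Set k⟮x⟯)) ∪ {y}) ≤
      (eval₂RingHom ((algebraMap k⟮x⟯ K).comp P.O.subtype) y).range := by
    rw [Subring.closure_le]
    rintro w (⟨a, ha, rfl⟩ | hw)
    · exact ⟨C ⟨a, ha⟩, by simp⟩
    · rw [Set.mem_singleton_iff] at hw
      rw [hw]
      exact ⟨X, by simp⟩
  obtain ⟨q, hq⟩ := hle hz
  exact ⟨q, hq.symm⟩

open scoped IntermediateField.algebraAdjoinAdjoin in
/-- S11067 -/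
theorem adjoin_pair_eq_iInter {x y : K} (hx : Transcendental k x)
    (hxy : IntermediateField.adjoin k ({x, y} : Set K) = ⊤)
    (hy : IsIntegral (Algebra.adjoin k ({x} : Set K)) y) :
    (Algebra.adjoin k ({x, y} : Set K) : Set K) =
      ⋂ (P : Place k k⟮x⟯) (_ : P.1 ⟨x, mem_adjoin_simple_self k x⟩ ≤ 1),
        (Subring.closure ((algebraMap k⟮x⟯ K '' (P.O : Set k⟮x⟯)) ∪ {y}) : Set K) := by
  apply Set.Subset.antisymm
  · intro z hz
    rw [Set.mem_iInter₂]
    intro P hPx
    show z ∈ Subring.closure _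
    have hz' : z ∈ Algebra.adjoin k ({x, y} : Set K) := hz
    induction hz' using Algebra.adjoin_induction with
    | mem w hw =>
      rcases hw with rfl | hw
      · apply Subring.subset_closure
        left
        exact ⟨⟨w, mem_adjoin_simple_self k w⟩, hPx, rfl⟩
      · rw [Set.mem_singleton_iff] at hw
        rw [hw]
        exact Subring.subset_closure (Or.inr rfl)
    | algebraMap c =>
      apply Subring.subset_closure
      left
      exact ⟨algebraMap k k⟮x⟯ c, P.2.1 c, rfl⟩
    | add a b ha' hb' ha hb => exact Subring.add_mem _ (ha ha') (hb hb')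
    | mul a b ha' hb' ha hb => exact Subring.mul_mem _ (ha ha') (hb hb')
  · intro z hz
    rw [Set.mem_iInter₂] at hz
    have hyM : IsIntegral k⟮x⟯ y := hy.tower_top
    have hMy : k⟮x⟯⟮y⟯ = ⊤ := by
      apply IntermediateField.restrictScalars_injective k
      rw [adjoin_simple_adjoin_simple, hxy, restrictScalars_top]
    have hμmonic : (minpoly k⟮x⟯ y).Monic := minpoly.monic hyM
    have hzmem : z ∈ Algebra.adjoin k⟮x⟯ {y} := by
      rw [← adjoin_simple_toSubalgebra_of_isAlgebraic hyM.isAlgebraic, hMy]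
      trivial
    rw [Algebra.adjoin_singleton_eq_range_aeval] at hzmem
    obtain ⟨g₀, hg₀⟩ := hzmem
    have hg₀' : aeval y g₀ = z := hg₀
    set r := g₀ %ₘ minpoly k⟮x⟯ y with hr
    have hrz : aeval y r = z := by
      rw [← hg₀']
      conv_rhs => rw [← modByMonic_add_div g₀ (minpoly k⟮x⟯ y)]
      rw [map_add, map_mul, minpoly.aeval, zero_mul, add_zero]
    have hrdeg : r.degree < (minpoly k⟮x⟯ y).degree := degree_modByMonic_lt _ hμmonic
    -- coefficients are polynomials in x
    have hcoeff : ∀ i, ∃ p : k[X], r.coeff i = aeval (AdjoinSimple.gen k x) p := by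
      intro i
      apply exists_poly_of_forall_place hx
      intro P hPx
      obtain ⟨q, hq⟩ := exists_eval₂_of_mem_closure P y (hz P hPx)
      have hlift : minpoly k⟮x⟯ y ∈ Polynomial.lifts P.O.subtype := by
        rw [Polynomial.lifts_iff_coeff_lifts]
        intro n
        obtain ⟨p, hp⟩ := minpoly_coeff_mem_adjoin hx hy n
        have hp' : (minpoly k⟮x⟯ y).coeff n = aeval (AdjoinSimple.gen k x) p := by
          apply Subtype.ext
          rw [AdjoinSimple.coe_aeval_gen_apply]
          exact hp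
        rw [hp']
        exact ⟨⟨_, Place.aeval_mem P p hPx⟩, rfl⟩
      obtain ⟨μP, hμPmap, hμPdeg, hμPmonic⟩ :=
        Polynomial.lifts_and_degree_eq_and_monic hlift hμmonic
      have hev0 : eval₂ ((algebraMap k⟮x⟯ K).comp P.O.subtype) y μP = 0 := by
        rw [← eval₂_map, hμPmap, ← aeval_def, minpoly.aeval]
      have hq' : z = eval₂ ((algebraMap k⟮x⟯ K).comp P.O.subtype) y (q %ₘ μP) := by
        rw [hq]
        conv_lhs => rw [← modByMonic_add_div q μP]
        rw [eval₂_add, eval₂_mul, hev0, zero_mul, add_zero]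
      have hq'' : aeval y ((q %ₘ μP).map P.O.subtype) = z := by
        rw [aeval_def, eval₂_map]
        exact hq'.symm
      have hdeg' : ((q %ₘ μP).map P.O.subtype).degree < (minpoly k⟮x⟯ y).degree := by
        calc ((q %ₘ μP).map P.O.subtype).degree ≤ (q %ₘ μP).degree := degree_map_le
          _ < μP.degree := degree_modByMonic_lt _ hμPmonic
          _ = (minpoly k⟮x⟯ y).degree := hμPdeg
      have heq : r = (q %ₘ μP).map P.O.subtype :=
        eq_of_aeval_eq_of_degree_lt (by rw [hrz, hq'']) hrdeg hdeg'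
      rw [heq, coeff_map]
      exact ((q %ₘ μP).coeff i).2
    choose p hp using hcoeff
    rw [← hrz, aeval_eq_sum_range]
    apply Subalgebra.sum_mem
    intro i _
    rw [Algebra.smul_def, hp i]
    apply Subalgebra.mul_mem
    · have : algebraMap k⟮x⟯ K (aeval (AdjoinSimple.gen k x) (p i)) = aeval x (p i) :=
        AdjoinSimple.coe_aeval_gen_apply k x (p i)
      rw [this]
      exact Algebra.adjoin_mono (Set.singleton_subset_iff.mpr (Set.mem_insert x _))
        (aeval_mem_adjoin_singleton k x)
    · have hyS : y ∈ ({x, y} : Set K) := Set.mem_insert_of_mem x (Set.mem_singleton y)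
      exact Subalgebra.pow_mem _ (Algebra.subset_adjoin hyS) _

end Groth.Agent.H55
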