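import Groth.Agent.H55.Plane1

set_option autoImplicit false

namespace Groth.Agent.H55

open FunFld WithZero Module IntermediateField Polynomial

variable {k K : Type*} [Field k] [Field K] [Algebra k K]

/-- in `k(x)`, `x - c` is a local parameter at its zero -/
theorem val_gen_sub_eq {x : K} (hx : Transcendental k x) (p : Place k k⟮x⟯) (c : k)
    (h : p.1 (AdjoinSimple.gen k x - algebraMap k k⟮x⟯ c) < 1) :
    p.1 (AdjoinSimple.gen k x - algebraMap k k⟮x⟯ c) = exp (-1 : ℤ) := by
  set g := AdjoinSimple.gen k x with hg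
  have hM : IsFunctionField k k⟮x⟯ := isFunctionField_adjoin hx
  have hgtr : Transcendental k g := transcendental_gen hx
  have hgc0 : g - algebraMap k k⟮x⟯ c ≠ 0 := by
    intro h0
    apply hgtr
    rw [sub_eq_zero.mp h0]
    exact isAlgebraic_algebraMap c
  set w := (g - algebraMap k k⟮x⟯ c)⁻¹ with hw
  have hw0 : w ≠ 0 := inv_ne_zero hgc0
  have htop : k⟮w⟯ = (⊤ : IntermediateField k k⟮x⟯) := by
    rw [eq_top_iff, ← adjoin_gen_eq_top, adjoin_le_iff]
    rintro _ rfl
    have h1 : g = w⁻¹ + algebraMap k k⟮x⟯ c := by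
      rw [hw, inv_inv]; ring
    rw [← hg, h1]
    exact add_mem (inv_mem (mem_adjoin_simple_self k w)) (IntermediateField.algebraMap_mem _ c)
  obtain ⟨P, -, hPw, hPother⟩ := exists_simple_pole_of_adjoin_eq_top hM htop
  have hpos : 0 < p.ord (g - algebraMap k k⟮x⟯ c) := (Place.ord_pos_iff p hgc0).mpr h
  have hpw : p.ord w = - p.ord (g - algebraMap k k⟮x⟯ c) := Place.ord_inv p _
  have hpP : p = P := by
    by_contra hne
    have := hPother p hne
    omega
  rw [hpP] at hpw hpos
  have h1 : P.ord (g - algebraMap k k⟮x⟯ c) = 1 := by omega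
  rw [hpP]
  exact (Place.ord_eq_iff P hgc0 1).mp h1

/-- at an unramified finite place over `k(x)`, some `x - c` is a local parameter -/
theorem exists_sub_uniformizer [IsAlgClosed k] (hK : IsFunctionField k K) {x : K}
    (hx : Transcendental k x) (Q : Place k K)
    (hsurj : Function.Surjective (Q.1.comap (algebraMap k⟮x⟯ K))) (hQx : Q.1 x ≤ 1) :
    ∃ c : k, Q.1 (x - algebraMap k K c) = exp (-1 : ℤ) := by
  obtain ⟨c, hc⟩ := Place.exists_const_sub_lt_one (Place.deg_eq_one_of_isAlgClosed hK Q) hQx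
  refine ⟨c, ?_⟩
  let p : Place k k⟮x⟯ := ⟨Q.1.comap (algebraMap k⟮x⟯ K), ⟨fun a => by
    rw [Valuation.comap_apply, ← IsScalarTower.algebraMap_apply]
    exact Q.2.1 a, hsurj⟩⟩
  have hval : ∀ m : k⟮x⟯, p.1 m = Q.1 (m : K) := fun m => rfl
  have h1 : ((AdjoinSimple.gen k x - algebraMap k k⟮x⟯ c : k⟮x⟯) : K) = x - algebraMap k K c := rfl
  have h2 := val_gen_sub_eq hx p c (by rw [hval, h1]; exact hc)
  rw [hval, h1] at h2
  exact h2

/-- S11051 -/
theorem exists_generator_span_contains_uniformizers [IsAlgClosed k]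
    (hK : IsFunctionField k K) (x : K)
    (hsep : Algebra.IsSeparable (IntermediateField.adjoin k ({x} : Set K)) K) :
    ∃ y : K, IntermediateField.adjoin k ({x, y} : Set K) = ⊤ ∧
      ∀ P : Place k K, ∃ f ∈ Submodule.span k ({1, x, y} : Set K),
        P.1 f = WithZero.exp (-1) := by
  classical
  have hxtr : Transcendental k x := transcendental_of_separating hK hsep
  have hx0 : x ≠ 0 := fun h => hxtr (h ▸ isAlgebraic_zero)
  haveI hfd : FiniteDimensional k⟮x⟯ K := finiteDimensional_adjoin_of_transcendental hK hxtr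
  have hM : IsFunctionField k k⟮x⟯ := isFunctionField_adjoin hxtr
  have hram := H62.FFUnram.finite_ramified (K := k⟮x⟯) (K' := K) hM
  have hpole := Place.finite_poles hK hx0
  set S : Finset (Place k K) := (hram.union hpole).toFinset with hS
  have hSmem : ∀ Q : Place k K, Q ∉ S →
      Function.Surjective (Q.1.comap (algebraMap k⟮x⟯ K)) ∧ Q.1 x ≤ 1 := by
    intro Q hQ
    rw [hS, Set.Finite.mem_toFinset, Set.mem_union, not_or] at hQ
    exact ⟨not_not.mp hQ.1, not_lt.mp hQ.2⟩
  -- u with order one on S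
  obtain ⟨u, hu⟩ := Place.weak_approx S (fun _ => (0 : K)) (fun _ => 1)
  have hu' : ∀ Q ∈ S, Q.1 u = exp (-1 : ℤ) := by
    intro Q hQ
    have := hu Q hQ
    rwa [sub_zero] at this
  -- primitive element
  obtain ⟨y₀, hy₀⟩ := Field.exists_primitive_element k⟮x⟯ K
  -- exponent
  set m : ℕ := 2 + ∑ Q ∈ S, (-(Q.ord y₀)).toNat with hm
  set w : K := u ^ m * y₀ with hw
  have hwS : ∀ Q ∈ S, Q.1 w ≤ exp (-2 : ℤ) := by
    intro Q hQ
    rw [hw, map_mul, map_pow, hu' Q hQ, ← exp_nsmul]
    by_cases hy0 : y₀ = 0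
    · rw [hy0, map_zero, mul_zero]; exact zero_le
    rw [Place.val_eq_exp_neg_ord Q hy0, ← exp_add]
    apply exp_le_exp.mpr
    have h1 : (-(Q.ord y₀)).toNat ≤ ∑ Q ∈ S, (-(Q.ord y₀)).toNat :=
      Finset.single_le_sum (f := fun Q : Place k K => (-(Q.ord y₀)).toNat)
        (fun _ _ => Nat.zero_le _) hQ
    have h2 := Int.self_le_toNat (-(Q.ord y₀))
    have h3 : ((m : ℕ) : ℤ) = 2 + ((∑ Q ∈ S, (-(Q.ord y₀)).toNat : ℕ) : ℤ) := by
      rw [hm]; push_cast; ring
    rw [nsmul_eq_mul, h3]
    have h4 : ((-(Q.ord y₀)).toNat : ℤ) ≤ ((∑ Q ∈ S, (-(Q.ord y₀)).toNat : ℕ) : ℤ) := by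
      exact_mod_cast h1
    linarith
  -- pigeonhole on intermediate fields
  haveI hfinI : Finite (IntermediateField k⟮x⟯ K) :=
    Field.finite_intermediateField_of_exists_primitive_element k⟮x⟯ K ⟨y₀, hy₀⟩
  obtain ⟨a, b, hab, hE⟩ := Finite.exists_ne_map_eq_of_infinite
    (fun c : k => k⟮x⟯⟮u + algebraMap k K c * w⟯)
  have hE' : k⟮x⟯⟮u + algebraMap k K a * w⟯ = k⟮x⟯⟮u + algebraMap k K b * w⟯ := hE
  have hu0 : u ≠ 0 := by
    obtain ⟨Q, hQ⟩ := W.exists_pole hK.weak hxtr
    have hQS : Q ∈ S := by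
      rw [hS, Set.Finite.mem_toFinset]
      exact Or.inr hQ
    intro h0
    have := hu' Q hQS
    rw [h0, map_zero] at this
    exact exp_ne_zero this.symm
  have htopa : k⟮x⟯⟮u + algebraMap k K a * w⟯ = ⊤ := by
    set E := k⟮x⟯⟮u + algebraMap k K a * w⟯ with hEdef
    have h1 : u + algebraMap k K a * w ∈ E := mem_adjoin_simple_self _ _
    have h2 : u + algebraMap k K b * w ∈ E := by
      rw [hE']; exact mem_adjoin_simple_self _ _
    have hab' : algebraMap k K a - algebraMap k K b ≠ 0 := by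
      rw [← map_sub]
      exact (_root_.map_ne_zero _).mpr (sub_ne_zero.mpr hab)
    have hcE : ∀ c : k, algebraMap k K c ∈ E := fun c => by
      rw [IsScalarTower.algebraMap_apply k k⟮x⟯ K]
      exact IntermediateField.algebraMap_mem E _
    have h3 : w ∈ E := by
      have h4 : (algebraMap k K a - algebraMap k K b) * w ∈ E := by
        have := sub_mem h1 h2
        have h5 : u + algebraMap k K a * w - (u + algebraMap k K b * w) =
            (algebraMap k K a - algebraMap k K b) * w := by ring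
        rwa [h5] at this
      have h6 : w = (algebraMap k K a - algebraMap k K b)⁻¹ *
          ((algebraMap k K a - algebraMap k K b) * w) := by
        rw [← mul_assoc, inv_mul_cancel₀ hab', one_mul]
      rw [h6]
      exact mul_mem (inv_mem (sub_mem (hcE a) (hcE b))) h4
    have h7 : u ∈ E := by
      have := sub_mem h1 (mul_mem (hcE a) h3)
      rwa [add_sub_cancel_right] at this
    have h8 : y₀ ∈ E := by
      have h9 : y₀ = (u ^ m)⁻¹ * w := by
        rw [hw, ← mul_assoc, inv_mul_cancel₀ (pow_ne_zero m hu0), one_mul]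
      rw [h9]
      exact mul_mem (inv_mem (pow_mem h7 m)) h3
    rw [eq_top_iff, ← hy₀, adjoin_le_iff]
    rintro _ rfl
    exact h8
  refine ⟨u + algebraMap k K a * w, ?_, ?_⟩
  · rw [← adjoin_simple_adjoin_simple, htopa, restrictScalars_top]
  · intro P
    by_cases hPS : P ∈ S
    · refine ⟨u + algebraMap k K a * w, Submodule.subset_span (by simp), ?_⟩
      have h1 : P.1 (algebraMap k K a * w) < P.1 u := by
        rw [map_mul, hu' P hPS]
        calc P.1 (algebraMap k K a) * P.1 w ≤ 1 * exp (-2 : ℤ) :=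
              mul_le_mul' (P.2.1 a) (hwS P hPS)
          _ < exp (-1 : ℤ) := by rw [one_mul]; exact exp_lt_exp.mpr (by norm_num)
      rw [Valuation.map_add_eq_of_lt_left P.1 h1]
      exact hu' P hPS
    · obtain ⟨hsurj, hPx⟩ := hSmem P hPS
      obtain ⟨c, hc⟩ := exists_sub_uniformizer hK hxtr P hsurj hPx
      refine ⟨x - algebraMap k K c, ?_, hc⟩
      have : x - algebraMap k K c = x - c • (1 : K) := by rw [Algebra.algebraMap_eq_smul_one]
      rw [this]
      exact Submodule.sub_mem _ (Submodule.subset_span (by simp))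
        (Submodule.smul_mem _ c (Submodule.subset_span (by simp)))

end Groth.Agent.H55
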