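import Groth.Agent.H55.Ram1

set_option autoImplicit false

namespace Groth.Agent.H55

open FunFld WithZero Polynomial

set_option linter.unusedSectionVars false

variable {k K K' : Type*} [Field k] [Field K] [Field K'] [Algebra k K] [Algebra K K']
  [Algebra k K'] [IsScalarTower k K K']

/-- an automorphism mapping the valuation ring into itself preserves the valuation -/
theorem InG.val_apply {Q : Place k K'} {σ : K' ≃ₐ[K] K'} {i : ℤ} (hσ : InG Q σ i) (hi : 0 ≤ i)
    (x : K') : Q.1 (σ x) = Q.1 x := by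
  have h1 : Q = Place.comapAlg Q (σ.restrictScalars k) := by
    apply Place.eq_of_le
    intro y hy
    exact hσ.mem hi hy
  have h2 : (Place.comapAlg Q (σ.restrictScalars k)).1 x = Q.1 (σ x) := rfl
  rw [← h2, ← h1]

theorem InG.one (Q : Place k K') (i : ℤ) : InG Q (1 : K' ≃ₐ[K] K') i := by
  intro x _
  simp

theorem InG.mul {Q : Place k K'} {σ τ : K' ≃ₐ[K] K'} {i : ℤ} (hσ : InG Q σ i) (hτ : InG Q τ i)
    (hi : 0 ≤ i) : InG Q (σ * τ) i := by
  intro x hx
  have h1 : (σ * τ) x - x = (σ (τ x) - τ x) + (τ x - x) := by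
    rw [AlgEquiv.mul_apply]; ring
  rw [h1]
  exact (Q.1.map_add _ _).trans (max_le (hσ _ (hτ.mem hi hx)) (hτ x hx))

theorem InG.inv {Q : Place k K'} {σ : K' ≃ₐ[K] K'} {i : ℤ} (hσ : InG Q σ i) (hi : 0 ≤ i) :
    InG Q σ⁻¹ i := by
  intro x hx
  set y := σ⁻¹ x with hy
  have hxy : σ y = x := by
    rw [hy]
    show σ (σ.symm x) = x
    exact σ.apply_symm_apply x
  have hyv : Q.1 y ≤ 1 := by
    rw [← hσ.val_apply hi y, hxy]; exact hx
  have h1 : y - x = -(σ y - y) := by rw [hxy]; ring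
  rw [h1, Valuation.map_neg]
  exact hσ y hyv

theorem InG.pow {Q : Place k K'} {σ : K' ≃ₐ[K] K'} {i : ℤ} (hσ : InG Q σ i) (hi : 0 ≤ i)
    (n : ℕ) : InG Q (σ ^ n) i := by
  induction n with
  | zero => rw [pow_zero]; exact InG.one Q i
  | succ n ih => rw [pow_succ]; exact ih.mul hσ hi

/-- `σ ∈ G_i` moves elements of `𝔪^m` by elements of `𝔪^(i+m-1)` -/
theorem InG.sub_le {Q : Place k K'} {σ : K' ≃ₐ[K] K'} {i : ℤ} (hσ : InG Q σ i) (hi : 1 ≤ i)
    {t : K'} (ht : Q.1 t = exp (-1 : ℤ)) (m : ℕ) :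
    ∀ a : K', Q.1 a ≤ exp (-(m : ℤ)) → Q.1 (σ a - a) ≤ exp (-(i + m - 1)) := by
  have ht0 : t ≠ 0 := Place.ne_zero_of_val_eq_exp Q ht
  induction m with
  | zero =>
    intro a ha
    have : Q.1 a ≤ 1 := by simpa using ha
    exact (hσ a this).trans (by rw [exp_le_exp]; push_cast; omega)
  | succ m ih =>
    intro a ha
    set a' := a / t with ha'
    have haa : a = t * a' := by rw [ha']; field_simp
    have ha'v : Q.1 a' ≤ exp (-(m : ℤ)) := by
      rw [ha', map_div₀, ht, div_le_iff₀ (by simp), ← exp_add]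
      refine ha.trans (by rw [exp_le_exp]; push_cast; omega)
    have h1 : σ a - a = (σ t - t) * σ a' + t * (σ a' - a') := by
      rw [haa, map_mul]; ring
    rw [h1]
    refine (Q.1.map_add _ _).trans (max_le ?_ ?_)
    · rw [map_mul, hσ.val_apply (by omega) a']
      have h2 : Q.1 (σ t - t) ≤ exp (-i) :=
        hσ t (by rw [ht, ← exp_zero, exp_le_exp]; omega)
      calc Q.1 (σ t - t) * Q.1 a' ≤ exp (-i) * exp (-(m : ℤ)) := mul_le_mul' h2 ha'v
        _ = exp (-(i + ((m + 1 : ℕ) : ℤ) - 1)) := by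
          rw [← exp_add]; congr 1; push_cast; ring
    · rw [map_mul, ht]
      calc exp (-1 : ℤ) * Q.1 (σ a' - a') ≤ exp (-1 : ℤ) * exp (-(i + m - 1)) :=
            mul_le_mul' le_rfl (ih a' ha'v)
        _ = exp (-(i + ((m + 1 : ℕ) : ℤ) - 1)) := by
          rw [← exp_add]; congr 1; push_cast; ring

/-- additivity of `σ ↦ σ t - t` on `G_i` modulo `𝔪^(i+1)`, for `i ≥ 2` -/
theorem ram_add {Q : Place k K'} {σ τ : K' ≃ₐ[K] K'} {i : ℕ} (hσ : InG Q σ i) (hτ : InG Q τ i)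
    (hi : 2 ≤ i) {t : K'} (ht : Q.1 t = exp (-1 : ℤ)) :
    Q.1 (((σ * τ) t - t) - ((σ t - t) + (τ t - t))) ≤ exp (-((i : ℤ) + 1)) := by
  have h1 : ((σ * τ) t - t) - ((σ t - t) + (τ t - t)) = σ (τ t - t) - (τ t - t) := by
    rw [AlgEquiv.mul_apply, map_sub]; ring
  rw [h1]
  have h2 : Q.1 (τ t - t) ≤ exp (-(i : ℤ)) :=
    hτ t (by rw [ht, ← exp_zero, exp_le_exp]; omega)
  refine (hσ.sub_le (by omega) ht i _ h2).trans ?_
  rw [exp_le_exp]; omega

/-- `σⁿ t - t ≡ n (σ t - t)` modulo `𝔪^(i+1)` -/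
theorem ram_pow {Q : Place k K'} {σ : K' ≃ₐ[K] K'} {i : ℕ} (hσ : InG Q σ i)
    (hi : 2 ≤ i) {t : K'} (ht : Q.1 t = exp (-1 : ℤ)) (n : ℕ) :
    Q.1 (((σ ^ n) t - t) - (n : K') * (σ t - t)) ≤ exp (-((i : ℤ) + 1)) := by
  induction n with
  | zero => simp
  | succ n ih =>
    have h1 := ram_add (hσ.pow (by omega) n) hσ hi ht
    rw [← pow_succ] at h1
    have h2 : ((σ ^ (n + 1)) t - t) - ((n + 1 : ℕ) : K') * (σ t - t) =
        (((σ ^ (n + 1)) t - t) - (((σ ^ n) t - t) + (σ t - t))) +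
          (((σ ^ n) t - t) - (n : K') * (σ t - t)) := by
      push_cast; ring
    rw [h2]
    exact (Q.1.map_add _ _).trans (max_le h1 ih)

theorem Place.val_natCast_le (Q : Place k K') (n : ℕ) : Q.1 (n : K') ≤ 1 := by
  have : (n : K') = algebraMap k K' (n : k) := by simp
  rw [this]
  exact Q.2.1 _

/-- S11025 -/
theorem ram_quotients [FiniteDimensional K K'] (Q : Place k K')
    [Algebra.IsSeparable k (IsLocalRing.ResidueField Q.O)]
    (i : ℕ) (hi : 2 ≤ i) (σ τ : K' ≃ₐ[K] K') (hσ : InG Q σ i) (hτ : InG Q τ i) :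
    InG Q (σ * τ * σ⁻¹ * τ⁻¹) ((i : ℤ) + 1) ∧
    (ringChar K = 0 → InG Q σ ((i : ℤ) + 1)) ∧
    ∀ p : ℕ, p.Prime → ringChar K = p → InG Q (σ ^ p) ((i : ℤ) + 1) := by
  obtain ⟨t, ht⟩ := Place.exists_uniformizer Q
  have hi0 : (0 : ℤ) ≤ i := by omega
  have hcrit : ∀ ρ : K' ≃ₐ[K] K', InG Q ρ i → Q.1 (ρ t - t) ≤ exp (-((i : ℤ) + 1)) →
      InG Q ρ ((i : ℤ) + 1) := by
    intro ρ hρ h
    have h1 : InG Q ρ 1 := hρ.mono (by omega)
    have := (ram_criterion Q ρ h1 ht (i + 1) (by omega)).mpr (by push_cast; exact h)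
    exact_mod_cast this
  refine ⟨?_, ?_, ?_⟩
  · have hσi := hσ.inv hi0
    have hτi := hτ.inv hi0
    have hστ := hσ.mul hτ hi0
    have hστσ := hστ.mul hσi hi0
    have hc := hστσ.mul hτi hi0
    apply hcrit _ hc
    have e1 := ram_add hστσ hτi hi ht
    have e2 := ram_add hστ hσi hi ht
    have e3 := ram_add hσ hτ hi ht
    have e4 := ram_add hσ hσi hi ht
    have e5 := ram_add hτ hτi hi ht
    rw [mul_inv_cancel] at e4 e5
    simp only [AlgEquiv.one_apply, sub_self, zero_sub] at e4 e5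
    rw [Valuation.map_neg] at e4 e5
    have hsum : (σ * τ * σ⁻¹ * τ⁻¹) t - t =
        (((σ * τ * σ⁻¹ * τ⁻¹) t - t) - (((σ * τ * σ⁻¹) t - t) + (τ⁻¹ t - t))) +
        ((((σ * τ * σ⁻¹) t - t) - (((σ * τ) t - t) + (σ⁻¹ t - t))) +
        ((((σ * τ) t - t) - ((σ t - t) + (τ t - t))) +
        (((σ t - t) + (σ⁻¹ t - t)) + ((τ t - t) + (τ⁻¹ t - t))))) := by ring
    rw [hsum]
    refine (Q.1.map_add _ _).trans (max_le e1 ?_)
    refine (Q.1.map_add _ _).trans (max_le e2 ?_)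
    refine (Q.1.map_add _ _).trans (max_le e3 ?_)
    exact (Q.1.map_add _ _).trans (max_le e4 e5)
  · intro h0
    have hcz : CharZero K := (CharP.ringChar_zero_iff_CharZero K).mp h0
    apply hcrit σ hσ
    have hfin : IsOfFinOrder σ := isOfFinOrder_of_finite σ
    set N := orderOf σ with hN
    have hNpos : 0 < N := hfin.orderOf_pos
    have h1 := ram_pow hσ hi ht N
    rw [hN, pow_orderOf_eq_one] at h1
    simp only [AlgEquiv.one_apply, sub_self, zero_sub] at h1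
    rw [Valuation.map_neg, map_mul] at h1
    have hNk : (N : k) ≠ 0 := by
      intro h
      have h2 : (N : K) = 0 := by
        have := congrArg (algebraMap k K) h
        simpa using this
      have : N = 0 := by exact_mod_cast h2
      omega
    have hNv : Q.1 ((orderOf σ : ℕ) : K') = 1 := by
      have : ((N : ℕ) : K') = algebraMap k K' (N : k) := by simp
      rw [← hN, this]
      exact Place.val_algebraMap_eq_one Q hNk
    rwa [hNv, one_mul] at h1
  · intro p hp hchar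
    apply hcrit (σ ^ p) (hσ.pow hi0 p)
    have h1 := ram_pow hσ hi ht p
    have hp0 : (p : K') = 0 := by
      have h2 : (p : K) = 0 := by
        rw [← hchar]; exact ringChar.Nat.cast_ringChar
      have := congrArg (algebraMap K K') h2
      simpa using this
    rwa [hp0, zero_mul, sub_zero] at h1

end Groth.Agent.H55
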