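import Groth.Agent.H55.Ram2

set_option autoImplicit false

namespace Groth.Agent.H55

open FunFld WithZero Polynomial

set_option linter.unusedSectionVars false

variable {k K K' : Type*} [Field k] [Field K] [Field K'] [Algebra k K] [Algebra K K']
  [Algebra k K'] [IsScalarTower k K K']

open scoped Classical in
/-- residue class of an element (junk value `0` outside the valuation ring) -/
noncomputable def Place.resOf (Q : Place k K') (z : K') : IsLocalRing.ResidueField Q.O :=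
  if h : Q.1 z ≤ 1 then
    IsLocalRing.residue Q.O ⟨z, (Valuation.mem_valuationSubring_iff Q.1 z).mpr h⟩
  else 0

theorem Place.resOf_eq (Q : Place k K') {z : K'} (h : Q.1 z ≤ 1) :
    Place.resOf Q z =
      IsLocalRing.residue Q.O ⟨z, (Valuation.mem_valuationSubring_iff Q.1 z).mpr h⟩ := by
  unfold Place.resOf
  rw [dif_pos h]

theorem Place.resOf_mul (Q : Place k K') {z w : K'} (hz : Q.1 z ≤ 1) (hw : Q.1 w ≤ 1) :
    Place.resOf Q (z * w) = Place.resOf Q z * Place.resOf Q w := by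
  have hzw : Q.1 (z * w) ≤ 1 := by rw [map_mul]; exact mul_le_one' hz hw
  rw [Place.resOf_eq Q hz, Place.resOf_eq Q hw, Place.resOf_eq Q hzw, ← map_mul]
  rfl

theorem Place.resOf_one (Q : Place k K') : Place.resOf Q (1 : K') = 1 := by
  rw [Place.resOf_eq Q (by simp)]
  exact map_one _

theorem Place.resOf_eq_iff (Q : Place k K') {z w : K'} (hz : Q.1 z ≤ 1) (hw : Q.1 w ≤ 1) :
    Place.resOf Q z = Place.resOf Q w ↔ Q.1 (z - w) < 1 := by
  rw [Place.resOf_eq Q hz, Place.resOf_eq Q hw, ← sub_eq_zero, ← map_sub, residue_eq_zero_iff]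
  rfl

theorem Place.resOf_ne_zero (Q : Place k K') {z : K'} (hz : Q.1 z = 1) :
    Place.resOf Q z ≠ 0 := by
  rw [Place.resOf_eq Q hz.le, Ne, residue_eq_zero_iff]
  show ¬ Q.1 z < 1
  rw [hz]; exact lt_irrefl _

/-- the inertia group (in the numbering where `G₁` is the inertia group) -/
def G1 (Q : Place k K') : Subgroup (K' ≃ₐ[K] K') where
  carrier := {σ | InG Q σ 1}
  mul_mem' := fun hσ hτ => InG.mul hσ hτ (by norm_num)
  one_mem' := InG.one Q 1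
  inv_mem' := fun hσ => InG.inv hσ (by norm_num)

theorem mem_G1 {Q : Place k K'} {σ : K' ≃ₐ[K] K'} : σ ∈ G1 (K := K) Q ↔ InG Q σ 1 := Iff.rfl

theorem G1_unit {Q : Place k K'} {σ : K' ≃ₐ[K] K'} (hσ : InG Q σ 1) {t : K'}
    (ht : Q.1 t = exp (-1 : ℤ)) : Q.1 (σ t / t) = 1 := by
  rw [map_div₀, hσ.val_apply (by norm_num), ht]
  exact div_self (by simp)

/-- the homomorphism `σ ↦ σ t / t mod 𝔪` -/
noncomputable def theta (Q : Place k K') {t : K'} (ht : Q.1 t = exp (-1 : ℤ)) :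
    G1 (K := K) Q →* (IsLocalRing.ResidueField Q.O)ˣ :=
  MonoidHom.mk' (fun σ => Units.mk0 (Place.resOf Q ((σ : K' ≃ₐ[K] K') t / t))
      (Place.resOf_ne_zero Q (G1_unit σ.2 ht))) (by
    intro σ τ
    apply Units.ext
    have ht0 : t ≠ 0 := Place.ne_zero_of_val_eq_exp Q ht
    have hσ : InG Q (σ : K' ≃ₐ[K] K') 1 := σ.2
    have hτ : InG Q (τ : K' ≃ₐ[K] K') 1 := τ.2
    have huσ := G1_unit hσ ht
    have huτ := G1_unit hτ ht
    show Place.resOf Q (((σ * τ : G1 (K := K) Q) : K' ≃ₐ[K] K') t / t) =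
      Place.resOf Q ((σ : K' ≃ₐ[K] K') t / t) * Place.resOf Q ((τ : K' ≃ₐ[K] K') t / t)
    have h1 : ((σ * τ : G1 (K := K) Q) : K' ≃ₐ[K] K') t / t =
        (σ : K' ≃ₐ[K] K') ((τ : K' ≃ₐ[K] K') t / t) * ((σ : K' ≃ₐ[K] K') t / t) := by
      rw [Subgroup.coe_mul, AlgEquiv.mul_apply, map_div₀]
      have : (σ : K' ≃ₐ[K] K') t ≠ 0 := by
        rw [Ne, map_eq_zero_iff _ (σ : K' ≃ₐ[K] K').injective]; exact ht0
      field_simp
    have hσu : Q.1 ((σ : K' ≃ₐ[K] K') ((τ : K' ≃ₐ[K] K') t / t)) ≤ 1 := hσ.mem (by norm_num) huτ.le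
    rw [h1, Place.resOf_mul Q hσu huσ.le, mul_comm]
    congr 1
    rw [Place.resOf_eq_iff Q hσu huτ.le]
    exact lt_of_le_of_lt (hσ _ huτ.le) Place.exp_neg_one_lt_one)

theorem theta_apply (Q : Place k K') {t : K'} (ht : Q.1 t = exp (-1 : ℤ))
    (σ : G1 (K := K) Q) :
    ((theta Q ht σ : (IsLocalRing.ResidueField Q.O)ˣ) : IsLocalRing.ResidueField Q.O) =
      Place.resOf Q ((σ : K' ≃ₐ[K] K') t / t) := rfl

theorem theta_eq_one (Q : Place k K') [Algebra.IsSeparable k (IsLocalRing.ResidueField Q.O)]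
    {t : K'} (ht : Q.1 t = exp (-1 : ℤ)) (σ : G1 (K := K) Q) (h : theta Q ht σ = 1) :
    InG Q (σ : K' ≃ₐ[K] K') 2 := by
  have ht0 : t ≠ 0 := Place.ne_zero_of_val_eq_exp Q ht
  have hσ : InG Q (σ : K' ≃ₐ[K] K') 1 := σ.2
  have h1 : Place.resOf Q ((σ : K' ≃ₐ[K] K') t / t) = Place.resOf Q (1 : K') := by
    rw [Place.resOf_one, ← theta_apply Q ht σ, h]; rfl
  rw [Place.resOf_eq_iff Q (G1_unit hσ ht).le (by simp)] at h1
  have h2 : (σ : K' ≃ₐ[K] K') t - t = ((σ : K' ≃ₐ[K] K') t / t - 1) * t := by field_simp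
  have h3 := le_exp_neg_one_of_lt_one h1
  have := (ram_criterion Q (σ : K' ≃ₐ[K] K') hσ ht 2 (by norm_num)).mpr (by
    rw [h2, map_mul, ht]
    calc Q.1 ((σ : K' ≃ₐ[K] K') t / t - 1) * exp (-1 : ℤ) ≤ exp (-1 : ℤ) * exp (-1 : ℤ) :=
          mul_le_mul' h3 le_rfl
      _ = exp (-((2 : ℕ) : ℤ)) := by rw [← exp_add]; rfl)
  exact_mod_cast this

/-- S11024: `G₁/G₂` is cyclic -/
theorem G1_mod_G2_cyclic [FiniteDimensional K K'] (Q : Place k K')
    [Algebra.IsSeparable k (IsLocalRing.ResidueField Q.O)] :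
    ∃ σ₀ : K' ≃ₐ[K] K', InG Q σ₀ 1 ∧
      ∀ σ : K' ≃ₐ[K] K', InG Q σ 1 → ∃ n : ℕ, InG Q ((σ₀ ^ n)⁻¹ * σ) 2 := by
  obtain ⟨t, ht⟩ := Place.exists_uniformizer Q
  set θ := theta (K := K) Q ht with hθ
  have hfin : Finite θ.range := by
    have : Finite (G1 (K := K) Q) := inferInstance
    exact Set.finite_coe_iff.mpr (Set.finite_range θ)
  have hcyc : IsCyclic θ.range := isCyclic_subgroup_units θ.range
  obtain ⟨g, hg⟩ := IsCyclic.exists_monoid_generator (α := θ.range)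
  obtain ⟨σ₀, hσ₀⟩ := g.2
  refine ⟨σ₀, σ₀.2, ?_⟩
  intro σ hσ
  have hmem : (⟨θ ⟨σ, hσ⟩, ⟨⟨σ, hσ⟩, rfl⟩⟩ : θ.range) ∈ Submonoid.powers g := hg _
  obtain ⟨n, hn⟩ := hmem
  refine ⟨n, ?_⟩
  have h1 : θ (σ₀ ^ n) = θ ⟨σ, hσ⟩ := by
    rw [map_pow, hσ₀]
    have := congrArg Subtype.val hn
    simpa using this
  have h2 : θ ((σ₀ ^ n)⁻¹ * ⟨σ, hσ⟩) = 1 := by
    rw [map_mul, map_inv, h1, inv_mul_cancel]
  exact theta_eq_one Q ht _ h2

end Groth.Agent.H55
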