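import Mathlib
import Groth.Prelude.Def_W4c2filtblowupsingRees

/-!
# Basic facts on extended Rees algebras (helper55)
-/

set_option autoImplicit false
set_option linter.style.haveILetI false
set_option linter.unusedSectionVars false
universe u

open Polynomial LaurentPolynomial FiltBl

namespace Groth.Agent.H55.Rees

variable {A : Type u} [CommRing A] (𝓕 : IdealFiltration A)

theorem mem_extRees (f : A[T;T⁻¹]) : f ∈ 𝓕.extRees ↔ ∀ n : ℤ, f.coeff n ∈ 𝓕.F n.toNat := Iff.rfl

theorem u_coe : ((𝓕.u : 𝓕.extRees) : A[T;T⁻¹]) = T (-1) := rfl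

theorem coeff_T_mul (n k : ℤ) (f : A[T;T⁻¹]) : (T n * f).coeff k = f.coeff (k - n) := by
  unfold T
  rw [AddMonoidAlgebra.coeff_single_mul_apply, one_mul]
  congr 1
  ring

theorem F_of_nonpos (n : ℤ) (hn : n ≤ 0) : 𝓕.F n.toNat = ⊤ := by
  rw [Int.toNat_of_nonpos hn, 𝓕.zero_eq]

/-- `u = T⁻¹` is a nonzerodivisor of the extended Rees algebra -/
theorem u_regular : IsSMulRegular 𝓕.extRees 𝓕.u := by
  intro a b hab
  apply Subtype.ext
  have h : T (-1) * (a : A[T;T⁻¹]) = T (-1) * (b : A[T;T⁻¹]) :=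
    congrArg (fun x : 𝓕.extRees => (x : A[T;T⁻¹])) hab
  have h2 := congrArg (fun x => T 1 * x) h
  simp only [← mul_assoc, ← T_add] at h2
  simpa using h2

/-- the Laurent polynomial ring is the localization of the extended Rees algebra at `u` -/
instance isLocalization_away_u : IsLocalization.Away 𝓕.u A[T;T⁻¹] := by
  refine IsLocalization.Away.mk 𝓕.u ?_ ?_ ?_
  · exact isUnit_T (-1)
  · intro s
    classical
    -- a bound for the degrees
    obtain ⟨m, hm⟩ : ∃ m : ℕ, ∀ n ∈ s.coeff.support, n ≤ (m : ℤ) := by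
      refine ⟨s.coeff.support.sup (fun n => n.toNat), fun n hn => ?_⟩
      have := Finset.le_sup (f := fun n : ℤ => n.toNat) hn
      have h2 : n ≤ (n.toNat : ℤ) := Int.self_le_toNat n
      exact h2.trans (by exact_mod_cast this)
    refine ⟨m, ⟨s * T (-1) ^ m, ?_⟩, rfl⟩
    intro k
    rw [T_pow, mul_comm, coeff_T_mul]
    by_cases hk : k ≤ 0
    · rw [F_of_nonpos 𝓕 k hk]; trivial
    · have : s.coeff (k - ↑m * -1) = 0 := by
        by_contra h0
        have := hm _ (Finsupp.mem_support_iff.mpr h0)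
        omega
      rw [this]
      exact zero_mem _
  · intro a b hab
    exact ⟨0, by rw [pow_zero, one_mul, one_mul]; exact Subtype.ext hab⟩

theorem coeff_toLaurent_nat (p : A[X]) (k : ℕ) : (toLaurent p).coeff (k : ℤ) = p.coeff k := by
  rw [coeff_toLaurent]
  exact Finsupp.mapDomain_apply Nat.cast_injective _ _

theorem coeff_toLaurent_neg (p : A[X]) (n : ℤ) (hn : n < 0) : (toLaurent p).coeff n = 0 := by
  rw [coeff_toLaurent]
  apply Finsupp.mapDomain_of_notMem_range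
  rintro ⟨k, hk⟩
  have : (k : ℤ) = n := hk
  omega

theorem coeff_C_mul_T (a : A) (k n : ℤ) :
    (LaurentPolynomial.C a * T k : A[T;T⁻¹]).coeff n = if n = k then a else 0 := by
  classical
  rw [← single_eq_C_mul_T, AddMonoidAlgebra.coeff_single, Finsupp.single_apply]
  by_cases h : n = k
  · subst h; simp
  · rw [if_neg h, if_neg (fun h' => h h'.symm)]

theorem toLaurent_mem_extRees (p : 𝓕.rees) : toLaurent (p : A[X]) ∈ 𝓕.extRees := by
  intro n
  by_cases hn : n < 0
  · rw [coeff_toLaurent_neg _ n hn]; exact zero_mem _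
  · obtain ⟨k, rfl⟩ : ∃ k : ℕ, n = k := ⟨n.toNat, by omega⟩
    rw [coeff_toLaurent_nat, Int.toNat_natCast]
    exact p.2 k

/-- the inclusion of the Rees algebra into the extended Rees algebra -/
noncomputable def psi : 𝓕.rees →ₐ[A] 𝓕.extRees :=
  ((toLaurentAlg (R := A)).comp 𝓕.rees.val).codRestrict 𝓕.extRees (toLaurent_mem_extRees 𝓕)

theorem psi_coe (p : 𝓕.rees) : ((psi 𝓕 p : 𝓕.extRees) : A[T;T⁻¹]) = toLaurent (p : A[X]) := rfl

/-- monomials of the extended Rees algebra -/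
noncomputable def mono (n : ℤ) (a : A) (ha : a ∈ 𝓕.F n.toNat) : 𝓕.extRees :=
  ⟨LaurentPolynomial.C a * T n, fun k => by
    rw [coeff_C_mul_T]
    split_ifs with h
    · subst h; exact ha
    · exact zero_mem _⟩

theorem mono_coe (n : ℤ) (a : A) (ha : a ∈ 𝓕.F n.toNat) :
    ((mono 𝓕 n a ha : 𝓕.extRees) : A[T;T⁻¹]) = LaurentPolynomial.C a * T n := rfl

theorem eq_sum_mono (f : 𝓕.extRees) :
    f = ∑ n ∈ (f : A[T;T⁻¹]).coeff.support, mono 𝓕 n ((f : A[T;T⁻¹]).coeff n) (f.2 n) := by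
  apply Subtype.ext
  rw [AddSubmonoidClass.coe_finsetSum]
  simp only [mono_coe]
  apply LaurentPolynomial.ext
  intro k
  rw [AddMonoidAlgebra.coeff_sum]
  simp only [coeff_C_mul_T, Finsupp.coe_finsetSum, Finset.sum_apply]
  rw [Finset.sum_ite_eq]
  split_ifs with h
  · rfl
  · exact Finsupp.notMem_support_iff.mp h

theorem mono_mem_adjoin (s : Set 𝓕.rees) (hs : Algebra.adjoin A s = ⊤) (n : ℤ) (a : A)
    (ha : a ∈ 𝓕.F n.toNat) :
    mono 𝓕 n a ha ∈ Algebra.adjoin A (psi 𝓕 '' s ∪ {𝓕.u}) := by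
  by_cases hn : n < 0
  · have h1 : mono 𝓕 n a ha = a • 𝓕.u ^ (-n).toNat := by
      apply Subtype.ext
      change LaurentPolynomial.C a * T n = a • (T (-1)) ^ (-n).toNat
      rw [T_pow, LaurentPolynomial.smul_eq_C_mul]
      congr 2
      omega
    rw [h1]
    have hu : 𝓕.u ∈ Algebra.adjoin A (psi 𝓕 '' s ∪ {𝓕.u}) :=
      Algebra.subset_adjoin (Or.inr rfl)
    exact Subalgebra.smul_mem _ (pow_mem hu _) _
  · obtain ⟨k, rfl⟩ : ∃ k : ℕ, n = k := ⟨n.toNat, by omega⟩
    have hk : a ∈ 𝓕.F k := by simpa using ha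
    have hmem : (Polynomial.C a * (Polynomial.X : A[X]) ^ k) ∈ 𝓕.rees := by
      intro m
      rw [coeff_C_mul_X_pow]
      split_ifs with h
      · subst h; exact hk
      · exact zero_mem _
    have h1 : mono 𝓕 (k : ℤ) a ha = psi 𝓕 ⟨Polynomial.C a * (Polynomial.X : A[X]) ^ k, hmem⟩ := by
      apply Subtype.ext
      rw [psi_coe, mono_coe]
      exact (Polynomial.toLaurent_C_mul_X_pow k a).symm
    rw [h1]
    have h2 : (psi 𝓕).range ≤ Algebra.adjoin A (psi 𝓕 '' s ∪ {𝓕.u}) := by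
      rw [← Algebra.map_top, ← hs, AlgHom.map_adjoin]
      exact Algebra.adjoin_mono Set.subset_union_left
    exact h2 ⟨_, rfl⟩

/-- the extended Rees algebra is of finite type when the Rees algebra is -/
theorem finiteType_extRees (hfg : Algebra.FiniteType A 𝓕.rees) :
    Algebra.FiniteType A 𝓕.extRees := by
  classical
  obtain ⟨s, hs⟩ := hfg.out
  refine ⟨⟨s.image (psi 𝓕) ∪ {𝓕.u}, ?_⟩⟩
  rw [eq_top_iff]
  intro f _
  rw [eq_sum_mono 𝓕 f]
  refine Subalgebra.sum_mem _ fun n _ => ?_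
  have := mono_mem_adjoin 𝓕 (s : Set 𝓕.rees) hs n _ (f.2 n)
  simpa using this

theorem isNoetherianRing_extRees [IsNoetherianRing A] (hfg : Algebra.FiniteType A 𝓕.rees) :
    IsNoetherianRing 𝓕.extRees :=
  haveI := finiteType_extRees 𝓕 hfg
  Algebra.FiniteType.isNoetherianRing A _

end Groth.Agent.H55.Rees
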