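import Groth.Agent.H55.Rees1
import Groth.Agent.H55.Gor3
import Groth.Agent.H26.GorDescent
import Groth.Agent.H26.GorLCI

/-!
# Extended Rees algebra: Gorenstein iff the associated graded ring is (helper55)
-/

set_option autoImplicit false
set_option linter.style.haveILetI false
set_option linter.unusedSectionVars false
universe u

open Polynomial LaurentPolynomial FiltBl

namespace Groth.Agent.H55.Gor

open Groth.Agent.H26.GorRegHom Groth.Agent.H26.GorQuot Groth.Agent.H26.GorFieldLocal

/-- `S` Noetherian, `x` regular, `S/(x)` Gorenstein, `x ∈ q`: then `S_q` is Gorenstein -/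
theorem gor_atPrime_of_mem_of_quotient {S : Type u} [CommRing S] [IsNoetherianRing S]
    (x : S) (hx : IsSMulRegular S x)
    (hq : LocCoh.IsGorensteinRing (S ⧸ Ideal.span {x})) (q : Ideal S) [q.IsPrime] (hxq : x ∈ q) :
    LocCoh.IsGorensteinLocalRing (Localization.AtPrime q) := by
  have hker : RingHom.ker (Ideal.Quotient.mk (Ideal.span {x})) ≤ q := by
    rw [Ideal.mk_ker, Ideal.span_le]
    intro y hy
    rw [Set.mem_singleton_iff] at hy
    rw [hy]
    exact hxq
  haveI : (q.map (Ideal.Quotient.mk (Ideal.span {x}))).IsPrime :=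
    Ideal.map_isPrime_of_surjective Ideal.Quotient.mk_surjective hker
  have hqq : q = (q.map (Ideal.Quotient.mk (Ideal.span {x}))).comap
      (Ideal.Quotient.mk (Ideal.span {x})) := by
    rw [Ideal.comap_map_of_surjective _ Ideal.Quotient.mk_surjective]
    rw [← RingHom.ker_eq_comap_bot]
    exact (sup_eq_left.mpr hker).symm
  have h2 := (gor_atPrime_iff_quotient x hx _ rfl
    (q.map (Ideal.Quotient.mk (Ideal.span {x})))).mpr
    (hq.isGorensteinLocalRing_localization _)
  have hcongr : ∀ (q' : Ideal S) [q'.IsPrime], q = q' →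
      LocCoh.IsGorensteinLocalRing (Localization.AtPrime q') →
      LocCoh.IsGorensteinLocalRing (Localization.AtPrime q) := by
    intro q' _ hqq' h'
    subst hqq'
    exact h'
  exact hcongr _ hqq h2

/-- `S` Noetherian, `x` regular, `S/(x)` Gorenstein, `P + (x) ≠ S`: then `S_P` is Gorenstein -/
theorem gor_atPrime_of_sup_ne_top {S : Type u} [CommRing S] [IsNoetherianRing S]
    (x : S) (hx : IsSMulRegular S x)
    (hq : LocCoh.IsGorensteinRing (S ⧸ Ideal.span {x})) (P : Ideal S) [P.IsPrime]
    (hP : P ⊔ Ideal.span {x} ≠ ⊤) :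
    LocCoh.IsGorensteinLocalRing (Localization.AtPrime P) := by
  obtain ⟨M, hM, hle⟩ := Ideal.exists_le_maximal _ hP
  haveI := hM.isPrime
  have hxM : x ∈ M := hle (Ideal.mem_sup_right (Ideal.subset_span rfl))
  have hPM : P ≤ M := le_sup_left.trans hle
  have h1 := gor_atPrime_of_mem_of_quotient x hx hq M hxM
  have h2 := isGorensteinRing_of_isGorensteinLocalRing _ h1
  refine gor_atPrime_of_isLocalization M.primeCompl h2 P ?_
  intro y hy hyP
  exact hy (hPM hyP)

/-- the Laurent polynomial ring over a Gorenstein ring is Gorenstein -/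
theorem isGorensteinRing_laurent (A : Type u) [CommRing A] (hA : LocCoh.IsGorensteinRing A) :
    LocCoh.IsGorensteinRing A[T;T⁻¹] := by
  have h1 := Groth.Agent.H26.GorLCI.isGorensteinRing_mvPolynomial A hA 1
  have h2 : LocCoh.IsGorensteinRing A[X] :=
    isGorensteinRing_of_ringEquiv (MvPolynomial.uniqueAlgEquiv A (Fin 1)).toRingEquiv h1
  exact isGorensteinRing_of_isLocalization (Submonoid.powers (X : A[X])) h2

end Groth.Agent.H55.Gor

namespace Groth.Agent.H55.Rees

variable {A : Type u} [CommRing A]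

/-- reduction of Laurent polynomials modulo an ideal -/
noncomputable def redL (m : Ideal A) : A[T;T⁻¹] →+* (A ⧸ m)[T;T⁻¹] :=
  AddMonoidAlgebra.mapRingHom ℤ (Ideal.Quotient.mk m)

/-- the extension of `m` to the Laurent polynomial ring -/
noncomputable def PL (m : Ideal A) : Ideal A[T;T⁻¹] := RingHom.ker (redL m)

theorem mem_PL (m : Ideal A) (f : A[T;T⁻¹]) : f ∈ PL m ↔ ∀ n : ℤ, f.coeff n ∈ m := by
  unfold PL redL
  rw [RingHom.mem_ker]
  constructor
  · intro h n
    have := congrArg (fun g : (A ⧸ m)[T;T⁻¹] => g.coeff n) h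
    simp only [AddMonoidAlgebra.coeff_mapRingHom] at this
    exact Ideal.Quotient.eq_zero_iff_mem.mp this
  · intro h
    apply LaurentPolynomial.ext
    intro n
    rw [AddMonoidAlgebra.coeff_mapRingHom]
    exact Ideal.Quotient.eq_zero_iff_mem.mpr (h n)

instance PL_isPrime (m : Ideal A) [m.IsMaximal] : (PL m).IsPrime := by
  letI : Field (A ⧸ m) := Ideal.Quotient.field m
  exact RingHom.ker_isPrime _

end Groth.Agent.H55.Rees
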