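import Groth.Agent.H55.Rees2

/-!
# Extended Rees algebra: Gorenstein iff the associated graded ring is, continued (helper55)
-/

set_option autoImplicit false
set_option linter.style.haveILetI false
set_option linter.unusedSectionVars false
universe u

open Polynomial LaurentPolynomial FiltBl IsLocalRing

namespace Groth.Agent.H55.Rees

variable {A : Type u} [CommRing A] (𝓕 : IdealFiltration A)

/-- the prime of the extended Rees algebra lying under `m A[T,T⁻¹]` -/
noncomputable def PR (m : Ideal A) : Ideal 𝓕.extRees :=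
  (PL m).comap (algebraMap 𝓕.extRees A[T;T⁻¹])

instance PR_isPrime (m : Ideal A) [m.IsMaximal] : (PR 𝓕 m).IsPrime :=
  Ideal.comap_isPrime _ _

theorem mem_PR (m : Ideal A) (f : 𝓕.extRees) :
    f ∈ PR 𝓕 m ↔ ∀ n : ℤ, (f : A[T;T⁻¹]).coeff n ∈ m := by
  unfold PR
  rw [Ideal.mem_comap]
  exact mem_PL m _

theorem F_eq_top_of_one (h1 : 𝓕.F 1 = ⊤) (n : ℕ) : 𝓕.F n = ⊤ := by
  induction n with
  | zero => exact 𝓕.zero_eq
  | succ n ih =>
    have := 𝓕.mul_le n 1
    rw [ih, h1, Ideal.top_mul] at this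
    exact top_le_iff.mp this

theorem F_one_ne_top [Nontrivial A] (hsep : ⨅ n, 𝓕.F n = ⊥) : 𝓕.F 1 ≠ ⊤ := by
  intro h1
  have : (⨅ n, 𝓕.F n) = ⊤ := by
    simp only [F_eq_top_of_one 𝓕 h1, iInf_top]
  rw [hsep] at this
  exact bot_ne_top this

theorem PR_sup_ne_top [IsLocalRing A] (hsep : ⨅ n, 𝓕.F n = ⊥) :
    PR 𝓕 (maximalIdeal A) ⊔ Ideal.span {𝓕.u} ≠ ⊤ := by
  intro htop
  have h1 : (1 : 𝓕.extRees) ∈ PR 𝓕 (maximalIdeal A) ⊔ Ideal.span {𝓕.u} := by
    rw [htop]; trivial
  obtain ⟨p, hp, y, hy, hpy⟩ := Submodule.mem_sup.mp h1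
  obtain ⟨r, rfl⟩ := Ideal.mem_span_singleton'.mp hy
  have hF1 : 𝓕.F 1 ≤ maximalIdeal A := le_maximalIdeal (F_one_ne_top 𝓕 hsep)
  have h2 := congrArg (fun f : 𝓕.extRees => (f : A[T;T⁻¹]).coeff 0) hpy
  simp only [Subalgebra.coe_add, Subalgebra.coe_mul, Subalgebra.coe_one, u_coe] at h2
  rw [AddMonoidAlgebra.coeff_add, Finsupp.add_apply, mul_comm, coeff_T_mul] at h2
  have h3 : (p : A[T;T⁻¹]).coeff 0 ∈ maximalIdeal A := (mem_PR 𝓕 _ p).mp hp 0
  have h4 : (r : A[T;T⁻¹]).coeff (0 - (-1)) ∈ maximalIdeal A := by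
    have := r.2 (0 - (-1))
    exact hF1 this
  have h5 : (1 : A[T;T⁻¹]).coeff 0 = 1 := by
    rw [← LaurentPolynomial.T_zero, LaurentPolynomial.T_apply]; simp
  rw [h5] at h2
  have h6 : (1 : A) ∈ maximalIdeal A := by
    rw [← h2]; exact Ideal.add_mem _ h3 h4
  exact (Ideal.ne_top_iff_one _).mp (maximalIdeal.isMaximal A).ne_top h6

theorem isLocalHom_algebraMap_localization_PL [IsLocalRing A] :
    IsLocalHom (algebraMap A (Localization.AtPrime (PL (maximalIdeal A)))) := by
  constructor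
  intro a ha
  rw [IsScalarTower.algebraMap_apply A A[T;T⁻¹] (Localization.AtPrime (PL (maximalIdeal A))) a,
    IsLocalization.AtPrime.isUnit_to_map_iff _ (PL (maximalIdeal A))] at ha
  by_contra hna
  apply ha
  change (algebraMap A A[T;T⁻¹]) a ∈ PL (maximalIdeal A)
  rw [mem_PL]
  intro n
  rw [LaurentPolynomial.algebraMap_apply, Algebra.algebraMap_self, RingHom.id_apply,
    LaurentPolynomial.C_apply]
  split_ifs
  · exact (mem_maximalIdeal a).mpr hna
  · exact zero_mem _

open Groth.Agent.H26.GorRegHom Groth.Agent.H26.GorQuot Groth.Agent.H26.GorFieldLocal in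
/-- if the associated graded ring is Gorenstein, so is the base ring -/
theorem isGorensteinLocalRing_of_gr [IsNoetherianRing A] [IsLocalRing A]
    (hsep : ⨅ n, 𝓕.F n = ⊥) [IsNoetherianRing 𝓕.extRees]
    (hG : LocCoh.IsGorensteinRing 𝓕.Gr) : LocCoh.IsGorensteinLocalRing A := by
  have h1 : LocCoh.IsGorensteinLocalRing (Localization.AtPrime (PR 𝓕 (maximalIdeal A))) :=
    Gor.gor_atPrime_of_sup_ne_top 𝓕.u (u_regular 𝓕) hG (PR 𝓕 (maximalIdeal A))
      (PR_sup_ne_top 𝓕 hsep)
  haveI : IsLocalization.AtPrime (Localization.AtPrime (PL (maximalIdeal A)))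
      (PR 𝓕 (maximalIdeal A)) :=
    IsLocalization.isLocalization_isLocalization_atPrime_isLocalization (Submonoid.powers 𝓕.u)
      (Localization.AtPrime (PL (maximalIdeal A))) (PL (maximalIdeal A))
  have h2 : LocCoh.IsGorensteinLocalRing (Localization.AtPrime (PL (maximalIdeal A))) :=
    isGorensteinLocalRing_of_ringEquiv
      (IsLocalization.algEquiv (PR 𝓕 (maximalIdeal A)).primeCompl
        (Localization.AtPrime (PR 𝓕 (maximalIdeal A)))
        (Localization.AtPrime (PL (maximalIdeal A)))).toRingEquiv h1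
  haveI : Module.Flat A (Localization.AtPrime (PL (maximalIdeal A))) :=
    Module.Flat.trans A A[T;T⁻¹] _
  haveI := isLocalHom_algebraMap_localization_PL (A := A)
  exact Groth.Agent.H26.GorDescent.isGorensteinLocalRing_of_flat_descent A
    (Localization.AtPrime (PL (maximalIdeal A))) h2

open Groth.Agent.H26.GorRegHom Groth.Agent.H26.GorQuot Groth.Agent.H26.GorFieldLocal in
/-- **Extended Rees algebra is Gorenstein iff the associated graded ring is** -/
theorem isGorensteinRing_extRees_iff_gr [IsNoetherianRing A] [IsLocalRing A]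
    (hsep : ⨅ n, 𝓕.F n = ⊥) (hfg : Algebra.FiniteType A 𝓕.rees) :
    LocCoh.IsGorensteinRing 𝓕.extRees ↔ LocCoh.IsGorensteinRing 𝓕.Gr := by
  constructor
  · intro h
    exact isGorensteinRing_quotient_span_singleton h 𝓕.u (u_regular 𝓕)
  · intro hG
    haveI := isNoetherianRing_extRees 𝓕 hfg
    have hA := isGorensteinLocalRing_of_gr 𝓕 hsep hG
    have hA' := isGorensteinRing_of_isGorensteinLocalRing A hA
    have hL := Gor.isGorensteinRing_laurent A hA'
    refine ⟨fun q _ => ?_⟩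
    by_cases hxq : 𝓕.u ∈ q
    · exact Gor.gor_atPrime_of_mem_of_quotient 𝓕.u (u_regular 𝓕) hG q hxq
    · exact Gor.gor_atPrime_of_away 𝓕.u hL q hxq

end Groth.Agent.H55.Rees
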