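import Groth.Agent.H55.Rees3
import Groth.Agent.H59.CMHyperFwd
import Groth.Agent.H29.ComplCat
import Groth.Agent.H72.CMFibC
import Groth.Agent.H72.CMLocal
import Groth.Agent.S2092

/-!
# Extended Rees algebra: Cohen–Macaulay iff the associated graded ring is (helper55)
-/

set_option autoImplicit false
set_option linter.style.haveILetI false
set_option linter.unusedSectionVars false
universe u

open Polynomial LaurentPolynomial FiltBl IsLocalRing

namespace Groth.Agent.H55.CM

open Groth.Agent.H49 Groth.Agent.H59.CMHyperFwd Groth.Agent.H29.ComplCat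

set_option backward.isDefEq.respectTransparency false in
/-- Cohen–Macaulayness at a prime containing a regular element can be tested modulo it -/
theorem cm_atPrime_iff_quotient {S : Type u} [CommRing S] [IsNoetherianRing S]
    (x : S) (hx : IsSMulRegular S x) (I : Ideal S)
    (hI : I = Ideal.span {x}) (Q : Ideal (S ⧸ I)) [Q.IsPrime] :
    LocCoh.IsCohenMacaulayLocalRing (Localization.AtPrime (Q.comap (Ideal.Quotient.mk I))) ↔
      LocCoh.IsCohenMacaulayLocalRing (Localization.AtPrime Q) := by
  set P : Ideal S := Q.comap (Ideal.Quotient.mk I) with hP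
  haveI : P.IsPrime := Ideal.comap_isPrime _ Q
  have hloc : IsLocalization (Algebra.algebraMapSubmonoid (S ⧸ I) P.primeCompl)
      (Localization.AtPrime P ⧸ I.map (algebraMap S (Localization.AtPrime P))) := inferInstance
  have hsub : Algebra.algebraMapSubmonoid (S ⧸ I) P.primeCompl = Q.primeCompl := by
    ext y
    obtain ⟨y, rfl⟩ := Ideal.Quotient.mk_surjective y
    constructor
    · rintro ⟨z, hz, hzy⟩
      rw [← hzy]
      exact hz
    · intro hy
      exact ⟨y, hy, rfl⟩
  haveI : IsLocalization.AtPrime
      (Localization.AtPrime P ⧸ I.map (algebraMap S (Localization.AtPrime P))) Q := by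
    show IsLocalization Q.primeCompl _
    rw [← hsub]
    exact hloc
  let e : Localization.AtPrime Q ≃+*
      (Localization.AtPrime P ⧸ I.map (algebraMap S (Localization.AtPrime P))) :=
    (IsLocalization.algEquiv Q.primeCompl (Localization.AtPrime Q)
      (Localization.AtPrime P ⧸ I.map (algebraMap S (Localization.AtPrime P)))).toRingEquiv
  have hmap : I.map (algebraMap S (Localization.AtPrime P)) =
      Ideal.span {algebraMap S (Localization.AtPrime P) x} := by
    rw [hI, Ideal.map_span, Set.image_singleton]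
  haveI : IsNoetherianRing (Localization.AtPrime P) :=
    IsLocalization.isNoetherianRing P.primeCompl _ inferInstance
  have hxP : x ∈ P := by
    rw [hP, Ideal.mem_comap]
    have : Ideal.Quotient.mk I x = 0 := by
      rw [Ideal.Quotient.eq_zero_iff_mem, hI]
      exact Ideal.mem_span_singleton_self x
    rw [this]
    exact Q.zero_mem
  have hxm : algebraMap S (Localization.AtPrime P) x ∈ maximalIdeal (Localization.AtPrime P) := by
    rw [← Localization.AtPrime.map_eq_maximalIdeal]
    exact Ideal.mem_map_of_mem _ hxP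
  have hreg : IsSMulRegular (Localization.AtPrime P) (algebraMap S (Localization.AtPrime P) x) :=
    IsSMulRegular.of_flat hx
  constructor
  · intro h
    have h1 := isCM_quotient_regular (Localization.AtPrime P) _ hxm hreg h
    exact isCohenMacaulayLocalRing_of_ringEquiv ((Ideal.quotEquivOfEq hmap.symm).trans e.symm) h1
  · intro h
    have h1 := isCohenMacaulayLocalRing_of_ringEquiv (e.trans (Ideal.quotEquivOfEq hmap)) h
    exact isCM_of_quotient_regular (Localization.AtPrime P) _ hxm hreg h1

/-- `S` Noetherian, `x` regular, `S/(x)` Cohen–Macaulay, `x ∈ q`: then `S_q` is Cohen–Macaulay -/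
theorem cm_atPrime_of_mem_of_quotient {S : Type u} [CommRing S] [IsNoetherianRing S]
    (x : S) (hx : IsSMulRegular S x)
    (hq : LocCoh.IsCohenMacaulayRing (S ⧸ Ideal.span {x})) (q : Ideal S) [q.IsPrime]
    (hxq : x ∈ q) :
    LocCoh.IsCohenMacaulayLocalRing (Localization.AtPrime q) := by
  have hker : RingHom.ker (Ideal.Quotient.mk (Ideal.span {x})) ≤ q := by
    rw [Ideal.mk_ker, Ideal.span_le]
    intro y hy
    rw [Set.mem_singleton_iff] at hy
    rw [hy]
    exact hxq
  haveI : (q.map (Ideal.Quotient.mk (Ideal.span {x}))).IsPrime :=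
    Ideal.map_isPrime_of_surjective Ideal.Quotient.mk_surjective hker
  have hqq : q = (q.map (Ideal.Quotient.mk (Ideal.span {x}))).comap
      (Ideal.Quotient.mk (Ideal.span {x})) := by
    rw [Ideal.comap_map_of_surjective _ Ideal.Quotient.mk_surjective]
    rw [← RingHom.ker_eq_comap_bot]
    exact (sup_eq_left.mpr hker).symm
  have h2 := (cm_atPrime_iff_quotient x hx _ rfl
    (q.map (Ideal.Quotient.mk (Ideal.span {x})))).mpr
    (hq.isCohenMacaulayLocalRing_localization _)
  have hcongr : ∀ (q' : Ideal S) [q'.IsPrime], q = q' →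
      LocCoh.IsCohenMacaulayLocalRing (Localization.AtPrime q') →
      LocCoh.IsCohenMacaulayLocalRing (Localization.AtPrime q) := by
    intro q' _ hqq' h'
    subst hqq'
    exact h'
  exact hcongr _ hqq h2

/-- the quotient of a Cohen–Macaulay ring by a regular element is Cohen–Macaulay -/
theorem isCohenMacaulayRing_quotient_span_singleton {S : Type u} [CommRing S]
    (hS : LocCoh.IsCohenMacaulayRing S) (x : S) (hx : IsSMulRegular S x) :
    LocCoh.IsCohenMacaulayRing (S ⧸ Ideal.span {x}) := by
  haveI : IsNoetherianRing S := hS.toIsNoetherian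
  refine ⟨fun Q _ => ?_⟩
  exact (cm_atPrime_iff_quotient x hx _ rfl Q).mp (hS.isCohenMacaulayLocalRing_localization _)

/-- if `M⁻¹R` is Cohen–Macaulay then `R_p` is Cohen–Macaulay for every prime `p` disjoint
from `M` -/
theorem cm_atPrime_of_isLocalization {R S' : Type u} [CommRing R] [CommRing S'] [Algebra R S']
    (M : Submonoid R) [IsLocalization M S'] (hS' : LocCoh.IsCohenMacaulayRing S') (p : Ideal R)
    [p.IsPrime] (hle : M ≤ p.primeCompl) :
    LocCoh.IsCohenMacaulayLocalRing (Localization.AtPrime p) := by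
  letI : Algebra S' (Localization.AtPrime p) :=
    IsLocalization.localizationAlgebraOfSubmonoidLe S' (Localization.AtPrime p)
      M p.primeCompl hle
  haveI : IsScalarTower R S' (Localization.AtPrime p) :=
    IsLocalization.localization_isScalarTower_of_submonoid_le S' (Localization.AtPrime p)
      M p.primeCompl hle
  haveI : IsLocalization (p.primeCompl.map (algebraMap R S')) (Localization.AtPrime p) :=
    IsLocalization.isLocalization_of_submonoid_le S' (Localization.AtPrime p)
      M p.primeCompl hle
  have h1 : LocCoh.IsCohenMacaulayRing (Localization.AtPrime p) :=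
    Groth.Agent.H59.CMAt.isCohenMacaulayRing_of_isLocalization
      (p.primeCompl.map (algebraMap R S')) _ hS'
  exact Groth.Agent.H72.CMFibC.isCohenMacaulayLocalRing_of_isCohenMacaulayRing _ h1

/-- if `R[1/x]` is Cohen–Macaulay then `R_p` is Cohen–Macaulay for every prime `p` not
containing `x` -/
theorem cm_atPrime_of_away {R S' : Type u} [CommRing R] [CommRing S'] [Algebra R S'] (x : R)
    [IsLocalization.Away x S'] (hS' : LocCoh.IsCohenMacaulayRing S') (p : Ideal R) [p.IsPrime]
    (hxp : x ∉ p) : LocCoh.IsCohenMacaulayLocalRing (Localization.AtPrime p) := by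
  have hle : Submonoid.powers x ≤ p.primeCompl := by
    rintro _ ⟨n, rfl⟩
    exact fun h => hxp (Ideal.IsPrime.mem_of_pow_mem inferInstance n h)
  exact cm_atPrime_of_isLocalization (Submonoid.powers x) hS' p hle

/-- `S` Noetherian, `x` regular, `S/(x)` Cohen–Macaulay, `P + (x) ≠ S`: then `S_P` is
Cohen–Macaulay -/
theorem cm_atPrime_of_sup_ne_top {S : Type u} [CommRing S] [IsNoetherianRing S]
    (x : S) (hx : IsSMulRegular S x)
    (hq : LocCoh.IsCohenMacaulayRing (S ⧸ Ideal.span {x})) (P : Ideal S) [P.IsPrime]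
    (hP : P ⊔ Ideal.span {x} ≠ ⊤) :
    LocCoh.IsCohenMacaulayLocalRing (Localization.AtPrime P) := by
  obtain ⟨M, hM, hle⟩ := Ideal.exists_le_maximal _ hP
  haveI := hM.isPrime
  have hxM : x ∈ M := hle (Ideal.mem_sup_right (Ideal.subset_span rfl))
  have hPM : P ≤ M := le_sup_left.trans hle
  have h1 := cm_atPrime_of_mem_of_quotient x hx hq M hxM
  haveI : IsNoetherianRing (Localization.AtPrime M) :=
    IsLocalization.isNoetherianRing M.primeCompl _ inferInstance
  have h2 := Groth.Agent.H72.CMLocal.isCohenMacaulayRing_of_local _ h1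
  refine cm_atPrime_of_isLocalization M.primeCompl h2 P ?_
  intro y hy hyP
  exact hy (hPM hyP)

/-- the Laurent polynomial ring over a Cohen–Macaulay ring is Cohen–Macaulay -/
theorem isCohenMacaulayRing_laurent (A : Type u) [CommRing A]
    (hA : LocCoh.IsCohenMacaulayRing A) : LocCoh.IsCohenMacaulayRing A[T;T⁻¹] := by
  have h1 : LocCoh.IsCohenMacaulayRing (MvPolynomial (Fin 1) A) := Groth.Agent.S2092.result 1
  have h2 : LocCoh.IsCohenMacaulayRing A[X] :=
    isCohenMacaulayRing_of_ringEquiv (MvPolynomial.uniqueAlgEquiv A (Fin 1)).toRingEquiv h1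
  exact Groth.Agent.H59.CMAt.isCohenMacaulayRing_of_isLocalization
    (Submonoid.powers (X : A[X])) _ h2

end Groth.Agent.H55.CM

namespace Groth.Agent.H55.Rees

variable {A : Type u} [CommRing A] (𝓕 : IdealFiltration A)

/-- if the associated graded ring is Cohen–Macaulay, so is the base ring -/
theorem isCohenMacaulayLocalRing_of_gr [IsNoetherianRing A] [IsLocalRing A]
    (hsep : ⨅ n, 𝓕.F n = ⊥) [IsNoetherianRing 𝓕.extRees]
    (hG : LocCoh.IsCohenMacaulayRing 𝓕.Gr) : LocCoh.IsCohenMacaulayLocalRing A := by
  have h1 : LocCoh.IsCohenMacaulayLocalRing (Localization.AtPrime (PR 𝓕 (maximalIdeal A))) :=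
    CM.cm_atPrime_of_sup_ne_top 𝓕.u (u_regular 𝓕) hG (PR 𝓕 (maximalIdeal A))
      (PR_sup_ne_top 𝓕 hsep)
  haveI : IsLocalization.AtPrime (Localization.AtPrime (PL (maximalIdeal A)))
      (PR 𝓕 (maximalIdeal A)) :=
    IsLocalization.isLocalization_isLocalization_atPrime_isLocalization (Submonoid.powers 𝓕.u)
      (Localization.AtPrime (PL (maximalIdeal A))) (PL (maximalIdeal A))
  have h2 : LocCoh.IsCohenMacaulayLocalRing (Localization.AtPrime (PL (maximalIdeal A))) :=
    Groth.Agent.H49.isCohenMacaulayLocalRing_of_ringEquiv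
      (IsLocalization.algEquiv (PR 𝓕 (maximalIdeal A)).primeCompl
        (Localization.AtPrime (PR 𝓕 (maximalIdeal A)))
        (Localization.AtPrime (PL (maximalIdeal A)))).toRingEquiv h1
  haveI : Module.Flat A (Localization.AtPrime (PL (maximalIdeal A))) :=
    Module.Flat.trans A A[T;T⁻¹] _
  haveI := isLocalHom_algebraMap_localization_PL (A := A)
  haveI : IsNoetherianRing (Localization.AtPrime (PL (maximalIdeal A))) := h2.toIsNoetherian
  exact ((Groth.Agent.H72.FlatCM.isCohenMacaulayLocalRing_iff_of_flat (A := A)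
    (B := Localization.AtPrime (PL (maximalIdeal A)))).mp h2).1

/-- **Extended Rees algebra is Cohen–Macaulay iff the associated graded ring is** -/
theorem isCohenMacaulayRing_extRees_iff_gr [IsNoetherianRing A] [IsLocalRing A]
    (hsep : ⨅ n, 𝓕.F n = ⊥) (hfg : Algebra.FiniteType A 𝓕.rees) :
    LocCoh.IsCohenMacaulayRing 𝓕.extRees ↔ LocCoh.IsCohenMacaulayRing 𝓕.Gr := by
  constructor
  · intro h
    exact CM.isCohenMacaulayRing_quotient_span_singleton h 𝓕.u (u_regular 𝓕)
  · intro hG
    haveI := isNoetherianRing_extRees 𝓕 hfg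
    have hA := isCohenMacaulayLocalRing_of_gr 𝓕 hsep hG
    have hA' := Groth.Agent.H72.CMLocal.isCohenMacaulayRing_of_local A hA
    have hL := CM.isCohenMacaulayRing_laurent A hA'
    refine ⟨fun q _ => ?_⟩
    by_cases hxq : 𝓕.u ∈ q
    · exact CM.cm_atPrime_of_mem_of_quotient 𝓕.u (u_regular 𝓕) hG q hxq
    · exact CM.cm_atPrime_of_away 𝓕.u hL q hxq

end Groth.Agent.H55.Rees
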