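import Groth.Agent.H55.ReesCM
import Groth.Agent.H26.FlatFibreLocal
import Groth.Agent.H26.CMFlat

/-!
# Local properties along localizations and flat maps, and Laurent polynomial rings (helper55)
-/

set_option autoImplicit false
set_option linter.style.haveILetI false
set_option linter.unusedSectionVars false
universe u

open Polynomial LaurentPolynomial FiltBl IsLocalRing TensorProduct

namespace Groth.Agent.H55.LocProp

variable (Pr : ∀ (X : Type u) [CommRing X], Prop)

/-- if the local rings of `M⁻¹R` at the primes over `q` satisfy `Pr`, so does `R_q`, for `q`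
disjoint from `M` -/
theorem atPrime_of_isLocalization
    (hiso : ∀ (X Y : Type u) [CommRing X] [CommRing Y], (X ≃+* Y) → Pr X → Pr Y)
    {R S : Type u} [CommRing R] [CommRing S] [Algebra R S] (M : Submonoid R) [IsLocalization M S]
    (q : Ideal R) [hq : q.IsPrime]
    (hS : ∀ (Q : Ideal S) [Q.IsPrime], Q.comap (algebraMap R S) = q →
      Pr (Localization.AtPrime Q))
    (hd : Disjoint (M : Set R) (q : Set R)) :
    Pr (Localization.AtPrime q) := by
  haveI hQ : (q.map (algebraMap R S)).IsPrime :=
    IsLocalization.isPrime_of_isPrime_disjoint M S q hq hd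
  have hcm : (q.map (algebraMap R S)).comap (algebraMap R S) = q :=
    IsLocalization.under_map_of_isPrime_disjoint M S hq hd
  haveI : ((q.map (algebraMap R S)).comap (algebraMap R S)).IsPrime := Ideal.comap_isPrime _ _
  haveI : IsLocalization.AtPrime (Localization.AtPrime (q.map (algebraMap R S)))
      ((q.map (algebraMap R S)).comap (algebraMap R S)) :=
    IsLocalization.isLocalization_isLocalization_atPrime_isLocalization M _ _
  have h1 : Pr (Localization.AtPrime ((q.map (algebraMap R S)).comap (algebraMap R S))) :=
    hiso _ _ (IsLocalization.algEquiv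
      ((q.map (algebraMap R S)).comap (algebraMap R S)).primeCompl
      (Localization.AtPrime (q.map (algebraMap R S)))
      (Localization.AtPrime ((q.map (algebraMap R S)).comap (algebraMap R S)))).toRingEquiv
      (hS _ hcm)
  have hcongr : ∀ (q' : Ideal R) [q'.IsPrime], q' = q →
      Pr (Localization.AtPrime q') → Pr (Localization.AtPrime q) := by
    intro q' _ h h'
    subst h
    exact h'
  exact hcongr _ hcm h1

/-- if `R_q` satisfies `Pr` for the contraction `q` of `Q`, then `(M⁻¹R)_Q` satisfies `Pr` -/
theorem atPrime_isLocalization_of_comap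
    (hiso : ∀ (X Y : Type u) [CommRing X] [CommRing Y], (X ≃+* Y) → Pr X → Pr Y)
    {R S : Type u} [CommRing R] [CommRing S] [Algebra R S] (M : Submonoid R) [IsLocalization M S]
    (Q : Ideal S) [Q.IsPrime]
    (h : Pr (Localization.AtPrime (Q.comap (algebraMap R S)))) :
    Pr (Localization.AtPrime Q) := by
  haveI : IsLocalization.AtPrime (Localization.AtPrime Q) (Q.comap (algebraMap R S)) :=
    IsLocalization.isLocalization_isLocalization_atPrime_isLocalization M _ _
  exact hiso _ _ (IsLocalization.algEquiv (Q.comap (algebraMap R S)).primeCompl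
    (Localization.AtPrime (Q.comap (algebraMap R S))) (Localization.AtPrime Q)).toRingEquiv h

/-- per-prime flat ascent of a local property -/
theorem atPrime_of_flat_of_fibres
    (hiso : ∀ (X Y : Type u) [CommRing X] [CommRing Y], (X ≃+* Y) → Pr X → Pr Y)
    (hflat : ∀ (A B : Type u) [CommRing A] [CommRing B] [Algebra A B] [IsLocalRing A]
      [IsLocalRing B] [IsNoetherianRing A] [IsNoetherianRing B] [IsLocalHom (algebraMap A B)]
      [Module.Flat A B], Pr A → Pr (B ⧸ (maximalIdeal A).map (algebraMap A B)) → Pr B)
    (R S : Type u) [CommRing R] [CommRing S] [Algebra R S] [IsNoetherianRing R]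
    [IsNoetherianRing S] [Module.Flat R S]
    (r : Ideal S) [hr : r.IsPrime]
    (hR : Pr (Localization.AtPrime (r.under R)))
    (hfib : ∀ (q : Ideal ((r.under R).Fiber S)) [q.IsPrime], Pr (Localization.AtPrime q)) :
    Pr (Localization.AtPrime r) := by
  set p : Ideal R := r.under R with hp
  have hpp : p.IsPrime := inferInstance
  let q0 := PrimeSpectrum.preimageEquivFiber R S ⟨p, hpp⟩ ⟨⟨r, hr⟩, rfl⟩
  have hq0 : q0.asIdeal.comap (Algebra.TensorProduct.includeRight (R := R) (A := p.ResidueField)
      (B := S)) = r := by
    have := (PrimeSpectrum.preimageEquivFiber R S ⟨p, hpp⟩).left_inv ⟨⟨r, hr⟩, rfl⟩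
    exact congrArg (fun x => x.1.asIdeal) this
  have key := Groth.Agent.H26.FlatFibreLocal.localization_comap_includeRight Pr hiso hflat R S p
    hR q0.asIdeal (hfib q0.asIdeal)
  have hgen : ∀ (r' : Ideal S) (hr' : r'.IsPrime),
      q0.asIdeal.comap (Algebra.TensorProduct.includeRight (R := R) (A := p.ResidueField)
        (B := S)) = r' → Pr (Localization.AtPrime r') := by
    intro r' hr' e
    subst e
    exact key
  exact hgen r hr hq0

/-- per-prime flat descent of a local property -/
theorem atPrime_under_of_flat
    (hdesc : ∀ (A B : Type u) [CommRing A] [CommRing B] [Algebra A B] [IsLocalRing A]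
      [IsLocalRing B] [IsNoetherianRing A] [IsNoetherianRing B] [IsLocalHom (algebraMap A B)]
      [Module.Flat A B], Pr B → Pr A)
    (R S : Type u) [CommRing R] [CommRing S] [Algebra R S] [IsNoetherianRing R]
    [IsNoetherianRing S] [Module.Flat R S]
    (r : Ideal S) [hr : r.IsPrime] (h : Pr (Localization.AtPrime r)) :
    Pr (Localization.AtPrime (r.under R)) := by
  set p : Ideal R := r.under R with hp
  haveI : r.LiesOver p := ⟨rfl⟩
  let _ := Localization.AtPrime.algebraOfLiesOver p r
  have hloc : IsLocalHom (algebraMap (Localization.AtPrime p) (Localization.AtPrime r)) :=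
    Localization.isLocalHom_localRingHom p r (algebraMap R S) Ideal.LiesOver.over
  have hflatS : Module.Flat S (Localization.AtPrime r) := IsLocalization.flat _ r.primeCompl
  have hflatR : Module.Flat R (Localization.AtPrime r) := Module.Flat.trans R S _
  have hflat : Module.Flat (Localization.AtPrime p) (Localization.AtPrime r) :=
    (Module.flat_iff_of_isLocalization (Localization.AtPrime p) p.primeCompl _).mpr hflatR
  haveI : IsNoetherianRing (Localization.AtPrime p) :=
    IsLocalization.isNoetherianRing p.primeCompl _ inferInstance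
  haveI : IsNoetherianRing (Localization.AtPrime r) :=
    IsLocalization.isNoetherianRing r.primeCompl _ inferInstance
  exact hdesc _ _ h

end Groth.Agent.H55.LocProp

namespace Groth.Agent.H55.Rees

variable {A : Type u} [CommRing A]

instance PL_isPrime' (q : Ideal A) [q.IsPrime] : (PL q).IsPrime := by
  haveI : IsDomain (A ⧸ q) := Ideal.Quotient.isDomain q
  exact RingHom.ker_isPrime _

theorem PL_under (q : Ideal A) : (PL q).under A = q := by
  ext a
  rw [Ideal.under_def, Ideal.mem_comap, mem_PL]
  constructor
  · intro h
    have := h 0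
    rwa [LaurentPolynomial.algebraMap_apply, Algebra.algebraMap_self, RingHom.id_apply,
      LaurentPolynomial.C_apply, if_pos rfl] at this
  · intro h n
    rw [LaurentPolynomial.algebraMap_apply, Algebra.algebraMap_self, RingHom.id_apply,
      LaurentPolynomial.C_apply]
    split_ifs
    · exact h
    · exact zero_mem _

/-- the fibres of the Laurent polynomial ring are Laurent polynomial rings over fields -/
noncomputable def fiberEquiv (q : Ideal A) [q.IsPrime] :
    q.Fiber A[T;T⁻¹] ≃+* (q.ResidueField)[T;T⁻¹] :=
  (AddMonoidAlgebra.scalarTensorEquiv A q.ResidueField (M := ℤ)).toRingEquiv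

theorem isCohenMacaulayRing_fiber (q : Ideal A) [q.IsPrime] :
    LocCoh.IsCohenMacaulayRing (q.Fiber A[T;T⁻¹]) := by
  have h1 : LocCoh.IsCohenMacaulayRing q.ResidueField :=
    Groth.Agent.H26.CMFlat.isCohenMacaulayRing_of_isRegularRing _
  have h2 := CM.isCohenMacaulayRing_laurent _ h1
  exact Groth.Agent.H59.CMHyperFwd.isCohenMacaulayRing_of_ringEquiv (fiberEquiv q).symm h2

end Groth.Agent.H55.Rees
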