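import Groth.Agent.H55.ReesLoc

/-!
# The punctured spectrum of the extended Rees algebra is Cohen–Macaulay iff ... (helper55)
-/

set_option autoImplicit false
set_option linter.style.haveILetI false
set_option linter.unusedSectionVars false
universe u

open Polynomial LaurentPolynomial FiltBl IsLocalRing TensorProduct

namespace Groth.Agent.H55.CM

theorem cm_hiso : ∀ (X Y : Type u) [CommRing X] [CommRing Y], (X ≃+* Y) →
    LocCoh.IsCohenMacaulayLocalRing X → LocCoh.IsCohenMacaulayLocalRing Y :=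
  fun _ _ _ _ e h => Groth.Agent.H49.isCohenMacaulayLocalRing_of_ringEquiv e h

theorem cm_hflat : ∀ (A B : Type u) [CommRing A] [CommRing B] [Algebra A B] [IsLocalRing A]
    [IsLocalRing B] [IsNoetherianRing A] [IsNoetherianRing B] [IsLocalHom (algebraMap A B)]
    [Module.Flat A B], LocCoh.IsCohenMacaulayLocalRing A →
    LocCoh.IsCohenMacaulayLocalRing (B ⧸ (maximalIdeal A).map (algebraMap A B)) →
    LocCoh.IsCohenMacaulayLocalRing B :=
  fun A B _ _ _ _ _ _ _ _ _ hA hB =>
    (Groth.Agent.H72.FlatCM.isCohenMacaulayLocalRing_iff_of_flat (A := A) (B := B)).mpr ⟨hA, hB⟩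

theorem cm_hdesc : ∀ (A B : Type u) [CommRing A] [CommRing B] [Algebra A B] [IsLocalRing A]
    [IsLocalRing B] [IsNoetherianRing A] [IsNoetherianRing B] [IsLocalHom (algebraMap A B)]
    [Module.Flat A B], LocCoh.IsCohenMacaulayLocalRing B → LocCoh.IsCohenMacaulayLocalRing A :=
  fun A B _ _ _ _ _ _ _ _ _ hB =>
    ((Groth.Agent.H72.FlatCM.isCohenMacaulayLocalRing_iff_of_flat (A := A) (B := B)).mp hB).1

theorem cm_congr {S : Type u} [CommRing S] (q q' : Ideal S) [q.IsPrime] [q'.IsPrime]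
    (h : q = q') : LocCoh.IsCohenMacaulayLocalRing (Localization.AtPrime q) ↔
      LocCoh.IsCohenMacaulayLocalRing (Localization.AtPrime q') := by
  subst h
  exact Iff.rfl

/-- Cohen–Macaulayness at a prime containing a regular element `x`, tested in any presentation
`G` of the quotient by `x` -/
theorem cm_atPrime_comap_iff {S G : Type u} [CommRing S] [IsNoetherianRing S] [CommRing G]
    (x : S) (hx : IsSMulRegular S x) (φ : S →+* G) (hφ : Function.Surjective φ)
    (hker : RingHom.ker φ = Ideal.span {x}) (p : Ideal G) [p.IsPrime] :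
    LocCoh.IsCohenMacaulayLocalRing (Localization.AtPrime (p.comap φ)) ↔
      LocCoh.IsCohenMacaulayLocalRing (Localization.AtPrime p) := by
  let e : (S ⧸ Ideal.span {x}) ≃+* G :=
    (Ideal.quotEquivOfEq hker.symm).trans (RingHom.quotientKerEquivOfSurjective hφ)
  have he : ∀ s, e (Ideal.Quotient.mk _ s) = φ s := by
    intro s
    simp [e]
  have hQ : (p.comap e).comap (Ideal.Quotient.mk (Ideal.span {x})) = p.comap φ := by
    ext s
    simp only [Ideal.mem_comap]
    rw [← he s]
  have h1 := cm_atPrime_iff_quotient x hx _ rfl (p.comap e)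
  let e' : Localization.AtPrime (p.comap e) ≃+* Localization.AtPrime p :=
    IsLocalization.ringEquivOfRingEquiv
      (Localization.AtPrime (p.comap e)) (Localization.AtPrime p) e (e.map_primeCompl_comap_eq p)
  rw [← cm_congr _ _ hQ, h1]
  exact ⟨fun h => cm_hiso _ _ e' h, fun h => cm_hiso _ _ e'.symm h⟩

end Groth.Agent.H55.CM

namespace Groth.Agent.H55.Rees

variable {A : Type u} [CommRing A] (𝓕 : IdealFiltration A)

instance PR_isPrime' (q : Ideal A) [q.IsPrime] : (PR 𝓕 q).IsPrime :=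
  Ideal.comap_isPrime _ _

/-- the generators of the ideal `R_+ R'` of the extended Rees algebra -/
def RpSet : Set 𝓕.extRees :=
  {x : 𝓕.extRees | ∃ n : ℕ, 0 < n ∧ ∃ a ∈ 𝓕.F n,
      (x : LaurentPolynomial A) = LaurentPolynomial.C a * LaurentPolynomial.T (n : ℤ)}

theorem not_F_one_le_under (P : Ideal 𝓕.extRees) [hPp : P.IsPrime] (hu : 𝓕.u ∉ P)
    (hP : ¬ Ideal.span (RpSet 𝓕) ≤ P) : ¬ 𝓕.F 1 ≤ P.under A := by
  intro hle
  apply hP
  rw [Ideal.span_le]
  rintro x ⟨n, hn, a, ha, hx⟩
  have h1 : 𝓕.u ^ n * x = algebraMap A 𝓕.extRees a := by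
    apply Subtype.ext
    rw [Subalgebra.coe_mul, Subalgebra.coe_pow, u_coe, hx, T_pow, mul_comm (LaurentPolynomial.C a),
      ← mul_assoc, ← T_add, Subalgebra.coe_algebraMap, LaurentPolynomial.algebraMap_apply,
      Algebra.algebraMap_self, RingHom.id_apply]
    have : (n : ℤ) * -1 + (n : ℤ) = 0 := by ring
    rw [this, T_zero, one_mul]
  have h2 : algebraMap A 𝓕.extRees a ∈ P := hle (𝓕.antitone hn ha)
  rw [← h1] at h2
  rcases hPp.mem_or_mem h2 with h3 | h3
  · exact absurd (hPp.mem_of_pow_mem n h3) hu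
  · exact h3

theorem not_Rp_le_PR (q : Ideal A) (hq : ¬ 𝓕.F 1 ≤ q) :
    ¬ Ideal.span (RpSet 𝓕) ≤ PR 𝓕 q := by
  obtain ⟨a, ha, haq⟩ := SetLike.not_le_iff_exists.mp hq
  intro hle
  have hmem : mono 𝓕 ((1 : ℕ) : ℤ) a (by simpa using ha) ∈ RpSet 𝓕 := ⟨1, one_pos, a, ha, rfl⟩
  have h1 := hle (Ideal.subset_span hmem)
  rw [mem_PR] at h1
  have h2 := h1 ((1 : ℕ) : ℤ)
  rw [mono_coe, coeff_C_mul_T, if_pos rfl] at h2
  exact haq h2

theorem isNoetherianRing_laurent_of_extRees [IsNoetherianRing 𝓕.extRees] :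
    IsNoetherianRing A[T;T⁻¹] :=
  IsLocalization.isNoetherianRing (Submonoid.powers 𝓕.u) _ inferInstance

/-- Cohen–Macaulayness of `R'` at the prime `q A[T,T⁻¹] ∩ R'` descends to `A_q` -/
theorem cm_localization_of_PR [IsNoetherianRing A] [IsNoetherianRing 𝓕.extRees] (q : Ideal A)
    [q.IsPrime] (h : LocCoh.IsCohenMacaulayLocalRing (Localization.AtPrime (PR 𝓕 q))) :
    LocCoh.IsCohenMacaulayLocalRing (Localization.AtPrime q) := by
  haveI : IsNoetherianRing A[T;T⁻¹] := isNoetherianRing_laurent_of_extRees 𝓕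
  have h1 : LocCoh.IsCohenMacaulayLocalRing (Localization.AtPrime (PL q)) :=
    LocProp.atPrime_isLocalization_of_comap _ CM.cm_hiso (Submonoid.powers 𝓕.u) (PL q) h
  have h2 := LocProp.atPrime_under_of_flat _ CM.cm_hdesc A A[T;T⁻¹] (PL q) h1
  exact (CM.cm_congr _ _ (PL_under q)).mp h2

/-- Cohen–Macaulayness of `R'` at a prime not containing `u` follows from that of `A` at the
contraction -/
theorem cm_atPrime_of_not_mem [IsNoetherianRing A] [IsNoetherianRing 𝓕.extRees]
    (P : Ideal 𝓕.extRees) [hPp : P.IsPrime] (hu : 𝓕.u ∉ P)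
    (hA : LocCoh.IsCohenMacaulayLocalRing (Localization.AtPrime (P.under A))) :
    LocCoh.IsCohenMacaulayLocalRing (Localization.AtPrime P) := by
  haveI : IsNoetherianRing A[T;T⁻¹] := isNoetherianRing_laurent_of_extRees 𝓕
  have hd : Disjoint (Submonoid.powers 𝓕.u : Set 𝓕.extRees) (P : Set 𝓕.extRees) := by
    rw [Set.disjoint_left]
    rintro _ ⟨n, rfl⟩ h
    exact hu (hPp.mem_of_pow_mem n h)
  refine LocProp.atPrime_of_isLocalization _ CM.cm_hiso (Submonoid.powers 𝓕.u) (S := A[T;T⁻¹]) P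
    ?_ hd
  intro Q _ hQ
  refine LocProp.atPrime_of_flat_of_fibres _ CM.cm_hiso CM.cm_hflat A A[T;T⁻¹] Q ?_ ?_
  · have hQA : Q.under A = P.under A := by
      rw [← hQ, Ideal.under_def, Ideal.under_def, Ideal.comap_comap,
        ← IsScalarTower.algebraMap_eq]
    exact (CM.cm_congr _ _ hQA).mpr hA
  · intro q' _
    exact (isCohenMacaulayRing_fiber _).isCohenMacaulayLocalRing_localization q'

/-- **Punctured spectrum of the extended Rees algebra is Cohen–Macaulay iff ...** -/
theorem punctured_cm_iff [IsNoetherianRing A] [IsLocalRing A]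
    (hfg : Algebra.FiniteType A 𝓕.rees)
    (G : Type u) [CommRing G] (φ : 𝓕.extRees →+* G) (hφ : Function.Surjective φ)
    (hker : RingHom.ker φ = Ideal.span {𝓕.u}) :
    (∀ (P : Ideal 𝓕.extRees) [P.IsPrime], ¬ Ideal.span (RpSet 𝓕) ≤ P →
        LocCoh.IsCohenMacaulayLocalRing (Localization.AtPrime P)) ↔
      ((∀ (p : Ideal G) [p.IsPrime], ¬ Ideal.map φ (Ideal.span (RpSet 𝓕)) ≤ p →
          LocCoh.IsCohenMacaulayLocalRing (Localization.AtPrime p)) ∧
        (∀ (q : Ideal A) [q.IsPrime], ¬ 𝓕.F 1 ≤ q →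
            LocCoh.IsCohenMacaulayLocalRing (Localization.AtPrime q))) := by
  haveI := isNoetherianRing_extRees 𝓕 hfg
  constructor
  · intro h
    constructor
    · intro p _ hp
      apply (CM.cm_atPrime_comap_iff 𝓕.u (u_regular 𝓕) φ hφ hker p).mp
      apply h
      intro hle
      exact hp ((Ideal.map_mono hle).trans Ideal.map_comap_le)
    · intro q _ hq
      exact cm_localization_of_PR 𝓕 q (h _ (not_Rp_le_PR 𝓕 q hq))
  · rintro ⟨hG, hA⟩ P hPp hP
    by_cases hu : 𝓕.u ∈ P
    · have hkerP : RingHom.ker φ ≤ P := by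
        rw [hker, Ideal.span_le]
        intro y hy
        rw [Set.mem_singleton_iff] at hy
        rw [hy]
        exact hu
      haveI : (P.map φ).IsPrime := Ideal.map_isPrime_of_surjective hφ hkerP
      have hPP : (P.map φ).comap φ = P := by
        rw [Ideal.comap_map_of_surjective _ hφ, ← RingHom.ker_eq_comap_bot]
        exact sup_eq_left.mpr hkerP
      have h1 : ¬ Ideal.map φ (Ideal.span (RpSet 𝓕)) ≤ P.map φ := by
        intro hle
        apply hP
        have h2 := Ideal.comap_mono (f := φ) hle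
        rw [hPP] at h2
        exact Ideal.le_comap_map.trans h2
      have h3 := (CM.cm_atPrime_comap_iff 𝓕.u (u_regular 𝓕) φ hφ hker (P.map φ)).mpr
        (hG _ h1)
      exact (CM.cm_congr _ _ hPP).mp h3
    · exact cm_atPrime_of_not_mem 𝓕 P hu (hA _ (not_F_one_le_under 𝓕 P hu hP))

end Groth.Agent.H55.Rees
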