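import Groth.Agent.H55.ReesPunct
import Groth.Agent.H26.SkFlat
import Groth.Agent.H26.SkTensor
import Groth.Agent.H14.SkDescent

/-!
# Serre's condition `(S_2)` for the extended Rees algebra (helper55)
-/

set_option autoImplicit false
set_option linter.style.haveILetI false
set_option linter.unusedSectionVars false
universe u

open Polynomial LaurentPolynomial FiltBl IsLocalRing TensorProduct Pointwise

namespace Groth.Agent.H55.Sk

open Groth.Agent.H26.SkFlat

/-- `(S_{k+1})` at the closed point is `(S_k)` at the closed point modulo a regular element -/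
theorem skClosed_succ_iff_quotient (k : ℕ) (C : Type u) [CommRing C] [IsNoetherianRing C]
    [IsLocalRing C] (t : C) (ht : t ∈ maximalIdeal C) (hreg : IsSMulRegular C t) :
    SkClosed (k + 1) C ↔ SkClosed k (C ⧸ Ideal.span {t}) := by
  have hne : Ideal.span {t} ≠ ⊤ := by
    intro htop
    have : Ideal.span {t} ≤ maximalIdeal C := (Ideal.span_singleton_le_iff_mem _).mpr ht
    rw [htop] at this
    exact (maximalIdeal.isMaximal C).ne_top (top_le_iff.mp this)
  haveI hloc : IsLocalRing (C ⧸ Ideal.span {t}) :=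
    Groth.Agent.H59.CMGlue.isLocalRing_quotient _ hne
  have hdim := ringKrullDim_quotient_span_singleton_succ_eq_ringKrullDim hreg ht
  have hdep := Groth.Agent.H72.DepthFlat.idealDepth_quotSMulTop_add_one (maximalIdeal C) C t ht hreg
  have hspan : t • (⊤ : Submodule C C) = Ideal.span {t} := by
    simp [← Submodule.ideal_span_singleton_smul]
  have e : QuotSMulTop t C ≃ₗ[C] (C ⧸ Ideal.span {t}) := Submodule.quotEquivOfEq _ _ hspan
  have h1 : LocCoh.idealDepth (maximalIdeal C) (QuotSMulTop t C) =
      LocCoh.idealDepth (maximalIdeal (C ⧸ Ideal.span {t})) (C ⧸ Ideal.span {t}) := by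
    rw [Groth.Agent.H15.idealDepth_congr e (maximalIdeal C)]
    exact Groth.Agent.H72.FlatCM.depth_quotient_eq (Ideal.span {t}) hne
  rw [h1] at hdep
  have hht : (maximalIdeal C).height = (maximalIdeal (C ⧸ Ideal.span {t})).height + 1 := by
    have := hdim
    rw [← IsLocalRing.maximalIdeal_height_eq_ringKrullDim,
      ← IsLocalRing.maximalIdeal_height_eq_ringKrullDim] at this
    exact_mod_cast this.symm
  have hk : ((k + 1 : ℕ) : ℕ∞) = (k : ℕ∞) + 1 := by push_cast; rfl
  constructor
  · intro h _ _
    have h2 := h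
    rw [hht, ← hdep, hk, min_add_add_right] at h2
    exact (ENat.add_le_add_iff_right ENat.one_ne_top).mp h2
  · intro h _ _
    have h2 := h
    rw [hht, ← hdep, hk, min_add_add_right]
    exact (ENat.add_le_add_iff_right ENat.one_ne_top).mpr h2

set_option backward.isDefEq.respectTransparency false in
/-- `(S_{k+1})` at a prime containing a regular element is `(S_k)` modulo it -/
theorem sk_atPrime_iff_quotient (k : ℕ) {S : Type u} [CommRing S] [IsNoetherianRing S]
    (x : S) (hx : IsSMulRegular S x) (I : Ideal S)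
    (hI : I = Ideal.span {x}) (Q : Ideal (S ⧸ I)) [Q.IsPrime] :
    SkClosed (k + 1) (Localization.AtPrime (Q.comap (Ideal.Quotient.mk I))) ↔
      SkClosed k (Localization.AtPrime Q) := by
  set P : Ideal S := Q.comap (Ideal.Quotient.mk I) with hP
  haveI : P.IsPrime := Ideal.comap_isPrime _ Q
  have hloc : IsLocalization (Algebra.algebraMapSubmonoid (S ⧸ I) P.primeCompl)
      (Localization.AtPrime P ⧸ I.map (algebraMap S (Localization.AtPrime P))) := inferInstance
  have hsub : Algebra.algebraMapSubmonoid (S ⧸ I) P.primeCompl = Q.primeCompl := by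
    ext y
    obtain ⟨y, rfl⟩ := Ideal.Quotient.mk_surjective y
    constructor
    · rintro ⟨z, hz, hzy⟩
      rw [← hzy]
      exact hz
    · intro hy
      exact ⟨y, hy, rfl⟩
  haveI : IsLocalization.AtPrime
      (Localization.AtPrime P ⧸ I.map (algebraMap S (Localization.AtPrime P))) Q := by
    show IsLocalization Q.primeCompl _
    rw [← hsub]
    exact hloc
  let e : Localization.AtPrime Q ≃+*
      (Localization.AtPrime P ⧸ I.map (algebraMap S (Localization.AtPrime P))) :=
    (IsLocalization.algEquiv Q.primeCompl (Localization.AtPrime Q)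
      (Localization.AtPrime P ⧸ I.map (algebraMap S (Localization.AtPrime P)))).toRingEquiv
  have hmap : I.map (algebraMap S (Localization.AtPrime P)) =
      Ideal.span {algebraMap S (Localization.AtPrime P) x} := by
    rw [hI, Ideal.map_span, Set.image_singleton]
  haveI : IsNoetherianRing (Localization.AtPrime P) :=
    IsLocalization.isNoetherianRing P.primeCompl _ inferInstance
  have hxP : x ∈ P := by
    rw [hP, Ideal.mem_comap]
    have : Ideal.Quotient.mk I x = 0 := by
      rw [Ideal.Quotient.eq_zero_iff_mem, hI]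
      exact Ideal.mem_span_singleton_self x
    rw [this]
    exact Q.zero_mem
  have hxm : algebraMap S (Localization.AtPrime P) x ∈ maximalIdeal (Localization.AtPrime P) := by
    rw [← Localization.AtPrime.map_eq_maximalIdeal]
    exact Ideal.mem_map_of_mem _ hxP
  have hreg : IsSMulRegular (Localization.AtPrime P) (algebraMap S (Localization.AtPrime P) x) :=
    IsSMulRegular.of_flat hx
  rw [skClosed_succ_iff_quotient k (Localization.AtPrime P) _ hxm hreg]
  constructor
  · intro h
    exact skClosed_of_ringEquiv k _ _ ((Ideal.quotEquivOfEq hmap.symm).trans e.symm) h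
  · intro h
    exact skClosed_of_ringEquiv k _ _ (e.trans (Ideal.quotEquivOfEq hmap)) h

theorem sk_congr (k : ℕ) {S : Type u} [CommRing S] (q q' : Ideal S) [q.IsPrime] [q'.IsPrime]
    (h : q = q') : SkClosed k (Localization.AtPrime q) ↔ SkClosed k (Localization.AtPrime q') := by
  subst h
  exact Iff.rfl

/-- `x` regular, `x ∈ q`: `(S_{k+1})` for `S_q` iff `(S_k)` for `(S/x)` at the image of `q` -/
theorem sk_atPrime_iff_quotient_map (k : ℕ) {S : Type u} [CommRing S] [IsNoetherianRing S]
    (x : S) (hx : IsSMulRegular S x) (q : Ideal S) [q.IsPrime] (hxq : x ∈ q)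
    [hqm : (q.map (Ideal.Quotient.mk (Ideal.span {x}))).IsPrime] :
    SkClosed (k + 1) (Localization.AtPrime q) ↔
      SkClosed k (Localization.AtPrime (q.map (Ideal.Quotient.mk (Ideal.span {x})))) := by
  have hker : RingHom.ker (Ideal.Quotient.mk (Ideal.span {x})) ≤ q := by
    rw [Ideal.mk_ker, Ideal.span_le]
    intro y hy
    rw [Set.mem_singleton_iff] at hy
    rw [hy]
    exact hxq
  have hqq : (q.map (Ideal.Quotient.mk (Ideal.span {x}))).comap
      (Ideal.Quotient.mk (Ideal.span {x})) = q := by
    rw [Ideal.comap_map_of_surjective _ Ideal.Quotient.mk_surjective]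
    rw [← RingHom.ker_eq_comap_bot]
    exact sup_eq_left.mpr hker
  rw [← sk_atPrime_iff_quotient k x hx _ rfl (q.map (Ideal.Quotient.mk (Ideal.span {x})))]
  exact (sk_congr (k + 1) _ _ hqq).symm

end Groth.Agent.H55.Sk

namespace Groth.Agent.H55.Rees

open Groth.Agent.H26.SkFlat

variable {A : Type u} [CommRing A] (𝓕 : IdealFiltration A)

/-- **`(S_2)` for the extended Rees algebra iff `(S_1)` for the associated graded ring and `(S_2)`
for the base** -/
theorem hasSk_two_extRees_iff [IsNoetherianRing A] [IsLocalRing A]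
    (hfg : Algebra.FiniteType A 𝓕.rees) :
    LocCoh.HasSk 2 𝓕.extRees 𝓕.extRees ↔ (LocCoh.HasSk 1 𝓕.Gr 𝓕.Gr ∧ LocCoh.HasSk 2 A A) := by
  haveI := isNoetherianRing_extRees 𝓕 hfg
  haveI : IsNoetherianRing A[T;T⁻¹] := isNoetherianRing_laurent_of_extRees 𝓕
  haveI : IsNoetherianRing 𝓕.Gr := inferInstance
  rw [hasSk_self_iff_skClosed 2 𝓕.extRees, hasSk_self_iff_skClosed 1 𝓕.Gr]
  constructor
  · intro h
    constructor
    · intro Q _
      exact (Sk.sk_atPrime_iff_quotient 1 𝓕.u (u_regular 𝓕) _ rfl Q).mp (h _)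
    · have hL : LocCoh.HasSk 2 A[T;T⁻¹] A[T;T⁻¹] := by
        rw [hasSk_self_iff_skClosed]
        intro Q _
        exact LocProp.atPrime_isLocalization_of_comap _ (skClosed_of_ringEquiv 2)
          (Submonoid.powers 𝓕.u) Q (h _)
      exact (Groth.Agent.H14.hasSk_of_faithfullyFlat 2 A A[T;T⁻¹] hL).2
  · rintro ⟨hG, hA⟩ P hPp
    by_cases hu : 𝓕.u ∈ P
    · have hker : RingHom.ker (Ideal.Quotient.mk (Ideal.span {𝓕.u})) ≤ P := by
        rw [Ideal.mk_ker, Ideal.span_le]
        intro y hy
        rw [Set.mem_singleton_iff] at hy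
        rw [hy]
        exact hu
      haveI : (P.map (Ideal.Quotient.mk (Ideal.span {𝓕.u}))).IsPrime :=
        Ideal.map_isPrime_of_surjective Ideal.Quotient.mk_surjective hker
      exact (Sk.sk_atPrime_iff_quotient_map 1 𝓕.u (u_regular 𝓕) P hu).mpr (hG _)
    · have hL : LocCoh.HasSk 2 A[T;T⁻¹] A[T;T⁻¹] :=
        hasSk_of_flat_of_fibres 2 hA (fun q _ =>
          Groth.Agent.H26.SkTensor.hasSk_of_isCohenMacaulayRing 2 _ (isCohenMacaulayRing_fiber q))
      rw [hasSk_self_iff_skClosed] at hL
      have hd : Disjoint (Submonoid.powers 𝓕.u : Set 𝓕.extRees) (P : Set 𝓕.extRees) := by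
        rw [Set.disjoint_left]
        rintro _ ⟨n, rfl⟩ h
        exact hu (hPp.mem_of_pow_mem n h)
      exact LocProp.atPrime_of_isLocalization _ (skClosed_of_ringEquiv 2)
        (Submonoid.powers 𝓕.u) (S := A[T;T⁻¹]) P (fun Q _ _ => hL Q) hd

end Groth.Agent.H55.Rees
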