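import Groth.Agent.H55.Rees3

/-!
# The extended Rees algebra is factorial iff the base is and the associated graded ring is a
domain (helper55)
-/

set_option autoImplicit false
set_option linter.style.haveILetI false
set_option linter.unusedSectionVars false
universe u

open Polynomial LaurentPolynomial FiltBl IsLocalRing

namespace Groth.Agent.H55.UFD

/-- if `A[X]` is factorial, so is `A` -/
theorem ufm_of_polynomial (A : Type u) [CommRing A] [IsDomain A] [IsNoetherianRing A]
    (h : UniqueFactorizationMonoid A[X]) : UniqueFactorizationMonoid A := by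
  haveI : WfDvdMonoid A := inferInstance
  refine { irreducible_iff_prime := fun {a} => ⟨fun ha => ?_, Prime.irreducible⟩ }
  have ha0 : a ≠ 0 := ha.ne_zero
  have hirr : Irreducible (Polynomial.C a) := by
    refine ⟨fun hu => ha.not_isUnit (Polynomial.isUnit_C.mp hu), fun f g hfg => ?_⟩
    have hf0 : f ≠ 0 := by
      rintro rfl
      rw [zero_mul] at hfg
      exact ha0 (Polynomial.C_eq_zero.mp hfg)
    have hg0 : g ≠ 0 := by
      rintro rfl
      rw [mul_zero] at hfg
      exact ha0 (Polynomial.C_eq_zero.mp hfg)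
    have hdeg := congrArg Polynomial.natDegree hfg
    rw [Polynomial.natDegree_C, Polynomial.natDegree_mul hf0 hg0] at hdeg
    have hf : f.natDegree = 0 := by omega
    have hg : g.natDegree = 0 := by omega
    obtain ⟨c, rfl⟩ := Polynomial.natDegree_eq_zero.mp hf
    obtain ⟨d, rfl⟩ := Polynomial.natDegree_eq_zero.mp hg
    rw [← Polynomial.C_mul] at hfg
    have hcd : a = c * d := Polynomial.C_injective hfg
    rcases ha.isUnit_or_isUnit hcd with hc | hd
    · exact Or.inl (Polynomial.isUnit_C.mpr hc)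
    · exact Or.inr (Polynomial.isUnit_C.mpr hd)
  exact Polynomial.prime_C_iff.mp (UniqueFactorizationMonoid.irreducible_iff_prime.mp hirr)

/-- if `A[T,T⁻¹]` is factorial, so is `A` -/
theorem ufm_of_laurent (A : Type u) [CommRing A] [IsDomain A] [IsNoetherianRing A]
    (h : UniqueFactorizationMonoid A[T;T⁻¹]) : UniqueFactorizationMonoid A := by
  apply ufm_of_polynomial
  exact (UniqueFactorizationMonoid.iff_of_isLocalizationAway_of_prime
    (Polynomial.prime_X (R := A)) A[T;T⁻¹]).mpr h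

/-- if `A` is factorial, so is `A[T,T⁻¹]` -/
theorem ufm_laurent (A : Type u) [CommRing A] [IsDomain A]
    [UniqueFactorizationMonoid A] : UniqueFactorizationMonoid A[T;T⁻¹] :=
  UniqueFactorizationMonoid.of_isLocalization (Submonoid.powers (X : A[X])) A[T;T⁻¹]

/-- units of the Laurent polynomial ring over a domain are monomials -/
theorem exists_eq_C_mul_T_of_isUnit (A : Type u) [CommRing A] [IsDomain A] (f : A[T;T⁻¹])
    (hf : IsUnit f) : ∃ (c : A) (n : ℤ), IsUnit c ∧ f = LaurentPolynomial.C c * T n := by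
  obtain ⟨g, hfg⟩ := hf.exists_right_inv
  obtain ⟨N, p, hp⟩ := f.exists_T_pow
  obtain ⟨M, q, hq⟩ := g.exists_T_pow
  have h1 : toLaurent (p * q) = toLaurent ((X : A[X]) ^ (N + M)) := by
    rw [map_mul, hp, hq, Polynomial.toLaurent_X_pow, mul_mul_mul_comm, hfg, one_mul, ← T_add]
    push_cast
    rfl
  have h2 : p * q = (X : A[X]) ^ (N + M) := Polynomial.toLaurent_injective h1
  have h3 : p ∣ (X : A[X]) ^ (N + M) := ⟨q, h2.symm⟩
  obtain ⟨i, -, hi⟩ := (dvd_prime_pow (Polynomial.prime_X (R := A)) (N + M)).mp h3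
  obtain ⟨v, hv⟩ := hi.symm
  obtain ⟨c, hc, hcv⟩ := Polynomial.isUnit_iff.mp v.isUnit
  refine ⟨c, (i : ℤ) - N, hc, ?_⟩
  have h4 : f * T N = LaurentPolynomial.C c * T i := by
    rw [← hp, ← hv, ← hcv, map_mul, Polynomial.toLaurent_X_pow, Polynomial.toLaurent_C, mul_comm]
  have h5 : f = f * T N * T (-N) := by
    rw [mul_assoc, ← T_add, add_neg_cancel, T_zero, mul_one]
  rw [h5, h4, mul_assoc, ← T_add]
  rfl

end Groth.Agent.H55.UFD

namespace Groth.Agent.H55.Rees

open Groth.Agent.H55.UFD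

variable {A : Type u} [CommRing A] (𝓕 : IdealFiltration A)

theorem u_ne_zero [Nontrivial A] : 𝓕.u ≠ 0 := by
  intro h
  have h1 : ((𝓕.u : 𝓕.extRees) : A[T;T⁻¹]) = 0 := by rw [h]; rfl
  rw [u_coe] at h1
  exact (isUnit_T (-1)).ne_zero h1

theorem not_isUnit_u (hF1 : 𝓕.F 1 ≠ ⊤) : ¬ IsUnit 𝓕.u := by
  intro hu
  obtain ⟨v, hv⟩ := hu.exists_right_inv
  have h0 : T (-1) * (v : A[T;T⁻¹]) = 1 := congrArg (fun x : 𝓕.extRees => (x : A[T;T⁻¹])) hv
  have h1 : (v : A[T;T⁻¹]) = T 1 := by
    calc (v : A[T;T⁻¹]) = T 1 * (T (-1) * (v : A[T;T⁻¹])) := by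
          rw [← mul_assoc, ← T_add]
          simp
      _ = T 1 := by rw [h0, mul_one]
  have h2 := v.2 1
  rw [h1, T_apply, if_pos rfl] at h2
  exact hF1 ((Ideal.eq_top_iff_one _).mpr (by simpa using h2))

theorem irreducible_u [IsDomain A] (hF1 : 𝓕.F 1 ≠ ⊤) : Irreducible 𝓕.u := by
  refine ⟨not_isUnit_u 𝓕 hF1, fun f g hfg => ?_⟩
  have h0 : (f : A[T;T⁻¹]) * (g : A[T;T⁻¹]) = T (-1) :=
    (congrArg (fun x : 𝓕.extRees => (x : A[T;T⁻¹])) hfg).symm
  have hfu : IsUnit (f : A[T;T⁻¹]) := by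
    refine IsUnit.of_mul_eq_one ((g : A[T;T⁻¹]) * T 1) ?_
    rw [← mul_assoc, h0, ← T_add]
    simp
  have hgu : IsUnit (g : A[T;T⁻¹]) := by
    refine IsUnit.of_mul_eq_one ((f : A[T;T⁻¹]) * T 1) ?_
    rw [← mul_assoc, mul_comm (g : A[T;T⁻¹]), h0, ← T_add]
    simp
  obtain ⟨c, i, hc, hf⟩ := exists_eq_C_mul_T_of_isUnit A _ hfu
  obtain ⟨d, j, hd, hg⟩ := exists_eq_C_mul_T_of_isUnit A _ hgu
  have h1 : LaurentPolynomial.C (c * d) * T (i + j) = T (-1) := by
    rw [← h0, hf, hg, map_mul, T_add]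
    ring
  have h2 := congrArg (fun x : A[T;T⁻¹] => x.coeff (i + j)) h1
  simp only [coeff_C_mul_T, T_apply] at h2
  rw [if_pos trivial] at h2
  have hij : -1 = i + j := by
    by_contra hne
    rw [if_neg hne] at h2
    exact (hc.mul hd).ne_zero h2
  have hcd : c * d = 1 := by
    rw [if_pos hij] at h2
    exact h2
  have hci : c ∈ 𝓕.F i.toNat := by
    have := f.2 i
    rw [hf, coeff_C_mul_T, if_pos rfl] at this
    exact this
  have hdj : d ∈ 𝓕.F j.toNat := by
    have := g.2 j
    rw [hg, coeff_C_mul_T, if_pos rfl] at this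
    exact this
  have hi : i ≤ 0 := by
    by_contra hpos
    have h3 : 1 ≤ i.toNat := by omega
    exact hF1 (Ideal.eq_top_of_isUnit_mem _ (𝓕.antitone h3 hci) hc)
  have hj : j ≤ 0 := by
    by_contra hpos
    have h3 : 1 ≤ j.toNat := by omega
    exact hF1 (Ideal.eq_top_of_isUnit_mem _ (𝓕.antitone h3 hdj) hd)
  rcases (show i = 0 ∨ j = 0 by omega) with hi0 | hj0
  · left
    refine IsUnit.of_mul_eq_one (algebraMap A 𝓕.extRees d) ?_
    apply Subtype.ext
    rw [Subalgebra.coe_mul, hf, hi0, T_zero, mul_one, Subalgebra.coe_algebraMap,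
      LaurentPolynomial.algebraMap_apply, Algebra.algebraMap_self, RingHom.id_apply, ← map_mul,
      hcd, map_one]
    rfl
  · right
    refine IsUnit.of_mul_eq_one (algebraMap A 𝓕.extRees c) ?_
    apply Subtype.ext
    rw [Subalgebra.coe_mul, hg, hj0, T_zero, mul_one, Subalgebra.coe_algebraMap,
      LaurentPolynomial.algebraMap_apply, Algebra.algebraMap_self, RingHom.id_apply, ← map_mul,
      mul_comm, hcd, map_one]
    rfl

/-- **The extended Rees algebra is factorial iff `A` is and the associated graded ring is a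
domain** -/
theorem ufm_extRees_iff [IsNoetherianRing A] [IsLocalRing A] [IsDomain A] [IsDomain 𝓕.extRees]
    (hsep : ⨅ n, 𝓕.F n = ⊥) (hfg : Algebra.FiniteType A 𝓕.rees) :
    UniqueFactorizationMonoid 𝓕.extRees ↔ (UniqueFactorizationMonoid A ∧ IsDomain 𝓕.Gr) := by
  haveI := isNoetherianRing_extRees 𝓕 hfg
  constructor
  · intro h
    constructor
    · apply ufm_of_laurent
      exact UniqueFactorizationMonoid.of_isLocalization (Submonoid.powers 𝓕.u) A[T;T⁻¹]
    · have hp : Prime 𝓕.u :=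
        UniqueFactorizationMonoid.irreducible_iff_prime.mp
          (irreducible_u 𝓕 (F_one_ne_top 𝓕 hsep))
      have : (Ideal.span {𝓕.u}).IsPrime := (Ideal.span_singleton_prime hp.ne_zero).mpr hp
      exact Ideal.Quotient.isDomain _
  · rintro ⟨hA, hG⟩
    have hpr : (Ideal.span {𝓕.u}).IsPrime := (Ideal.Quotient.isDomain_iff_prime _).mp hG
    have hp : Prime 𝓕.u := (Ideal.span_singleton_prime (u_ne_zero 𝓕)).mp hpr
    exact (UniqueFactorizationMonoid.iff_of_isLocalizationAway_of_prime hp A[T;T⁻¹]).mpr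
      (ufm_laurent A)

end Groth.Agent.H55.Rees
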