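import Groth.Agent.H86.SR6
import Groth.Agent.H55.Kunz4

/-!
# The section ring of a point modulo `T` is the Weierstrass semigroup algebra (helper55)
-/

set_option autoImplicit false
set_option linter.style.haveILetI false
set_option linter.unusedSectionVars false
universe u

open Polynomial FunFld

namespace Groth.Agent.H55.SRG

open Groth.Agent.H86.FF Groth.Agent.H55.Kunz

variable {k K : Type u} [Field k] [Field K] [Algebra k K] [IsAlgClosed k]
variable (hK : IsFunctionField k K) (hg : 1 ≤ genus k K) (P : Place k K)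

include hK hg in
/-- the Weierstrass semigroup is a numerical semigroup -/
theorem numSg_poleOrders :
    NumSg (W4c6gradedringsgw.poleOrders P) (2 * genus k K) := by
  obtain ⟨π, hπ⟩ := Place.exists_uniformizer P
  refine ⟨?_, ?_, fun n hn => mem_poleOrders_of_ge hK P n hn, one_notMem_poleOrders hK hg P⟩
  · apply mem_poleOrders_of_Psi_coeff_ne_zero hK P hπ 1 0
    rw [map_one, coeff_one_zero]
    exact one_ne_zero
  · intro a ha b hb
    obtain ⟨p, hp⟩ := X_pow_mem_range_of_mem_poleOrders hK P hπ a ha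
    obtain ⟨q, hq⟩ := X_pow_mem_range_of_mem_poleOrders hK P hπ b hb
    apply mem_poleOrders_of_Psi_coeff_ne_zero hK P hπ (p * q) (a + b)
    have hp' : Psi hK P hπ p = X ^ a := hp
    have hq' : Psi hK P hπ q = X ^ b := hq
    rw [map_mul, hp', hq', ← pow_add, coeff_X_pow, if_pos rfl]
    exact one_ne_zero

variable {π : K} (hπ : P.1 π = WithZero.exp (-1 : ℤ))

/-- `Psi` with values in the semigroup algebra -/
noncomputable def PsiB : SR P →ₐ[k] sgAlg k (numSg_poleOrders hK hg P) :=
  (Psi hK P hπ).codRestrict (sgAlg k (numSg_poleOrders hK hg P))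
    (fun p n hn => mem_poleOrders_of_Psi_coeff_ne_zero hK P hπ p n hn)

theorem PsiB_coe (p : SR P) : ((PsiB hK hg P hπ p : sgAlg k (numSg_poleOrders hK hg P)) : k[X]) =
    Psi hK P hπ p := rfl

theorem PsiB_surjective : Function.Surjective (PsiB hK hg P hπ) := by
  intro q
  have hmem : q ∈ (PsiB hK hg P hπ).range := by
    rw [eq_sum_xpow k (numSg_poleOrders hK hg P) q]
    refine Subalgebra.sum_mem _ fun n _ => ?_
    refine Subalgebra.smul_mem _ ?_ _
    obtain ⟨p, hp⟩ := X_pow_mem_range_of_mem_poleOrders hK P hπ n.1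
      (q.2 n.1 (mem_support_iff.mp n.2))
    refine ⟨p, ?_⟩
    apply Subtype.ext
    exact hp
  exact hmem

/-- `PsiB` as a ring homomorphism -/
noncomputable def PsiBr : SR P →+* sgAlg k (numSg_poleOrders hK hg P) :=
  (PsiB hK hg P hπ).toRingHom

theorem PsiBr_apply (p : SR P) : PsiBr hK hg P hπ p = PsiB hK hg P hπ p := rfl

theorem PsiBr_surjective : Function.Surjective (PsiBr hK hg P hπ) :=
  PsiB_surjective hK hg P hπ

include hg in
theorem ker_PsiBr : RingHom.ker (PsiBr hK hg P hπ) = Ideal.span {Tel P} := by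
  have h1 : RingHom.ker (Psi hK P hπ) = Ideal.span {Tel P} :=
    ker_Psi hK P hπ hg (Tel P) 1 one_ne_zero (by rw [Tel_coe, C_1, one_mul])
  apply le_antisymm
  · intro p hp
    have hp' : PsiB hK hg P hπ p = 0 := hp
    rw [← h1]
    show Psi hK P hπ p = 0
    exact congrArg Subtype.val hp'
  · intro p hp
    rw [← h1] at hp
    have hp' : Psi hK P hπ p = 0 := hp
    show PsiB hK hg P hπ p = 0
    exact Subtype.ext hp'

/-- `R/(T) ≃ k[H]` -/
noncomputable def quotEquiv :
    (SR P ⧸ Ideal.span {Tel P}) ≃+* sgAlg k (numSg_poleOrders hK hg P) :=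
  (Ideal.quotEquivOfEq (ker_PsiBr hK hg P hπ).symm).trans
    (RingHom.quotientKerEquivOfSurjective (PsiBr_surjective hK hg P hπ))

theorem Tel_ne_zero : Tel P ≠ 0 := by
  intro h
  have := congrArg (fun p : SR P => (p : K[X])) h
  simp only [Tel_coe, ZeroMemClass.coe_zero] at this
  exact X_ne_zero this

theorem Tel_regular : IsSMulRegular (SR P) (Tel P) := by
  intro a b hab
  exact mul_left_cancel₀ (Tel_ne_zero P) hab

end Groth.Agent.H55.SRG
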