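import Groth.Agent.H55.SRG1

/-!
# The section ring of a point is a finitely generated algebra (helper55)
-/

set_option autoImplicit false
set_option linter.style.haveILetI false
set_option linter.unusedSectionVars false
universe u

open Polynomial FunFld

namespace Groth.Agent.H55.SRG

open Groth.Agent.H86.FF Groth.Agent.H55.Kunz

variable {k K : Type u} [Field k] [Field K] [Algebra k K] [IsAlgClosed k]
variable (hK : IsFunctionField k K) (hg : 1 ≤ genus k K) (P : Place k K)
variable {π : K} (hπ : P.1 π = WithZero.exp (-1 : ℤ))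

theorem coeff_of_hom {q : SR P} {g : K} {n : ℕ} (hq : (q : K[X]) = C g * X ^ n) :
    g ∈ L ((n : ℤ) • (Finsupp.single P 1 : Divisor k K)) := by
  have := q.2 n
  rwa [hq, coeff_C_mul_X_pow, if_pos rfl] at this

theorem eq_mono_of_hom {q : SR P} {g : K} {n : ℕ} (hq : (q : K[X]) = C g * X ^ n) :
    q = mono P n g (coeff_of_hom P hq) := Subtype.ext hq

theorem Psi_hom {q : SR P} {g : K} {n : ℕ} (hq : (q : K[X]) = C g * X ^ n) :
    Psi hK P hπ q = C ((Psi hK P hπ q).coeff n) * X ^ n := by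
  rw [eq_mono_of_hom P hq]
  exact Psi_mono hK P hπ n g _

section induction

variable (𝒜 : Subalgebra k (SR P)) (hT : Tel P ∈ 𝒜)

include hK hT in
/-- Step A: homogeneous elements with coefficient in `L((n-1)P)` -/
theorem stepA (n : ℕ)
    (ih : ∀ m < n, ∀ (q : SR P) (g : K), (q : K[X]) = C g * X ^ m → q ∈ 𝒜)
    (q : SR P) (g : K) (hq : (q : K[X]) = C g * X ^ n)
    (hgL : g ∈ L (((n : ℤ) - 1) • (Finsupp.single P 1 : Divisor k K))) : q ∈ 𝒜 := by
  cases n with
  | zero =>
    rw [L_neg_single_eq_bot hK P] at hgL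
    have hg0 : g = 0 := (Submodule.mem_bot k).mp hgL
    have : q = 0 := by
      apply Subtype.ext
      rw [hq, hg0, C_0, zero_mul]
      rfl
    rw [this]
    exact zero_mem _
  | succ m =>
    have h2 : (((m + 1 : ℕ) : ℤ) - 1) = (m : ℤ) := by push_cast; ring
    rw [h2] at hgL
    have h3 : q = Tel P * mono P m g hgL := by
      apply Subtype.ext
      change (q : K[X]) = (Tel P : K[X]) * (C g * X ^ m)
      rw [hq, Tel_coe]
      ring
    rw [h3]
    exact mul_mem hT (ih m (Nat.lt_succ_self m) _ g rfl)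

include hK hT in
/-- Step B: reduction using an element of exact pole order -/
theorem stepB (n : ℕ)
    (ih : ∀ m < n, ∀ (q : SR P) (g : K), (q : K[X]) = C g * X ^ m → q ∈ 𝒜)
    (q₀ : SR P) (hq₀ : q₀ ∈ 𝒜) (g₀ : K) (hq₀g : (q₀ : K[X]) = C g₀ * X ^ n)
    (hne : (Psi hK P hπ q₀).coeff n ≠ 0)
    (q : SR P) (g : K) (hq : (q : K[X]) = C g * X ^ n) : q ∈ 𝒜 := by
  obtain ⟨c, hc⟩ : ∃ c : k, c = (Psi hK P hπ q).coeff n / (Psi hK P hπ q₀).coeff n := ⟨_, rfl⟩
  have hr : ((q - c • q₀ : SR P) : K[X]) = C (g - c • g₀) * X ^ n := by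
    change (q : K[X]) - c • (q₀ : K[X]) = _
    rw [hq, hq₀g, C_sub, sub_mul, ← smul_mul_assoc, smul_C]
  have hPsi : (Psi hK P hπ (q - c • q₀)).coeff n = 0 := by
    rw [map_sub, map_smul, coeff_sub, coeff_smul, smul_eq_mul, hc, div_mul_cancel₀ _ hne, sub_self]
  rw [Psi_coeff_eq_zero_iff, hr, coeff_C_mul_X_pow, if_pos rfl] at hPsi
  have h1 : q - c • q₀ ∈ 𝒜 := stepA hK P 𝒜 hT n ih _ _ hr hPsi
  have h2 : q = (q - c • q₀) + c • q₀ := by ring
  rw [h2]
  exact add_mem h1 (Subalgebra.smul_mem _ hq₀ c)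

include hK hg hT in
/-- every homogeneous element lies in a subalgebra containing `T` and elements of exact pole
order `n` for all pole orders `n < 4g` -/
theorem hom_mem_of_gens
    (hG : ∀ n < 2 * (2 * genus k K), n ∈ W4c6gradedringsgw.poleOrders P →
      ∃ q₀ ∈ 𝒜, ∃ g₀ : K, (q₀ : K[X]) = C g₀ * X ^ n ∧ (Psi hK P hπ q₀).coeff n ≠ 0)
    (n : ℕ) : ∀ (q : SR P) (g : K), (q : K[X]) = C g * X ^ n → q ∈ 𝒜 := by
  have hH := numSg_poleOrders hK hg P
  have hN := hH.two_le
  induction n using Nat.strong_induction_on with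
  | _ n ih =>
    intro q g hq
    by_cases hgL : g ∈ L (((n : ℤ) - 1) • (Finsupp.single P 1 : Divisor k K))
    · exact stepA hK P 𝒜 hT n ih q g hq hgL
    · have hnH : n ∈ W4c6gradedringsgw.poleOrders P :=
        (mem_poleOrders_iff hK P n).mpr ⟨g, coeff_of_hom P hq, hgL⟩
      by_cases hlt : n < 2 * (2 * genus k K)
      · obtain ⟨q₀, hq₀, g₀, hq₀g, hne⟩ := hG n hlt hnH
        exact stepB hK P hπ 𝒜 hT n ih q₀ hq₀ g₀ hq₀g hne q g hq
      · set N := 2 * genus k K with hNdef
        obtain ⟨q₁, hq₁, g₁, hq₁g, hne₁⟩ := hG N (by omega) (hH.ge_mem N le_rfl)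
        have hmem : n - N ∈ W4c6gradedringsgw.poleOrders P := hH.ge_mem _ (by omega)
        obtain ⟨f₂, hf₂, hnf₂⟩ := (mem_poleOrders_iff hK P (n - N)).mp hmem
        have hq₂ : mono P (n - N) f₂ hf₂ ∈ 𝒜 := ih (n - N) (by omega) _ f₂ rfl
        have hne₂ := Psi_mono_coeff_ne_zero hK P hπ (n - N) f₂ hf₂ hnf₂
        have hprod : ((q₁ * mono P (n - N) f₂ hf₂ : SR P) : K[X]) = C (g₁ * f₂) * X ^ n := by
          change (q₁ : K[X]) * (C f₂ * X ^ (n - N)) = _
          rw [hq₁g, C_mul]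
          have : (X : K[X]) ^ n = X ^ N * X ^ (n - N) := by
            rw [← pow_add]; congr 1; omega
          rw [this]
          ring
        have hne : (Psi hK P hπ (q₁ * mono P (n - N) f₂ hf₂)).coeff n ≠ 0 := by
          rw [map_mul, Psi_hom hK P hπ hq₁g, Psi_mono hK P hπ (n - N) f₂ hf₂]
          have : C ((Psi hK P hπ q₁).coeff N) * X ^ N *
              (C ((Psi hK P hπ (mono P (n - N) f₂ hf₂)).coeff (n - N)) * X ^ (n - N)) =
              C ((Psi hK P hπ q₁).coeff N * (Psi hK P hπ (mono P (n - N) f₂ hf₂)).coeff (n - N)) *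
                X ^ n := by
            have h' : (X : k[X]) ^ n = X ^ N * X ^ (n - N) := by
              rw [← pow_add]; congr 1; omega
            rw [h', C_mul]
            ring
          rw [this, coeff_C_mul_X_pow, if_pos rfl]
          exact mul_ne_zero hne₁ hne₂
        exact stepB hK P hπ 𝒜 hT n ih _ (mul_mem hq₁ hq₂) _ hprod hne q g hq

end induction

/-- every element of the section ring is a sum of homogeneous elements -/
theorem eq_sum_mono (p : SR P) :
    p = ∑ n ∈ (p : K[X]).support, mono P n ((p : K[X]).coeff n) (p.2 n) := by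
  apply Subtype.ext
  rw [AddSubmonoidClass.coe_finsetSum]
  simp only [mono_coe]
  exact as_sum_support_C_mul_X_pow (p : K[X])

include hK hg in
/-- the section ring of a point is a finitely generated `k`-algebra -/
theorem finiteType_SR : Algebra.FiniteType k (SR P) := by
  obtain ⟨π, hπ⟩ := Place.exists_uniformizer P
  have hex : ∀ n : ℕ, ∃ f : K, ∃ hf : f ∈ L ((n : ℤ) • (Finsupp.single P 1 : Divisor k K)),
      n ∈ W4c6gradedringsgw.poleOrders P → (Psi hK P hπ (mono P n f hf)).coeff n ≠ 0 := by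
    intro n
    by_cases h : n ∈ W4c6gradedringsgw.poleOrders P
    · obtain ⟨f, hf, hnf⟩ := (mem_poleOrders_iff hK P n).mp h
      exact ⟨f, hf, fun _ => Psi_mono_coeff_ne_zero hK P hπ n f hf hnf⟩
    · exact ⟨0, zero_mem _, fun h' => absurd h' h⟩
  choose F hF1 hF2 using hex
  have hfin : (insert (Tel P) (Set.range (fun n : Fin (2 * (2 * genus k K)) =>
      mono P n.1 (F n.1) (hF1 n.1)))).Finite := (Set.finite_range _).insert _
  refine ⟨⟨hfin.toFinset, ?_⟩⟩
  rw [Set.Finite.coe_toFinset, eq_top_iff]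
  intro p _
  rw [eq_sum_mono P p]
  refine Subalgebra.sum_mem _ fun n _ => ?_
  refine hom_mem_of_gens hK hg P hπ _ (Algebra.subset_adjoin (Set.mem_insert _ _)) ?_ n _ _ rfl
  intro m hm hmH
  exact ⟨mono P m (F m) (hF1 m),
    Algebra.subset_adjoin (Set.mem_insert_of_mem _ ⟨⟨m, hm⟩, rfl⟩), F m, rfl, hF2 m hmH⟩

include hK hg in
theorem isNoetherianRing_SR : IsNoetherianRing (SR P) :=
  haveI := finiteType_SR hK hg P
  Algebra.FiniteType.isNoetherianRing k _

end Groth.Agent.H55.SRG
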