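import Groth.Agent.H55.SRG2
import Groth.Agent.H55.Gor3
import Groth.Agent.H55.Int4

/-!
# The affine coordinate ring of the complement of a point is Gorenstein (helper55)
-/

set_option autoImplicit false
set_option linter.style.haveILetI false
set_option linter.unusedSectionVars false
universe u

open Polynomial FunFld WithZero

namespace Groth.Agent.H55.SRG

open Groth.Agent.H86.FF Groth.Agent.H55.Kunz

section general

variable {k K : Type u} [Field k] [Field K] [Algebra k K]

/-- a place centred on a proper ideal of a `k`-algebra mapping to `K` -/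
theorem exists_place_of_ne_top (hK : IsFunctionField k K) {R : Type*} [CommRing R]
    [Algebra k R] (ι : R →ₐ[k] K) (I : Ideal R) (hI : I ≠ ⊤) (hker : RingHom.ker ι ≤ I)
    (r : R) (hr : r ∈ I) (hr0 : ι r ≠ 0) :
    ∃ Q : Place k K, (∀ a, Q.1 (ι a) ≤ 1) ∧ (∀ a ∈ I, Q.1 (ι a) < 1) := by
  let A : Subalgebra k K := ι.range
  let φ : R →+* A.toSubring := ι.toRingHom.codRestrict A.toSubring (fun a => ⟨a, rfl⟩)
  have hφ : Function.Surjective φ := by
    rintro ⟨x, a, rfl⟩
    exact ⟨a, rfl⟩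
  let J : Ideal A.toSubring := I.map φ
  have hJ : J ≠ ⊤ := by
    intro h
    have h1 : (1 : A.toSubring) ∈ J := by rw [h]; trivial
    obtain ⟨a, ha, hφa⟩ := (Ideal.mem_map_iff_of_surjective φ hφ).mp h1
    have h2 : ι a = 1 := congrArg Subtype.val hφa
    have h3 : a - 1 ∈ RingHom.ker ι := by
      rw [RingHom.mem_ker, map_sub, h2, map_one, sub_self]
    have h4 : (1 : R) ∈ I := by
      have := I.sub_mem ha (hker h3)
      simpa using this
    exact hI ((Ideal.eq_top_iff_one _).mpr h4)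
  obtain ⟨Q, hQ1, hQ2⟩ := exists_place_center hK A J hJ (φ r) (Ideal.mem_map_of_mem φ hr) hr0
  exact ⟨Q, fun a => hQ1 _ ⟨a, rfl⟩, fun a ha => hQ2 (φ a) (Ideal.mem_map_of_mem φ ha)⟩

/-- the valuation ring of a place is a principal ideal ring -/
theorem isPrincipalIdealRing_O (Q : Place k K) : IsPrincipalIdealRing Q.O := by
  haveI : Nontrivial (MonoidWithZeroHom.valueGroup (.ofClass Q.1)) := by
    obtain ⟨π, hπ⟩ := Q.2.2 (exp (-1 : ℤ))
    refine ⟨⟨⟨Units.mk0 (exp (-1 : ℤ)) (by simp), ?_⟩, 1, ?_⟩⟩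
    · apply MonoidWithZeroHom.mem_valueGroup
      apply MonoidWithZeroHom.mem_valueMonoid
      exact ⟨π, hπ⟩
    · intro h
      have := congrArg (fun x => (x.1 : (WithZero (Multiplicative ℤ))ˣ).1) h
      simp at this
  exact Valuation.valuationSubring_isPrincipalIdealRing Q.1

/-- denominators away from `P`: for `z` regular at `Q ≠ P` there is `y` regular away from `P`,
a unit at `Q`, with `y z` regular away from `P` -/
theorem exists_denominator (hK : IsFunctionField k K) (P Q : Place k K) (hQP : Q ≠ P) (z : K)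
    (hz : Q.1 z ≤ 1) :
    ∃ y : K, (∀ R : Place k K, R ≠ P → R.1 y ≤ 1) ∧ Q.1 y = 1 ∧
      ∀ R : Place k K, R ≠ P → R.1 (y * z) ≤ 1 := by
  classical
  by_cases hz0 : z = 0
  · refine ⟨1, fun R _ => by rw [map_one], map_one _, fun R _ => ?_⟩
    rw [hz0, mul_zero, map_zero]
    exact zero_le
  have hfin := Place.finite_poles hK hz0
  set S : Finset (Place k K) := insert Q (hfin.toFinset.erase P) with hS
  have hPS : P ∉ S := by
    rw [hS, Finset.mem_insert, not_or]
    exact ⟨fun h => hQP h.symm, Finset.notMem_erase P _⟩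
  obtain ⟨y, hy1, hy2⟩ := strong_approx_le hK P S hPS
    (fun R => if R = Q then 1 else 0) (fun R => if R = Q then 1 else -(R.ord z))
  have hyQ : Q.1 y = 1 := by
    have h1 := hy1 Q (Finset.mem_insert_self _ _)
    simp only [if_true] at h1
    have h2 : Q.1 (y - 1) < 1 := lt_of_le_of_lt h1 (by rw [← exp_zero, exp_lt_exp]; omega)
    have h3 : y = 1 + (y - 1) := by ring
    rw [h3]
    exact Valuation.map_one_add_of_lt _ h2
  have hpole : ∀ R : Place k K, R ≠ P → 1 < R.1 z → R.1 y ≤ exp (R.ord z) := by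
    intro R hRP hR
    have hRQ : R ≠ Q := by
      rintro rfl
      exact absurd hz (not_le.mpr hR)
    have hRS : R ∈ S := by
      rw [hS, Finset.mem_insert]
      right
      rw [Finset.mem_erase]
      exact ⟨hRP, hfin.mem_toFinset.mpr hR⟩
    have h1 := hy1 R hRS
    simp only [if_neg hRQ, sub_zero, neg_neg] at h1
    exact h1
  refine ⟨y, ?_, hyQ, ?_⟩
  · intro R hRP
    by_cases hRQ : R = Q
    · rw [hRQ, hyQ]
    by_cases hR : 1 < R.1 z
    · refine (hpole R hRP hR).trans ?_
      rw [← exp_zero, exp_le_exp]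
      exact le_of_lt ((Place.ord_neg_iff R hz0).mpr hR)
    · apply hy2 R hRP
      rw [hS, Finset.mem_insert, not_or]
      refine ⟨hRQ, ?_⟩
      rw [Finset.mem_erase, not_and]
      intro _ h
      exact hR (hfin.mem_toFinset.mp h)
  · intro R hRP
    rw [map_mul]
    by_cases hR : 1 < R.1 z
    · calc R.1 y * R.1 z ≤ exp (R.ord z) * R.1 z := mul_le_mul_left (hpole R hRP hR) _
        _ = 1 := by
          rw [Place.val_eq_exp_neg_ord R hz0, ← exp_add, add_neg_cancel, exp_zero]
    · push Not at hR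
      by_cases hRQ : R = Q
      · rw [hRQ, hyQ, one_mul]; exact hz
      have hy : R.1 y ≤ 1 := by
        apply hy2 R hRP
        rw [hS, Finset.mem_insert, not_or]
        refine ⟨hRQ, ?_⟩
        rw [Finset.mem_erase, not_and]
        intro _ h
        exact absurd (hfin.mem_toFinset.mp h) (not_lt.mpr hR)
      exact mul_le_one' hy hR

end general

variable {k K : Type u} [Field k] [Field K] [Algebra k K]

/-- the ring of functions regular away from `P` -/
def Aff (P : Place k K) : Subalgebra k K where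
  carrier := {f | ∀ Q : Place k K, Q ≠ P → Q.1 f ≤ 1}
  mul_mem' := fun hx hy Q hQ => by rw [map_mul]; exact mul_le_one' (hx Q hQ) (hy Q hQ)
  add_mem' := fun hx hy Q hQ => (Q.1.map_add _ _).trans (max_le (hx Q hQ) (hy Q hQ))
  algebraMap_mem' := fun c Q _ => Q.2.1 c

theorem mem_Aff (P : Place k K) (f : K) : f ∈ Aff P ↔ ∀ Q : Place k K, Q ≠ P → Q.1 f ≤ 1 :=
  Iff.rfl

variable [IsAlgClosed k]

theorem mem_Aff_of_mem_L (P : Place k K) (n : ℤ) {f : K}
    (hf : f ∈ L (n • (Finsupp.single P 1 : Divisor k K))) : f ∈ Aff P :=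
  ((mem_L_smul_single P n f).mp hf).2

theorem exists_mem_L_of_mem_Aff (P : Place k K) {f : K} (hf : f ∈ Aff P) :
    ∃ n : ℕ, f ∈ L ((n : ℤ) • (Finsupp.single P 1 : Divisor k K)) := by
  by_cases hf0 : f = 0
  · exact ⟨0, hf0 ▸ zero_mem _⟩
  refine ⟨(-(P.ord f)).toNat, ?_⟩
  rw [mem_L_smul_single]
  refine ⟨?_, hf⟩
  rw [Place.val_eq_exp_neg_ord P hf0, exp_le_exp]
  omega

theorem L_mono_nat (P : Place k K) {m n : ℕ} (hmn : m ≤ n) :
    L ((m : ℤ) • (Finsupp.single P 1 : Divisor k K)) ≤
      L ((n : ℤ) • (Finsupp.single P 1 : Divisor k K)) := by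
  intro f hf
  rw [mem_L_smul_single] at hf ⊢
  refine ⟨hf.1.trans ?_, hf.2⟩
  rw [exp_le_exp]
  exact_mod_cast hmn

/-- evaluation at `T = 1` -/
noncomputable def ev1 (P : Place k K) : SR P →ₐ[k] Aff P :=
  ((Polynomial.aeval (R := K) (1 : K)).restrictScalars k |>.comp (SR P).val).codRestrict (Aff P)
    (by
      intro p
      change Polynomial.aeval (1 : K) (p : K[X]) ∈ Aff P
      rw [Polynomial.coe_aeval_eq_eval, Polynomial.eval_eq_sum_range]
      refine Subalgebra.sum_mem _ fun n _ => ?_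
      rw [one_pow, mul_one]
      exact mem_Aff_of_mem_L P n (p.2 n))

theorem ev1_coe (P : Place k K) (p : SR P) : ((ev1 P p : Aff P) : K) = (p : K[X]).eval 1 := by
  change Polynomial.aeval (1 : K) (p : K[X]) = _
  rw [Polynomial.coe_aeval_eq_eval]

theorem ev1_surjective (P : Place k K) : Function.Surjective (ev1 P) := by
  intro f
  obtain ⟨n, hn⟩ := exists_mem_L_of_mem_Aff P f.2
  refine ⟨mono P n f.1 hn, ?_⟩
  apply Subtype.ext
  rw [ev1_coe, mono_coe]
  simp

variable (hK : IsFunctionField k K) (hg : 1 ≤ genus k K) (P : Place k K)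

include hK hg in
theorem isNoetherianRing_Aff : IsNoetherianRing (Aff P) :=
  haveI := isNoetherianRing_SR hK hg P
  isNoetherianRing_of_surjective (SR P) (Aff P) (ev1 P).toRingHom (ev1_surjective P)

include hK in
/-- localizations of the affine ring at nonzero primes -/
theorem gor_atPrime_Aff (𝔭 : Ideal (Aff P)) [𝔭.IsPrime] (h𝔭 : 𝔭 ≠ ⊥) :
    LocCoh.IsGorensteinLocalRing (Localization.AtPrime 𝔭) := by
  obtain ⟨r, hr, hr0⟩ := Submodule.exists_mem_ne_zero_of_ne_bot h𝔭
  have hr0' : (Aff P).val r ≠ 0 := fun h => hr0 (Subtype.ext h)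
  have hker : RingHom.ker (Aff P).val ≤ 𝔭 := by
    intro a ha
    have : a = 0 := Subtype.ext ha
    rw [this]
    exact 𝔭.zero_mem
  obtain ⟨Q, hQ1, hQ2⟩ := exists_place_of_ne_top hK (Aff P).val 𝔭
    (Ideal.IsPrime.ne_top inferInstance) hker r hr hr0'
  have hQP : Q ≠ P := by
    rintro rfl
    have h1 : (r : K) ∈ L ((((0 : ℕ) : ℤ) - 1) • (Finsupp.single Q 1 : Divisor k K)) := by
      rw [mem_L_smul_single]
      refine ⟨?_, r.2⟩
      have h' : Q.1 (r : K) < exp (0 : ℤ) := by
        rw [exp_zero]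
        exact hQ2 r hr
      rw [Place.lt_exp_iff_le_exp_sub_one] at h'
      simpa using h'
    rw [L_neg_single_eq_bot hK Q] at h1
    exact hr0' ((Submodule.mem_bot k).mp h1)
  -- the submonoid of elements that are units at `Q`
  let M : Submonoid (Aff P) :=
    { carrier := {s | Q.1 (s : K) = 1}
      one_mem' := map_one _
      mul_mem' := fun {a b} ha hb => by
        change Q.1 ((a : K) * (b : K)) = 1
        rw [map_mul, ha, hb, one_mul] }
  have hM : M ≤ 𝔭.primeCompl := by
    intro s hs hsp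
    have h1 : Q.1 (s : K) = 1 := hs
    have h2 := hQ2 s hsp
    rw [Subalgebra.coe_val, h1] at h2
    exact lt_irrefl _ h2
  let ιQ : Aff P →+* Q.O := ((Aff P).val : Aff P →+* K).codRestrict Q.O
    (fun a => (Valuation.mem_valuationSubring_iff _ _).mpr (hQ1 a))
  letI : Algebra (Aff P) Q.O := ιQ.toAlgebra
  have hι : ∀ a : Aff P, ((algebraMap (Aff P) Q.O a : Q.O) : K) = (a : K) := fun a => rfl
  haveI : IsLocalization M Q.O := by
    rw [isLocalization_iff]
    refine ⟨?_, ?_, ?_⟩
    · rintro ⟨s, hs⟩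
      have hs1 : Q.1 (s : K) = 1 := hs
      have hs0 : (s : K) ≠ 0 := by
        intro h
        rw [h, map_zero] at hs1
        exact zero_ne_one hs1
      have hinv : (s : K)⁻¹ ∈ Q.O := by
        rw [Valuation.mem_valuationSubring_iff, map_inv₀, hs1, inv_one]
      refine IsUnit.of_mul_eq_one (⟨(s : K)⁻¹, hinv⟩ : Q.O) ?_
      apply Subtype.ext
      change (s : K) * (s : K)⁻¹ = 1
      exact mul_inv_cancel₀ hs0
    · intro z
      obtain ⟨y, hy1, hy2, hy3⟩ := exists_denominator hK P Q hQP (z : K)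
        ((Valuation.mem_valuationSubring_iff _ _).mp z.2)
      refine ⟨(⟨y * (z : K), hy3⟩, ⟨⟨y, hy1⟩, hy2⟩), ?_⟩
      apply Subtype.ext
      change (z : K) * y = y * (z : K)
      ring
    · intro a b hab
      have h1 : (a : K) = (b : K) := congrArg (fun x : Q.O => (x : K)) hab
      refine ⟨1, ?_⟩
      rw [Subtype.ext h1]
  haveI := isPrincipalIdealRing_O Q
  have hO : LocCoh.IsGorensteinRing Q.O := Gor.isGorensteinRing_of_pid Q.O
  exact Gor.gor_atPrime_of_isLocalization M hO 𝔭 hM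

include hK hg in
/-- the affine coordinate ring of the complement of a point is Gorenstein -/
theorem isGorensteinRing_Aff : LocCoh.IsGorensteinRing (Aff P) := by
  haveI := isNoetherianRing_Aff hK hg P
  refine ⟨fun 𝔭 _ => ?_⟩
  by_cases h𝔭 : 𝔭 = ⊥
  · subst h𝔭
    exact Gor.gor_atPrime_bot (Aff P)
  · exact gor_atPrime_Aff hK P 𝔭 h𝔭

end Groth.Agent.H55.SRG
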