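import Groth.Agent.H55.SRG3
import Groth.Agent.H26.GorLCI

/-!
# The section ring of a point with `T` inverted is Gorenstein (helper55)
-/

set_option autoImplicit false
set_option linter.style.haveILetI false
set_option linter.unusedSectionVars false
universe u

open Polynomial FunFld WithZero

namespace Groth.Agent.H55.SRG

open Groth.Agent.H86.FF Groth.Agent.H55.Kunz

variable {k K : Type u} [Field k] [Field K] [Algebra k K] [IsAlgClosed k]
variable (P : Place k K)

theorem mem_lifts_Aff (p : SR P) :
    (p : K[X]) ∈ Polynomial.lifts ((Aff P).val : Aff P →+* K) := by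
  rw [Polynomial.lifts_iff_coeff_lifts]
  intro n
  exact ⟨⟨(p : K[X]).coeff n, mem_Aff_of_mem_L P n (p.2 n)⟩, rfl⟩

/-- the polynomial with the same coefficients, over the affine ring -/
noncomputable def phiFun (p : SR P) : (Aff P)[X] :=
  Classical.choose ((Polynomial.mem_lifts _).mp (mem_lifts_Aff P p))

theorem phiFun_spec (p : SR P) :
    (phiFun P p).map ((Aff P).val : Aff P →+* K) = (p : K[X]) :=
  Classical.choose_spec ((Polynomial.mem_lifts _).mp (mem_lifts_Aff P p))

theorem map_val_injective :
    Function.Injective (Polynomial.map ((Aff P).val : Aff P →+* K)) :=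
  Polynomial.map_injective _ Subtype.val_injective

/-- the embedding of the section ring into the polynomial ring over the affine ring -/
noncomputable def phi : SR P →+* (Aff P)[X] where
  toFun := phiFun P
  map_one' := by
    apply map_val_injective P
    rw [phiFun_spec]
    simp
  map_mul' p q := by
    apply map_val_injective P
    rw [Polynomial.map_mul, phiFun_spec, phiFun_spec, phiFun_spec]
    rfl
  map_zero' := by
    apply map_val_injective P
    rw [phiFun_spec]
    simp
  map_add' p q := by
    apply map_val_injective P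
    rw [Polynomial.map_add, phiFun_spec, phiFun_spec, phiFun_spec]
    rfl

theorem phi_spec (p : SR P) : (phi P p).map ((Aff P).val : Aff P →+* K) = (p : K[X]) :=
  phiFun_spec P p

theorem phi_injective : Function.Injective (phi P) := by
  intro p q h
  apply Subtype.ext
  rw [← phi_spec, ← phi_spec, h]

theorem phi_Tel : phi P (Tel P) = X := by
  apply map_val_injective P
  rw [phi_spec, Tel_coe, Polynomial.map_X]

theorem phi_cond (a : (Aff P)[X]) : ∃ m : ℕ, ∃ b : SR P, phi P b = (phi P (Tel P)) ^ m * a := by
  choose nfun hnfun using fun f : Aff P => exists_mem_L_of_mem_Aff P f.2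
  set m : ℕ := ∑ i ∈ a.support, nfun (a.coeff i) with hm
  have hle : ∀ i ∈ a.support, nfun (a.coeff i) ≤ m := fun i hi =>
    Finset.single_le_sum (f := fun i => nfun (a.coeff i)) (fun _ _ => Nat.zero_le _) hi
  have hmem : (X ^ m * a).map ((Aff P).val : Aff P →+* K) ∈ SR P := by
    intro j
    rw [Polynomial.coeff_map, coeff_X_pow_mul']
    split_ifs with hj
    · by_cases hsupp : j - m ∈ a.support
      · exact L_mono_nat P (by have := hle _ hsupp; omega) (hnfun (a.coeff (j - m)))
      · rw [notMem_support_iff.mp hsupp, map_zero]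
        exact zero_mem _
    · rw [map_zero]
      exact zero_mem _
  refine ⟨m, ⟨_, hmem⟩, ?_⟩
  apply map_val_injective P
  rw [phi_spec, phi_Tel]

variable (hK : IsFunctionField k K) (hg : 1 ≤ genus k K)

include hK hg in
/-- `R[1/T]` is Gorenstein: there is a Gorenstein localization of `R` away from `T` -/
theorem exists_away_Tel :
    ∃ (S' : Type u) (_ : CommRing S') (_ : Algebra (SR P) S'),
      IsLocalization.Away (Tel P) S' ∧ LocCoh.IsGorensteinRing S' := by
  letI : Algebra (SR P) (Aff P)[X] := (phi P).toAlgebra
  have hT : algebraMap (SR P) (Aff P)[X] (Tel P) = X := phi_Tel P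
  haveI : IsLocalization.Away (algebraMap (SR P) (Aff P)[X] (Tel P))
      (Localization.Away (X : (Aff P)[X])) := by
    rw [hT]; infer_instance
  refine ⟨Localization.Away (X : (Aff P)[X]), inferInstance, inferInstance, ?_, ?_⟩
  · exact Gor.away_of_injective (A' := (Aff P)[X]) (Tel P) (phi_injective P) (phi_cond P)
  · have hA := isGorensteinRing_Aff hK hg P
    have h1 := Groth.Agent.H26.GorLCI.isGorensteinRing_mvPolynomial (Aff P) hA 1
    let e : MvPolynomial (Fin 1) (Aff P) ≃+* (Aff P)[X] :=
      (MvPolynomial.uniqueAlgEquiv (Aff P) (Fin 1)).toRingEquiv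
    have h2 : LocCoh.IsGorensteinRing (Aff P)[X] :=
      Groth.Agent.H26.GorRegHom.isGorensteinRing_of_ringEquiv e h1
    exact Groth.Agent.H26.GorQuot.isGorensteinRing_of_isLocalization
      (Submonoid.powers (X : (Aff P)[X])) h2

end Groth.Agent.H55.SRG
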