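import Groth.Agent.H55.SRG4

/-!
# The section ring of a point is Gorenstein iff the Weierstrass semigroup is symmetric (helper55)
-/

set_option autoImplicit false
set_option linter.style.haveILetI false
set_option linter.unusedSectionVars false
universe u

open Polynomial FunFld WithZero

namespace Groth.Agent.H55.Gor

open Groth.Agent.H26.GorRegHom Groth.Agent.H26.GorQuot Groth.Agent.H26.GorFieldLocal

/-- `S` Noetherian, `x` regular, `S/(x)` and `S[1/x]` Gorenstein: then `S` is Gorenstein -/
theorem isGorensteinRing_of_quotient_of_away {S S' : Type u} [CommRing S] [IsNoetherianRing S]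
    [CommRing S'] [Algebra S S'] (x : S) (hx : IsSMulRegular S x) [IsLocalization.Away x S']
    (hS' : LocCoh.IsGorensteinRing S')
    (hq : LocCoh.IsGorensteinRing (S ⧸ Ideal.span {x})) : LocCoh.IsGorensteinRing S := by
  refine ⟨fun q _ => ?_⟩
  by_cases hxq : x ∈ q
  · have hker : RingHom.ker (Ideal.Quotient.mk (Ideal.span {x})) ≤ q := by
      rw [Ideal.mk_ker, Ideal.span_le]
      intro y hy
      rw [Set.mem_singleton_iff] at hy
      rw [hy]
      exact hxq
    haveI : (q.map (Ideal.Quotient.mk (Ideal.span {x}))).IsPrime :=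
      Ideal.map_isPrime_of_surjective Ideal.Quotient.mk_surjective hker
    have hqq : q = (q.map (Ideal.Quotient.mk (Ideal.span {x}))).comap
        (Ideal.Quotient.mk (Ideal.span {x})) := by
      rw [Ideal.comap_map_of_surjective _ Ideal.Quotient.mk_surjective]
      rw [← RingHom.ker_eq_comap_bot]
      exact (sup_eq_left.mpr hker).symm
    have h2 := (gor_atPrime_iff_quotient x hx _ rfl
      (q.map (Ideal.Quotient.mk (Ideal.span {x})))).mpr
      (hq.isGorensteinLocalRing_localization _)
    have hcongr : ∀ (q' : Ideal S) [q'.IsPrime], q = q' →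
        LocCoh.IsGorensteinLocalRing (Localization.AtPrime q') →
        LocCoh.IsGorensteinLocalRing (Localization.AtPrime q) := by
      intro q' _ hqq' h'
      subst hqq'
      exact h'
    exact hcongr _ hqq h2
  · exact gor_atPrime_of_away x hS' q hxq

end Groth.Agent.H55.Gor

namespace Groth.Agent.H55.SRG

open Groth.Agent.H86.FF Groth.Agent.H55.Kunz

variable {k K : Type u} [Field k] [Field K] [Algebra k K] [IsAlgClosed k]

/-- **Goto–Watanabe / Kunz**: the section ring `⊕ L(nP) Tⁿ` is Gorenstein iff the Weierstrass
semigroup at `P` is symmetric -/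
theorem isGorensteinRing_SR_iff (hK : IsFunctionField k K) (hg : 1 ≤ genus k K) (P : Place k K) :
    LocCoh.IsGorensteinRing (SR P) ↔
      W4c6gradedringsgw.IsSymmetric (W4c6gradedringsgw.poleOrders P) := by
  rw [← isGorensteinRing_sgAlg_iff k (numSg_poleOrders hK hg P)]
  obtain ⟨π, hπ⟩ := Place.exists_uniformizer P
  constructor
  · intro h
    have h1 := Groth.Agent.H26.GorQuot.isGorensteinRing_quotient_span_singleton h (Tel P)
      (Tel_regular P)
    exact Groth.Agent.H26.GorRegHom.isGorensteinRing_of_ringEquiv (quotEquiv hK hg P hπ) h1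
  · intro h
    haveI := isNoetherianRing_SR hK hg P
    obtain ⟨S', _, _, hloc, hS'⟩ := exists_away_Tel P hK hg
    have hq : LocCoh.IsGorensteinRing (SR P ⧸ Ideal.span {Tel P}) :=
      Groth.Agent.H26.GorRegHom.isGorensteinRing_of_ringEquiv (quotEquiv hK hg P hπ).symm h
    exact Gor.isGorensteinRing_of_quotient_of_away (S' := S') (Tel P) (Tel_regular P) hS' hq

end Groth.Agent.H55.SRG
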