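import Groth.Agent.H55.Geom1

set_option autoImplicit false

namespace Groth.Agent.H55

open FunFld Module IntermediateField
open scoped TensorProduct

universe u v

variable {k : Type u} {K : Type v} [Field k] [Field K] [Algebra k K]

theorem essFiniteType (hK : IsFunctionField k K) : Algebra.EssFiniteType k K := by
  obtain ⟨x, -, hfin⟩ := hK.1
  have h1 : Algebra.EssFiniteType k k⟮x⟯ :=
    IntermediateField.essFiniteType_iff.mpr (fg_adjoin_of_finite (Set.finite_singleton x))
  have h2 : Algebra.EssFiniteType k⟮x⟯ K := inferInstance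
  exact Algebra.EssFiniteType.comp k k⟮x⟯ K

/-- MacLane's criterion holds for geometric fields: `p`-th powers of linearly independent
elements stay linearly independent. -/
theorem linearIndepOn_pow_of_isGeometric (hg : IsGeometric k K) (p : ℕ) (hp : p.Prime)
    [ExpChar k p] (s : Finset K) (hs : LinearIndepOn k _root_.id (s : Set K)) :
    LinearIndepOn k (· ^ p) (s : Set K) := by
  classical
  unfold LinearIndepOn
  rw [linearIndependent_iff']
  intro t g hsum i hi
  -- `p`-th roots of the coefficients in an algebraic closure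
  have hroot : ∀ j : (s : Set K), ∃ r : AlgebraicClosure k, r ^ p = algebraMap k _ (g j) :=
    fun j => IsAlgClosed.exists_pow_nat_eq _ hp.pos
  choose r hr using hroot
  have hfinS : (Set.range r).Finite := Set.finite_range r
  have hfd : FiniteDimensional k (adjoin k (Set.range r)) := by
    have : Finite (Set.range r) := hfinS
    exact finiteDimensional_adjoin fun x _ => (Algebra.IsIntegral.isIntegral x)
  set k' := adjoin k (Set.range r) with hk'
  have hT : IsField (k' ⊗[k] K) := hg k' hfd
  letI : Field (k' ⊗[k] K) := hT.toField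
  haveI : ExpChar (k' ⊗[k] K) p :=
    expChar_of_injective_algebraMap (algebraMap k (k' ⊗[k] K)).injective p
  let r' : ↥(s : Set K) → k' := fun j => ⟨r j, subset_adjoin k _ ⟨j, rfl⟩⟩
  have hr' : ∀ j, r' j ^ p = algebraMap k k' (g j) := fun j => Subtype.ext (hr j)
  set z : k' ⊗[k] K := ∑ j ∈ t, r' j ⊗ₜ[k] (j : K) with hz
  have hzp : z ^ p = 0 := by
    rw [hz, sum_pow_char]
    have h1 : ∀ j ∈ t, (r' j ⊗ₜ[k] (j : K)) ^ p = (1 : k') ⊗ₜ[k] (g j • (j : K) ^ p) := by
      intro j _
      rw [Algebra.TensorProduct.tmul_pow, hr', Algebra.algebraMap_eq_smul_one,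
        TensorProduct.smul_tmul]
    rw [Finset.sum_congr rfl h1, ← TensorProduct.tmul_sum, hsum, TensorProduct.tmul_zero]
  have hz0 : z = 0 := pow_eq_zero_iff hp.ne_zero |>.mp hzp
  have hli : LinearIndependent k' (fun j : (s : Set K) => (1 : k') ⊗ₜ[k] (j : K)) :=
    Module.Flat.linearIndependent_one_tmul (S := k') hs
  rw [linearIndependent_iff'] at hli
  have hz' : ∑ j ∈ t, r' j • ((1 : k') ⊗ₜ[k] (j : K)) = 0 := by
    rw [← hz0, hz]
    apply Finset.sum_congr rfl
    intro j _
    rw [TensorProduct.smul_tmul', smul_eq_mul, mul_one]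
  have h3 := hli t r' hz' i hi
  have h4 := hr' i
  rw [h3, zero_pow hp.ne_zero] at h4
  exact ((map_eq_zero_iff _ (algebraMap k k').injective).mp h4.symm)

/-- a one-element transcendence basis from the definition of a function field -/
theorem isTranscendenceBasis_unit {x : K} (hx : Transcendental k x)
    (hfin : FiniteDimensional k⟮x⟯ K) : IsTranscendenceBasis k (fun _ : Unit => x) := by
  have hind : AlgebraicIndependent k (fun _ : Unit => x) :=
    algebraicIndependent_unique_type_iff.mpr hx
  rw [hind.isTranscendenceBasis_iff_isAlgebraic]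
  have h1 : Set.range (fun _ : Unit => x) = {x} := by
    ext y; simp [eq_comm]
  rw [h1]
  have h2 : Algebra.IsAlgebraic k⟮x⟯ K := Algebra.IsAlgebraic.of_finite _ _
  constructor
  intro y
  have h3 := h2.isAlgebraic y
  exact isAlgebraic_adjoin_iff.mp h3

/-- a geometric function field of one variable has a separating variable -/
theorem exists_separating (hK : IsFunctionField k K) (hg : IsGeometric k K) :
    ∃ x : K, Transcendental k x ∧ Algebra.IsSeparable k⟮x⟯ K := by
  classical
  have hess := essFiniteType hK
  obtain ⟨x₀, hx₀, hfin⟩ := hK.1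
  have hs : ∃ s : Finset K, IsTranscendenceBasis k ((↑) : s → K) ∧
      Algebra.IsSeparable (adjoin k (s : Set K)) K := by
    rcases CharP.exists' k with h0 | ⟨p, hp, hpk⟩
    · exact exists_isTranscendenceBasis_and_isSeparable_of_perfectField k K
    · haveI : ExpChar k p := ExpChar.prime hp.out
      exact exists_isTranscendenceBasis_and_isSeparable_of_linearIndepOn_pow_of_essFiniteType p
        hp.out (fun s hs => linearIndepOn_pow_of_isGeometric hg p hp.out s hs)
  obtain ⟨s, hs, hsep⟩ := hs
  have hcard := IsTranscendenceBasis.lift_cardinalMk_eq hs (isTranscendenceBasis_unit hx₀ hfin)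
  have hcard1 : s.card = 1 := by
    have h1 : Cardinal.mk (↥s) = 1 := by
      have := hcard
      simpa using this
    have h2 : Cardinal.mk (↥s) = (s.card : Cardinal) := by simp
    rw [h2] at h1
    exact_mod_cast h1
  obtain ⟨x, rfl⟩ := Finset.card_eq_one.mp hcard1
  rw [Finset.coe_singleton] at hsep
  refine ⟨x, ?_, hsep⟩
  intro halg
  apply hx₀
  have h1 : Algebra.IsAlgebraic k k⟮x⟯ := isAlgebraic_adjoin_simple halg.isIntegral
  have h2 : Algebra.IsAlgebraic k⟮x⟯ K := Algebra.IsSeparable.isAlgebraic _ _
  have h3 : Algebra.IsAlgebraic k K := Algebra.IsAlgebraic.trans k k⟮x⟯ K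
  exact h3.isAlgebraic x₀

end Groth.Agent.H55
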