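import Groth.Agent.H55.Sep1
import Groth.Agent.H80.SepDiff

set_option autoImplicit false

namespace Groth.Agent.H55

open FunFld Module IntermediateField
open scoped TensorProduct

universe u v

variable {k : Type u} {K : Type v} [Field k] [Field K] [Algebra k K]

theorem range_unit {α : Type*} (x : α) : Set.range (fun _ : Unit => x) = {x} := by
  ext y; simp [eq_comm]

/-- if `x` is a separating variable then `dx` is a basis of the differentials -/
theorem exists_basis_D_of_separating {x : K} (hx : Transcendental k x)
    (hsep : Algebra.IsSeparable k⟮x⟯ K) :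
    ∃ b : Module.Basis Unit K (KaehlerDifferential k K), b () = KaehlerDifferential.D k K x := by
  have hind : AlgebraicIndependent k (fun _ : Unit => x) :=
    algebraicIndependent_unique_type_iff.mpr hx
  have : Algebra.IsSeparable (adjoin k (Set.range fun _ : Unit => x)) K := by
    rw [range_unit]; exact hsep
  obtain ⟨b, hb⟩ := Groth.Agent.H80.exists_basis_D_of_isSeparable hind
  exact ⟨b, hb ()⟩

/-- S11003 -/
theorem finrank_kaehler_eq_one (hK : IsFunctionField k K) (hg : IsGeometric k K) :
    finrank K (KaehlerDifferential k K) = 1 := by
  obtain ⟨x, hx, hsep⟩ := exists_separating hK hg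
  obtain ⟨b, -⟩ := exists_basis_D_of_separating hx hsep
  rw [Module.finrank_eq_card_basis b, Fintype.card_unit]

theorem D_ne_zero_of_separating {x : K} (hx : Transcendental k x)
    (hsep : Algebra.IsSeparable k⟮x⟯ K) : KaehlerDifferential.D k K x ≠ 0 := by
  obtain ⟨b, hb⟩ := exists_basis_D_of_separating hx hsep
  rw [← hb]
  exact b.ne_zero ()

/-- if `dx ≠ 0` then `x` is a separating variable -/
theorem separating_of_D_ne_zero (hK : IsFunctionField k K) (hg : IsGeometric k K) {x : K}
    (hx : KaehlerDifferential.D k K x ≠ 0) : Algebra.IsSeparable k⟮x⟯ K := by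
  have hess := essFiniteType hK
  have h1 := finrank_kaehler_eq_one hK hg
  have hspan : Submodule.span K (Set.range fun _ : Unit => KaehlerDifferential.D k K x) = ⊤ := by
    rw [range_unit]
    have hfin : Module.Finite K (KaehlerDifferential k K) := Module.finite_of_finrank_eq_succ h1
    apply Submodule.eq_top_of_finrank_eq
    rw [finrank_span_singleton hx, h1]
  have := Groth.Agent.H80.isSeparable_of_span_D (x := fun _ : Unit => x) hspan
  rwa [range_unit] at this

end Groth.Agent.H55
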