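import Groth.Agent.H55.Sep2

set_option autoImplicit false

namespace Groth.Agent.H55

open FunFld Module IntermediateField Polynomial
open scoped TensorProduct

universe u v

variable {k : Type u} {K : Type v} [Field k] [Field K] [Algebra k K]

variable (k K) in
/-- the field of constants of the universal derivation -/
noncomputable def kerD : IntermediateField k K where
  carrier := {z | KaehlerDifferential.D k K z = 0}
  mul_mem' {a b} ha hb := by
    rw [Set.mem_setOf_eq] at ha hb ⊢
    rw [Derivation.leibniz, ha, hb, smul_zero, smul_zero, add_zero]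
  add_mem' {a b} ha hb := by
    rw [Set.mem_setOf_eq] at ha hb ⊢
    rw [map_add, ha, hb, add_zero]
  algebraMap_mem' c := by
    rw [Set.mem_setOf_eq]
    exact Derivation.map_algebraMap _ c
  inv_mem' a ha := by
    rw [Set.mem_setOf_eq] at ha ⊢
    rw [Derivation.leibniz_inv, ha, smul_zero]

theorem mem_kerD {z : K} : z ∈ kerD k K ↔ KaehlerDifferential.D k K z = 0 := Iff.rfl

variable (k K) in
/-- the subfield `k K^p` -/
noncomputable def Fp (p : ℕ) : IntermediateField k K := adjoin k (Set.range fun y : K => y ^ p)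

theorem pow_mem_Fp (p : ℕ) (y : K) : y ^ p ∈ Fp k K p := subset_adjoin k _ ⟨y, rfl⟩

theorem Fp_le_kerD (p : ℕ) [CharP K p] : Fp k K p ≤ kerD k K := by
  unfold Fp
  rw [adjoin_le_iff]
  rintro _ ⟨y, rfl⟩
  show KaehlerDifferential.D k K (y ^ p) = 0
  rw [Derivation.leibniz_pow, ← Nat.cast_smul_eq_nsmul K, CharP.cast_eq_zero, zero_smul]

/-- `K = k K^p (s)` for a separating variable `s` -/
theorem adjoin_Fp_eq_top (p : ℕ) [Fact p.Prime] [CharP K p] {s : K}
    (hsep : Algebra.IsSeparable k⟮s⟯ K) : (Fp k K p)⟮s⟯ = ⊤ := by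
  haveI : CharP k⟮s⟯ p := RingHom.charP (algebraMap k⟮s⟯ K) (algebraMap k⟮s⟯ K).injective p
  haveI : ExpChar k⟮s⟯ p := ExpChar.prime (Fact.out : p.Prime)
  have h1 := adjoin_eq_adjoin_pow_expChar_of_isSeparable' k⟮s⟯ K (Set.univ : Set K) p
  rw [adjoin_univ, Set.image_univ] at h1
  set G : IntermediateField k K := ((Fp k K p)⟮s⟯).restrictScalars k with hG
  have hsG : s ∈ G := mem_adjoin_simple_self (Fp k K p) s
  have hMG : k⟮s⟯ ≤ G := by
    rw [adjoin_le_iff]
    rintro _ rfl
    exact hsG
  have hrange : Set.range (fun y : K => y ^ p) ⊆ (extendScalars hMG : Set K) := by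
    rintro _ ⟨y, rfl⟩
    show y ^ p ∈ G
    have h2 : y ^ p ∈ Fp k K p := pow_mem_Fp p y
    have h3 : algebraMap (Fp k K p) K ⟨y ^ p, h2⟩ ∈ (Fp k K p)⟮s⟯ := IntermediateField.algebraMap_mem _ _
    exact h3
  have h4 : adjoin k⟮s⟯ (Set.range fun y : K => y ^ p) ≤ extendScalars hMG :=
    adjoin_le_iff.mpr hrange
  rw [← h1] at h4
  rw [eq_top_iff]
  intro y _
  have h5 : y ∈ extendScalars hMG := h4 (mem_top)
  exact h5

/-- S11001 -/
theorem finrank_Fp (hK : IsFunctionField k K) (hg : IsGeometric k K) (p : ℕ) [Fact p.Prime]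
    [CharP K p] : finrank (Fp k K p) K = p := by
  have hp : p.Prime := Fact.out
  obtain ⟨s, hs, hsep⟩ := exists_separating hK hg
  have hds := D_ne_zero_of_separating hs hsep
  have hsF : s ∉ Fp k K p := fun h => hds (Fp_le_kerD p h)
  have htop := adjoin_Fp_eq_top (k := k) p hsep
  set F := Fp k K p with hF
  set a : F := ⟨s ^ p, pow_mem_Fp p s⟩ with ha
  have hirr : Irreducible (X ^ p - C a : F[X]) := by
    apply X_pow_sub_C_irreducible_of_prime hp
    intro b hb
    have h1 : (b : K) ^ p = s ^ p := by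
      have := congrArg (fun z : F => (z : K)) hb
      simpa using this
    have h2 : (b : K) = s := by
      haveI : ExpChar K p := ExpChar.prime hp
      exact frobenius_inj K p h1
    exact hsF (h2 ▸ b.2)
  have hmonic : (X ^ p - C a : F[X]).Monic := monic_X_pow_sub_C a hp.ne_zero
  have hroot : aeval s (X ^ p - C a : F[X]) = 0 := by
    rw [map_sub, map_pow, aeval_X, aeval_C]
    show s ^ p - (a : K) = 0
    rw [ha, sub_self]
  have hmin : (X ^ p - C a : F[X]) = minpoly F s :=
    minpoly.eq_of_irreducible_of_monic hirr hroot hmonic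
  have hint : IsIntegral F s := ⟨_, hmonic, hroot⟩
  have h3 := IntermediateField.adjoin.finrank hint
  rw [htop, ← hmin, natDegree_X_pow_sub_C] at h3
  rw [← h3]
  exact (IntermediateField.finrank_top').symm

theorem kerD_eq_Fp (hK : IsFunctionField k K) (hg : IsGeometric k K) (p : ℕ) [Fact p.Prime]
    [CharP K p] : kerD k K = Fp k K p := by
  have hp : p.Prime := Fact.out
  apply le_antisymm _ (Fp_le_kerD p)
  intro x hx
  obtain ⟨s, hs, hsep⟩ := exists_separating hK hg
  have hds := D_ne_zero_of_separating hs hsep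
  have hrank := finrank_Fp hK hg p
  have hsimple := isSimpleOrder_of_finrank_prime (Fp k K p) K (by rw [hrank]; exact hp)
  set C' : IntermediateField (Fp k K p) K := extendScalars (Fp_le_kerD (k := k) (K := K) p)
    with hC'
  rcases eq_bot_or_eq_top C' with hbot | htop
  · have hx' : x ∈ C' := hx
    rw [hbot, IntermediateField.mem_bot] at hx'
    obtain ⟨y, rfl⟩ := hx'
    exact y.2
  · exfalso
    have hs' : s ∈ C' := by rw [htop]; exact mem_top
    exact hds hs'

/-- S11002 -/
theorem mem_Fp_iff (hK : IsFunctionField k K) (hg : IsGeometric k K) (p : ℕ) [Fact p.Prime]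
    [CharP K p] (x : K) :
    (x ∈ Fp k K p ↔ KaehlerDifferential.D k K x = 0) ∧
    (x ∈ Fp k K p ↔ ¬ Algebra.IsSeparable k⟮x⟯ K) := by
  have h1 : x ∈ Fp k K p ↔ KaehlerDifferential.D k K x = 0 := by
    rw [← kerD_eq_Fp hK hg p]
    exact mem_kerD
  refine ⟨h1, ?_⟩
  rw [h1]
  constructor
  · intro hdx hsep
    have htr : Transcendental k x := by
      intro halg
      obtain ⟨x₀, hx₀, -⟩ := hK.1
      apply hx₀
      have h2 : Algebra.IsAlgebraic k k⟮x⟯ := isAlgebraic_adjoin_simple halg.isIntegral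
      have h3 : Algebra.IsAlgebraic k⟮x⟯ K := Algebra.IsSeparable.isAlgebraic _ _
      have h4 : Algebra.IsAlgebraic k K := Algebra.IsAlgebraic.trans k k⟮x⟯ K
      exact h4.isAlgebraic x₀
    exact D_ne_zero_of_separating htr hsep hdx
  · intro hns
    by_contra hdx
    exact hns (separating_of_D_ne_zero hK hg hdx)

end Groth.Agent.H55
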