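import Groth.Agent.H55.Sep3

set_option autoImplicit false

namespace Groth.Agent.H55

open FunFld Module IntermediateField Polynomial
open scoped TensorProduct

universe u v

variable {k : Type u} {K : Type v} [Field k] [Field K] [Algebra k K]

theorem isPurelyInseparable_Fp (p : ℕ) [Fact p.Prime] [CharP K p] :
    IsPurelyInseparable (Fp k K p) K := by
  haveI : CharP (Fp k K p) p :=
    RingHom.charP (algebraMap (Fp k K p) K) (algebraMap (Fp k K p) K).injective p
  haveI : ExpChar (Fp k K p) p := ExpChar.prime (Fact.out : p.Prime)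
  rw [isPurelyInseparable_iff_pow_mem (Fp k K p) p]
  intro y
  exact ⟨1, ⟨⟨y ^ p, pow_mem_Fp p y⟩, by rw [pow_one]; rfl⟩⟩

/-- S11007 -/
theorem purelyInseparable_degree_char_iff (hK : IsFunctionField k K) (hg : IsGeometric k K)
    (p : ℕ) [Fact p.Prime] [CharP K p] (K₀ : IntermediateField k K) :
    (IsPurelyInseparable K₀ K ∧ finrank K₀ K = p) ↔ K₀ = Fp k K p := by
  have hp : p.Prime := Fact.out
  constructor
  · rintro ⟨hpi, hrank⟩
    haveI : CharP K₀ p := RingHom.charP (algebraMap K₀ K) (algebraMap K₀ K).injective p
    haveI : ExpChar K₀ p := ExpChar.prime hp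
    have hfin : FiniteDimensional K₀ K := Module.finite_of_finrank_pos (by rw [hrank]; exact hp.pos)
    -- `K^p ⊆ K₀`
    have hpow : ∀ y : K, y ^ p ∈ K₀ := by
      intro y
      obtain ⟨n, a, hmin⟩ := IsPurelyInseparable.minpoly_eq_X_pow_sub_C K₀ p y
      have hdeg : (minpoly K₀ y).natDegree ≤ p := hrank ▸ minpoly.natDegree_le y
      rw [hmin, natDegree_X_pow_sub_C] at hdeg
      have hn : n ≤ 1 := by
        by_contra hlt
        push Not at hlt
        have : p ^ 2 ≤ p ^ n := Nat.pow_le_pow_right hp.pos hlt
        have h2 : p < p ^ 2 := by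
          have := hp.one_lt
          nlinarith
        omega
      have hroot : aeval y (minpoly K₀ y) = 0 := minpoly.aeval K₀ y
      rw [hmin, map_sub, map_pow, aeval_X, aeval_C, sub_eq_zero] at hroot
      interval_cases n
      · rw [pow_zero, pow_one] at hroot
        rw [hroot]
        exact pow_mem a.2 p
      · rw [pow_one] at hroot
        rw [hroot]
        exact a.2
    have hle : Fp k K p ≤ K₀ := by
      unfold Fp
      rw [adjoin_le_iff]
      rintro _ ⟨y, rfl⟩
      exact hpow y
    have h1 := finrank_Fp hK hg p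
    have h2 := Module.finrank_mul_finrank (Fp k K p) (extendScalars hle) K
    have h3 : finrank (extendScalars hle) K = p := hrank
    rw [h1, h3] at h2
    have h4 : finrank (Fp k K p) (extendScalars hle) = 1 := by
      have := hp.pos
      nlinarith
    have h5 := IntermediateField.finrank_eq_one_iff.mp h4
    apply le_antisymm _ hle
    intro x hx
    have hx' : x ∈ extendScalars hle := hx
    rw [h5, IntermediateField.mem_bot] at hx'
    obtain ⟨y, rfl⟩ := hx'
    exact y.2
  · rintro rfl
    exact ⟨isPurelyInseparable_Fp p, finrank_Fp hK hg p⟩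

end Groth.Agent.H55
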