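import Groth.Agent.H55.Sep4

set_option autoImplicit false

namespace Groth.Agent.H55

open FunFld Module IntermediateField Polynomial

universe u v

variable {k : Type u} {K : Type v} [Field k] [Field K] [Algebra k K]

/-- a generating subspace contains a separating variable -/
theorem exists_separating_mem (hK : IsFunctionField k K) (hg : IsGeometric k K)
    (W : Submodule k K) (hW : adjoin k (W : Set K) = ⊤) :
    ∃ x ∈ W, Algebra.IsSeparable k⟮x⟯ K := by
  by_contra hcon
  push Not at hcon
  have h1 : ∀ x ∈ W, KaehlerDifferential.D k K x = 0 := by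
    intro x hx
    by_contra hdx
    exact hcon x hx (separating_of_D_ne_zero hK hg hdx)
  have h2 : adjoin k (W : Set K) ≤ kerD k K := adjoin_le_iff.mpr fun x hx => h1 x hx
  rw [hW] at h2
  obtain ⟨s, hs, hsep⟩ := exists_separating hK hg
  exact D_ne_zero_of_separating hs hsep (h2 mem_top)

/-- for a separating `x`, a generating subspace contains a primitive element over `k(x)` -/
theorem exists_generator_mem [Infinite k] (W : Submodule k K) (hW : adjoin k (W : Set K) = ⊤)
    {x : K} [FiniteDimensional k⟮x⟯ K] (hsep : Algebra.IsSeparable k⟮x⟯ K) :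
    ∃ y ∈ W, adjoin k ({x, y} : Set K) = ⊤ := by
  classical
  have hfin : Finite (IntermediateField k⟮x⟯ K) :=
    Field.finite_intermediateField_of_exists_primitive_element k⟮x⟯ K
      (Field.exists_primitive_element k⟮x⟯ K)
  let p : {E : IntermediateField k⟮x⟯ K // E ≠ ⊤} → Submodule k W := fun E =>
    Submodule.comap W.subtype (E.1.restrictScalars k).toSubalgebra.toSubmodule
  have hne : ⋃ E, (p E : Set W) ≠ Set.univ := by
    intro hcov
    obtain ⟨E, hE⟩ := Subspace.exists_eq_top_of_iUnion_eq_univ hcov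
    apply E.2
    have hWE : ∀ w ∈ W, w ∈ E.1 := by
      intro w hw
      have : (⟨w, hw⟩ : W) ∈ p E := by rw [hE]; trivial
      exact this
    have h1 : adjoin k (W : Set K) ≤ E.1.restrictScalars k := adjoin_le_iff.mpr hWE
    rw [hW] at h1
    rw [eq_top_iff]
    intro z _
    exact h1 mem_top
  obtain ⟨y, hy⟩ := (Set.ne_univ_iff_exists_notMem _).mp hne
  rw [Set.mem_iUnion] at hy
  push Not at hy
  refine ⟨y.1, y.2, ?_⟩
  have h2 : k⟮x⟯⟮(y : K)⟯ = ⊤ := by
    by_contra hne'
    exact hy ⟨_, hne'⟩ (mem_adjoin_simple_self k⟮x⟯ (y : K))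
  rw [← adjoin_simple_adjoin_simple, h2, restrictScalars_top]

theorem transcendental_of_separating (hK : IsFunctionField k K) {x : K}
    (hsep : Algebra.IsSeparable k⟮x⟯ K) : Transcendental k x := by
  intro halg
  obtain ⟨x₀, hx₀, -⟩ := hK.1
  apply hx₀
  have h2 : Algebra.IsAlgebraic k k⟮x⟯ := isAlgebraic_adjoin_simple halg.isIntegral
  have h3 : Algebra.IsAlgebraic k⟮x⟯ K := Algebra.IsSeparable.isAlgebraic _ _
  have h4 : Algebra.IsAlgebraic k K := Algebra.IsAlgebraic.trans k k⟮x⟯ K
  exact h4.isAlgebraic x₀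

/-- S11050 -/
theorem exists_separating_mem_and_generator [IsAlgClosed k] (hK : IsFunctionField k K)
    (W : Submodule k K) (hW : adjoin k (W : Set K) = ⊤) :
    (∃ x ∈ W, Algebra.IsSeparable k⟮x⟯ K) ∧
    ∀ x ∈ W, Algebra.IsSeparable k⟮x⟯ K → ∃ y ∈ W, adjoin k ({x, y} : Set K) = ⊤ := by
  have hg : IsGeometric k K := isGeometric_of_perfectField k K hK
  refine ⟨exists_separating_mem hK hg W hW, fun x _ hsep => ?_⟩
  have htr := transcendental_of_separating hK hsep
  have hfd := finiteDimensional_adjoin_of_transcendental hK htr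
  exact exists_generator_mem W hW hsep

end Groth.Agent.H55
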