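import Groth.Agent.H55.Sep5

set_option autoImplicit false

namespace Groth.Agent.H55

open FunFld Module IntermediateField Polynomial WithZero

universe u v

variable {k : Type u} {K : Type v} [Field k] [Field K] [Algebra k K]

/-- `k K^p` is the `k`-span of the `p`-th powers -/
theorem Fp_toSubalgebra (p : ℕ) [Fact p.Prime] [CharP K p] :
    (Fp k K p).toSubalgebra = Algebra.adjoin k (Set.range fun y : K => y ^ p) := by
  have hp : p.Prime := Fact.out
  apply adjoin_eq_algebra_adjoin
  intro x hx
  by_cases hx0 : x = 0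
  · rw [hx0, inv_zero]; exact Subalgebra.zero_mem _
  have h1 : x⁻¹ = x ^ (p - 1) * (x⁻¹) ^ p := by
    have hpp : p = (p - 1) + 1 := by have := hp.pos; omega
    conv_rhs => rw [inv_pow, hpp, pow_succ x (p - 1), Nat.add_sub_cancel]
    field_simp
  rw [h1]
  exact Subalgebra.mul_mem _ (Subalgebra.pow_mem _ hx _) (Algebra.subset_adjoin ⟨x⁻¹, rfl⟩)

theorem mem_Fp_iff_mem_span (p : ℕ) [Fact p.Prime] [CharP K p] (x : K) :
    x ∈ Fp k K p ↔ x ∈ Submodule.span k (Set.range fun y : K => y ^ p) := by
  have h1 : x ∈ Fp k K p ↔ x ∈ (Fp k K p).toSubalgebra := Iff.rfl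
  rw [h1, Fp_toSubalgebra, ← Subalgebra.mem_toSubmodule, Algebra.adjoin_eq_span]
  have h2 := (MonoidHom.mrange (powMonoidHom (α := K) p)).closure_eq
  have h3 : ((MonoidHom.mrange (powMonoidHom (α := K) p)) : Set K) =
      Set.range fun y : K => y ^ p := by
    ext z
    simp [MonoidHom.mem_mrange]
  rw [← h3, h2]

theorem exists_repr_of_mem_Fp (p : ℕ) [Fact p.Prime] [CharP K p] {x : K} (hx : x ∈ Fp k K p) :
    ∃ (n : ℕ) (c : Fin n → k) (y : Fin n → K), x = ∑ i, c i • y i ^ p := by
  classical
  rw [mem_Fp_iff_mem_span, Finsupp.mem_span_range_iff_exists_finsupp] at hx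
  obtain ⟨c, hc⟩ := hx
  refine ⟨c.support.card, fun i => c (c.support.equivFin.symm i),
    fun i => (c.support.equivFin.symm i : K), ?_⟩
  rw [← hc, Finsupp.sum, ← Finset.sum_coe_sort]
  exact (Fintype.sum_equiv c.support.equivFin.symm _ _ (fun i => rfl)).symm

/-- abstract linear-disjointness step for a finite separable extension -/
theorem sep_pow_indep {k F : Type*} [Field k] [Field F] [Algebra k F] [FiniteDimensional k F]
    [Algebra.IsSeparable k F] (p : ℕ) (hp : p.Prime) [ExpChar k p] {n : ℕ} (c : Fin n → k)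
    (ζ : Fin n → F) (hindep : ∀ a : Fin n → k, ∑ i, c i * a i ^ p = 0 → ∀ i, a i = 0)
    (hsum : ∑ i, c i • ζ i ^ p = 0) : ∀ i, ζ i = 0 := by
  haveI : ExpChar F p := expChar_of_injective_algebraMap (algebraMap k F).injective p
  let b := Module.finBasis k F
  have hbp : LinearIndependent k (fun j => b j ^ p) := by
    have h1 := b.linearIndependent.map_pow_expChar_pow_of_isSeparable p 1
    simpa using h1
  have hexp : ∀ i, ζ i ^ p = ∑ j, (b.repr (ζ i) j) ^ p • b j ^ p := by
    intro i
    conv_lhs => rw [← b.sum_repr (ζ i)]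
    rw [sum_pow_char]
    apply Finset.sum_congr rfl
    intro j _
    rw [_root_.smul_pow]
  have hsum2 : ∑ j, (∑ i, c i * (b.repr (ζ i) j) ^ p) • b j ^ p = 0 := by
    rw [← hsum]
    simp_rw [hexp, Finset.smul_sum, Finset.sum_smul, mul_smul]
    exact Finset.sum_comm
  have hcoef := Fintype.linearIndependent_iff.mp hbp _ hsum2
  intro i
  apply b.repr.injective
  ext j
  rw [map_zero, Finsupp.zero_apply]
  exact hindep _ (hcoef j) i

/-- core step: a representation with `k^p`-independent coefficients is impossible -/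
theorem no_repr_indep (p : ℕ) [Fact p.Prime] [CharP K p] (P : Place k K)
    [FiniteDimensional k (IsLocalRing.ResidueField P.O)]
    [Algebra.IsSeparable k (IsLocalRing.ResidueField P.O)] {t : K} (ht : P.1 t = exp (-1 : ℤ))
    {n : ℕ} (c : Fin n → k) (y : Fin n → K) (hrepr : t = ∑ i, c i • y i ^ p)
    (hindep : ∀ a : Fin n → k, ∑ i, c i * a i ^ p = 0 → ∀ i, a i = 0) : False := by
  classical
  have hp : p.Prime := Fact.out
  have ht0 : t ≠ 0 := Place.ne_zero_of_val_eq_exp P ht
  have hne : (Finset.univ : Finset (Fin n)).Nonempty := by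
    by_contra hemp
    rw [Finset.not_nonempty_iff_eq_empty] at hemp
    rw [hemp, Finset.sum_empty] at hrepr
    exact ht0 hrepr
  obtain ⟨i₀, -, hi₀⟩ := Finset.exists_max_image Finset.univ (fun i => P.1 (y i)) hne
  have hy0 : y i₀ ≠ 0 := by
    intro h0
    apply ht0
    rw [hrepr]
    apply Finset.sum_eq_zero
    intro i _
    have h1 := hi₀ i (Finset.mem_univ i)
    rw [h0, map_zero] at h1
    have h2 : y i = 0 := by
      by_contra hne'
      exact absurd h1 (not_le.mpr (zero_lt_iff.mpr ((Valuation.ne_zero_iff _).mpr hne')))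
    rw [h2, zero_pow hp.ne_zero, smul_zero]
  have hv0 : P.1 (y i₀) ≠ 0 := (Valuation.ne_zero_iff _).mpr hy0
  -- normalised entries
  have hz : ∀ i, P.1 (y i / y i₀) ≤ 1 := by
    intro i
    rw [map_div₀]
    exact (div_le_one₀ (zero_lt_iff.mpr hv0)).mpr (hi₀ i (Finset.mem_univ i))
  let zO : Fin n → P.O := fun i => ⟨y i / y i₀, hz i⟩
  let wO : P.O := ∑ i, c i • zO i ^ p
  have hwO : (wO : K) = t / y i₀ ^ p := by
    have h1 : (wO : K) = Place.inclLin P wO := rfl
    rw [h1, map_sum, hrepr, Finset.sum_div]
    apply Finset.sum_congr rfl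
    intro i _
    rw [map_smul, Place.inclLin_apply]
    show c i • (y i / y i₀) ^ p = c i • y i ^ p / y i₀ ^ p
    rw [div_pow, smul_div_assoc]
  -- the value of `w`
  have hwval : P.1 (wO : K) < 1 := by
    have hle : P.1 (wO : K) ≤ 1 := wO.2
    rcases hle.lt_or_eq with h | h
    · exact h
    · exfalso
      rw [hwO, map_div₀, map_pow, ht, Place.val_eq_exp_neg_ord P hy0, ← exp_nsmul, ← exp_sub,
        ← exp_zero, exp_inj] at h
      have h2 : (p : ℤ) * (P.ord (y i₀)) = 1 := by
        simp only [nsmul_eq_mul] at h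
        linarith
      have h3 : (p : ℤ) ∣ 1 := Dvd.intro _ h2
      have h4 := Int.natCast_dvd_natCast.mp (by simpa using h3 : ((p : ℕ) : ℤ) ∣ ((1 : ℕ) : ℤ))
      exact hp.one_lt.ne' (Nat.dvd_one.mp h4)
  -- reduction modulo `P`
  have hres : ∑ i, c i • (IsLocalRing.residue P.O (zO i)) ^ p = 0 := by
    have h1 : IsLocalRing.residue P.O wO = 0 := (Place.residue_eq_zero_iff P wO).mpr hwval
    rw [← h1, ← Place.resLin_apply, map_sum]
    apply Finset.sum_congr rfl
    intro i _
    rw [map_smul, Place.resLin_apply, map_pow]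
  -- linear disjointness in the residue field
  haveI : CharP k p := RingHom.charP (algebraMap k K) (algebraMap k K).injective p
  haveI : ExpChar k p := ExpChar.prime hp
  have hfd0 : FiniteDimensional k (IsLocalRing.ResidueField P.O) := inferInstance
  haveI hfd : @Module.Finite k (IsLocalRing.ResidueField P.O) _ _ Algebra.toModule := hfd0
  have hzero := sep_pow_indep (F := IsLocalRing.ResidueField P.O) p hp c
    (fun i => IsLocalRing.residue P.O (zO i)) hindep hres
  have h1 : zO i₀ = 1 := by
    apply Subtype.ext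
    show y i₀ / y i₀ = 1
    exact div_self hy0
  have := hzero i₀
  rw [h1, map_one] at this
  exact one_ne_zero this

/-- a uniformizer at a place with separable residue field is not in `k K^p` -/
theorem no_repr (p : ℕ) [Fact p.Prime] [CharP K p] (P : Place k K)
    [FiniteDimensional k (IsLocalRing.ResidueField P.O)]
    [Algebra.IsSeparable k (IsLocalRing.ResidueField P.O)] {t : K} (ht : P.1 t = exp (-1 : ℤ)) :
    ∀ (n : ℕ) (c : Fin n → k) (y : Fin n → K), t ≠ ∑ i, c i • y i ^ p := by
  have hp : p.Prime := Fact.out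
  haveI : ExpChar K p := ExpChar.prime hp
  intro n
  induction n with
  | zero =>
    intro c y h
    rw [Finset.univ_eq_empty, Finset.sum_empty] at h
    exact Place.ne_zero_of_val_eq_exp P ht h
  | succ n ih =>
    intro c y hrepr
    by_cases hindep : ∀ a : Fin (n + 1) → k, ∑ i, c i * a i ^ p = 0 → ∀ i, a i = 0
    · exact no_repr_indep p P ht c y hrepr hindep
    · push Not at hindep
      obtain ⟨a, ha, j, hj⟩ := hindep
      -- eliminate the index `j`
      apply ih (fun i => c (j.succAbove i)) (fun i => y (j.succAbove i) - algebraMap k K (a (j.succAbove i) / a j) * y j)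
      rw [hrepr, Fin.sum_univ_succAbove _ j]
      have hcj : c j = -∑ i, c (j.succAbove i) * (a (j.succAbove i) / a j) ^ p := by
        rw [Fin.sum_univ_succAbove _ j] at ha
        have hajp : a j ^ p ≠ 0 := pow_ne_zero _ hj
        have h1 : c j * a j ^ p = -∑ i, c (j.succAbove i) * a (j.succAbove i) ^ p := by
          linear_combination ha
        have h2 : c j = (-∑ i, c (j.succAbove i) * a (j.succAbove i) ^ p) / a j ^ p := by
          rw [← h1, mul_div_assoc, div_self hajp, mul_one]
        rw [h2, neg_div, Finset.sum_div]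
        congr 1
        apply Finset.sum_congr rfl
        intro i _
        rw [div_pow, mul_div_assoc]
      rw [hcj, neg_smul, Finset.sum_smul, ← Finset.sum_neg_distrib, ← Finset.sum_add_distrib]
      apply Finset.sum_congr rfl
      intro i _
      rw [sub_pow_expChar, mul_pow, ← map_pow, smul_sub, Algebra.smul_def, Algebra.smul_def,
        Algebra.smul_def, map_mul]
      ring

/-- S11030 -/
theorem D_uniformizer_ne_zero (hK : IsFunctionField k K) (hg : IsGeometric k K) (P : Place k K)
    [Algebra.IsSeparable k (IsLocalRing.ResidueField P.O)] {t : K} (ht : P.1 t = exp (-1 : ℤ)) :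
    KaehlerDifferential.D k K t ≠ 0 := by
  have ht0 : t ≠ 0 := Place.ne_zero_of_val_eq_exp P ht
  have htr : Transcendental k t :=
    W.transcendental_of_val_ne_one P ht0 (by rw [ht]; exact Place.exp_neg_one_lt_one.ne)
  rcases CharP.exists' K with h0 | ⟨p, hp, hpK⟩
  · -- characteristic zero: every transcendental element is separating
    have hfd := finiteDimensional_adjoin_of_transcendental hK htr
    haveI : CharZero k⟮t⟯ := RingHom.charZero (algebraMap k⟮t⟯ K)
    have hsep : Algebra.IsSeparable k⟮t⟯ K := Algebra.IsAlgebraic.isSeparable_of_perfectField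
    exact D_ne_zero_of_separating htr hsep
  · intro hdt
    have hfin := Place.finiteDimensional_residue hK P
    have hmem : t ∈ Fp k K p := by
      rw [← kerD_eq_Fp hK hg p]
      exact hdt
    obtain ⟨n, c, y, hrepr⟩ := exists_repr_of_mem_Fp p hmem
    exact no_repr p P ht n c y hrepr

end Groth.Agent.H55
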