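import Groth.Agent.H55.FFCond7
import Groth.Agent.H55.GalTrans
import Groth.Agent.H55.Ram3
set_option autoImplicit false

namespace Groth.Agent.H55.W

open FunFld WithZero IntermediateField Polynomial
open Groth.Agent.H55.Place

variable {k K : Type*} [Field k] [Field K] [Algebra k K]

/-- weak function fields: some transcendental `x` with `[K : k(x)]` finite (the constant field
`k` need not be algebraically closed in `K`). -/
def IsWeakFF (k K : Type*) [Field k] [Field K] [Algebra k K] : Prop :=
  ∃ x : K, Transcendental k x ∧ FiniteDimensional k⟮x⟯ K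

theorem _root_.FunFld.IsFunctionField.weak (hK : IsFunctionField k K) : IsWeakFF k K := hK.1

/-- algebraic elements have value at most one at every place -/
theorem val_le_one_of_isAlgebraic (P : Place k K) {x : K} (hx : IsAlgebraic k x) : P.1 x ≤ 1 := by
  have h1 : IsIntegral k x := hx.isIntegral
  have h2 : IsIntegral P.O x := h1.tower_top
  exact (Valuation.valuationSubring.integers P.1).isIntegral_iff_v_le_one.mp h2

theorem val_eq_one_of_isAlgebraic (P : Place k K) {x : K} (hx : IsAlgebraic k x) (hx0 : x ≠ 0) :
    P.1 x = 1 := by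
  apply le_antisymm (val_le_one_of_isAlgebraic P hx)
  have h1 := val_le_one_of_isAlgebraic P hx.inv
  rw [map_inv₀] at h1
  have h0 : P.1 x ≠ 0 := (Valuation.ne_zero_iff _).mpr hx0
  exact (inv_le_one₀ (zero_lt_iff.mpr h0)).mp h1

/-- nonzero elements with valuation `≠ 1` are transcendental -/
theorem transcendental_of_val_ne_one (P : Place k K) {x : K} (hx0 : x ≠ 0) (hx : P.1 x ≠ 1) :
    Transcendental k x := fun h => hx (val_eq_one_of_isAlgebraic P h hx0)

theorem finiteDimensional_adjoin_of_transcendental (hK : IsWeakFF k K) {y : K}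
    (hy : Transcendental k y) : FiniteDimensional k⟮y⟯ K := by
  obtain ⟨x, hx, hfin⟩ := hK
  have halg : IsAlgebraic k⟮y⟯ x := by
    have h1 : IsAlgebraic k⟮x⟯ y := Algebra.IsAlgebraic.isAlgebraic y
    have := IsAlgebraic.adjoin_singleton (R := k) (A := K) (B := K) hx hy
      (isAlgebraic_adjoin_iff.mp h1)
    exact isAlgebraic_adjoin_iff.mpr this
  let Fyx := restrictScalars k k⟮y⟯⟮x⟯
  let Fxy := restrictScalars k k⟮x⟯⟮y⟯
  let : Algebra k⟮y⟯ Fyx := k⟮y⟯⟮x⟯.algebra
  let : Module k⟮y⟯ Fyx := Algebra.toModule
  let : SMul k⟮y⟯ Fyx := Algebra.toSMul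
  let : Algebra k⟮x⟯ Fxy := k⟮x⟯⟮y⟯.algebra
  let : Module k⟮x⟯ Fxy := Algebra.toModule
  let : SMul k⟮x⟯ Fxy := Algebra.toSMul
  have : FiniteDimensional k⟮y⟯ Fyx :=
    adjoin.finiteDimensional (isAlgebraic_iff_isIntegral.mp halg)
  have : FiniteDimensional Fyx K := by
    unfold Fyx
    rw [adjoin_simple_comm]
    have : IsScalarTower k⟮x⟯ Fxy K := isScalarTower_mid' k⟮x⟯⟮y⟯
    exact .right k⟮x⟯ Fxy K
  have : IsScalarTower k⟮y⟯ Fyx K := isScalarTower_mid' k⟮y⟯⟮x⟯
  exact .trans k⟮y⟯ Fyx K

namespace Place

theorem residue_finite (hK : IsWeakFF k K) (P : Place k K) {t : K} (ht0 : t ≠ 0)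
    (ht : P.1 t < 1) :
    FiniteDimensional k (IsLocalRing.ResidueField P.O) ∧ P.deg ≤ Module.finrank k⟮t⟯ K := by
  have htr : Transcendental k t := transcendental_of_val_ne_one P ht0 ht.ne
  have hfin := finiteDimensional_adjoin_of_transcendental hK htr
  apply finiteDimensional_of_card_bound
  intro s hs
  choose! z hz using fun w : IsLocalRing.ResidueField P.O => IsLocalRing.residue_surjective w
  have hli : LinearIndependent k⟮t⟯ (fun i : s => ((z i : P.O) : K)) := by
    apply linearIndependent_of_mod htr (OSub P)
    · intro m hm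
      rw [mem_OSub] at hm ⊢
      rw [map_mul]
      exact (mul_le_mul' ht.le hm).trans_eq (one_mul _)
    · intro i; exact (z i).2
    · intro c ⟨m, hm, hcm⟩
      rw [linearIndependent_iff] at hs
      apply hs
      have h1 : Finsupp.linearCombination k (fun i : s => (i : IsLocalRing.ResidueField P.O)) c =
          resLin P (Finsupp.linearCombination k (fun i : s => z i) c) := by
        rw [Finsupp.linearCombination_apply, Finsupp.linearCombination_apply, map_finsuppSum]
        apply Finsupp.sum_congr
        intro i _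
        rw [map_smul, resLin_apply, hz]
        rfl
      rw [h1, resLin_apply, residue_eq_zero_iff]
      have h2 : ((Finsupp.linearCombination k (fun i : s => z i) c : P.O) : K) = t * m := by
        rw [← hcm, ← inclLin_apply, Finsupp.linearCombination_apply,
          Finsupp.linearCombination_apply, map_finsuppSum]
        apply Finsupp.sum_congr
        intro i _
        rw [map_smul, inclLin_apply]
      rw [h2, map_mul]
      calc P.1 t * P.1 m ≤ P.1 t * 1 := by gcongr; exact hm
        _ < 1 := by rwa [mul_one]
  have := hli.fintype_card_le_finrank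
  simpa using this

theorem finiteDimensional_residue (hK : IsWeakFF k K) (P : Place k K) :
    FiniteDimensional k (IsLocalRing.ResidueField P.O) := by
  obtain ⟨t, ht⟩ := exists_uniformizer P
  exact (residue_finite hK P (ne_zero_of_val_eq_exp P ht) (ht ▸ exp_neg_one_lt_one)).1

theorem deg_pos (hK : IsWeakFF k K) (P : Place k K) : 0 < P.deg := by
  have := finiteDimensional_residue hK P
  exact Module.finrank_pos

end Place

end Groth.Agent.H55.W
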