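import Groth.Agent.H55.WExt3

set_option autoImplicit false

namespace Groth.Agent.H55

open FunFld WithZero Module IntermediateField

variable {k K K' : Type*} [Field k] [Field K] [Field K'] [Algebra k K] [Algebra K K']
  [Algebra k K'] [IsScalarTower k K K']

/-- the divisor `∑_{Q | P} e(Q|P) Q` -/
noncomputable def conormPlace [FiniteDimensional K K'] (hK : IsFunctionField k K) (P : Place k K) :
    Divisor k K' :=
  ∑ Q ∈ (sum_ramIdx_mul_deg (K' := K') hK P).1.toFinset, (ramIdx Q P : ℤ) • Finsupp.single Q 1

theorem conorm_eq [FiniteDimensional K K'] (hK : IsFunctionField k K) (D : Divisor k K) :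
    conorm K' D = D.sum fun P n => n • conormPlace (K' := K') hK P := by
  classical
  unfold conorm
  apply Finsupp.sum_congr
  intro P _
  rw [dif_pos (sum_ramIdx_mul_deg (K' := K') hK P).1]
  rfl

theorem conormPlace_apply [FiniteDimensional K K'] (hK : IsFunctionField k K) (P : Place k K)
    (Q : Place k K') :
    conormPlace (K' := K') hK P Q = ramIdx Q P := by
  classical
  unfold conormPlace
  rw [Finsupp.finsetSum_apply]
  have hfin := (sum_ramIdx_mul_deg (K' := K') hK P).1
  have hmem : ∀ Q' : Place k K', Q' ∈ hfin.toFinset ↔ IsOver Q' P := fun Q' => hfin.mem_toFinset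
  by_cases hQ : IsOver Q P
  · rw [Finset.sum_eq_single Q]
    · rw [Finsupp.smul_apply, Finsupp.single_eq_same, smul_eq_mul, mul_one]
    · intro Q' _ hne
      rw [Finsupp.smul_apply, Finsupp.single_apply, if_neg hne, smul_zero]
    · intro hnot
      exact absurd ((hmem Q).mpr hQ) hnot
  · have h0 : ramIdx Q P = 0 := by
      unfold ramIdx
      rw [dif_neg hQ]
    rw [h0, Nat.cast_zero]
    apply Finset.sum_eq_zero
    intro Q' hQ'
    have hQ'over : IsOver Q' P := (hmem Q').mp hQ'
    have hne : Q' ≠ Q := fun h => hQ (h ▸ hQ'over)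
    rw [Finsupp.smul_apply, Finsupp.single_apply, if_neg hne, smul_zero]

theorem deg_conormPlace [FiniteDimensional K K'] (hK : IsFunctionField k K) (P : Place k K) :
    (conormPlace (K' := K') hK P).deg = finrank K K' * P.deg := by
  classical
  unfold conormPlace
  rw [Divisor.deg_sum]
  have hfin := (sum_ramIdx_mul_deg (K' := K') hK P).1
  have h := (sum_ramIdx_mul_deg (K' := K') hK P).2 hfin.toFinset (fun Q => hfin.mem_toFinset)
  have h' : ∑ Q ∈ (sum_ramIdx_mul_deg (K' := K') hK P).1.toFinset,
      ((ramIdx Q P : ℤ) * (Q.deg : ℤ)) = (finrank K K' : ℤ) * P.deg := by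
    exact_mod_cast h
  rw [← h']
  apply Finset.sum_congr rfl
  intro Q _
  rw [← Divisor.degHom_apply, map_zsmul, Divisor.degHom_apply, Divisor.deg_single, one_mul, smul_eq_mul]

/-- S11032, first half -/
theorem deg_conorm [FiniteDimensional K K'] (hK : IsFunctionField k K) (D : Divisor k K) :
    (conorm K' D).deg = finrank K K' * D.deg := by
  classical
  rw [conorm_eq hK, ← Divisor.degHom_apply, map_finsuppSum]
  unfold FunFld.Divisor.deg
  rw [Finsupp.mul_sum]
  apply Finsupp.sum_congr
  intro P _
  rw [map_zsmul, Divisor.degHom_apply, deg_conormPlace hK P, smul_eq_mul]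
  ring

/-- value of the conorm at a place -/
theorem conorm_apply [FiniteDimensional K K'] (hK : IsFunctionField k K) (D : Divisor k K)
    {Q : Place k K'} {P : Place k K} {e : ℕ} (h : IsOverWith Q P e) :
    conorm K' D Q = e * D P := by
  classical
  rw [conorm_eq hK, Finsupp.sum_apply]
  have hterm : ∀ P' : Place k K, P' ≠ P →
      (D P' • conormPlace (K' := K') hK P') Q = 0 := by
    intro P' hne
    rw [Finsupp.smul_apply, conormPlace_apply]
    have hnot : ¬ IsOver Q P' := fun h' => hne (isOver_unique h' ⟨e, h⟩)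
    have h0 : ramIdx Q P' = 0 := by
      unfold ramIdx
      rw [dif_neg hnot]
    rw [h0, Nat.cast_zero, smul_zero]
  rw [Finsupp.sum, Finset.sum_eq_single P]
  · rw [Finsupp.smul_apply, conormPlace_apply, ramIdx_eq h, smul_eq_mul, mul_comm]
  · intro P' _ hne
    exact hterm P' hne
  · intro hP
    rw [Finsupp.notMem_support_iff.mp hP, zero_smul, Finsupp.zero_apply]

/-- S11032, second half -/
theorem div_algebraMap_eq_conorm [FiniteDimensional K K'] (hK : IsFunctionField k K) (x : K) :
    FunFld.div k (algebraMap K K' x) = conorm K' (FunFld.div k x) := by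
  have hK' : W.IsWeakFF k K' := W.weak_of_finite hK.weak
  ext Q
  obtain ⟨P, e, he⟩ := exists_place_under hK Q
  rw [conorm_apply hK _ he, W.Place.div_apply hK', Place.div_apply hK, isOverWith_ord_eq he]

end Groth.Agent.H55
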