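import Groth.Agent.H55.WRR
set_option autoImplicit false

namespace Groth.Agent.H55.W

open FunFld WithZero Module IntermediateField
open Groth.Agent.H55.Place

variable {k K : Type*} [Field k] [Field K] [Algebra k K]

theorem zeroDiv_apply (hK : IsWeakFF k K) (x : K) (P : Place k K) :
    zeroDiv k x P = max (P.ord x) 0 := by
  unfold zeroDiv
  rw [Finsupp.sup_apply, Place.div_apply hK]
  rfl

theorem poleDiv_apply (hK : IsWeakFF k K) (x : K) (P : Place k K) :
    poleDiv k x P = max (-P.ord x) 0 := by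
  unfold poleDiv
  rw [Finsupp.sup_apply, Finsupp.neg_apply, Place.div_apply hK]
  rfl

theorem ell_le_deg_add (hK : IsWeakFF k K) {D : Divisor k K} (h : 0 ≤ D) :
    (ell D : ℤ) ≤ D.deg + ell (0 : Divisor k K) := by
  have := ell_sub_le hK h
  rw [Divisor.deg_zero] at this
  omega

/-- The degree of the zero divisor of a transcendental element is at most `[K : k(x)]`. -/
theorem deg_zeroDiv_le (hK : IsWeakFF k K) {x : K} (hx0 : x ≠ 0) :
    (zeroDiv k x).deg ≤ finrank k⟮x⟯ K := by
  rw [Divisor.deg_eq_sum]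
  have hS : ∀ P ∈ (zeroDiv k x).support, P.1 x < 1 := by
    intro P hP
    rw [Finsupp.mem_support_iff, zeroDiv_apply hK] at hP
    rw [← Place.ord_pos_iff P hx0]
    omega
  refine le_trans (le_of_eq ?_) (Place.sum_ord_mul_deg_le hK hx0 _ hS)
  apply Finset.sum_congr rfl
  intro P hP
  have := (Place.ord_pos_iff P hx0).mpr (hS P hP)
  rw [zeroDiv_apply hK, max_eq_left this.le]

/-- There is `C ≥ 0` with `ℓ(l (x)_0 + C) ≥ (l+1) [K : k(x)]` for all `l`. -/
theorem exists_big_L (hK : IsWeakFF k K) {x : K} (hx : Transcendental k x) :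
    ∃ C : Divisor k K, 0 ≤ C ∧
      ∀ l : ℕ, (l + 1) * finrank k⟮x⟯ K ≤ ell (l • zeroDiv k x + C) := by
  classical
  have hx0 : x ≠ 0 := fun h => hx (h ▸ isAlgebraic_zero)
  have hfd : FiniteDimensional k⟮x⟯ K := finiteDimensional_adjoin_of_transcendental hK hx
  set n := finrank k⟮x⟯ K with hn
  let u : Basis (Fin n) k⟮x⟯ K := Module.finBasis k⟮x⟯ K
  let C : Divisor k K := ∑ j, poleDiv k (u j)
  let Z : Divisor k K := zeroDiv k x
  let y : k⟮x⟯ := ⟨x⁻¹, inv_mem (mem_adjoin_simple_self k x)⟩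
  have hy : Transcendental k y := by
    intro halg
    have h1 : IsAlgebraic k (x⁻¹ : K) :=
      (isAlgebraic_algHom_iff (k⟮x⟯.val) Subtype.val_injective (a := y)).mpr halg
    exact hx (by simpa using h1.inv)
  have hpow := linearIndependent_pow_of_transcendental hy
  have hli : LinearIndependent k (fun p : ℕ × Fin n => y ^ p.1 • u p.2) :=
    linearIndependent_smul hpow u.linearIndependent
  have hC0 : 0 ≤ C := Finset.sum_nonneg fun j _ => poleDiv_nonneg _
  have hZ0 : 0 ≤ Z := zeroDiv_nonneg x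
  have hCj : ∀ j, poleDiv k (u j) ≤ C := fun j =>
    Finset.single_le_sum (f := fun j => poleDiv k (u j)) (fun j _ => poleDiv_nonneg _)
      (Finset.mem_univ j)
  have hmem : ∀ (l i : ℕ) (j : Fin n), i ≤ l → y ^ i • u j ∈ L (l • Z + C) := by
    intro l i j hil
    have huj : u j ≠ 0 := u.ne_zero j
    have hval : y ^ i • u j = (x⁻¹) ^ i * u j := by
      rw [Algebra.smul_def]; rfl
    rw [hval, mem_L_iff_ord (mul_ne_zero (pow_ne_zero _ (inv_ne_zero hx0)) huj)]
    intro P
    rw [Place.ord_mul P (pow_ne_zero _ (inv_ne_zero hx0)) huj, Place.ord_pow, Place.ord_inv,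
      Finsupp.add_apply, Finsupp.smul_apply]
    have h1 : poleDiv k (u j) P ≤ C P := hCj j P
    rw [poleDiv_apply hK] at h1
    have h2 : Z P = max (P.ord x) 0 := zeroDiv_apply hK x P
    rw [h2, nsmul_eq_mul]
    have h3 : (i : ℤ) * P.ord x ≤ l * max (P.ord x) 0 := by
      have ha : (i : ℤ) * P.ord x ≤ i * max (P.ord x) 0 :=
        mul_le_mul_of_nonneg_left (le_max_left _ _) (by positivity)
      have hb : (i : ℤ) * max (P.ord x) 0 ≤ l * max (P.ord x) 0 :=
        mul_le_mul_of_nonneg_right (by exact_mod_cast hil) (le_max_right _ _)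
      exact ha.trans hb
    have h4 : -P.ord (u j) ≤ C P := (le_max_left _ _).trans h1
    linarith
  refine ⟨C, hC0, ?_⟩
  intro l
  have hfin : Module.Finite k (L (l • Z + C)) := L_finite hK _
  let g : Fin (l + 1) × Fin n → ℕ × Fin n := fun p => (p.1.1, p.2)
  have hg : Function.Injective g := by
    intro p q hpq
    simp only [g, Prod.mk.injEq] at hpq
    exact Prod.ext (Fin.ext hpq.1) hpq.2
  have hli2 := hli.comp g hg
  let w : Fin (l + 1) × Fin n → L (l • Z + C) := fun p =>
    ⟨y ^ p.1.1 • u p.2, hmem l p.1.1 p.2 (Nat.lt_succ_iff.mp p.1.2)⟩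
  have hw : LinearIndependent k w := LinearIndependent.of_comp (L (l • Z + C)).subtype hli2
  have hcard := hw.fintype_card_le_finrank
  rw [Fintype.card_prod, Fintype.card_fin, Fintype.card_fin] at hcard
  exact hcard

/-- The degree of the zero divisor of a transcendental element is `[K : k(x)]`. -/
theorem deg_zeroDiv (hK : IsWeakFF k K) {x : K} (hx : Transcendental k x) :
    (zeroDiv k x).deg = finrank k⟮x⟯ K := by
  have hx0 : x ≠ 0 := fun h => hx (h ▸ isAlgebraic_zero)
  apply le_antisymm (deg_zeroDiv_le hK hx0)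
  obtain ⟨C, hC0, hC⟩ := exists_big_L hK hx
  set n := finrank k⟮x⟯ K with hn
  set Z : Divisor k K := zeroDiv k x with hZ
  have hZ0 : 0 ≤ Z := zeroDiv_nonneg x
  set e0 : ℤ := (ell (0 : Divisor k K) : ℤ) with he0
  have he0pos : 0 ≤ e0 := by positivity
  have hbound : ∀ l : ℕ, ((l : ℤ) + 1) * n ≤ l * Z.deg + C.deg + e0 := by
    intro l
    have hle : (ell (l • Z + C) : ℤ) ≤ (l • Z + C).deg + e0 :=
      ell_le_deg_add hK (add_nonneg (nsmul_nonneg hZ0 l) hC0)
    rw [Divisor.deg_add, Divisor.deg_nsmul] at hle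
    have : (((l + 1) * n : ℕ) : ℤ) ≤ ell (l • Z + C) := by exact_mod_cast hC l
    push_cast at this
    linarith
  by_contra hlt
  push Not at hlt
  have hZdeg : 0 ≤ Z.deg := Divisor.deg_nonneg hZ0
  have hb := hbound (C.deg + e0).toNat
  have hl : C.deg + e0 ≤ ((C.deg + e0).toNat : ℤ) := Int.self_le_toNat _
  have hZ' : Z.deg ≤ (n : ℤ) - 1 := by
    have : Z.deg < (n : ℤ) := hlt
    omega
  nlinarith

/-- The degree of the pole divisor of a transcendental element is `[K : k(x)]`. -/
theorem poleDiv_eq_zeroDiv_inv (hK : IsWeakFF k K) (x : K) :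
    poleDiv k x = zeroDiv k x⁻¹ := by
  ext P
  rw [poleDiv_apply hK, zeroDiv_apply hK, Place.ord_inv]

theorem deg_poleDiv (hK : IsWeakFF k K) {x : K} (hx : Transcendental k x) :
    (poleDiv k x).deg = finrank k⟮x⟯ K := by
  have hinv : Transcendental k x⁻¹ := fun h => hx (by simpa using h.inv)
  rw [poleDiv_eq_zeroDiv_inv hK, deg_zeroDiv hK hinv]
  exact congrArg (fun F : IntermediateField k K => (finrank F K : ℤ)) (adjoin_inv_eq x)

theorem div_of_isAlgebraic (hK : IsWeakFF k K) {x : K} (hx : IsAlgebraic k x) : div k x = 0 := by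
  ext P
  rw [Place.div_apply hK, Finsupp.zero_apply]
  by_cases hx0 : x = 0
  · rw [hx0, Place.ord_zero]
  · unfold FunFld.Place.ord
    rw [val_eq_one_of_isAlgebraic P hx hx0]
    simp

/-- principal divisors have degree zero -/
theorem deg_div (hK : IsWeakFF k K) (x : K) : (div k x).deg = 0 := by
  by_cases hx : IsAlgebraic k x
  · rw [div_of_isAlgebraic hK hx, Divisor.deg_zero]
  · have htr : Transcendental k x := hx
    rw [div_eq_sub, Divisor.deg_sub, deg_zeroDiv hK htr, deg_poleDiv hK htr, sub_self]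

end Groth.Agent.H55.W
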