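import Groth.Agent.H55.WZeros
set_option autoImplicit false

namespace Groth.Agent.H55.W

open FunFld WithZero Module IntermediateField
open Groth.Agent.H55.Place

variable {k K : Type*} [Field k] [Field K] [Algebra k K]

namespace Divisor

end Divisor

/-- `dim A(D₂)/A(D₁) = deg D₂ - deg D₁`. -/
theorem AD_quot_finrank (hK : IsWeakFF k K) {D₁ D₂ : Divisor k K} (h : D₁ ≤ D₂) :
    Module.Finite k (RelQ (AD D₁) (AD D₂)) ∧
      (finrank k (RelQ (AD D₁) (AD D₂)) : ℤ) = D₂.deg - D₁.deg := by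
  classical
  have hle : ∀ P : Place k K, -D₂ P ≤ -D₁ P := fun P => by have := h P; omega
  have hVfin : ∀ P : (D₂ - D₁).support, Module.Finite k (Place.LocQ P.1 (-D₂ P.1) (-D₁ P.1)) :=
    fun P => (Place.LocQ.finrank hK P.1 (hle P.1)).1
  have hVfree : ∀ P : (D₂ - D₁).support, Module.Free k (Place.LocQ P.1 (-D₂ P.1) (-D₁ P.1)) :=
    fun P => Module.Free.of_divisionRing _ _
  have hVrank : finrank k (∀ P : (D₂ - D₁).support, Place.LocQ P.1 (-D₂ P.1) (-D₁ P.1)) =
      ∑ P : (D₂ - D₁).support, finrank k (Place.LocQ P.1 (-D₂ P.1) (-D₁ P.1)) :=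
    Module.finrank_pi_fintype k
  have hmem : ∀ (a : AD D₂) (P : Place k K), (a : Place k K → K) P ∈ Place.ball P (-D₂ P) := by
    intro a P
    rw [Place.mem_ball, neg_neg]
    exact a.2 P
  obtain ⟨Φ, hΦ⟩ : ∃ Φ : AD D₂ →ₗ[k]
      (∀ P : (D₂ - D₁).support, Place.LocQ P.1 (-D₂ P.1) (-D₁ P.1)),
      ∀ (a : AD D₂) (P : (D₂ - D₁).support), Φ a P =
        Place.LocQ.mk P.1 (-D₂ P.1) (-D₁ P.1) ⟨(a : Place k K → K) P.1, hmem a P.1⟩ :=
    ⟨LinearMap.pi fun P => (Place.LocQ.mk P.1 (-D₂ P.1) (-D₁ P.1)).comp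
      (LinearMap.codRestrict (Place.ball P.1 (-D₂ P.1))
        ((LinearMap.proj P.1).comp (AD D₂).subtype) (fun a => hmem a P.1)), fun a P => rfl⟩
  have hsurj : Function.Surjective Φ := by
    intro q
    choose y hy using fun P : (D₂ - D₁).support =>
      Place.LocQ.mk_surjective P.1 (-D₂ P.1) (-D₁ P.1) (q P)
    have hamem : (fun Q : Place k K => if hQ : Q ∈ (D₂ - D₁).support then
        ((y ⟨Q, hQ⟩ : Place.ball Q (-D₂ Q)) : K) else 0) ∈ AD D₂ := by
      intro Q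
      by_cases hQ : Q ∈ (D₂ - D₁).support
      · simp only [dif_pos hQ]
        have := (y ⟨Q, hQ⟩).2
        rwa [Place.mem_ball, neg_neg] at this
      · simp only [dif_neg hQ, map_zero]; exact zero_le
    refine ⟨⟨_, hamem⟩, ?_⟩
    funext P
    rw [hΦ, ← hy P]
    congr 1
    apply Subtype.ext
    simp only [dif_pos P.2]
  have hker : ∀ a : AD D₂, Φ a = 0 ↔ (a : Place k K → K) ∈ AD D₁ := by
    intro a
    constructor
    · intro h0 P
      by_cases hP : P ∈ (D₂ - D₁).support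
      · have h1 : Φ a ⟨P, hP⟩ = 0 := by rw [h0]; rfl
        rw [hΦ, Place.LocQ.mk_eq_zero, Place.mem_ball, neg_neg] at h1
        exact h1
      · rw [Finsupp.notMem_support_iff, Finsupp.sub_apply] at hP
        have : D₁ P = D₂ P := by omega
        rw [this]; exact a.2 P
    · intro ha
      funext P
      rw [hΦ]
      show Place.LocQ.mk P.1 (-D₂ P.1) (-D₁ P.1) _ = 0
      rw [Place.LocQ.mk_eq_zero, Place.mem_ball, neg_neg]
      exact ha P.1
  have e : RelQ (AD D₁) (AD D₂) ≃ₗ[k]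
      (∀ P : (D₂ - D₁).support, Place.LocQ P.1 (-D₂ P.1) (-D₁ P.1)) :=
    relQEquivOfSurjective (AD D₁) (AD D₂) Φ hsurj hker
  refine ⟨Module.Finite.equiv e.symm, ?_⟩
  rw [e.finrank_eq, hVrank, ← Divisor.deg_sub, Divisor.deg_eq_sum,
    ← Finset.sum_coe_sort (D₂ - D₁).support (fun P => (D₂ - D₁) P * (P.deg : ℤ))]
  push_cast
  apply Finset.sum_congr rfl
  intro P _
  rw [(Place.LocQ.finrank hK P.1 (hle P.1)).2, Pi.sub_apply]; ring

end Groth.Agent.H55.W
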