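import Groth.Agent.H55.WDiv
set_option autoImplicit false

namespace Groth.Agent.H55.W

open FunFld WithZero Module IntermediateField
open Groth.Agent.H55.Place

variable {k K : Type*} [Field k] [Field K] [Algebra k K]

theorem vs_ideal_fg (hK : IsWeakFF k K) (O : ValuationSubring K)
    (hk : ∀ c : k, algebraMap k K c ∈ O) (I : Ideal O) : I.FG := by
  classical
  by_cases hI : I = ⊥
  · rw [hI]; exact Submodule.fg_bot
  obtain ⟨y, hyI, hy0⟩ := Submodule.exists_mem_ne_zero_of_ne_bot hI
  by_cases hyu : IsUnit y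
  · rw [Ideal.eq_top_of_isUnit_mem I hyI hyu]
    exact ⟨{1}, by simp⟩
  have hyK0 : (y : K) ≠ 0 := fun h => hy0 (Subtype.ext h)
  have hynr : (y : K) ∉ Set.range (algebraMap k K) := by
    rintro ⟨c, hc⟩
    apply hyu
    have hc0 : c ≠ 0 := by
      rintro rfl
      rw [map_zero] at hc
      exact hyK0 hc.symm
    refine IsUnit.of_mul_eq_one (⟨algebraMap k K c⁻¹, hk _⟩ : O) ?_
    apply Subtype.ext
    show (y : K) * algebraMap k K c⁻¹ = 1
    rw [← hc, ← map_mul, mul_inv_cancel₀ hc0, map_one]
  have hytr : Transcendental k (y : K) := by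
    intro halg
    apply hyu
    have h1 : IsIntegral k ((y : K)⁻¹) := halg.inv.isIntegral
    letI : Algebra k O := ((algebraMap k K).codRestrict O.toSubring hk).toAlgebra
    haveI : IsScalarTower k O K := IsScalarTower.of_algebraMap_eq (fun c => rfl)
    have h2 : IsIntegral O ((y : K)⁻¹) := h1.tower_top
    obtain ⟨z, hz⟩ := IsIntegrallyClosed.isIntegral_iff.mp h2
    refine IsUnit.of_mul_eq_one z ?_
    apply Subtype.ext
    show (y : K) * (z : K) = 1
    have hz' : (z : K) = (y : K)⁻¹ := hz
    rw [hz', mul_inv_cancel₀ hyK0]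
  have hM : ∀ m ∈ vsSub O hk, (y : K) * m ∈ vsSub O hk := fun m hm => O.mul_mem _ _ y.2 hm
  obtain ⟨hfin, -⟩ := finrank_quot_mul_le hK hytr (vsSub O hk) hM
  -- the part of `I` inside `M`
  let IM : Submodule k (vsSub O hk) :=
    { carrier := {m | (⟨m.1, m.2⟩ : O) ∈ I}
      add_mem' := fun {a b} ha hb => I.add_mem ha hb
      zero_mem' := I.zero_mem
      smul_mem' := fun c m hm => by
        have : (⟨(c • m : vsSub O hk).1, (c • m : vsSub O hk).2⟩ : O) =
            (⟨algebraMap k K c, hk c⟩ : O) * ⟨m.1, m.2⟩ := by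
          apply Subtype.ext
          show ((c • m : vsSub O hk) : K) = algebraMap k K c * (m : K)
          rw [Submodule.coe_smul, Algebra.smul_def]
        rw [Set.mem_ofPred_eq, this]
        exact I.mul_mem_left _ hm }
  have hNfg : (IM.map (Submodule.mkQ
      (Submodule.comap (vsSub O hk).subtype ((vsSub O hk).map (LinearMap.mulLeft k (y : K)))))).FG :=
    IsNoetherian.noetherian _
  obtain ⟨S, hS⟩ := hNfg
  have hSmem : ∀ s ∈ S, ∃ m : vsSub O hk, m ∈ IM ∧ Submodule.mkQ
      (Submodule.comap (vsSub O hk).subtype ((vsSub O hk).map (LinearMap.mulLeft k (y : K)))) m = s := by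
    intro s hs
    have : s ∈ IM.map (Submodule.mkQ _) := by
      rw [← hS]; exact Submodule.subset_span hs
    exact Submodule.mem_map.mp this
  choose! z hzI hzs using hSmem
  refine ⟨insert y (S.image fun s => (⟨(z s).1, (z s).2⟩ : O)), ?_⟩
  apply le_antisymm
  · rw [Submodule.span_le]
    intro w hw
    rw [Finset.coe_insert, Set.mem_insert_iff] at hw
    rcases hw with rfl | hw
    · exact hyI
    · rw [Finset.coe_image] at hw
      obtain ⟨s, hs, rfl⟩ := hw
      exact hzI s hs
  · intro w hw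
    have hwM : (⟨w.1, w.2⟩ : vsSub O hk) ∈ IM := hw
    have h1 : Submodule.mkQ (Submodule.comap (vsSub O hk).subtype
        ((vsSub O hk).map (LinearMap.mulLeft k (y : K)))) ⟨w.1, w.2⟩ ∈
        Submodule.span k (S : Set _) := by
      rw [hS]; exact Submodule.mem_map_of_mem hwM
    obtain ⟨f, hfS, hf⟩ := Submodule.mem_span_finset.mp h1
    have h2 : Submodule.mkQ (Submodule.comap (vsSub O hk).subtype
        ((vsSub O hk).map (LinearMap.mulLeft k (y : K))))
        ((⟨w.1, w.2⟩ : vsSub O hk) - ∑ s ∈ S, f s • z s) = 0 := by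
      rw [map_sub, map_sum, sub_eq_zero, ← hf]
      apply Finset.sum_congr rfl
      intro s hs
      rw [map_smul, hzs s hs]
    rw [Submodule.mkQ_apply, Submodule.Quotient.mk_eq_zero, Submodule.mem_comap,
      Submodule.mem_map] at h2
    obtain ⟨m, hm, hmy⟩ := h2
    have hmO : m ∈ O := hm
    have hw_eq : w = y * (⟨m, hmO⟩ : O) +
        ∑ s ∈ S, (⟨algebraMap k K (f s), hk _⟩ : O) * (⟨(z s).1, (z s).2⟩ : O) := by
      apply Subtype.ext
      rw [LinearMap.mulLeft_apply] at hmy
      have h3 : (w : K) = (y : K) * m + ∑ s ∈ S, f s • ((z s : vsSub O hk) : K) := by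
        rw [hmy]
        simp only [Submodule.subtype_apply, Submodule.coe_sub, Submodule.coe_sum,
          Submodule.coe_smul]
        ring
      show (w : K) = O.subtype (y * (⟨m, hmO⟩ : O) +
        ∑ s ∈ S, (⟨algebraMap k K (f s), hk _⟩ : O) * (⟨(z s).1, (z s).2⟩ : O))
      rw [map_add, map_mul, map_sum, h3]
      congr 1
      apply Finset.sum_congr rfl
      intro s _
      rw [map_mul, Algebra.smul_def]
      rfl
    rw [hw_eq]
    apply Submodule.add_mem
    · exact Ideal.mul_mem_right _ _ (Submodule.subset_span (by simp))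
    · apply Submodule.sum_mem
      intro s hs
      apply Ideal.mul_mem_left
      apply Submodule.subset_span
      rw [Finset.coe_insert, Finset.coe_image]
      exact Set.mem_insert_of_mem _ ⟨s, hs, rfl⟩

/-- A valuation subring of `K` containing `k` and different from `K` is the valuation ring of a
place. -/
theorem exists_place_of_vs (hK : IsWeakFF k K) (O : ValuationSubring K)
    (hk : ∀ c : k, algebraMap k K c ∈ O) (y : K) (hyO : y ∈ O) (hy0 : y ≠ 0) (hyinv : y⁻¹ ∉ O) :
    ∃ P : Place k K, ∀ z : K, P.1 z ≤ 1 ↔ z ∈ O := by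
  have : IsNoetherianRing O := (isNoetherianRing_iff_ideal_fg O).mpr (vs_ideal_fg hK O hk)
  have hnf : ¬ IsField O := by
    intro h
    have hne : (⟨y, hyO⟩ : O) ≠ 0 := fun h0 => hy0 (congrArg Subtype.val h0)
    obtain ⟨w, hw⟩ := h.mul_inv_cancel hne
    apply hyinv
    have h1 : y * (w : K) = 1 := congrArg Subtype.val hw
    have h2 : y⁻¹ = (w : K) := inv_eq_of_mul_eq_one_right h1
    rw [h2]; exact w.2
  have : IsDiscreteValuationRing O :=
    ((IsDiscreteValuationRing.TFAE O hnf).out 1 0).mp (inferInstance : ValuationRing O)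
  refine ⟨⟨(IsDiscreteValuationRing.maximalIdeal O).valuation K, ?_, ?_⟩, ?_⟩
  · intro c
    exact IsDedekindDomain.HeightOneSpectrum.valuation_le_one _ (⟨algebraMap k K c, hk c⟩ : O)
  · exact IsDedekindDomain.HeightOneSpectrum.valuation_surjective K _
  · intro z
    constructor
    · intro hz
      obtain ⟨a, rfl⟩ := IsDiscreteValuationRing.exists_lift_of_le_one hz
      exact a.2
    · intro hz
      exact IsDedekindDomain.HeightOneSpectrum.valuation_le_one _ (⟨z, hz⟩ : O)

/-- Every transcendental element has a zero. -/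
theorem exists_zero (hK : IsWeakFF k K) {x : K} (hx : Transcendental k x) :
    ∃ P : Place k K, P.1 x < 1 := by
  have hx0 : x ≠ 0 := fun h => hx (h ▸ isAlgebraic_zero)
  -- the ideal generated by x in k[x]
  let A : Subring K := (Algebra.adjoin k {x}).toSubring
  have hxA : x ∈ A := Algebra.subset_adjoin (Set.mem_singleton x)
  have hI : Ideal.span {(⟨x, hxA⟩ : A)} ≠ ⊤ := by
    intro htop
    rw [Ideal.span_singleton_eq_top] at htop
    obtain ⟨⟨u, hu⟩, huv⟩ := htop.exists_right_inv
    have hu' : u ∈ Algebra.adjoin k {x} := hu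
    obtain ⟨p, rfl⟩ := Algebra.adjoin_singleton_eq_range_aeval k x ▸ hu'
    have h1 : x * Polynomial.aeval x p = 1 := congrArg Subtype.val huv
    have h2 : Polynomial.aeval x (Polynomial.X * p - 1) = 0 := by
      rw [map_sub, map_mul, Polynomial.aeval_X, map_one, h1, sub_self]
    have h3 : Polynomial.X * p - 1 = 0 := by
      by_contra hne
      exact hx ⟨_, hne, h2⟩
    have h4 := congrArg (fun q => Polynomial.coeff q 0) h3
    simp at h4
  obtain ⟨B, hAB, hIB⟩ := Ideal.image_subset_nonunits_valuationSubring _ hI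
  have hxB : x ∈ B.nonunits := hIB ⟨⟨x, hxA⟩, Ideal.subset_span rfl, rfl⟩
  have hkB : ∀ c : k, algebraMap k K c ∈ B := fun c =>
    hAB ((Algebra.adjoin k {x}).algebraMap_mem c)
  have hxB' : x ∈ B := B.nonunits_subset hxB
  have hxinv : x⁻¹ ∉ B := by
    rcases B.mem_nonunits_iff_or.mp hxB with h | h
    · exact absurd h hx0
    · exact h
  obtain ⟨P, hP⟩ := exists_place_of_vs hK B hkB x hxB' hx0 hxinv
  refine ⟨P, ?_⟩
  by_contra hge
  push Not at hge
  apply hxinv
  rw [← hP, map_inv₀]
  exact inv_le_one_of_one_le₀ hge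

theorem exists_pole (hK : IsWeakFF k K) {x : K} (hx : Transcendental k x) :
    ∃ P : Place k K, 1 < P.1 x := by
  have hx0 : x ≠ 0 := fun h => hx (h ▸ isAlgebraic_zero)
  have hinv : Transcendental k x⁻¹ := fun h => hx (by simpa using h.inv)
  obtain ⟨P, hP⟩ := exists_zero hK hinv
  refine ⟨P, ?_⟩
  rw [map_inv₀] at hP
  have h0 : 0 < P.1 x := zero_lt_iff.mpr ((Valuation.ne_zero_iff _).mpr hx0)
  exact (inv_lt_one₀ h0).mp hP

end Groth.Agent.H55.W
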