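import Groth.Agent.H55.WDeg
import Groth.Prelude.Def_W4bk4goldsch23Ext

set_option autoImplicit false

namespace Groth.Agent.H55

open FunFld WithZero Module IntermediateField

section single

variable {k K : Type*} [Field k] [Field K] [Algebra k K]

theorem exp_pow_nat (a : ℤ) (e : ℕ) :
    (exp a : WithZero (Multiplicative ℤ)) ^ e = exp ((e : ℤ) * a) := by
  rw [← exp_nsmul, nsmul_eq_mul]

/-- an element whose only zero is `P` -/
theorem exists_only_zero (hK : IsFunctionField k K) (P : Place k K) :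
    ∃ x : K, x ≠ 0 ∧ P.1 x < 1 ∧ ∀ Q : Place k K, Q.1 x < 1 → Q = P := by
  classical
  set g := genus k K with hg
  set D : Divisor k K := Finsupp.single P ((g + 1 : ℕ) : ℤ) with hD
  have hell : 2 ≤ ell D := by
    have h1 := le_genus hK D
    have h2 : D.deg = ((g + 1 : ℕ) : ℤ) * P.deg := Divisor.deg_single P _
    have h3 := Place.deg_pos hK P
    rw [h2] at h1
    have h4 : ((g + 1 : ℕ) : ℤ) * 1 ≤ ((g + 1 : ℕ) : ℤ) * P.deg :=
      mul_le_mul_of_nonneg_left (by exact_mod_cast h3) (by positivity)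
    push_cast at h4 h1
    rw [← hg] at h1
    omega
  have hnle : ¬ L D ≤ L (0 : Divisor k K) := by
    intro hle
    have hfin := (finrank_L_zero hK).1
    have := Submodule.finrank_mono hle
    rw [(finrank_L_zero hK).2] at this
    unfold ell at hell
    omega
  obtain ⟨z, hzL, hz0⟩ := Set.not_subset.mp hnle
  have hzk : z ∉ Set.range (algebraMap k K) := by
    intro hmem
    apply hz0
    show z ∈ L (0 : Divisor k K)
    rw [L_zero hK, Submodule.mem_one]
    exact hmem
  have hzne : z ≠ 0 := fun h0 => hzk ⟨0, by rw [h0, map_zero]⟩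
  have hztr := transcendental_of_notMem_range hK hzk
  have hzL' := mem_L.mp hzL
  have hzQ : ∀ Q : Place k K, Q ≠ P → Q.1 z ≤ 1 := by
    intro Q hQ
    have := hzL' Q
    rwa [hD, Finsupp.single_apply, if_neg (Ne.symm hQ), exp_zero] at this
  obtain ⟨Q₀, hQ₀⟩ := exists_pole hK hztr
  have hQ₀P : Q₀ = P := by
    by_contra hne
    exact absurd (hzQ Q₀ hne) (not_le.mpr hQ₀)
  refine ⟨z⁻¹, inv_ne_zero hzne, ?_, ?_⟩
  · rw [map_inv₀, ← hQ₀P]
    exact inv_lt_one_of_one_lt₀ hQ₀
  · intro Q hQ
    by_contra hne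
    rw [map_inv₀] at hQ
    have h1 := hzQ Q hne
    have h0 : Q.1 z ≠ 0 := (Valuation.ne_zero_iff _).mpr hzne
    have : 1 ≤ (Q.1 z)⁻¹ := (one_le_inv₀ (zero_lt_iff.mpr h0)).mpr h1
    exact absurd hQ (not_lt.mpr this)

/-- the degree formula for zeros in a weak function field, as a sum -/
theorem W.sum_zeros (hK : W.IsWeakFF k K) {x : K} (hx : Transcendental k x) :
    ∃ S : Finset (Place k K), (∀ Q, Q ∈ S ↔ Q.1 x < 1) ∧
      ∑ Q ∈ S, Q.ord x * (Q.deg : ℤ) = finrank k⟮x⟯ K := by
  have hx0 : x ≠ 0 := fun h => hx (h ▸ isAlgebraic_zero)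
  refine ⟨(zeroDiv k x).support, ?_, ?_⟩
  · intro Q
    rw [Finsupp.mem_support_iff, W.zeroDiv_apply hK, ← Place.ord_pos_iff Q hx0]
    constructor
    · intro h
      by_contra hle
      exact h (max_eq_right (not_lt.mp hle))
    · intro h
      rw [max_eq_left h.le]
      exact h.ne'
  · rw [← W.deg_zeroDiv hK hx, Divisor.deg_eq_sum]
    apply Finset.sum_congr rfl
    intro Q hQ
    rw [Finsupp.mem_support_iff, W.zeroDiv_apply hK] at hQ
    rw [W.zeroDiv_apply hK]
    congr 1
    by_contra hne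
    apply hQ
    rcases le_total (Q.ord x) 0 with h | h
    · exact max_eq_right h
    · exact absurd (max_eq_left h).symm hne

end single

section ext

variable {k K K' : Type*} [Field k] [Field K] [Field K'] [Algebra k K] [Algebra K K']
  [Algebra k K'] [IsScalarTower k K K']

theorem isOverWith_pos {Q : Place k K'} {P : Place k K} {e : ℕ} (h : IsOverWith Q P e) :
    0 < e := by
  rcases Nat.eq_zero_or_pos e with rfl | h0
  · have := h 0
    rw [map_zero, map_zero, map_zero, pow_zero] at this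
    exact absurd this zero_ne_one
  · exact h0

theorem isOverWith_unique {Q : Place k K'} {P : Place k K} {e e' : ℕ} (h : IsOverWith Q P e)
    (h' : IsOverWith Q P e') : e = e' := by
  obtain ⟨t, ht⟩ := Place.exists_uniformizer P
  have h1 := h t
  rw [h' t, ht, exp_pow_nat, exp_pow_nat, exp_inj] at h1
  omega

theorem ramIdx_eq {Q : Place k K'} {P : Place k K} {e : ℕ} (h : IsOverWith Q P e) :
    ramIdx Q P = e := by
  classical
  have hex : IsOver Q P := ⟨e, h⟩
  unfold ramIdx
  rw [dif_pos hex]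
  exact isOverWith_unique (Nat.find_spec hex) h

theorem isOverWith_ramIdx {Q : Place k K'} {P : Place k K} (h : IsOver Q P) :
    IsOverWith Q P (ramIdx Q P) := by
  obtain ⟨e, he⟩ := h
  rw [ramIdx_eq he]
  exact he

theorem isOverWith_le_one_iff {Q : Place k K'} {P : Place k K} {e : ℕ} (h : IsOverWith Q P e)
    (x : K) : Q.1 (algebraMap K K' x) ≤ 1 ↔ P.1 x ≤ 1 := by
  rw [h x]
  exact pow_le_one_iff (isOverWith_pos h).ne'

theorem isOverWith_lt_one_iff {Q : Place k K'} {P : Place k K} {e : ℕ} (h : IsOverWith Q P e)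
    (x : K) : Q.1 (algebraMap K K' x) < 1 ↔ P.1 x < 1 := by
  rw [h x]
  exact pow_lt_one_iff (isOverWith_pos h).ne'

theorem isOverWith_ord_eq {Q : Place k K'} {P : Place k K} {e : ℕ} (h : IsOverWith Q P e)
    (x : K) : Q.ord (algebraMap K K' x) = e * P.ord x := by
  by_cases hx : x = 0
  · rw [hx, map_zero, Place.ord_zero, Place.ord_zero, mul_zero]
  · have hx' : algebraMap K K' x ≠ 0 := by
      rwa [Ne, map_eq_zero_iff _ (algebraMap K K').injective]
    have h1 := h x
    rw [Place.val_eq_exp_neg_ord Q hx', Place.val_eq_exp_neg_ord P hx, exp_pow_nat, exp_inj] at h1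
    linarith

theorem isOver_unique {Q : Place k K'} {P P' : Place k K} (h : IsOver Q P) (h' : IsOver Q P') :
    P = P' := by
  obtain ⟨e, he⟩ := h
  obtain ⟨e', he'⟩ := h'
  apply Place.eq_of_le
  intro x hx
  rw [← isOverWith_le_one_iff he']
  rwa [isOverWith_le_one_iff he]

end ext

end Groth.Agent.H55
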