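import Groth.Agent.H55.WExt

set_option autoImplicit false

namespace Groth.Agent.H55

open FunFld WithZero Module IntermediateField

variable {k K K' : Type*} [Field k] [Field K] [Field K'] [Algebra k K] [Algebra K K']
  [Algebra k K'] [IsScalarTower k K K']

theorem finrank_adjoin_algebraMap (x : K) :
    finrank k⟮algebraMap K K' x⟯ K' = finrank k⟮x⟯ K * finrank K K' := by
  set f : K →ₐ[k] K' := IsScalarTower.toAlgHom k K K' with hf
  have h1 : finrank k⟮x⟯ K' = finrank k⟮x⟯ K * finrank K K' :=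
    (Module.finrank_mul_finrank k⟮x⟯ K K').symm
  have h2 : finrank k⟮x⟯ K' = finrank (k⟮x⟯.map f) K' := by
    apply Algebra.finrank_eq_of_equiv_equiv (equivMap k⟮x⟯ f).toRingEquiv (RingEquiv.refl K')
    ext e
    rfl
  have h3 : k⟮x⟯.map f = k⟮algebraMap K K' x⟯ := by
    rw [adjoin_map, Set.image_singleton]
    rfl
  rw [← h3, ← h2, h1]

theorem finiteDimensional_adjoin_algebraMap [FiniteDimensional K K'] (x : K)
    [FiniteDimensional k⟮x⟯ K] : FiniteDimensional k⟮algebraMap K K' x⟯ K' := by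
  have h1 := finrank_adjoin_algebraMap (k := k) (K' := K') x
  have h2 : 0 < finrank k⟮x⟯ K := Module.finrank_pos
  have h3 : 0 < finrank K K' := Module.finrank_pos
  exact Module.finite_of_finrank_pos (by rw [h1]; positivity)

theorem transcendental_algebraMap {x : K} (hx : Transcendental k x) :
    Transcendental k (algebraMap K K' x) := by
  intro h
  apply hx
  have : algebraMap K K' x = (IsScalarTower.toAlgHom k K K') x := rfl
  rw [this] at h
  exact (isAlgebraic_algHom_iff _ (IsScalarTower.toAlgHom k K K').injective).mp h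

theorem W.weak_of_finite [FiniteDimensional K K'] (hK : W.IsWeakFF k K) : W.IsWeakFF k K' := by
  obtain ⟨x, hx, hfin⟩ := hK
  exact ⟨algebraMap K K' x, transcendental_algebraMap hx, finiteDimensional_adjoin_algebraMap x⟩

/-- the restriction of a place of `K'` to `K` is nontrivial when `K'/K` is algebraic -/
theorem exists_val_lt_one_under [Algebra.IsAlgebraic K K'] (Q : Place k K') :
    ∃ y : K, y ≠ 0 ∧ Q.1 (algebraMap K K' y) < 1 := by
  by_contra hcon
  push Not at hcon
  have hle : ∀ c : K, Q.1 (algebraMap K K' c) ≤ 1 := by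
    intro c
    by_cases hc : c = 0
    · rw [hc, map_zero, map_zero]; exact zero_le_one
    · have h1 := hcon c⁻¹ (inv_ne_zero hc)
      rw [map_inv₀, map_inv₀] at h1
      have h0 : Q.1 (algebraMap K K' c) ≠ 0 := by
        rw [Valuation.ne_zero_iff, Ne, map_eq_zero_iff _ (algebraMap K K').injective]
        exact hc
      exact (one_le_inv₀ (zero_lt_iff.mpr h0)).mp h1
  let Q' : Place K K' := ⟨Q.1, hle, Q.2.2⟩
  obtain ⟨t, ht⟩ := Place.exists_uniformizer Q
  have ht0 : t ≠ 0 := Place.ne_zero_of_val_eq_exp Q ht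
  have h1 : Q'.1 t = 1 := W.val_eq_one_of_isAlgebraic Q' (Algebra.IsAlgebraic.isAlgebraic t) ht0
  have h2 : Q.1 t = 1 := h1
  rw [ht] at h2
  exact absurd h2 (ne_of_lt Place.exp_neg_one_lt_one)

/-- every place of `K'` lies over a place of `K` -/
theorem exists_place_under [Algebra.IsAlgebraic K K'] (hK : IsFunctionField k K)
    (Q : Place k K') : ∃ P : Place k K, ∃ e : ℕ, IsOverWith Q P e := by
  obtain ⟨y, hy0, hy⟩ := exists_val_lt_one_under (K := K) Q
  let O : ValuationSubring K := Q.O.comap (algebraMap K K')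
  have hmemO : ∀ z : K, z ∈ O ↔ Q.1 (algebraMap K K' z) ≤ 1 := fun z => Iff.rfl
  have hk : ∀ c : k, algebraMap k K c ∈ O := by
    intro c
    rw [hmemO, ← IsScalarTower.algebraMap_apply]
    exact Q.2.1 c
  have hyO : y ∈ O := (hmemO y).mpr hy.le
  have hy' : algebraMap K K' y ≠ 0 := by
    rwa [Ne, map_eq_zero_iff _ (algebraMap K K').injective]
  have hyinv : y⁻¹ ∉ O := by
    rw [hmemO, map_inv₀, map_inv₀, not_le]
    exact (one_lt_inv₀ (zero_lt_iff.mpr ((Valuation.ne_zero_iff _).mpr hy'))).mpr hy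
  obtain ⟨P, hP⟩ := exists_place_of_vs hK O hk y hyO hy0 hyinv
  have hP' : ∀ z : K, P.1 z ≤ 1 ↔ Q.1 (algebraMap K K' z) ≤ 1 := fun z => (hP z).trans (hmemO z)
  -- units go to units
  have hunit : ∀ u : K, P.1 u = 1 → Q.1 (algebraMap K K' u) = 1 := by
    intro u hu
    have hu0 : u ≠ 0 := by
      rintro rfl
      rw [map_zero] at hu
      exact zero_ne_one hu
    apply le_antisymm ((hP' u).mp hu.le)
    have h1 : P.1 u⁻¹ ≤ 1 := by rw [map_inv₀, hu, inv_one]
    have h2 := (hP' u⁻¹).mp h1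
    rw [map_inv₀, map_inv₀] at h2
    have h0 : Q.1 (algebraMap K K' u) ≠ 0 := by
      rw [Valuation.ne_zero_iff, Ne, map_eq_zero_iff _ (algebraMap K K').injective]
      exact hu0
    exact (inv_le_one₀ (zero_lt_iff.mpr h0)).mp h2
  obtain ⟨t, ht⟩ := Place.exists_uniformizer P
  have ht0 : t ≠ 0 := Place.ne_zero_of_val_eq_exp P ht
  have ht0' : algebraMap K K' t ≠ 0 := by
    rwa [Ne, map_eq_zero_iff _ (algebraMap K K').injective]
  have htQle : Q.1 (algebraMap K K' t) ≤ 1 :=
    (hP' t).mp (by rw [ht]; exact Place.exp_neg_one_lt_one.le)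
  have hordnn : 0 ≤ Q.ord (algebraMap K K' t) := (Place.ord_nonneg_iff Q ht0').mpr htQle
  refine ⟨P, (Q.ord (algebraMap K K' t)).toNat, ?_⟩
  intro x
  by_cases hx : x = 0
  · have hpos : (Q.ord (algebraMap K K' t)).toNat ≠ 0 := by
      intro h0
      have h1 : Q.ord (algebraMap K K' t) = 0 := by omega
      have h2 : Q.1 (algebraMap K K' t) = 1 := by
        rw [Place.val_eq_exp_neg_ord Q ht0', h1, neg_zero, exp_zero]
      have h3 : P.1 t⁻¹ ≤ 1 := by
        rw [hP', map_inv₀, map_inv₀, h2, inv_one]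
      rw [map_inv₀, ht, ← exp_neg, neg_neg] at h3
      exact absurd h3 (by rw [← exp_zero, exp_le_exp]; norm_num)
    rw [hx, map_zero, map_zero, map_zero, zero_pow hpos]
  · set m : ℤ := P.ord x with hm
    have hxv : P.1 x = exp (-m) := Place.val_eq_exp_neg_ord P hx
    have hu : P.1 (x * (t ^ m)⁻¹) = 1 := by
      rw [map_mul, map_inv₀, map_zpow₀, ht, hxv, ← exp_zsmul, ← exp_neg, ← exp_add]
      rw [← exp_zero, exp_inj]
      simp
    have hQu := hunit _ hu
    rw [map_mul, map_mul, map_inv₀, map_inv₀, map_zpow₀, map_zpow₀] at hQu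
    have htm0 : Q.1 (algebraMap K K' t) ^ m ≠ 0 :=
      zpow_ne_zero _ ((Valuation.ne_zero_iff _).mpr ht0')
    have hQx : Q.1 (algebraMap K K' x) = Q.1 (algebraMap K K' t) ^ m := by
      have := congrArg (· * Q.1 (algebraMap K K' t) ^ m) hQu
      simp only [one_mul] at this
      rwa [mul_assoc, inv_mul_cancel₀ htm0, mul_one] at this
    rw [hQx, hxv, exp_pow_nat, Place.val_eq_exp_neg_ord Q ht0', ← exp_zsmul, exp_inj,
      Int.toNat_of_nonneg hordnn]
    simp only [smul_eq_mul]
    ring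

end Groth.Agent.H55
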