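import Groth.Agent.H55.WExt2

set_option autoImplicit false

namespace Groth.Agent.H55

open FunFld WithZero Module IntermediateField

variable {k K K' : Type*} [Field k] [Field K] [Field K'] [Algebra k K] [Algebra K K']
  [Algebra k K'] [IsScalarTower k K K']

/-- the zero divisor of an element with a single zero -/
theorem zeroDiv_of_only_zero (hK : IsFunctionField k K) {P : Place k K} {x : K} (hx0 : x ≠ 0)
    (hxP : P.1 x < 1) (hxonly : ∀ Q : Place k K, Q.1 x < 1 → Q = P) :
    zeroDiv k x = Finsupp.single P (P.ord x) := by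
  classical
  ext Q
  rw [zeroDiv_apply hK, Finsupp.single_apply]
  by_cases hQ : P = Q
  · rw [if_pos hQ, ← hQ]
    exact max_eq_left ((Place.ord_pos_iff P hx0).mpr hxP).le
  · rw [if_neg hQ]
    apply max_eq_right
    by_contra hpos
    push Not at hpos
    exact hQ (hxonly Q ((Place.ord_pos_iff Q hx0).mp hpos)).symm

/-- S11009: the fundamental equality `∑ e f = n` -/
theorem sum_ramIdx_mul_deg [FiniteDimensional K K'] (hK : IsFunctionField k K) (P : Place k K) :
    {Q : Place k K' | IsOver Q P}.Finite ∧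
    ∀ (Qs : Finset (Place k K')), (∀ Q, Q ∈ Qs ↔ IsOver Q P) →
      (∑ Q ∈ Qs, ramIdx Q P * Q.deg) = finrank K K' * P.deg := by
  classical
  obtain ⟨x, hx0, hxP, hxonly⟩ := exists_only_zero hK P
  have hxtr : Transcendental k x := W.transcendental_of_val_ne_one P hx0 hxP.ne
  have hx'tr : Transcendental k (algebraMap K K' x) := transcendental_algebraMap hxtr
  have hK' : W.IsWeakFF k K' := W.weak_of_finite hK.weak
  obtain ⟨S, hS, hsum⟩ := W.sum_zeros hK' hx'tr
  have key : ∀ Q : Place k K', IsOver Q P ↔ Q.1 (algebraMap K K' x) < 1 := by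
    intro Q
    constructor
    · rintro ⟨e, he⟩
      exact (isOverWith_lt_one_iff he x).mpr hxP
    · intro h
      obtain ⟨P', e, he⟩ := exists_place_under hK Q
      have h1 : P'.1 x < 1 := (isOverWith_lt_one_iff he x).mp h
      have h2 : P' = P := hxonly P' h1
      rw [h2] at he
      exact ⟨e, he⟩
  refine ⟨S.finite_toSet.subset fun Q hQ => (hS Q).mpr ((key Q).mp hQ), ?_⟩
  intro Qs hQs
  have hQsS : Qs = S := by
    ext Q
    rw [hQs, hS, key]
  rw [hQsS]
  have hr : 0 < P.ord x := (Place.ord_pos_iff P hx0).mpr hxP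
  have h1 : ∑ Q ∈ S, Q.ord (algebraMap K K' x) * (Q.deg : ℤ) =
      P.ord x * ∑ Q ∈ S, ((ramIdx Q P * Q.deg : ℕ) : ℤ) := by
    rw [Finset.mul_sum]
    apply Finset.sum_congr rfl
    intro Q hQ
    have hover : IsOver Q P := (key Q).mpr ((hS Q).mp hQ)
    rw [isOverWith_ord_eq (isOverWith_ramIdx hover) x]
    push_cast
    ring
  have h2 : (finrank k⟮x⟯ K : ℤ) = P.ord x * P.deg := by
    rw [← deg_zeroDiv hK hxtr, zeroDiv_of_only_zero hK hx0 hxP hxonly, Divisor.deg_single]
  have h3 := finrank_adjoin_algebraMap (k := k) (K' := K') x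
  rw [h1, h3] at hsum
  push_cast at hsum
  rw [h2] at hsum
  have h4 : P.ord x * ∑ Q ∈ S, ((ramIdx Q P : ℤ) * (Q.deg : ℤ)) =
      P.ord x * ((finrank K K' : ℤ) * P.deg) := by
    rw [hsum]; ring
  have h5 := mul_left_cancel₀ hr.ne' h4
  exact_mod_cast h5

end Groth.Agent.H55
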