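import Groth.Agent.H55.WTwist

set_option autoImplicit false

namespace Groth.Agent.H55

open FunFld WithZero Module IntermediateField
open scoped Pointwise

section single

variable {k K : Type*} [Field k] [Field K] [Algebra k K]

/-- the residue field of `P ∘ σ` embeds `k`-linearly into that of `P` -/
theorem Place.deg_comapAlg_le (P : Place k K) (σ : K ≃ₐ[k] K)
    [FiniteDimensional k (IsLocalRing.ResidueField P.O)] :
    (Place.comapAlg P σ).deg ≤ P.deg := by
  set P' := Place.comapAlg P σ with hP'
  let f : P'.O →+* P.O :=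
    { toFun := fun x => ⟨σ x.1, x.2⟩
      map_one' := Subtype.ext (map_one σ)
      map_mul' := fun x y => Subtype.ext (map_mul σ _ _)
      map_zero' := Subtype.ext (map_zero σ)
      map_add' := fun x y => Subtype.ext (map_add σ _ _) }
  have hloc : IsLocalHom f := by
    constructor
    intro x hx
    rw [(Valuation.valuationSubring.integers P.1).isUnit_iff_valuation_eq_one] at hx
    rw [(Valuation.valuationSubring.integers P'.1).isUnit_iff_valuation_eq_one]
    exact hx
  let g : IsLocalRing.ResidueField P'.O →+* IsLocalRing.ResidueField P.O :=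
    IsLocalRing.ResidueField.map f
  let gl : IsLocalRing.ResidueField P'.O →ₗ[k] IsLocalRing.ResidueField P.O :=
    { toFun := g
      map_add' := map_add g
      map_smul' := fun c x => by
        obtain ⟨z, rfl⟩ := IsLocalRing.residue_surjective x
        have h2 : f (c • z) = c • f z := by
          apply Subtype.ext
          show σ ((c • z : P'.O) : K) = ((c • f z : P.O) : K)
          rw [Place.coe_smul, Place.coe_smul, map_smul]
          rfl
        show IsLocalRing.residue P.O (f (c • z)) = c • IsLocalRing.residue P.O (f z)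
        rw [h2]
        rfl }
  have hinj : Function.Injective gl := g.injective
  exact LinearMap.finrank_le_finrank_of_injective hinj

theorem Place.deg_comapAlg (hK : W.IsWeakFF k K) (P : Place k K) (σ : K ≃ₐ[k] K) :
    (Place.comapAlg P σ).deg = P.deg := by
  have h1 := W.Place.finiteDimensional_residue hK P
  have h2 := W.Place.finiteDimensional_residue hK (Place.comapAlg P σ)
  apply le_antisymm (Place.deg_comapAlg_le P σ)
  have h3 := Place.deg_comapAlg_le (Place.comapAlg P σ) σ.symm
  have h4 : Place.comapAlg (Place.comapAlg P σ) σ.symm = P := by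
    have := Place.comapAlg_symm P σ.symm
    rwa [AlgEquiv.symm_symm] at this
  rwa [h4] at h3

end single

section galois

variable {k K K' : Type*} [Field k] [Field K] [Field K'] [Algebra k K] [Algebra K K']
  [Algebra k K'] [IsScalarTower k K K']

theorem comapK_isOverWith {Q : Place k K'} {P : Place k K} {e : ℕ} (he : IsOverWith Q P e)
    (σ : K' ≃ₐ[K] K') : IsOverWith (Place.comapK Q σ) P e := by
  intro x
  rw [Place.comapK_val, σ.commutes]
  exact he x

theorem deg_comapK [FiniteDimensional K K'] (hK : W.IsWeakFF k K) (Q : Place k K')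
    (σ : K' ≃ₐ[K] K') : (Place.comapK Q σ).deg = Q.deg :=
  Place.deg_comapAlg (W.weak_of_finite hK) Q _

theorem exists_comapK_eq [FiniteDimensional K K'] [IsGalois K K'] {Q Q' : Place k K'}
    {P : Place k K} {e e' : ℕ} (he : IsOverWith Q P e) (he' : IsOverWith Q' P e') :
    ∃ σ : K' ≃ₐ[K] K', Place.comapK Q σ = Q' := by
  apply galois_transitive
  intro r s
  show Q.1 (algebraMap K K' r) ≤ Q.1 (algebraMap K K' s) ↔
    Q'.1 (algebraMap K K' r) ≤ Q'.1 (algebraMap K K' s)
  rw [he r, he s, he' r, he' s, pow_le_pow_iff_left₀ zero_le' zero_le' (isOverWith_pos he).ne',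
    pow_le_pow_iff_left₀ zero_le' zero_le' (isOverWith_pos he').ne']

/-- S11022, second half -/
theorem isOverWith_and_deg_eq [FiniteDimensional K K'] [IsGalois K K'] (hK : W.IsWeakFF k K)
    {Q : Place k K'} {P : Place k K} {e : ℕ} (he : IsOverWith Q P e) (Q' : Place k K')
    (hQ' : IsOver Q' P) : IsOverWith Q' P e ∧ Q'.deg = Q.deg := by
  obtain ⟨e', he'⟩ := hQ'
  obtain ⟨σ, hσ⟩ := exists_comapK_eq he he'
  rw [← hσ]
  exact ⟨comapK_isOverWith he σ, deg_comapK hK Q σ⟩

theorem Place.O_injective : Function.Injective (fun Q : Place k K' => Q.O) := by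
  intro Q Q' h
  apply Place.eq_of_le
  intro x hx
  have h1 : x ∈ Q.O := hx
  have h2 : x ∈ Q'.O := by
    have h' : Q.O = Q'.O := h
    rw [← h']; exact h1
  exact h2

theorem smul_O_eq (Q : Place k K') (σ : K' ≃ₐ[K] K') :
    σ • Q.O = (Place.comapK Q σ⁻¹).O := by
  ext x
  rw [ValuationSubring.mem_pointwise_smul_iff_inv_smul_mem]
  rfl

/-- S11022, first half -/
theorem card_places_mul_card_decomp [FiniteDimensional K K'] [IsGalois K K']
    {Q : Place k K'} {P : Place k K} {e : ℕ} (he : IsOverWith Q P e) :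
    Nat.card {Q' : Place k K' // IsOver Q' P} *
      Nat.card (ValuationSubring.decompositionSubgroup K Q.O) = finrank K K' := by
  have h1 := Subgroup.card_mul_index (ValuationSubring.decompositionSubgroup K Q.O)
  rw [IsGalois.card_aut_eq_finrank] at h1
  rw [← h1, mul_comm]
  congr 1
  unfold ValuationSubring.decompositionSubgroup
  rw [MulAction.index_stabilizer]
  have horb : MulAction.orbit (K' ≃ₐ[K] K') Q.O =
      (fun Q' : Place k K' => Q'.O) '' {Q' : Place k K' | IsOver Q' P} := by
    ext A
    constructor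
    · rintro ⟨σ, rfl⟩
      refine ⟨Place.comapK Q σ⁻¹, ⟨e, comapK_isOverWith he _⟩, ?_⟩
      exact (smul_O_eq Q σ).symm
    · rintro ⟨Q', ⟨e', he'⟩, rfl⟩
      obtain ⟨σ, hσ⟩ := exists_comapK_eq he he'
      refine ⟨σ⁻¹, ?_⟩
      show σ⁻¹ • Q.O = Q'.O
      rw [smul_O_eq, inv_inv, hσ]
  rw [horb, Set.ncard_image_of_injective _ Place.O_injective, ← Nat.card_coe_set_eq]
  rfl

/-- S11021 -/
theorem card_decomp_mul_deg [FiniteDimensional K K'] [IsGalois K K'] (hK : IsFunctionField k K)
    {Q : Place k K'} {P : Place k K} {e : ℕ} (he : IsOverWith Q P e) :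
    Nat.card (ValuationSubring.decompositionSubgroup K Q.O) * P.deg = e * Q.deg := by
  classical
  have h1 := card_places_mul_card_decomp he
  obtain ⟨hfin, hsum⟩ := sum_ramIdx_mul_deg (K' := K') hK P
  have h2 := hsum hfin.toFinset (fun Q' => hfin.mem_toFinset)
  have h3 : ∑ Q' ∈ hfin.toFinset, ramIdx Q' P * Q'.deg =
      ∑ _Q' ∈ hfin.toFinset, e * Q.deg := by
    apply Finset.sum_congr rfl
    intro Q' hQ'
    have hover : IsOver Q' P := hfin.mem_toFinset.mp hQ'
    obtain ⟨h4, h5⟩ := isOverWith_and_deg_eq hK.weak he Q' hover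
    rw [ramIdx_eq h4, h5]
  rw [h3, Finset.sum_const, smul_eq_mul] at h2
  have h6 : Nat.card {Q' : Place k K' // IsOver Q' P} = hfin.toFinset.card := by
    have : Nat.card {Q' : Place k K' // IsOver Q' P} =
        Set.ncard {Q' : Place k K' | IsOver Q' P} := Nat.card_coe_set_eq _
    rw [this, Set.ncard_eq_toFinset_card _ hfin]
  rw [h6] at h1
  have hpos : 0 < hfin.toFinset.card :=
    Finset.card_pos.mpr ⟨Q, hfin.mem_toFinset.mpr ⟨e, he⟩⟩
  rw [← h1] at h2
  have h7 : hfin.toFinset.card * (e * Q.deg) =
      hfin.toFinset.card * (Nat.card (ValuationSubring.decompositionSubgroup K Q.O) * P.deg) := by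
    rw [h2]; ring
  exact (Nat.eq_of_mul_eq_mul_left hpos h7).symm

end galois

end Groth.Agent.H55
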