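import Groth.Agent.H55.WBasic
set_option autoImplicit false

namespace Groth.Agent.H55.W

open FunFld WithZero Module
open Groth.Agent.H55.Place

variable {k K : Type*} [Field k] [Field K] [Algebra k K]

namespace Place

theorem ballQuot_finrank (hK : IsWeakFF k K) (P : Place k K) (a : ℤ) :
    Module.Finite k (RelQ (ball P (a + 1)) (ball P a)) ∧
      finrank k (RelQ (ball P (a + 1)) (ball P a)) = P.deg := by
  have := finiteDimensional_residue hK P
  exact ⟨Module.Finite.equiv (ballQuotEquiv P a).symm, (ballQuotEquiv P a).finrank_eq⟩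

theorem ball_finrank (hK : IsWeakFF k K) (P : Place k K) (a : ℤ) (m : ℕ) :
    Module.Finite k (RelQ (ball P (a + m)) (ball P a)) ∧
      finrank k (RelQ (ball P (a + m)) (ball P a)) = m * P.deg := by
  induction m with
  | zero =>
    have : Subsingleton (RelQ (ball P (a + (0 : ℕ))) (ball P a)) :=
      relQ_eq_zero _ _ (by simp)
    exact ⟨inferInstance, by rw [Nat.zero_mul]; exact Module.finrank_zero_of_subsingleton⟩
  | succ m ih =>
    have h1 := ballQuot_finrank hK P (a + m)
    have hA : ball P (a + (m + 1 : ℕ)) = ball P (a + m + 1) := by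
      congr 1; push_cast; ring
    rw [hA]
    obtain ⟨hf1, hr1⟩ := h1
    obtain ⟨hf2, hr2⟩ := ih
    have := relQ_add (ball P (a + m + 1)) (ball P (a + m)) (ball P a)
      (ball_anti P (by omega)) (ball_anti P (by omega))
    refine ⟨this.1, ?_⟩
    rw [this.2, hr1, hr2]; ring

theorem ball_finrank' (hK : IsWeakFF k K) (P : Place k K) {a b : ℤ} (h : a ≤ b) :
    Module.Finite k (RelQ (ball P b) (ball P a)) ∧
      (finrank k (RelQ (ball P b) (ball P a)) : ℤ) = (b - a) * P.deg := by
  obtain ⟨m, rfl⟩ : ∃ m : ℕ, b = a + m := ⟨(b - a).toNat, by omega⟩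
  have := ball_finrank hK P a m
  refine ⟨this.1, ?_⟩
  rw [this.2]; push_cast; ring

theorem LocQ.finrank (hK : IsWeakFF k K) (P : Place k K) {a b : ℤ} (h : a ≤ b) :
    Module.Finite k (LocQ P a b) ∧ (Module.finrank k (LocQ P a b) : ℤ) = (b - a) * P.deg :=
  ball_finrank' hK P h

end Place

end Groth.Agent.H55.W
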