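import Groth.Agent.H55.WConorm

set_option autoImplicit false

namespace Groth.Agent.H55

open FunFld WithZero Module IntermediateField

variable {k K K' : Type*} [Field k] [Field K] [Field K'] [Algebra k K] [Algebra K K']
  [Algebra k K'] [IsScalarTower k K K']

theorem inf'_mul_left {ι : Type*} [Fintype ι] [Nonempty ι] (e : ℕ) (f : ι → ℤ) :
    Finset.univ.inf' Finset.univ_nonempty (fun i => (e : ℤ) * f i) =
      e * Finset.univ.inf' Finset.univ_nonempty f := by
  apply le_antisymm
  · obtain ⟨i, -, hi⟩ := Finset.exists_mem_eq_inf' Finset.univ_nonempty f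
    rw [hi]
    exact Finset.inf'_le _ (Finset.mem_univ i)
  · apply Finset.le_inf'
    intro i _
    exact mul_le_mul_of_nonneg_left (Finset.inf'_le _ (Finset.mem_univ i)) (by positivity)

/-- S11069 (general constant field; `K'` is the big field here) -/
theorem mapDiv_algebraMap_eq_conorm [FiniteDimensional K K'] (hK : IsFunctionField k K)
    (hK' : IsFunctionField k K') {ι : Type*} [Fintype ι] [Nonempty ι] (φ : ι → K) :
    mapDiv k (fun i => algebraMap K K' (φ i)) = conorm K' (mapDiv k φ) := by
  ext Q
  obtain ⟨P, e, he⟩ := exists_place_under hK Q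
  rw [conorm_apply hK _ he, mapDiv_apply hK', mapDiv_apply hK]
  have h1 : (fun i => Q.ord (algebraMap K K' (φ i))) = fun i => (e : ℤ) * P.ord (φ i) := by
    funext i
    exact isOverWith_ord_eq he (φ i)
  rw [h1, inf'_mul_left]
  ring

end Groth.Agent.H55
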