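import Groth.Agent.H55.WExist
set_option autoImplicit false

namespace Groth.Agent.H55.W

open FunFld WithZero Module IntermediateField
open Groth.Agent.H55.Place

variable {k K : Type*} [Field k] [Field K] [Algebra k K]

/-- elements of `L(0)` are algebraic over `k` -/
theorem isAlgebraic_of_mem_L_zero (hK : IsWeakFF k K) {x : K} (hx : x ∈ L (0 : Divisor k K)) :
    IsAlgebraic k x := by
  by_contra htr
  obtain ⟨Q, hQ⟩ := exists_pole hK htr
  have h1 := (mem_L.mp hx) Q
  rw [Finsupp.zero_apply, exp_zero] at h1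
  exact absurd h1 (not_le.mpr hQ)

theorem exists_place (hK : IsWeakFF k K) : Nonempty (Place k K) := by
  obtain ⟨x, hx, -⟩ := id hK
  obtain ⟨Q, -⟩ := exists_pole hK hx
  exact ⟨Q⟩

/-- `L(0)` (the field of constants) is finite-dimensional. -/
theorem finite_L_zero (hK : IsWeakFF k K) : Module.Finite k (L (0 : Divisor k K)) := by
  obtain ⟨Q⟩ := exists_place hK
  have hmem : ∀ x : L (0 : Divisor k K), Q.1 (x : K) ≤ 1 := by
    intro x
    have h1 := (mem_L.mp x.2) Q
    rwa [Finsupp.zero_apply, exp_zero] at h1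
  let g : L (0 : Divisor k K) →ₗ[k] Q.O :=
    { toFun := fun x => ⟨x.1, hmem x⟩
      map_add' := fun x y => rfl
      map_smul' := fun c x => by
        apply Subtype.ext
        rw [RingHom.id_apply, Place.coe_smul]
        rfl }
  have hinj : Function.Injective ((resLin Q).comp g) := by
    rw [← LinearMap.ker_eq_bot, LinearMap.ker_eq_bot']
    intro x hx
    rw [LinearMap.comp_apply, resLin_apply, residue_eq_zero_iff] at hx
    have hx' : Q.1 (x : K) < 1 := hx
    by_contra hx0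
    have hx0' : (x : K) ≠ 0 := fun h => hx0 (Subtype.ext h)
    exact transcendental_of_val_ne_one Q hx0' hx'.ne (isAlgebraic_of_mem_L_zero hK x.2)
  have := Place.finiteDimensional_residue hK Q
  exact Module.Finite.of_injective _ hinj

theorem ell_zero_pos (hK : IsWeakFF k K) : 0 < ell (0 : Divisor k K) := by
  have := finite_L_zero hK
  unfold ell
  rw [Module.finrank_pos_iff]
  refine ⟨⟨⟨1, ?_⟩, 0, ?_⟩⟩
  · rw [mem_L]
    intro P
    rw [map_one, Finsupp.zero_apply, exp_zero]
  · intro h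
    exact one_ne_zero (congrArg Subtype.val h)

/-- `L(D₂)/L(D₁)` embeds into `A(D₂)/A(D₁)`. -/
theorem L_quot (hK : IsWeakFF k K) {D₁ D₂ : Divisor k K} (h : D₁ ≤ D₂) :
    Module.Finite k (RelQ (L D₁) (L D₂)) ∧
      (finrank k (RelQ (L D₁) (L D₂)) : ℤ) ≤ D₂.deg - D₁.deg := by
  obtain ⟨hfin, hrank⟩ := AD_quot_finrank hK h
  have hB : L D₂ ≤ (AD D₂).comap (diag k K) := fun x hx => hx
  have hA : L D₁ ≤ (AD D₁).comap (diag k K) := fun x hx => hx
  have hinj : Function.Injective (relQMap (diag k K) (L D₁) (L D₂) (AD D₁) (AD D₂) hB hA) :=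
    relQMap_injective _ _ _ _ _ hB hA (fun x _ hx => hx)
  refine ⟨Module.Finite.of_injective _ hinj, ?_⟩
  rw [← hrank]
  exact_mod_cast LinearMap.finrank_le_finrank_of_injective hinj

theorem L_finite_of_nonneg (hK : IsWeakFF k K) {D : Divisor k K} (h : 0 ≤ D) :
    Module.Finite k (L D) := by
  have h0 := finite_L_zero hK
  have h1 := (L_quot hK h).1
  exact (finrank_of_relQ (L 0) (L D) (L_mono h)).1

theorem L_finite (hK : IsWeakFF k K) (D : Divisor k K) : Module.Finite k (L D) := by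
  have h1 : Module.Finite k (L (D ⊔ 0)) := L_finite_of_nonneg hK le_sup_right
  exact Submodule.finiteDimensional_of_le (L_mono (le_sup_left : D ≤ D ⊔ 0))

theorem ell_sub (hK : IsWeakFF k K) {D₁ D₂ : Divisor k K} (h : D₁ ≤ D₂) :
    (ell D₂ : ℤ) - ell D₁ = finrank k (RelQ (L D₁) (L D₂)) := by
  have h0 := L_finite hK D₁
  have h1 := (L_quot hK h).1
  have := (finrank_of_relQ (L D₁) (L D₂) (L_mono h)).2
  unfold ell
  omega

theorem ell_sub_le (hK : IsWeakFF k K) {D₁ D₂ : Divisor k K} (h : D₁ ≤ D₂) :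
    (ell D₂ : ℤ) - ell D₁ ≤ D₂.deg - D₁.deg := by
  rw [ell_sub hK h]
  exact (L_quot hK h).2

theorem ell_mono (hK : IsWeakFF k K) {D₁ D₂ : Divisor k K} (h : D₁ ≤ D₂) :
    ell D₁ ≤ ell D₂ := by
  have := L_finite hK D₂
  exact Submodule.finrank_mono (L_mono h)

/-- `(A(D₂)+K)/(A(D₁)+K)` has dimension `(deg D₂ - ℓ(D₂)) - (deg D₁ - ℓ(D₁))`. -/
theorem ADK_quot_finrank (hK : IsWeakFF k K) {D₁ D₂ : Divisor k K} (h : D₁ ≤ D₂) :
    Module.Finite k (RelQ (AD D₁ ⊔ LinearMap.range (diag k K))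
        (AD D₂ ⊔ LinearMap.range (diag k K))) ∧
      (finrank k (RelQ (AD D₁ ⊔ LinearMap.range (diag k K))
        (AD D₂ ⊔ LinearMap.range (diag k K))) : ℤ) =
        (D₂.deg - ell D₂) - (D₁.deg - ell D₁) := by
  obtain ⟨hfin, hrank⟩ := AD_quot_finrank hK h
  obtain ⟨hfinL, -⟩ := L_quot hK h
  have hB : L D₂ ≤ (AD D₂).comap (diag k K) := fun x hx => hx
  have hA : L D₁ ≤ (AD D₁).comap (diag k K) := fun x hx => hx
  have hinj : Function.Injective (relQMap (diag k K) (L D₁) (L D₂) (AD D₁) (AD D₂) hB hA) :=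
    relQMap_injective _ _ _ _ _ hB hA (fun x _ hx => hx)
  have hB' : AD D₂ ≤ (AD D₂ ⊔ LinearMap.range (diag k K)).comap
      (LinearMap.id : (Place k K → K) →ₗ[k] _) := fun x hx => Submodule.mem_sup_left hx
  have hA' : AD D₁ ≤ (AD D₁ ⊔ LinearMap.range (diag k K)).comap
      (LinearMap.id : (Place k K → K) →ₗ[k] _) := fun x hx => Submodule.mem_sup_left hx
  have hsurj : Function.Surjective (relQMap (LinearMap.id : (Place k K → K) →ₗ[k] _)
      (AD D₁) (AD D₂) (AD D₁ ⊔ LinearMap.range (diag k K))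
      (AD D₂ ⊔ LinearMap.range (diag k K)) hB' hA') := by
    apply relQMap_surjective
    intro y hy
    obtain ⟨a, ha, r, hr, rfl⟩ := Submodule.mem_sup.mp hy
    refine ⟨a, ha, ?_⟩
    rw [LinearMap.id_apply, add_sub_cancel_left]
    exact Submodule.mem_sup_right hr
  have hex : Function.Exact (relQMap (diag k K) (L D₁) (L D₂) (AD D₁) (AD D₂) hB hA)
      (relQMap (LinearMap.id : (Place k K → K) →ₗ[k] _)
      (AD D₁) (AD D₂) (AD D₁ ⊔ LinearMap.range (diag k K))
      (AD D₂ ⊔ LinearMap.range (diag k K)) hB' hA') := by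
    intro q
    constructor
    · intro hq
      obtain ⟨a, rfl⟩ := Submodule.Quotient.mk_surjective _ q
      rw [relQMap_mk, Submodule.Quotient.mk_eq_zero, Submodule.mem_comap] at hq
      obtain ⟨a₁, ha₁, r, ⟨x, rfl⟩, hsum⟩ := Submodule.mem_sup.mp hq
      have hsum' : a₁ + diag k K x = (a : Place k K → K) := hsum
      have hx : x ∈ L D₂ := by
        rw [← diag_mem_AD]
        have : diag k K x = (a : Place k K → K) - a₁ := by rw [← hsum']; abel
        rw [this]
        exact (AD D₂).sub_mem a.2 (AD_mono h ha₁)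
      refine ⟨Submodule.Quotient.mk ⟨x, hx⟩, ?_⟩
      rw [relQMap_mk, Submodule.Quotient.eq, Submodule.mem_comap]
      show diag k K x - (a : Place k K → K) ∈ AD D₁
      rw [← hsum']
      have : diag k K x - (a₁ + diag k K x) = -a₁ := by abel
      rw [this]
      exact (AD D₁).neg_mem ha₁
    · rintro ⟨p, rfl⟩
      obtain ⟨x, rfl⟩ := Submodule.Quotient.mk_surjective _ p
      rw [relQMap_mk, relQMap_mk, Submodule.Quotient.mk_eq_zero, Submodule.mem_comap]
      exact Submodule.mem_sup_right ⟨x, rfl⟩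
  have hfin3 : Module.Finite k (RelQ (AD D₁ ⊔ LinearMap.range (diag k K))
        (AD D₂ ⊔ LinearMap.range (diag k K))) := Module.Finite.of_surjective _ hsurj
  refine ⟨hfin3, ?_⟩
  have h3 := (finrank_of_exact _ _ hinj hex hsurj).2
  have h4 := ell_sub hK h
  omega

end Groth.Agent.H55.W
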