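import Groth.Agent.H55.WMapDiv

set_option autoImplicit false

namespace Groth.Agent.H55

open FunFld WithZero Module IntermediateField

variable {k K : Type*} [Field k] [Field K] [Algebra k K]

/-- `K` viewed as an extension of itself through `τ` -/
def Tw (_τ : K →ₐ[k] K) : Type _ := K

namespace Tw

variable (τ : K →ₐ[k] K)

instance : Field (Tw τ) := inferInstanceAs (Field K)
instance : Algebra k (Tw τ) := inferInstanceAs (Algebra k K)
instance : Algebra K (Tw τ) := τ.toRingHom.toAlgebra
instance : IsScalarTower k K (Tw τ) := IsScalarTower.of_algebraMap_eq (fun c => (τ.commutes c).symm)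

theorem algebraMap_apply (x : K) : algebraMap K (Tw τ) x = τ x := rfl

theorem finite (hK : IsFunctionField k K) : FiniteDimensional K (Tw τ) := by
  obtain ⟨x, hx, hfin⟩ := hK.1
  have hx' : Transcendental k (τ x) := by
    intro h
    exact hx ((isAlgebraic_algHom_iff τ τ.injective).mp h)
  have hK' : IsFunctionField k (Tw τ) := hK
  have hfd : FiniteDimensional k⟮(algebraMap K (Tw τ) x)⟯ (Tw τ) :=
    finiteDimensional_adjoin_of_transcendental hK' hx'
  have h1 := finrank_adjoin_algebraMap (k := k) (K' := Tw τ) x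
  have h2 : 0 < finrank k⟮(algebraMap K (Tw τ) x)⟯ (Tw τ) := Module.finrank_pos
  rw [h1] at h2
  exact Module.finite_of_finrank_pos (Nat.pos_of_mul_pos_left h2)

theorem finrank_eq : finrank τ.fieldRange K = finrank K (Tw τ) := by
  symm
  refine Algebra.finrank_eq_of_equiv_equiv (R₀ := K) (S₀ := Tw τ) (R₁ := τ.fieldRange) (S₁ := K)
    (AlgEquiv.ofInjectiveField τ).toRingEquiv (RingEquiv.refl K) ?_
  ext x
  rfl

end Tw

/-- S11052 -/
theorem deg_mapDiv_comp_algHom (hK : IsFunctionField k K) (τ : K →ₐ[k] K)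
    {ι : Type*} [Fintype ι] [Nonempty ι] (φ : ι → K) :
    (mapDiv k (τ ∘ φ)).deg = finrank τ.fieldRange K * (mapDiv k φ).deg := by
  have hK' : IsFunctionField k (Tw τ) := hK
  have hfin := Tw.finite τ hK
  have h1 := mapDiv_algebraMap_eq_conorm (K' := Tw τ) hK hK' φ
  have h2 := deg_conorm (K' := Tw τ) hK (mapDiv k φ)
  rw [← h1] at h2
  rw [Tw.finrank_eq]
  exact h2

end Groth.Agent.H55
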