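import Groth.Agent.H55.WLocal
set_option autoImplicit false

namespace Groth.Agent.H55.W

open FunFld WithZero Module IntermediateField
open Groth.Agent.H55.Place

variable {k K : Type*} [Field k] [Field K] [Algebra k K]

/-- Lemma A': `dim_k M/xM ≤ [K : k(x)]` for every `k[x]`-submodule `M` of `K`. -/
theorem finrank_quot_mul_le (hK : IsWeakFF k K) {x : K} (hx : Transcendental k x)
    (M : Submodule k K) (hM : ∀ m ∈ M, x * m ∈ M) :
    Module.Finite k (RelQ (M.map (LinearMap.mulLeft k x)) M) ∧
      finrank k (RelQ (M.map (LinearMap.mulLeft k x)) M) ≤ finrank k⟮x⟯ K := by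
  have hfin := finiteDimensional_adjoin_of_transcendental hK hx
  apply finiteDimensional_of_card_bound
  intro s hs
  choose! z hz using fun w : RelQ (M.map (LinearMap.mulLeft k x)) M =>
    Submodule.Quotient.mk_surjective _ w
  have hli : LinearIndependent k⟮x⟯ (fun i : s => ((z i : M) : K)) := by
    apply linearIndependent_of_mod hx M hM
    · intro i; exact (z i).2
    · intro c ⟨m, hm, hcm⟩
      rw [linearIndependent_iff] at hs
      apply hs
      have h1 : Finsupp.linearCombination k
          (fun i : s => (i : RelQ (M.map (LinearMap.mulLeft k x)) M)) c =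
          Submodule.Quotient.mk (Finsupp.linearCombination k (fun i : s => z i) c) := by
        rw [Finsupp.linearCombination_apply, Finsupp.linearCombination_apply,
          ← Submodule.mkQ_apply, map_finsuppSum]
        apply Finsupp.sum_congr
        intro i _
        rw [map_smul, Submodule.mkQ_apply, hz]
      rw [h1, Submodule.Quotient.mk_eq_zero, Submodule.mem_comap, Submodule.mem_map]
      refine ⟨m, hm, ?_⟩
      rw [LinearMap.mulLeft_apply, ← hcm, Submodule.subtype_apply,
        Finsupp.linearCombination_apply, Finsupp.linearCombination_apply,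
        ← Submodule.subtype_apply, map_finsuppSum]
      apply Finsupp.sum_congr
      intro i _
      rw [map_smul, Submodule.subtype_apply]
  have := hli.fintype_card_le_finrank
  simpa using this

namespace Place

/-- Fundamental inequality: `∑ ord_P(x) deg P ≤ [K : k(x)]` over any finite set of zeros of `x`. -/
theorem sum_ord_mul_deg_le (hK : IsWeakFF k K) {x : K} (hx0 : x ≠ 0)
    (S : Finset (Place k K)) (hS : ∀ P ∈ S, P.1 x < 1) :
    (∑ P ∈ S, P.ord x * (P.deg : ℤ)) ≤ finrank k⟮x⟯ K := by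
  classical
  rcases S.eq_empty_or_nonempty with rfl | hne
  · simp
  obtain ⟨P₀, hP₀⟩ := hne
  have hx : Transcendental k x := transcendental_of_val_ne_one P₀ hx0 (hS P₀ hP₀).ne
  have hM : ∀ m ∈ OInf S, x * m ∈ OInf S := by
    intro m hm P hP
    rw [map_mul]
    exact (mul_le_mul' (hS P hP).le (hm P hP)).trans_eq (one_mul _)
  obtain ⟨hfin, hle⟩ := finrank_quot_mul_le hK hx (OInf S) hM
  have hord : ∀ P ∈ S, 0 ≤ P.ord x := by
    intro P hP
    rw [le_ord_iff P hx0, neg_zero, exp_zero]
    exact (hS P hP).le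
  -- the product of local quotients
  have hVfin : ∀ P : S, Module.Finite k (LocQ P.1 0 (P.1.ord x)) :=
    fun P => (LocQ.finrank hK P.1 (hord P.1 P.2)).1
  have hVfree : ∀ P : S, Module.Free k (LocQ P.1 0 (P.1.ord x)) :=
    fun P => Module.Free.of_divisionRing _ _
  have hVrank : finrank k (∀ P : S, LocQ P.1 0 (P.1.ord x)) =
      ∑ P : S, finrank k (LocQ P.1 0 (P.1.ord x)) :=
    Module.finrank_pi_fintype k
  -- the map
  have hmem : ∀ (y : OInf S) (P : S), (y : K) ∈ ball P.1 0 := by
    intro y P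
    rw [mem_ball, neg_zero, exp_zero]
    exact y.2 P.1 P.2
  obtain ⟨Φ, hΦ⟩ : ∃ Φ : OInf S →ₗ[k] (∀ P : S, LocQ P.1 0 (P.1.ord x)),
      ∀ (y : OInf S) (P : S), Φ y P = LocQ.mk P.1 0 (P.1.ord x) ⟨(y : K), hmem y P⟩ :=
    ⟨LinearMap.pi fun P => (LocQ.mk P.1 0 (P.1.ord x)).comp
      (LinearMap.codRestrict (ball P.1 0) (OInf S).subtype (fun y => hmem y P)), fun y P => rfl⟩
  have hsurj : Function.Surjective Φ := by
    intro q
    choose y hy using fun P : S => LocQ.mk_surjective P.1 0 (P.1.ord x) (q P)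
    obtain ⟨B, hB⟩ : ∃ B : ℤ, ∀ P ∈ S, P.ord x ≤ B := by
      refine ⟨∑ P ∈ S, P.ord x, ?_⟩
      intro P hP
      exact Finset.single_le_sum (f := fun P : Place k K => P.ord x) (fun Q hQ => hord Q hQ) hP
    obtain ⟨w, hw⟩ := weak_approx_le S
      (fun P => if h : P ∈ S then ((y ⟨P, h⟩ : ball P 0) : K) else 0) B
    have hwy : ∀ (P : Place k K) (hP : P ∈ S),
        P.1 (w - ((y ⟨P, hP⟩ : ball P 0) : K)) ≤ exp (-(P.ord x)) := by
      intro P hP
      have h1 := hw P hP
      simp only [dif_pos hP] at h1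
      exact h1.trans (exp_le_exp.mpr (by have := hB P hP; omega))
    have hwM : w ∈ OInf S := by
      intro P hP
      have h1 := hwy P hP
      have h2 : P.1 ((y ⟨P, hP⟩ : ball P 0) : K) ≤ 1 := by
        have := (y ⟨P, hP⟩).2
        rwa [mem_ball, neg_zero, exp_zero] at this
      have h3 : w = (w - ((y ⟨P, hP⟩ : ball P 0) : K)) + ((y ⟨P, hP⟩ : ball P 0) : K) := by ring
      rw [h3]
      apply Valuation.map_add_le _ _ h2
      refine h1.trans ?_
      rw [← exp_zero, exp_le_exp]
      have := hord P hP; omega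
    refine ⟨⟨w, hwM⟩, ?_⟩
    funext P
    rw [hΦ, ← hy P, ← sub_eq_zero, ← map_sub, LocQ.mk_eq_zero]
    exact hwy P.1 P.2
  have hker : ∀ y : OInf S, Φ y = 0 ↔ (y : K) ∈ (OInf S).map (LinearMap.mulLeft k x) := by
    intro y
    constructor
    · intro h
      rw [Submodule.mem_map]
      refine ⟨x⁻¹ * (y : K), ?_, ?_⟩
      · intro P hP
        have h1 : Φ y ⟨P, hP⟩ = 0 := by rw [h]; rfl
        rw [hΦ, LocQ.mk_eq_zero] at h1
        have h2 : P.1 (y : K) ≤ exp (-(P.ord x)) := h1
        rw [← val_eq_exp_neg_ord P hx0] at h2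
        rw [map_mul, map_inv₀]
        have hvx : 0 < P.1 x := zero_lt_iff.mpr ((Valuation.ne_zero_iff _).mpr hx0)
        rw [inv_mul_le_iff₀ hvx, mul_one]
        exact h2
      · rw [LinearMap.mulLeft_apply, ← mul_assoc, mul_inv_cancel₀ hx0, one_mul]
    · intro h
      rw [Submodule.mem_map] at h
      obtain ⟨m, hm, hmy⟩ := h
      funext P
      rw [hΦ]
      show LocQ.mk P.1 0 (P.1.ord x) _ = 0
      rw [LocQ.mk_eq_zero]
      show P.1.1 (y : K) ≤ exp (-(P.1.ord x))
      rw [← hmy, LinearMap.mulLeft_apply, map_mul, ← val_eq_exp_neg_ord P.1 hx0]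
      exact (mul_le_mul' le_rfl (hm P.1 P.2)).trans_eq (mul_one _)
  have e : RelQ ((OInf S).map (LinearMap.mulLeft k x)) (OInf S) ≃ₗ[k]
      (∀ P : S, LocQ P.1 0 (P.1.ord x)) :=
    relQEquivOfSurjective ((OInf S).map (LinearMap.mulLeft k x)) (OInf S) Φ hsurj hker
  have h1 : finrank k (∀ P : S, LocQ P.1 0 (P.1.ord x)) =
      finrank k (RelQ ((OInf S).map (LinearMap.mulLeft k x)) (OInf S)) :=
    e.finrank_eq.symm
  have h2 : (∑ P ∈ S, P.ord x * (P.deg : ℤ)) =
      ((finrank k (∀ P : S, LocQ P.1 0 (P.1.ord x)) : ℕ) : ℤ) := by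
    rw [hVrank, ← Finset.sum_coe_sort S (fun P => P.ord x * (P.deg : ℤ))]
    push_cast
    apply Finset.sum_congr rfl
    intro P _
    have := (LocQ.finrank hK P.1 (hord P.1 P.2)).2
    rw [this]; ring
  rw [h2, h1]
  exact_mod_cast hle

theorem finite_zeros (hK : IsWeakFF k K) {x : K} (hx0 : x ≠ 0) :
    {P : Place k K | P.1 x < 1}.Finite := by
  by_contra hinf
  obtain ⟨S, hS, hcard⟩ := (Set.not_finite.mp hinf).exists_subset_card_eq (finrank k⟮x⟯ K + 1)
  have h1 := sum_ord_mul_deg_le hK hx0 S (fun P hP => hS hP)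
  have h2 : (S.card : ℤ) ≤ ∑ P ∈ S, P.ord x * (P.deg : ℤ) := by
    rw [Finset.card_eq_sum_ones]
    push_cast
    apply Finset.sum_le_sum
    intro P hP
    have h3 : 0 < P.ord x := (ord_pos_iff P hx0).mpr (hS hP)
    have h4 : 0 < P.deg := deg_pos hK P
    have h5 : (1 : ℤ) ≤ (P.deg : ℤ) := by exact_mod_cast h4
    nlinarith
  rw [hcard] at h2
  push_cast at h2
  omega

theorem finite_poles (hK : IsWeakFF k K) {x : K} (hx0 : x ≠ 0) :
    {P : Place k K | 1 < P.1 x}.Finite := by
  have := finite_zeros hK (inv_ne_zero hx0)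
  refine this.subset ?_
  intro P hP
  rw [Set.mem_ofPred_eq] at hP ⊢
  rw [map_inv₀]
  exact inv_lt_one_of_one_lt₀ hP

theorem finite_support_ord (hK : IsWeakFF k K) (x : K) :
    (Function.support fun P : Place k K => P.ord x).Finite := by
  by_cases hx0 : x = 0
  · subst hx0
    have : (Function.support fun P : Place k K => P.ord (0 : K)) = ∅ := by
      ext P; simp [ord_zero]
    rw [this]; exact Set.finite_empty
  · refine ((finite_zeros hK hx0).union (finite_poles hK hx0)).subset ?_
    intro P hP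
    rw [Function.mem_support] at hP
    rcases lt_trichotomy (P.ord x) 0 with h | h | h
    · right; exact (ord_neg_iff P hx0).mp h
    · exact absurd h hP
    · left; exact (ord_pos_iff P hx0).mp h

theorem div_apply (hK : IsWeakFF k K) (x : K) (P : Place k K) :
    FunFld.div k x P = P.ord x := by
  unfold FunFld.div
  rw [dif_pos (finite_support_ord hK x)]
  rfl

end Place

end Groth.Agent.H55.W
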